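import Cfsg.Agent.M24.Group

/-!
# `M24` on six points; restriction homomorphisms
-/

set_option autoImplicit false

namespace Cfsg.Agent.M24

open Finset MulAction
open scoped Pointwise symmDiff

theorem M24_smul_def (g : M24) (s : Finset GolayPt) : g • s = (g : Equiv.Perm GolayPt) • s := rfl
theorem M24_smul_pt (g : M24) (a : GolayPt) : g • a = (g : Equiv.Perm GolayPt) a := rfl

theorem card_eq_of_conj {G : Type*} [Group G] {H K : Subgroup G} (g : G)
    (h : ∀ x, x ∈ H ↔ g * x * g⁻¹ ∈ K) : Nat.card H = Nat.card K := by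
  refine Nat.card_congr
    { toFun := fun x => ⟨g * x * g⁻¹, (h x).1 x.2⟩
      invFun := fun y => ⟨g⁻¹ * y * g, (h _).2 (by simp [mul_assoc])⟩
      left_inv := fun x => by simp [mul_assoc]
      right_inv := fun x => by simp [mul_assoc] }

/-- Isomorphism of conjugate subgroups. -/
def equivOfConj {G : Type*} [Group G] {H K : Subgroup G} (g : G)
    (h : ∀ x, x ∈ H ↔ g * x * g⁻¹ ∈ K) : H ≃* K where
  toFun x := ⟨g * x * g⁻¹, (h x).1 x.2⟩
  invFun y := ⟨g⁻¹ * y * g, (h _).2 (by simp [mul_assoc])⟩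
  left_inv x := by simp [mul_assoc]
  right_inv x := by simp [mul_assoc]
  map_mul' x y := by simp [mul_assoc]

theorem conj_mem_stabilizer {G X : Type*} [Group G] [MulAction G X] (g x : G) (a : X) :
    x ∈ stabilizer G a ↔ g * x * g⁻¹ ∈ stabilizer G (g • a) := by
  simp [mem_stabilizer_iff, mul_smul]

/-- Pointwise stabiliser in `M24` of a set of points. -/
def pstab (F : Finset GolayPt) : Subgroup M24 where
  carrier := {g | ∀ a ∈ F, (g : Equiv.Perm GolayPt) a = a}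
  one_mem' := by simp
  mul_mem' {g h} hg hh a ha := by simp [hh a ha, hg a ha]
  inv_mem' {g} hg a ha := by
    rw [Subgroup.coe_inv, Equiv.Perm.inv_eq_iff_eq, hg a ha]

theorem mem_pstab {F : Finset GolayPt} {g : M24} :
    g ∈ pstab F ↔ ∀ a ∈ F, (g : Equiv.Perm GolayPt) a = a := Iff.rfl

theorem conj_mem_pstab (g x : M24) (F : Finset GolayPt) :
    x ∈ pstab F ↔ g * x * g⁻¹ ∈ pstab (g • F) := by
  simp only [mem_pstab, M24_smul_def, mem_smul_finset]
  constructor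
  · rintro h _ ⟨a, ha, rfl⟩
    simp [h a ha]
  · intro h a ha
    simpa using h _ ⟨a, ha, rfl⟩

theorem card_pstab_smul (g : M24) (F : Finset GolayPt) :
    Nat.card (pstab (g • F)) = Nat.card (pstab F) :=
  (card_eq_of_conj g fun x => conj_mem_pstab g x F).symm

theorem card_pstab_eq (F : Finset GolayPt) :
    Nat.card {g : Equiv.Perm GolayPt // g ∈ M24 ∧ ∀ p ∈ F, g p = p} = Nat.card (pstab F) :=
  Nat.card_congr
    { toFun := fun g => ⟨⟨g.1, g.2.1⟩, g.2.2⟩
      invFun := fun g => ⟨g.1.1, g.1.2, g.2⟩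
      left_inv := fun _ => rfl
      right_inv := fun _ => rfl }

theorem pstab_B5 : pstab B5 = K5 := by ext g; rw [mem_K5, mem_pstab]

theorem pstab_insert (F : Finset GolayPt) (a : GolayPt) :
    pstab (insert a F) = pstab F ⊓ stabilizer M24 a := by
  ext g
  simp only [mem_pstab, mem_insert, forall_eq_or_imp, Subgroup.mem_inf, mem_stabilizer_iff,
    M24_smul_pt, and_comm]

theorem card_pstab_five {F : Finset GolayPt} (hF : F.card = 5) : Nat.card (pstab F) = 48 := by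
  obtain ⟨g, hg, rfl⟩ := trans_sets (card_B5.trans hF.symm) card_B5.le
  rw [← card_K5, ← pstab_B5]
  exact card_pstab_smul ⟨g, hg⟩ B5

theorem agree_B6in (σ : Equiv.Perm GolayPt) {o : Finset GolayPt} (ho : o ∈ octads)
    (h : σ • insert (pt 5) B5 ⊆ o) : ∃ g ∈ M24, ∀ a ∈ insert (pt 5) B5, g a = σ a := by
  obtain ⟨k, hk, e⟩ := agree_B5 σ
  have h1 : k⁻¹ • o = O0 := by
    refine octad_unique (octad_smul ho (M24.inv_mem hk)) O0_mem ?_
    rw [← card_B5]
    refine card_le_card (subset_inter (fun a ha => ?_) B5_subset)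
    rw [mem_inv_smul_finset_iff, Equiv.Perm.smul_def, e a ha]
    exact h (smul_mem_smul_finset (mem_insert_of_mem ha))
  have h2 : k⁻¹ (σ (pt 5)) ∈ orbit K5 (pt 5) := by
    rw [orbit_K5_in, mem_coe, mem_sdiff, ← h1]
    refine ⟨smul_mem_smul_finset (h (smul_mem_smul_finset (mem_insert_self _ _))), fun hb => ?_⟩
    have := e _ hb
    simp only [Equiv.Perm.coe_inv, Equiv.apply_symm_apply] at this
    have h3 := σ.injective this
    have h4 : pt 5 ∉ B5 := by decide +kernel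
    exact h4 (h3 ▸ hb)
  obtain ⟨⟨u, hu⟩, hu'⟩ := h2
  refine ⟨k * u, M24.mul_mem hk u.2, fun a ha => ?_⟩
  rcases mem_insert.1 ha with rfl | ha
  · change (u : Equiv.Perm GolayPt) (pt 5) = _ at hu'
    simp [hu']
  · rw [Equiv.Perm.mul_apply, mem_K5.1 hu a ha, e a ha]

theorem agree_B6out (σ : Equiv.Perm GolayPt) (h : ¬ ∃ o ∈ octads, σ • insert (pt 4) B5 ⊆ o) :
    ∃ g ∈ M24, ∀ a ∈ insert (pt 4) B5, g a = σ a := by
  obtain ⟨k, hk, e⟩ := agree_B5 σ
  have h2 : k⁻¹ (σ (pt 4)) ∈ orbit K5 (pt 4) := by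
    rw [orbit_K5_out, mem_coe, mem_sdiff]
    refine ⟨mem_univ _, fun hb => h ⟨k • O0, octad_smul O0_mem hk, ?_⟩⟩
    rw [smul_finset_insert, insert_subset_iff, ← smul_eq_of_agree e]
    refine ⟨?_, smul_finset_subset_smul_finset B5_subset⟩
    have : k • k⁻¹ (σ (pt 4)) ∈ k • O0 := smul_mem_smul_finset hb
    simpa using this
  obtain ⟨⟨u, hu⟩, hu'⟩ := h2
  refine ⟨k * u, M24.mul_mem hk u.2, fun a ha => ?_⟩
  rcases mem_insert.1 ha with rfl | ha
  · change (u : Equiv.Perm GolayPt) (pt 4) = _ at hu'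
    simp [hu']
  · rw [Equiv.Perm.mul_apply, mem_K5.1 hu a ha, e a ha]

theorem agree_of_std {B F : Finset GolayPt} {σ τ : Equiv.Perm GolayPt} (hτ : τ • B = F)
    (h1 : ∃ g ∈ M24, ∀ a ∈ B, g a = τ a) (h2 : ∃ g ∈ M24, ∀ a ∈ B, g a = (σ * τ) a) :
    ∃ g ∈ M24, ∀ a ∈ F, g a = σ a := by
  obtain ⟨k₁, hk₁, e₁⟩ := h1
  obtain ⟨k₂, hk₂, e₂⟩ := h2
  refine ⟨k₂ * k₁⁻¹, M24.mul_mem hk₂ (M24.inv_mem hk₁), fun a ha => ?_⟩
  obtain ⟨b, hb, rfl⟩ := mem_smul_finset.1 (hτ ▸ ha)
  have e3 : k₁⁻¹ (τ • b) = b := by rw [Equiv.Perm.inv_eq_iff_eq, e₁ b hb]; rfl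
  rw [Equiv.Perm.mul_apply, e3, e₂ b hb]; rfl

theorem card_B6in : (insert (pt 5) B5).card = 6 := by decide +kernel
theorem card_B6out : (insert (pt 4) B5).card = 6 := by decide +kernel

theorem agree6_in (σ : Equiv.Perm GolayPt) {F o o' : Finset GolayPt} (hF : F.card = 6)
    (ho : o ∈ octads) (ho' : o' ∈ octads) (h : F ⊆ o) (h' : σ • F ⊆ o') :
    ∃ g ∈ M24, ∀ a ∈ F, g a = σ a := by
  obtain ⟨τ, hτ⟩ := exists_perm_smul (card_B6in.trans hF.symm)
  exact agree_of_std hτ (agree_B6in τ ho (hτ ▸ h)) (agree_B6in _ ho' (by rwa [mul_smul, hτ]))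

theorem agree6_out (σ : Equiv.Perm GolayPt) {F : Finset GolayPt} (hF : F.card = 6)
    (h : ¬ ∃ o ∈ octads, F ⊆ o) (h' : ¬ ∃ o ∈ octads, σ • F ⊆ o) :
    ∃ g ∈ M24, ∀ a ∈ F, g a = σ a := by
  obtain ⟨τ, hτ⟩ := exists_perm_smul (card_B6out.trans hF.symm)
  exact agree_of_std hτ (agree_B6out τ (hτ ▸ h)) (agree_B6out _ (by rwa [mul_smul, hτ]))

theorem card_pstab_six_in {F o : Finset GolayPt} (hF : F.card = 6) (ho : o ∈ octads) (h : F ⊆ o) :
    Nat.card (pstab F) = 16 := by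
  obtain ⟨τ, hτ⟩ := exists_perm_smul (card_B6in.trans hF.symm)
  obtain ⟨g, hg, e⟩ := agree_B6in τ ho (hτ ▸ h)
  rw [← hτ, ← smul_eq_of_agree e]
  refine (card_pstab_smul ⟨g, hg⟩ _).trans ?_
  have := card_inf_stab K5 (pt 5)
  rw [orbit_K5_in, card_K5, Set.ncard_coe_finset, show (O0 \ B5).card = 3 by decide +kernel] at this
  rw [pstab_insert, pstab_B5]; omega

theorem card_pstab_six_out {F : Finset GolayPt} (hF : F.card = 6) (h : ¬ ∃ o ∈ octads, F ⊆ o) :
    Nat.card (pstab F) = 3 := by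
  obtain ⟨τ, hτ⟩ := exists_perm_smul (card_B6out.trans hF.symm)
  obtain ⟨g, hg, e⟩ := agree_B6out τ (hτ ▸ h)
  rw [← hτ, ← smul_eq_of_agree e]
  refine (card_pstab_smul ⟨g, hg⟩ _).trans ?_
  have := card_inf_stab K5 (pt 4)
  rw [orbit_K5_out, card_K5, Set.ncard_coe_finset,
    show (univ \ O0).card = 16 by decide +kernel] at this
  rw [pstab_insert, pstab_B5]; omega

/-- Restriction to an invariant set of points. -/
def resHom (H : Subgroup M24) (E : Finset GolayPt) (h : ∀ g ∈ H, g • E = E) :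
    H →* Equiv.Perm E where
  toFun g := Equiv.Perm.subtypePerm (g.1 : Equiv.Perm GolayPt) fun x => by
    conv_lhs => rw [← h g.1 g.2]
    exact smul_mem_smul_finset_iff (g.1 : Equiv.Perm GolayPt)
  map_one' := by ext; simp
  map_mul' a b := Equiv.ext fun _ => rfl

theorem resHom_apply (H : Subgroup M24) (E : Finset GolayPt) (h : ∀ g ∈ H, g • E = E) (g : H)
    (p : E) : (resHom H E h g p : GolayPt) = (g.1 : Equiv.Perm GolayPt) p := rfl

theorem ker_resHom (H : Subgroup M24) (E : Finset GolayPt) (h : ∀ g ∈ H, g • E = E) :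
    (resHom H E h).ker = (pstab E).subgroupOf H := by
  ext g
  rw [MonoidHom.mem_ker, Subgroup.mem_subgroupOf, mem_pstab, Equiv.Perm.ext_iff]
  constructor
  · intro h' a ha
    exact congrArg Subtype.val (h' ⟨a, ha⟩)
  · intro h' a
    exact Subtype.ext (h' a a.2)

/-- A subgroup of order `n !` acting faithfully on an invariant `n`-set is the symmetric group. -/
theorem nonempty_equiv_perm (H : Subgroup M24) (E : Finset GolayPt) (h : ∀ g ∈ H, g • E = E)
    {n : ℕ} (hE : E.card = n) (hH : Nat.card H = n.factorial)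
    (hf : ∀ g ∈ H, (∀ a ∈ E, (g : Equiv.Perm GolayPt) a = a) → g = 1) :
    Nonempty (H ≃* Equiv.Perm (Fin n)) := by
  have hinj : Function.Injective (resHom H E h) := by
    rw [← MonoidHom.ker_eq_bot_iff, ker_resHom, eq_bot_iff]
    intro g hg
    rw [Subgroup.mem_bot]
    exact Subtype.ext (hf g.1 g.2 hg)
  have hbij : Function.Bijective (resHom H E h) :=
    hinj.bijective_of_nat_card_le (by rw [hH, Nat.card_perm, Nat.card_eq_finsetCard, hE])
  exact ⟨(MulEquiv.ofBijective _ hbij).trans (Equiv.permCongrHom (E.equivFinOfCardEq hE))⟩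

end Cfsg.Agent.M24
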