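import Mathlib
import Cfsg.Prelude.Def_Sporadic_a

/-!
# Abstract Golay codes: 4096 subsets of a 24-set closed under symmetric difference, minimum weight 8
-/

set_option autoImplicit false

namespace Cfsg.Agent.M24

open Finset
open scoped symmDiff

theorem card_symmDiff_add {α : Type*} [DecidableEq α] (s t : Finset α) :
    (s ∆ t).card + 2 * (s ∩ t).card = s.card + t.card := by
  have h1 : (s ∆ t).card = (s \ t).card + (t \ s).card := by
    rw [symmDiff_def, sup_eq_union, card_union_of_disjoint disjoint_sdiff_sdiff]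
  have h2 := card_sdiff_add_card_inter s t
  have h3 := card_sdiff_add_card_inter t s
  rw [inter_comm t s] at h3
  omega

/-- An abstract extended binary Golay code, as a family of subsets. -/
structure GolayFam {α : Type*} [Fintype α] [DecidableEq α] (𝒞 : Finset (Finset α)) : Prop where
  card_univ : Fintype.card α = 24
  symm : ∀ s ∈ 𝒞, ∀ t ∈ 𝒞, s ∆ t ∈ 𝒞
  card : 𝒞.card = 4096
  minwt : ∀ s ∈ 𝒞, s ≠ ∅ → 8 ≤ s.card

namespace GolayFam
variable {α : Type*} [Fintype α] [DecidableEq α] {𝒞 : Finset (Finset α)} (h : GolayFam 𝒞)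
include h

theorem empty_mem : ∅ ∈ 𝒞 := by
  have : 𝒞.Nonempty := by rw [← card_pos, h.card]; norm_num
  obtain ⟨s, hs⟩ := this
  simpa using h.symm s hs s hs

theorem coset_symm {x u v : Finset α} (hu : x ∆ u ∈ 𝒞) (hv : x ∆ v ∈ 𝒞) : u ∆ v ∈ 𝒞 := by
  have := h.symm _ hu _ hv
  rwa [symmDiff_symmDiff_symmDiff_comm, symmDiff_self, bot_symmDiff] at this

theorem eq_of_small {u v : Finset α} (huv : u ∆ v ∈ 𝒞) (hc : u.card + v.card < 8) : u = v := by
  by_contra hne
  have h1 := h.minwt _ huv (by rwa [Ne, ← bot_eq_empty, symmDiff_eq_bot])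
  have := card_symmDiff_add u v
  omega

theorem disjoint_of_four {u v : Finset α} (huv : u ∆ v ∈ 𝒞) (hu : u.card = 4) (hv : v.card = 4)
    (hne : u ≠ v) : Disjoint u v := by
  have h1 := h.minwt _ huv (by rwa [Ne, ← bot_eq_empty, symmDiff_eq_bot])
  have := card_symmDiff_add u v
  rw [disjoint_iff_inter_eq_empty, ← card_eq_zero]
  omega

omit h in
theorem card_shift (u : Finset α) : (univ.filter fun x : Finset α => x ∆ u ∈ 𝒞).card = 𝒞.card := by
  refine card_bij (fun x _ => x ∆ u) (fun x hx => (mem_filter.1 hx).2)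
    (fun x _ y _ e => symmDiff_left_injective u e) fun c hc => ⟨c ∆ u, ?_, ?_⟩
  · simp [hc]
  · simp

/-- The words of weight four in a coset. -/
def tets (𝒞 : Finset (Finset α)) (x : Finset α) : Finset (Finset α) :=
  univ.filter fun u => u.card = 4 ∧ x ∆ u ∈ 𝒞

/-- The words of weight at most three in a coset. -/
def lows (𝒞 : Finset (Finset α)) (x : Finset α) : Finset (Finset α) :=
  univ.filter fun u => u.card ≤ 3 ∧ x ∆ u ∈ 𝒞

omit h in
theorem mem_tets {x u : Finset α} : u ∈ tets 𝒞 x ↔ u.card = 4 ∧ x ∆ u ∈ 𝒞 := by simp [tets]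
omit h in
theorem mem_lows {x u : Finset α} : u ∈ lows 𝒞 x ↔ u.card ≤ 3 ∧ x ∆ u ∈ 𝒞 := by simp [lows]

theorem tets_disj (x : Finset α) : ((tets 𝒞 x : Set (Finset α))).PairwiseDisjoint id := by
  intro u hu v hv hne
  rw [mem_coe, mem_tets] at hu hv
  exact h.disjoint_of_four (h.coset_symm hu.2 hv.2) hu.1 hv.1 hne

theorem card_biUnion_tets (x : Finset α) :
    ((tets 𝒞 x).biUnion id).card = 4 * (tets 𝒞 x).card := by
  rw [card_biUnion (h.tets_disj x), sum_congr rfl (f := fun u => (id u).card) (g := fun _ => 4)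
    fun u hu => (mem_tets.1 hu).1]
  simp [mul_comm]

theorem bound (x : Finset α) : 6 * (lows 𝒞 x).card + (tets 𝒞 x).card ≤ 6 := by
  by_cases h0 : (lows 𝒞 x).Nonempty
  · obtain ⟨u, hu⟩ := h0
    have h1 : (lows 𝒞 x).card ≤ 1 := card_le_one.2 fun a ha b hb => by
      rw [mem_lows] at ha hb
      exact h.eq_of_small (h.coset_symm ha.2 hb.2) (by omega)
    have h2 : tets 𝒞 x = ∅ := by
      refine eq_empty_of_forall_notMem fun v hv => ?_
      rw [mem_lows] at hu; rw [mem_tets] at hv
      have := h.eq_of_small (h.coset_symm hu.2 hv.2) (by omega)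
      subst this; omega
    rw [h2, card_empty]; omega
  · rw [not_nonempty_iff_eq_empty] at h0
    have h1 := h.card_biUnion_tets x
    have h2 := card_le_univ ((tets 𝒞 x).biUnion id)
    rw [h.card_univ] at h2
    rw [h0, card_empty]; omega

omit h in
theorem sum_card_filter (p : Finset α → Prop) [DecidablePred p] :
    ∑ x : Finset α, (univ.filter fun u => p u ∧ x ∆ u ∈ 𝒞).card =
      (univ.filter p).card * 𝒞.card := by
  simp only [card_filter]
  rw [sum_comm, sum_mul]
  refine sum_congr rfl fun u _ => ?_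
  by_cases hp : p u
  · simp only [hp, true_and, if_true, one_mul]
    rw [← card_shift (𝒞 := 𝒞) u, card_filter]
  · simp [hp]

theorem card_filter_card (k : ℕ) :
    (univ.filter fun u : Finset α => u.card = k).card = Nat.choose 24 k := by
  rw [← h.card_univ, ← Finset.card_univ, ← card_powersetCard]
  congr 1
  ext u; simp

theorem perfect (x : Finset α) : 6 * (lows 𝒞 x).card + (tets 𝒞 x).card = 6 := by
  have h1 : ∑ x : Finset α, (tets 𝒞 x).card = 10626 * 4096 := by
    rw [← h.card, show 10626 = Nat.choose 24 4 by decide +kernel, ← h.card_filter_card]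
    exact sum_card_filter _
  have h2 : ∑ x : Finset α, (lows 𝒞 x).card = 2325 * 4096 := by
    have : (univ.filter fun u : Finset α => u.card ≤ 3).card = 2325 := by
      have e : (univ.filter fun u : Finset α => u.card ≤ 3) =
          (range 4).biUnion fun k => univ.filter fun u : Finset α => u.card = k := by
        ext u; simp [Nat.lt_succ_iff]
      rw [e, card_biUnion]
      · simp only [h.card_filter_card]; decide +kernel
      · intro a _ b _ hab
        rw [Function.onFun, disjoint_filter]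
        intro u _ h1 h2; exact hab (h1.symm.trans h2)
    rw [← h.card, ← this]
    exact sum_card_filter _
  have h3 : ∑ x : Finset α, (6 * (lows 𝒞 x).card + (tets 𝒞 x).card) = ∑ _x : Finset α, 6 := by
    rw [sum_add_distrib, ← mul_sum, h1, h2, sum_const, Finset.card_univ, Fintype.card_finset, h.card_univ]
    norm_num
  exact (sum_eq_sum_iff_of_le fun x _ => h.bound x).1 h3 x (mem_univ x)

/-- Every coset has a unique word of weight at most 3 and none of weight 4, or six of weight 4 and
none of smaller weight. -/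
theorem coset (x : Finset α) :
    (∃ u, lows 𝒞 x = {u} ∧ tets 𝒞 x = ∅) ∨ (lows 𝒞 x = ∅ ∧ (tets 𝒞 x).card = 6) := by
  have := h.perfect x
  by_cases h0 : (lows 𝒞 x).card = 0
  · right; exact ⟨card_eq_zero.1 h0, by omega⟩
  · left
    obtain ⟨u, hu⟩ := card_eq_one.1 (show (lows 𝒞 x).card = 1 by omega)
    exact ⟨u, hu, card_eq_zero.1 (by omega)⟩

theorem exists_leader (x : Finset α) : ∃ u : Finset α, u.card ≤ 4 ∧ x ∆ u ∈ 𝒞 := by
  rcases h.coset x with ⟨u, hu, -⟩ | ⟨-, h6⟩
  · have : u ∈ lows 𝒞 x := by simp [hu]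
    rw [mem_lows] at this
    exact ⟨u, by omega, this.2⟩
  · obtain ⟨u, hu⟩ := card_pos.1 (show 0 < (tets 𝒞 x).card by omega)
    rw [mem_tets] at hu
    exact ⟨u, by omega, hu.2⟩

theorem card_tets {t : Finset α} (ht : t.card = 4) : (tets 𝒞 t).card = 6 := by
  rcases h.coset t with ⟨u, -, hu⟩ | ⟨-, h6⟩
  · have : t ∈ tets 𝒞 t := mem_tets.2 ⟨ht, by simpa using h.empty_mem⟩
    simp [hu] at this
  · exact h6

theorem tets_cover {x : Finset α} (h6 : (tets 𝒞 x).card = 6) (a : α) : ∃ u ∈ tets 𝒞 x, a ∈ u := by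
  have h1 := h.card_biUnion_tets x
  rw [h6] at h1
  have : (tets 𝒞 x).biUnion id = univ := eq_univ_of_card _ (by rw [h1, h.card_univ])
  have h2 : a ∈ (tets 𝒞 x).biUnion id := by rw [this]; exact mem_univ a
  simpa using h2

theorem exists_octad {F : Finset α} (hF : F.card = 5) : ∃ o ∈ 𝒞, o.card = 8 ∧ F ⊆ o := by
  rcases h.coset F with ⟨u, hu, -⟩ | ⟨-, h6⟩
  · have : u ∈ lows 𝒞 F := by simp [hu]
    rw [mem_lows] at this
    have h1 := card_symmDiff_add F u
    have h2 := h.minwt _ this.2 (by
      rw [Ne, ← bot_eq_empty, symmDiff_eq_bot]; rintro rfl; omega)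
    refine ⟨_, this.2, by omega, fun a ha => ?_⟩
    have h3 : F ∩ u = ∅ := card_eq_zero.1 (by omega)
    rw [mem_symmDiff]
    exact Or.inl ⟨ha, fun hau => by simpa [h3] using mem_inter.2 ⟨ha, hau⟩⟩
  · obtain ⟨a, ha⟩ := card_pos.1 (show 0 < F.card by omega)
    obtain ⟨u, hu, hau⟩ := h.tets_cover h6 a
    rw [mem_tets] at hu
    have h1 := card_symmDiff_add F u
    have h2 := h.minwt _ hu.2 (by
      rw [Ne, ← bot_eq_empty, symmDiff_eq_bot]; rintro rfl; omega)
    have h3 : 0 < (F ∩ u).card := card_pos.2 ⟨a, mem_inter.2 ⟨ha, hau⟩⟩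
    omega

theorem octad_unique {o o' : Finset α} (ho : o ∈ 𝒞) (ho' : o' ∈ 𝒞) (h8 : o.card = 8)
    (h8' : o'.card = 8) (h5 : 5 ≤ (o ∩ o').card) : o = o' := by
  by_contra hne
  have h1 := h.minwt _ (h.symm _ ho _ ho') (by rwa [Ne, ← bot_eq_empty, symmDiff_eq_bot])
  have := card_symmDiff_add o o'
  omega

theorem steiner : IsSteinerSystem 5 8 {o | o ∈ 𝒞 ∧ o.card = 8} := by
  refine ⟨fun b hb => hb.2, fun F hF => ?_⟩
  obtain ⟨o, ho, h8, hFo⟩ := h.exists_octad hF
  refine ⟨o, ⟨⟨ho, h8⟩, hFo⟩, fun o' ⟨⟨ho', h8'⟩, hFo'⟩ => h.octad_unique ho' ho h8' h8 ?_⟩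
  rw [← hF]; exact card_le_card (subset_inter hFo' hFo)

/-- The code is generated by its octads. -/
theorem induction {P : Finset α → Prop} (h0 : P ∅) (h8 : ∀ o ∈ 𝒞, o.card = 8 → P o)
    (hs : ∀ s ∈ 𝒞, ∀ t ∈ 𝒞, P s → P t → P (s ∆ t)) : ∀ s ∈ 𝒞, P s := by
  intro s
  induction hn : s.card using Nat.strong_induction_on generalizing s with
  | _ n ih =>
    intro hs'
    by_cases he : s = ∅
    · rw [he]; exact h0
    · have h1 := h.minwt s hs' he
      obtain ⟨F, hFs, hF⟩ := exists_subset_card_eq (show 5 ≤ s.card by omega)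
      obtain ⟨o, ho, ho8, hFo⟩ := h.exists_octad hF
      have h2 := card_symmDiff_add s o
      have h3 : 5 ≤ (s ∩ o).card := by rw [← hF]; exact card_le_card (subset_inter hFs hFo)
      have h4 := ih _ (by omega) (s ∆ o) rfl (h.symm _ hs' _ ho)
      have := hs _ (h.symm _ hs' _ ho) _ ho h4 (h8 o ho ho8)
      rwa [symmDiff_assoc, symmDiff_self, symmDiff_bot] at this

end GolayFam

/-! ### Words and supports -/

section words
variable {α : Type*} [Fintype α] [DecidableEq α]

/-- Indicator word of a finite set. -/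
def ind (s : Finset α) : α → ZMod 2 := fun a => if a ∈ s then 1 else 0

omit [DecidableEq α] in
theorem mem_support₂ {w : α → ZMod 2} {a : α} : a ∈ support₂ w ↔ w a ≠ 0 := by simp [support₂]

theorem zmod2_ne_zero {x : ZMod 2} : x ≠ 0 ↔ x = 1 := by revert x; decide

@[simp] theorem support_ind (s : Finset α) : support₂ (ind s) = s := by
  ext a; simp [mem_support₂, ind]

@[simp] theorem ind_support (w : α → ZMod 2) : ind (support₂ w) = w := by
  funext a
  simp only [ind, mem_support₂]
  split_ifs with h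
  · exact (zmod2_ne_zero.1 h).symm
  · exact (not_not.1 h).symm

theorem support₂_inj : Function.Injective (support₂ : (α → ZMod 2) → Finset α) :=
  fun v w e => by rw [← ind_support v, e, ind_support]

theorem ind_inj : Function.Injective (ind : Finset α → α → ZMod 2) :=
  fun v w e => by rw [← support_ind v, e, support_ind]

theorem support₂_add (v w : α → ZMod 2) : support₂ (v + w) = support₂ v ∆ support₂ w := by
  ext a
  simp only [mem_symmDiff, mem_support₂, Pi.add_apply]
  generalize v a = x; generalize w a = y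
  revert x y; decide

omit [Fintype α] [DecidableEq α] in
theorem word_sub (v w : α → ZMod 2) : v - w = v + w := by
  funext a
  simp only [Pi.add_apply, Pi.sub_apply]
  generalize v a = x; generalize w a = y
  revert x y; decide

theorem ind_symmDiff (s t : Finset α) : ind (s ∆ t) = ind s + ind t :=
  support₂_inj (by rw [support₂_add]; simp)

omit [Fintype α] in
theorem ind_empty : ind (∅ : Finset α) = 0 := by funext a; simp [ind]

theorem ind_univ : ind (univ : Finset α) = fun _ => 1 := by funext a; simp [ind]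

omit [DecidableEq α] in
theorem support₂_zero : support₂ (0 : α → ZMod 2) = ∅ := by ext a; simp [mem_support₂]

omit [DecidableEq α] in
theorem hammingNorm_eq (w : α → ZMod 2) : hammingNorm w = (support₂ w).card := by
  rw [hammingNorm, support₂]

theorem mem_supports {C : Set (α → ZMod 2)} {s : Finset α} : s ∈ supports C ↔ ind s ∈ C := by
  constructor
  · rintro ⟨w, hw, rfl⟩; simpa using hw
  · intro h; exact ⟨_, h, support_ind s⟩

theorem sum_mul_eq (v w : α → ZMod 2) :
    ∑ i, v i * w i = ((support₂ v ∩ support₂ w).card : ZMod 2) := by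
  rw [card_eq_sum_ones, Nat.cast_sum, ← sum_subset (subset_univ (support₂ v ∩ support₂ w))]
  · refine sum_congr rfl fun a ha => ?_
    simp only [mem_inter, mem_support₂, zmod2_ne_zero] at ha
    simp [ha.1, ha.2]
  · intro a _ ha
    simp only [mem_inter, mem_support₂, not_and_or, not_not] at ha
    rcases ha with ha | ha <;> simp [ha]

theorem sum_eq_card (w : α → ZMod 2) : ∑ i, w i = ((support₂ w).card : ZMod 2) := by
  have := sum_mul_eq w (fun _ => 1)
  simp only [mul_one] at this
  rw [this]
  congr 2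
  ext a; simp [mem_support₂]

open Classical in
/-- The family of supports of a code. -/
noncomputable def famOf (C : Submodule (ZMod 2) (α → ZMod 2)) : Finset (Finset α) :=
  univ.filter fun s => ind s ∈ C

theorem mem_famOf {C : Submodule (ZMod 2) (α → ZMod 2)} {s : Finset α} :
    s ∈ famOf C ↔ ind s ∈ C := by simp [famOf]

theorem support_mem_famOf {C : Submodule (ZMod 2) (α → ZMod 2)} {w : α → ZMod 2} :
    support₂ w ∈ famOf C ↔ w ∈ C := by simp [mem_famOf]

theorem card_famOf (C : Submodule (ZMod 2) (α → ZMod 2)) : (famOf C).card = Nat.card C := by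
  rw [← Nat.card_eq_finsetCard]
  exact Nat.card_congr
    { toFun := fun s => ⟨ind s.1, mem_famOf.1 s.2⟩
      invFun := fun w => ⟨support₂ w.1, support_mem_famOf.2 w.2⟩
      left_inv := fun s => by simp
      right_inv := fun w => by simp }

theorem golayFam_of (hα : Fintype.card α = 24) (C : Submodule (ZMod 2) (α → ZMod 2))
    (hdim : Module.finrank (ZMod 2) C = 12) (hmin : ∀ w ∈ C, w ≠ 0 → 8 ≤ hammingNorm w) :
    GolayFam (famOf C) where
  card_univ := hα
  symm s hs t ht := by
    rw [mem_famOf] at *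
    rw [ind_symmDiff]; exact C.add_mem hs ht
  card := by
    rw [card_famOf, Module.natCard_eq_pow_finrank (K := ZMod 2), hdim]
    simp
  minwt s hs hne := by
    have := hmin _ (mem_famOf.1 hs) fun e => hne (ind_inj (e.trans ind_empty.symm))
    rwa [hammingNorm_eq, support_ind] at this

end words

end Cfsg.Agent.M24
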