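import Cfsg.Agent.M24.Chain

/-! # More tools for coded groups: conjugation action, normalisers, Sylow subgroups, homomorphisms -/

set_option autoImplicit false

namespace Cfsg.Agent.M24

open MulAction

/-- A group as a set with the conjugation action. -/
def Cj (G : Type*) : Type _ := G

instance instMulActionCj {G : Type*} [Group G] : MulAction G (Cj G) where
  smul g x := (g * (show G from x) * g⁻¹ : G)
  one_smul x := (fun y : G => show (1 : G) * y * 1⁻¹ = y by simp) x
  mul_smul g h x :=
    (fun y : G => show g * h * y * (g * h)⁻¹ = g * (h * y * h⁻¹) * g⁻¹ by simp [mul_assoc]) x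

/-- An element of the group as a point of the conjugation action. -/
def toCj {G : Type*} (x : G) : Cj G := x

theorem smul_toCj {G : Type*} [Group G] (g x : G) : g • toCj x = toCj (g * x * g⁻¹) := rfl

theorem stabilizer_toCj {G : Type*} [Group G] (x : G) :
    stabilizer G (toCj x) = Subgroup.centralizer {x} := by
  ext g
  rw [mem_stabilizer_iff, smul_toCj, Subgroup.mem_centralizer_singleton_iff]
  change g * x * g⁻¹ = x ↔ _
  rw [mul_inv_eq_iff_eq_mul]

/-- Conjugation on codes. -/
noncomputable def cjap (mul : ℕ → ℕ → ℕ) (inv : ℕ → ℕ) (s x : ℕ) : ℕ :=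
  force (mul s x) fun y => force (inv s) (mul y)

section
variable {G : Type*} [Group G] {code : G → ℕ} {mul : ℕ → ℕ → ℕ} {inv : ℕ → ℕ} {one : ℕ}

theorem GC.cjap_code (C : GC code mul inv one) (g x : G) :
    cjap mul inv (code g) (code x) = code (g * x * g⁻¹) := by
  simp only [cjap, force_eq, C.code_mul, C.code_inv]

theorem GC.acCj (C : GC code mul inv one) :
    AC (X := Cj G) code Set.univ (fun x => code (show G from x)) (cjap mul inv) where
  smul_mem _ _ _ := trivial
  inj _ _ _ _ h := C.inj h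
  ap_code g x _ := C.cjap_code g x

theorem mem_normalizer_of_conj [Finite G] {H : Subgroup G} {g : G}
    (h : ∀ x ∈ H, g * x * g⁻¹ ∈ H) : g ∈ Subgroup.normalizer (H : Set G) := by
  rw [Subgroup.mem_normalizer_iff_map_conj_eq]
  apply Subgroup.eq_of_le_of_card_ge
  · rintro _ ⟨x, hx, rfl⟩; exact h x hx
  · rw [Subgroup.card_map_of_injective (MulAut.conj g).injective]

theorem conj_mem_gen {l : List ℕ} {H : Subgroup G} {g : G}
    (h : ∀ x, code x ∈ l → g * x * g⁻¹ ∈ H) : ∀ x ∈ gen code l, g * x * g⁻¹ ∈ H := by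
  have : gen code l ≤ H.comap (MulAut.conj g).toMonoidHom := gen_le h
  exact fun x hx => this hx

theorem GC.gen_le_normalizer [Finite G] (C : GC code mul inv one) {l l' : List ℕ} {f : ℕ → Bool}
    (hf : ∀ g, f (code g) = true → g ∈ gen code l')
    (h : (lall l fun s => lall l' fun x => force (cjap mul inv s x) f) = true) :
    gen code l ≤ Subgroup.normalizer (gen code l' : Set G) :=
  gen_le fun s hs => mem_normalizer_of_conj (conj_mem_gen fun x hx => hf _ (by
    have := (lall_iff _ _).1 ((lall_iff _ _).1 h _ hs) _ hx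
    rwa [force_eq, C.cjap_code] at this))

theorem GC.gen_le_centralizer (C : GC code mul inv one) {l l' : List ℕ}
    (h : (lall l fun s => lall l' fun x => Nat.beq (mul s x) (mul x s)) = true) :
    gen code l ≤ Subgroup.centralizer (gen code l' : Set G) := by
  refine gen_le fun s hs => ?_
  have : gen code l' ≤ Subgroup.centralizer {s} := gen_le fun x hx => by
    have := Nat.eq_of_beq_eq_true ((lall_iff _ _).1 ((lall_iff _ _).1 h _ hs) _ hx)
    rw [← C.code_mul, ← C.code_mul] at this
    rw [Subgroup.mem_centralizer_singleton_iff]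
    exact (C.inj this).symm
  intro x hx
  exact Subgroup.mem_centralizer_singleton_iff.1 (this hx)

theorem gen_le_of_all {l : List ℕ} {H : Subgroup G} {f : ℕ → Bool}
    (hf : ∀ g, f (code g) = true → g ∈ H) (h : lall l f = true) : gen code l ≤ H :=
  gen_le fun g hg => hf g ((lall_iff _ _).1 h _ hg)

theorem gen_singleton {x : G} (hi : Function.Injective code) :
    gen code [code x] = Subgroup.zpowers x := by
  rw [gen, Subgroup.zpowers_eq_closure]
  congr 1
  ext g; simp [hi.eq_iff]

/-- A homomorphism into a coded group given by a table of codes. -/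
theorem GC.exists_hom (C : GC code mul inv one) {K : Type*} [Group K] (c : K → ℕ)
    (hv : ∀ x, ∃ g, code g = c x) (hm : ∀ x y, c (x * y) = mul (c x) (c y)) :
    ∃ f : K →* G, ∀ x, code (f x) = c x := by
  choose f hf using hv
  exact ⟨MonoidHom.mk' f fun x y => C.inj (by rw [C.code_mul, hf, hf, hf, hm]), hf⟩

/-- Power on codes. -/
noncomputable def cpow (mul : ℕ → ℕ → ℕ) (one p : ℕ) (n : ℕ) : ℕ :=
  Nat.rec (motive := fun _ => ℕ) one (fun _ acc => force acc fun a => mul a p) n

theorem GC.cpow_code (C : GC code mul inv one) (g : G) (n : ℕ) :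
    cpow mul one (code g) n = code (g ^ n) := by
  induction n with
  | zero => rw [pow_zero, C.code_one]; rfl
  | succ n ih =>
    have : cpow mul one (code g) (n + 1) = force (cpow mul one (code g) n) fun a => mul a (code g) :=
      rfl
    rw [this, force_eq, ih, pow_succ, C.code_mul]

theorem GC.eq_one_iff (C : GC code mul inv one) {g : G} : Nat.beq (code g) one = true ↔ g = 1 := by
  rw [Nat.beq_eq, ← C.code_one, C.inj.eq_iff]

theorem GC.orderOf_prime (C : GC code mul inv one) {g : G} {p : ℕ} [Fact p.Prime] {c : ℕ}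
    (hc : code g = c) (h : (Nat.beq (cpow mul one c p) one && !Nat.beq c one) = true) :
    orderOf g = p := by
  subst hc
  rw [C.cpow_code, Bool.and_eq_true, C.eq_one_iff, Bool.not_eq_true', ← Bool.not_eq_true,
    C.eq_one_iff] at h
  exact orderOf_eq_prime h.1 h.2

/-- A `p`-element is conjugate into any subgroup of full `p`-power order. -/
theorem exists_conj_mem_of_card [Finite G] {p : ℕ} [Fact p.Prime] {K : Subgroup G}
    (hK : Nat.card K = p ^ (Nat.card G).factorization p) {x : G} {n : ℕ} (hx : x ^ p ^ n = 1) :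
    ∃ g : G, g * x * g⁻¹ ∈ K := by
  have h1 : IsPGroup p (Subgroup.zpowers x) := by
    rw [IsPGroup.iff_card]
    rw [Nat.card_zpowers]
    obtain ⟨k, -, hk⟩ := (Nat.dvd_prime_pow Fact.out).1 (orderOf_dvd_of_pow_eq_one hx)
    exact ⟨k, hk⟩
  obtain ⟨Q, hQ⟩ := h1.exists_le_sylow
  obtain ⟨g, hg⟩ := exists_smul_eq G Q (Sylow.ofCard K hK)
  refine ⟨g, ?_⟩
  have : (Sylow.ofCard K hK : Subgroup G) = K := rfl
  rw [← this, ← hg, Sylow.coe_subgroup_smul]
  exact Subgroup.smul_mem_pointwise_smul _ (MulAut.conj g) _ (hQ (Subgroup.mem_zpowers x))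

/-- The same inside a subgroup. -/
theorem exists_conj_mem_of_card' [Finite G] {p : ℕ} [Fact p.Prime] {K H : Subgroup G} (hle : K ≤ H)
    (hK : Nat.card K = p ^ (Nat.card H).factorization p) {x : G} (hxH : x ∈ H) {n : ℕ}
    (hx : x ^ p ^ n = 1) : ∃ g ∈ H, g * x * g⁻¹ ∈ K := by
  obtain ⟨g, hg⟩ := exists_conj_mem_of_card (G := H) (K := K.subgroupOf H) (p := p)
    (by rw [Nat.card_congr (Subgroup.subgroupOfEquivOfLe hle).toEquiv, hK]) (x := ⟨x, hxH⟩) (n := n)
    (Subtype.ext hx)
  exact ⟨g, g.2, hg⟩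

theorem ncard_fixed_conj {X : Type*} [MulAction G X] {D : Set X} (hD : ∀ (g : G) x, x ∈ D → g • x ∈ D)
    (c x : G) : {y | y ∈ D ∧ (c * x * c⁻¹) • y = y}.ncard = {y | y ∈ D ∧ x • y = y}.ncard := by
  have : {y | y ∈ D ∧ (c * x * c⁻¹) • y = y} = (fun y => c • y) '' {y | y ∈ D ∧ x • y = y} := by
    ext y
    constructor
    · rintro ⟨h1, h2⟩
      refine ⟨c⁻¹ • y, ⟨hD _ _ h1, ?_⟩, smul_inv_smul c y⟩
      rw [mul_smul, mul_smul] at h2
      exact (eq_inv_smul_iff.2 h2)
    · rintro ⟨z, ⟨h1, h2⟩, rfl⟩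
      exact ⟨hD _ _ h1, by simp only [mul_smul, inv_smul_smul, h2]⟩
  rw [this, Set.ncard_image_of_injective _ (MulAction.injective c)]

end

end Cfsg.Agent.M24
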