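import Cfsg.Agent.M24.OctOrb
import Cfsg.Agent.M24.Tools

/-! # The dodecad stabiliser `M12`; words under coordinate permutations -/

set_option autoImplicit false

namespace Cfsg.Agent.M24

open Finset MulAction
open scoped Pointwise symmDiff

theorem support_perm (σ : Equiv.Perm GolayPt) (w : GolayPt → ZMod 2) :
    support₂ (fun p => w (σ.symm p)) = σ • support₂ w := by
  ext a
  rw [mem_support₂, ← inv_smul_mem_iff, mem_support₂]; rfl

theorem ind_smul (σ : Equiv.Perm GolayPt) (s : Finset GolayPt) :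
    ind (σ • s) = fun p => ind s (σ.symm p) :=
  support₂_inj (by rw [support_perm, support_ind, support_ind])

/-- Certificate for `Full` along a chain for permutations preserving the sets `os`. -/
noncomputable def fullChk' (os : List ℕ) (Ls : List Lvl) : ℕ → Bool :=
  List.rec (motive := fun _ => ℕ → Bool) (fun _ => true)
    (fun L _ ih F => band (!F.testBit L.b)
      (band (nall 24 fun y => bor (!cand F os L.b y) (L.t.has y)) (ih (Nat.lor F (2 ^ L.b))))) Ls

theorem full_of_chk' {os : List ℕ} {Ls : List Lvl} {F : Finset GolayPt}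
    (h : fullChk' os Ls (mask F) = true) {H : Set (Equiv.Perm GolayPt)}
    (hH : ∀ g ∈ H, (∀ a ∈ F, g a = a) ∧ ∀ m ∈ os, g • unmask m = unmask m) :
    Full Set.univ idx H Ls := by
  induction Ls generalizing F H with
  | nil => trivial
  | cons L Ls ih =>
    have e : fullChk' os (L :: Ls) (mask F) = band (!(mask F).testBit L.b)
      (band (nall 24 fun y => bor (!cand (mask F) os L.b y)
        (L.t.has y)) (fullChk' os Ls (Nat.lor (mask F) (2 ^ L.b)))) := rfl
    rw [e] at h
    simp only [band_eq, bor_eq, Bool.and_eq_true, nall_iff, Bool.or_eq_true, Bool.not_eq_true'] at h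
    obtain ⟨h2, h3, h4⟩ := h
    intro x₀ _ hb
    have hx : x₀ ∉ F := by rw [← testBit_mask, hb, h2]; simp
    refine ⟨fun g hg => ?_, ih (F := F ∪ {x₀}) ?_ ?_⟩
    · have hc : cand (mask F) os (idx x₀) (idx (g x₀)) = true := by
        simp only [cand, band_eq, Bool.and_eq_true, lall_iff, Bool.not_eq_true', beq_iff_eq]
        refine ⟨?_, fun o ho => ?_⟩
        · rw [← Bool.not_eq_true, testBit_mask]
          intro h
          exact hx (g.injective ((hH g hg).1 _ h) ▸ h)
        · rw [Bool.eq_iff_iff, ← mem_unmask, ← mem_unmask]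
          conv_rhs => rw [← (hH g hg).2 o ho]
          exact (smul_mem_smul_finset_iff g).symm
      rcases h3 _ (idx_lt (g x₀)) with h5 | h5
      · rw [← hb, hc] at h5; exact absurd h5 (by simp)
      · exact T.has_sound h5
    · rw [mask_union, mask_singleton, hb]; exact h4
    · rintro g ⟨hg, hg'⟩
      refine ⟨fun a ha => ?_, (hH g hg).2⟩
      rcases mem_union.1 ha with ha | ha
      · exact (hH g hg).1 a ha
      · rw [mem_singleton.1 ha]; exact hg'

theorem mem_gen_pcode {l : List ℕ} (h : Valid mcode l) {g : Equiv.Perm GolayPt} :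
    g ∈ gen pcode l ↔ ∃ hg : g ∈ M24, (⟨g, hg⟩ : M24) ∈ gen mcode l := by
  rw [← map_gen h]
  constructor
  · rintro ⟨g', hg, rfl⟩; exact ⟨g'.2, hg⟩
  · rintro ⟨hg, h'⟩; exact ⟨_, h', rfl⟩

/-- `M12` is 5-transitive on its dodecad. -/
theorem agree_D0 (σ : Equiv.Perm GolayPt) (hσ : σ • D0 = D0) :
    ∃ g : M24, g • D0 = D0 ∧ ∀ i < 5, (g : Equiv.Perm GolayPt) (pt i) = σ (pt i) := by
  obtain ⟨h1, -⟩ := chkM_sound_perm cD_chk
  have hv := (chkM_sound cD_chk).1
  have hle : gen pcode (gensOf cD) ≤ stabilizer (Equiv.Perm GolayPt) D0 := fun g hg => by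
    obtain ⟨hg', h⟩ := (mem_gen_pcode hv).1 hg
    rw [← stab_D0] at h; exact h
  have hf : Full Set.univ idx ((stabilizer (Equiv.Perm GolayPt) D0 : Subgroup _) :
      Set (Equiv.Perm GolayPt)) (cD.take 5) :=
    full_of_chk' (F := ∅) (os := [340831]) (by rw [mask_empty]; decide +kernel)
      fun g hg => ⟨by simp, by simpa [← D0_eq] using hg⟩
  obtain ⟨k, hk, hk'⟩ := h1.reduce acP 5 hle hf σ hσ
  obtain ⟨hk1, hk2⟩ := (mem_gen_pcode hv).1 (Subgroup.inv_mem _ hk)
  rw [← stab_D0] at hk2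
  refine ⟨⟨k⁻¹, hk1⟩, hk2, fun i hi => ?_⟩
  have : ∀ i < 5, ∃ L ∈ cD.take 5, idx (pt i) = L.b := by decide +kernel
  obtain ⟨L, hL, e⟩ := this i hi
  have := hk' L hL _ trivial e
  rw [Equiv.Perm.smul_def, Equiv.Perm.mul_apply] at this
  change k⁻¹ _ = _
  rw [Equiv.Perm.inv_eq_iff_eq, this]

theorem trans_D0 {n : ℕ} (hn : n ≤ 5) {x : Fin n → GolayPt} (hx : Function.Injective x)
    (hD : ∀ i, x i ∈ D0) :
    ∃ g : M24, g • D0 = D0 ∧ ∀ i : Fin n, (g : Equiv.Perm GolayPt) (pt i) = x i := by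
  have hp : ∀ i < 5, pt i ∈ D0 := by rw [D0_eq]; decide +kernel
  obtain ⟨τ, hτ⟩ := Equiv.Perm.exists_extending_pair
    (fun i : Fin n => (⟨pt i, hp i (by omega)⟩ : D0)) (fun i => (⟨x i, hD i⟩ : D0))
    (fun i j e => by
      have := congrArg (fun a : D0 => idx a) e
      simp only at this
      rw [idx_pt (by omega), idx_pt (by omega)] at this
      exact Fin.ext this)
    (fun i j e => hx (congrArg Subtype.val e))
  obtain ⟨g, hg, e⟩ := agree_D0 (Equiv.Perm.ofSubtype τ) (by
    apply eq_of_subset_of_card_le _ (by rw [card_smul_finset])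
    intro a ha
    obtain ⟨b, hb, rfl⟩ := mem_smul_finset.1 ha
    rw [Equiv.Perm.smul_def, Equiv.Perm.ofSubtype_apply_of_mem τ hb]
    exact (τ ⟨b, hb⟩).2)
  refine ⟨g, hg, fun i => ?_⟩
  rw [e i (by omega), Equiv.Perm.ofSubtype_apply_of_mem τ (hp i (by omega)), hτ]

theorem mem_cD_drop {n : ℕ} (hn : n ≤ 5) {g : M24} : g ∈ gen mcode (gensOf (cD.drop n)) ↔
    g • D0 = D0 ∧ ∀ i < n, (g : Equiv.Perm GolayPt) (pt i) = pt i := by
  have h := (chkM_sound cD_chk).2.1
  have hb : ∀ n ≤ 5, ∀ a, (∃ i < n, a = pt i) ↔ ∃ L ∈ cD.take n, idx a = L.b := by decide +kernel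
  constructor
  · intro hg
    obtain ⟨h1, h2⟩ := h.drop_le acM n hg
    rw [← stab_D0] at h1
    refine ⟨h1, fun i hi => ?_⟩
    obtain ⟨L, hL, e⟩ := (hb n hn _).1 ⟨i, hi, rfl⟩
    exact h2 L hL _ trivial e
  · rintro ⟨h1, h2⟩
    refine h.mem_drop n (stab_D0 ▸ h1) fun L hL x _ e => ?_
    obtain ⟨i, hi, rfl⟩ := (hb n hn x).2 ⟨L, hL, e⟩
    exact h2 i hi

theorem smul_compl (g : Equiv.Perm GolayPt) (s : Finset GolayPt) :
    g • (univ \ s) = univ \ (g • s) := by rw [smul_finset_sdiff, smul_finset_univ]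

theorem compl_compl' (s : Finset GolayPt) : univ \ (univ \ s) = s := by
  ext a; simp

theorem smul_compl_eq_iff (g : Equiv.Perm GolayPt) (s : Finset GolayPt) :
    g • (univ \ s) = univ \ s ↔ g • s = s := by
  rw [smul_compl]
  exact ⟨fun h => by rw [← compl_compl' (g • s), h, compl_compl'], fun h => by rw [h]⟩

end Cfsg.Agent.M24
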