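import Cfsg.Agent.M24.Struct
import Cfsg.Prelude.Def_Spor_Mathieu

/-! # The 2576 dodecads form one orbit of `M24` -/

set_option autoImplicit false

namespace Cfsg.Agent.M24

open Finset MulAction
open scoped Pointwise symmDiff

def tD_0 : T := (.node (.node (.node (.node (.node (.node (.node (.node .nil (nat_lit 28637) (nat_lit 40497)
  (nat_lit 0xa3cd92) .nil) (nat_lit 57274) (nat_lit 23009) (nat_lit 0x29e1ba) .nil) (nat_lit 89455) (nat_lit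
  38145) (nat_lit 0xbaa932) (.node (.node .nil (nat_lit 109547) (nat_lit 31200) (nat_lit 0x40d5f5) .nil)
  (nat_lit 114548) (nat_lit 33168) (nat_lit 57274) .nil)) (nat_lit 129431) (nat_lit 13857) (nat_lit 0xbb443a)
  (.node (.node (.node .nil (nat_lit 160251) (nat_lit 27921) (nat_lit 0xadec22) .nil) (nat_lit 165759)
  (nat_lit 12017) (nat_lit 0xaee988) .nil) (nat_lit 178910) (nat_lit 35345) (nat_lit 0xfccb8) (.node .nil
  (nat_lit 195645) (nat_lit 5281) (nat_lit 0x86e53a) .nil))) (nat_lit 219094) (nat_lit 3889) (nat_lit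
  0x3f49a2) (.node (.node (.node (.node .nil (nat_lit 223863) (nat_lit 26336) (nat_lit 0x41b53b) .nil)
  (nat_lit 229096) (nat_lit 18305) (nat_lit 0x15adb2) .nil) (nat_lit 236787) (nat_lit 19281) (nat_lit
  0x9d6938) (.node .nil (nat_lit 243149) (nat_lit 12672) (nat_lit 0x41dae6) .nil)) (nat_lit 249487) (nat_lit
  17841) (nat_lit 0x9f819a) (.node (.node (.node .nil (nat_lit 255921) (nat_lit 9025) (nat_lit 0xb5658a) .nil)
  (nat_lit 258862) (nat_lit 21361) (nat_lit 0x3ea4aa) .nil) (nat_lit 293551) (nat_lit 18113) (nat_lit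
  0xcba4b2) (.node .nil (nat_lit 319063) (nat_lit 1664) (nat_lit 0x426f2b) .nil)))) (nat_lit 320502) (nat_lit
  34193) (nat_lit 0x6b6c8a) (.node (.node (.node (.node (.node .nil (nat_lit 325481) (nat_lit 40993) (nat_lit
  0xe0adaa) .nil) (nat_lit 331518) (nat_lit 20688) (nat_lit 165759) .nil) (nat_lit 340831) (nat_lit 0)
  (nat_lit 340831) (.node .nil (nat_lit 357820) (nat_lit 37137) (nat_lit 0x73e522) .nil)) (nat_lit 366503)
  (nat_lit 2288) (nat_lit 0x42cbd3) (.node (.node (.node .nil (nat_lit 376473) (nat_lit 16849) (nat_lit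
  0xd1c5b8) .nil) (nat_lit 378331) (nat_lit 36049) (nat_lit 0xf9c90a) .nil) (nat_lit 388325) (nat_lit 14785)
  (nat_lit 0xd32d1a) (.node .nil (nat_lit 391290) (nat_lit 9824) (nat_lit 195645) .nil))) (nat_lit 401355)
  (nat_lit 24737) (nat_lit 0xed89b0) (.node (.node (.node (.node .nil (nat_lit 407285) (nat_lit 11793)
  (nat_lit 0xc76da0) .nil) (nat_lit 413111) (nat_lit 34768) (nat_lit 0x4326db) .nil) (nat_lit 438188) (nat_lit
  1777) (nat_lit 0x67a598) (.node .nil (nat_lit 441139) (nat_lit 19312) (nat_lit 0x435d99) .nil)) (nat_lit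
  447726) (nat_lit 29745) (nat_lit 0x4fa92a) (.node (.node (.node .nil (nat_lit 452943) (nat_lit 11136)
  (nat_lit 0x4374a7) .nil) (nat_lit 458192) (nat_lit 28464) (nat_lit 229096) .nil) (nat_lit 470393) (nat_lit
  15041) (nat_lit 0xf4ed10) (.node .nil (nat_lit 473574) (nat_lit 13633) (nat_lit 0x7f2c30) .nil))))) (nat_lit
  480827) (nat_lit 36577) (nat_lit 0xdce1a2) (.node (.node (.node (.node (.node (.node .nil (nat_lit 486298)
  (nat_lit 10241) (nat_lit 0x7dc492) .nil) (nat_lit 491269) (nat_lit 34032) (nat_lit 0x43bf82) .nil) (nat_lit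
  498974) (nat_lit 21921) (nat_lit 0x7ec138) (.node .nil (nat_lit 499903) (nat_lit 5072) (nat_lit 0x43d05f)
  .nil)) (nat_lit 511842) (nat_lit 16048) (nat_lit 255921) (.node (.node (.node .nil (nat_lit 517724) (nat_lit
  16081) (nat_lit 0x56cd8a) .nil) (nat_lit 520899) (nat_lit 34080) (nat_lit 0x43f961) .nil) (nat_lit 540283)
  (nat_lit 13312) (nat_lit 0x441f3d) (.node .nil (nat_lit 570301) (nat_lit 32496) (nat_lit 0x4459de) .nil)))
  (nat_lit 575743) (nat_lit 33521) (nat_lit 0x8be81e) (.node (.node (.node (.node .nil (nat_lit 587102)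
  (nat_lit 27153) (nat_lit 0x2acd2e) .nil) (nat_lit 599543) (nat_lit 11680) (nat_lit 0x4492fb) .nil) (nat_lit
  614069) (nat_lit 5489) (nat_lit 0x9361b6) (.node .nil (nat_lit 620427) (nat_lit 27776) (nat_lit 0x44bbc5)
  .nil)) (nat_lit 638126) (nat_lit 3296) (nat_lit 319063) (.node (.node (.node .nil (nat_lit 641004) (nat_lit
  13649) (nat_lit 0x33a98e) .nil) (nat_lit 643955) (nat_lit 38768) (nat_lit 0x44e9b9) .nil) (nat_lit 650962)
  (nat_lit 16481) (nat_lit 0x194d9e) (.node .nil (nat_lit 653901) (nat_lit 37825) (nat_lit 0x928cbe) .nil))))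
  (nat_lit 663036) (nat_lit 5937) (nat_lit 0x27e934) (.node (.node (.node (.node (.node .nil (nat_lit 678687)
  (nat_lit 24352) (nat_lit 0x452d8f) .nil) (nat_lit 681662) (nat_lit 16) (nat_lit 340831) .nil) (nat_lit
  699803) (nat_lit 41072) (nat_lit 0x4556cd) (.node .nil (nat_lit 710361) (nat_lit 5665) (nat_lit 0x85c9ae)
  .nil)) (nat_lit 715640) (nat_lit 22673) (nat_lit 0x24ec9e) (.node (.node (.node .nil (nat_lit 725743)
  (nat_lit 11632) (nat_lit 0x458977) .nil) (nat_lit 733006) (nat_lit 4464) (nat_lit 366503) .nil) (nat_lit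
  736209) (nat_lit 30753) (nat_lit 0xb54cb4) (.node .nil (nat_lit 747949) (nat_lit 15521) (nat_lit 0xb7a416)
  .nil))) (nat_lit 752946) (nat_lit 25185) (nat_lit 0x3c6536) (.node (.node (.node (.node .nil (nat_lit
  756662) (nat_lit 28689) (nat_lit 0x3f609c) .nil) (nat_lit 761641) (nat_lit 24448) (nat_lit 0x45cf94) .nil)
  (nat_lit 767511) (nat_lit 30128) (nat_lit 0x45db0b) (.node .nil (nat_lit 773461) (nat_lit 22528) (nat_lit
  0x45e6aa) .nil)) (nat_lit 776650) (nat_lit 24224) (nat_lit 388325) (.node (.node (.node .nil (nat_lit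
  779371) (nat_lit 28033) (nat_lit 0x9cad0e) .nil) (nat_lit 782580) (nat_lit 17408) (nat_lit 391290) .nil)
  (nat_lit 802710) (nat_lit 28369) (nat_lit 0x6b45b4) (.node .nil (nat_lit 814570) (nat_lit 20320) (nat_lit
  407285) .nil)))))) (nat_lit 817525) (nat_lit 21569) (nat_lit 0xe26c36) (.node (.node (.node (.node (.node
  (.node (.node .nil (nat_lit 823281) (nat_lit 16961) (nat_lit 0xe1699c) .nil) (nat_lit 826222) (nat_lit
  35361) (nat_lit 0x6aa8bc) .nil) (nat_lit 829135) (nat_lit 23793) (nat_lit 0xcb8d8c) (.node (.node .nil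
  (nat_lit 843149) (nat_lit 6480) (nat_lit 0x466ec6) .nil) (nat_lit 849075) (nat_lit 34513) (nat_lit 0xc9652e)
  .nil)) (nat_lit 858555) (nat_lit 22689) (nat_lit 0xf9e034) (.node (.node (.node .nil (nat_lit 871367)
  (nat_lit 23616) (nat_lit 0x46a5e3) .nil) (nat_lit 876376) (nat_lit 3504) (nat_lit 438188) .nil) (nat_lit
  877305) (nat_lit 32241) (nat_lit 0xd1ec86) (.node .nil (nat_lit 882278) (nat_lit 4417) (nat_lit 0x5a2da6)
  .nil))) (nat_lit 889981) (nat_lit 17568) (nat_lit 0x46ca3e) (.node (.node (.node (.node .nil (nat_lit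
  895452) (nat_lit 22977) (nat_lit 0x73cc1c) .nil) (nat_lit 900419) (nat_lit 25872) (nat_lit 0x46dea1) .nil)
  (nat_lit 905886) (nat_lit 19408) (nat_lit 452943) (.node .nil (nat_lit 916384) (nat_lit 36017) (nat_lit
  0x7124be) .nil)) (nat_lit 931119) (nat_lit 11489) (nat_lit 0xeea524) (.node (.node (.node .nil (nat_lit
  937581) (nat_lit 6224) (nat_lit 0x472736) .nil) (nat_lit 940786) (nat_lit 24544) (nat_lit 470393) .nil)
  (nat_lit 943955) (nat_lit 19600) (nat_lit 0x4733a9) (.node .nil (nat_lit 947148) (nat_lit 22704) (nat_lit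
  473574) .nil)))) (nat_lit 954839) (nat_lit 25089) (nat_lit 0xef482c) (.node (.node (.node (.node (.node .nil
  (nat_lit 961654) (nat_lit 40608) (nat_lit 480827) .nil) (nat_lit 964841) (nat_lit 24800) (nat_lit 0x475c74)
  .nil) (nat_lit 967595) (nat_lit 36992) (nat_lit 0x4761d5) (.node .nil (nat_lit 972596) (nat_lit 18032)
  (nat_lit 486298) .nil)) (nat_lit 977557) (nat_lit 2416) (nat_lit 0x47754a) (.node (.node (.node .nil
  (nat_lit 982538) (nat_lit 38257) (nat_lit 0x4c85be) .nil) (nat_lit 984989) (nat_lit 36673) (nat_lit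
  0xf7c184) .nil) (nat_lit 994979) (nat_lit 28960) (nat_lit 0x479751) (.node .nil (nat_lit 997948) (nat_lit
  4753) (nat_lit 0x56e4b4) .nil))) (nat_lit 999806) (nat_lit 5457) (nat_lit 0x7ee806) (.node (.node (.node
  (.node .nil (nat_lit 0xf55e1) (nat_lit 2512) (nat_lit 0x47aaf0) .nil) (nat_lit 0xf8a5b) (nat_lit 8016)
  (nat_lit 0x47c52d) .nil) (nat_lit 0xf9ec4) (nat_lit 13681) (nat_lit 0x5709bc) (.node .nil (nat_lit 0xfa365)
  (nat_lit 1024) (nat_lit 0x47d1b2) .nil)) (nat_lit 0xfccb8) (nat_lit 25680) (nat_lit 517724) (.node (.node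
  (.node .nil (nat_lit 0xfd827) (nat_lit 5744) (nat_lit 0x47ec13) .nil) (nat_lit 0xfe586) (nat_lit 13377)
  (nat_lit 0x7f050e) .nil) (nat_lit 0xff119) (nat_lit 34017) (nat_lit 0xf4c42e) (.node .nil (nat_lit 0x107cf6)
  (nat_lit 22320) (nat_lit 540283) .nil))))) (nat_lit 0x109eed) (nat_lit 33392) (nat_lit 0x484f76) (.node
  (.node (.node (.node (.node (.node .nil (nat_lit 0x10b7d3) (nat_lit 24577) (nat_lit 0xa95da8) .nil) (nat_lit
  0x10e5af) (nat_lit 34848) (nat_lit 0x4872d7) .nil) (nat_lit 0x115adb) (nat_lit 16705) (nat_lit 0x99d8b2)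
  (.node .nil (nat_lit 0x11677a) (nat_lit 8225) (nat_lit 0x38fd82) .nil)) (nat_lit 0x1173e5) (nat_lit 20561)
  (nat_lit 0xb33ca2) (.node (.node (.node .nil (nat_lit 0x1191fe) (nat_lit 6977) (nat_lit 0x3bf828) .nil)
  (nat_lit 0x11ac5f) (nat_lit 12800) (nat_lit 0x48d62f) .nil) (nat_lit 0x11d71d) (nat_lit 13696) (nat_lit
  0x48eb8e) (.node .nil (nat_lit 0x11eabc) (nat_lit 15713) (nat_lit 0x13f49a) .nil))) (nat_lit 0x11fe23)
  (nat_lit 11201) (nat_lit 0x9835ba) (.node (.node (.node (.node .nil (nat_lit 0x124bee) (nat_lit 20192)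
  (nat_lit 599543) .nil) (nat_lit 0x125f71) (nat_lit 18768) (nat_lit 0x492fb8) .nil) (nat_lit 0x12764f)
  (nat_lit 7601) (nat_lit 0x8e9da2) (.node .nil (nat_lit 0x12a9f5) (nat_lit 6912) (nat_lit 0x4954fa) .nil))
  (nat_lit 0x12bd6a) (nat_lit 4081) (nat_lit 0x2cbd38) (.node (.node (.node .nil (nat_lit 0x12d2b7) (nat_lit
  40368) (nat_lit 0x49695b) .nil) (nat_lit 0x12ef16) (nat_lit 36768) (nat_lit 620427) .nil) (nat_lit 0x12fb89)
  (nat_lit 26929) (nat_lit 0xa594ba) (.node .nil (nat_lit 0x1344fd) (nat_lit 24384) (nat_lit 0x49a27e)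
  .nil)))) (nat_lit 0x136dc3) (nat_lit 40001) (nat_lit 0xbd1d12) (.node (.node (.node (.node (.node .nil
  (nat_lit 0x13795c) (nat_lit 6320) (nat_lit 638126) .nil) (nat_lit 0x138fd8) (nat_lit 22720) (nat_lit 641004)
  .nil) (nat_lit 0x139b47) (nat_lit 35601) (nat_lit 0xbe18b8) (.node .nil (nat_lit 0x13a6e6) (nat_lit 32993)
  (nat_lit 0x1f3d88) .nil)) (nat_lit 0x13b279) (nat_lit 32896) (nat_lit 0x49d93c) (.node (.node (.node .nil
  (nat_lit 0x13c93b) (nat_lit 21633) (nat_lit 0xbcf01a) .nil) (nat_lit 0x13dda4) (nat_lit 26256) (nat_lit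
  650962) .nil) (nat_lit 0x13f49a) (nat_lit 8849) (nat_lit 0x1dd52a) (.node .nil (nat_lit 0x142f67) (nat_lit
  7265) (nat_lit 0xea3d90) .nil))) (nat_lit 0x143bf8) (nat_lit 10880) (nat_lit 663036) (.node (.node (.node
  (.node .nil (nat_lit 0x147d1b) (nat_lit 26304) (nat_lit 0x4a3e8d) .nil) (nat_lit 0x148b9f) (nat_lit 27489)
  (nat_lit 0xebd098) .nil) (nat_lit 0x14b63e) (nat_lit 23169) (nat_lit 0x4af5a8) (.node .nil (nat_lit
  0x14cd7c) (nat_lit 48) (nat_lit 681662) .nil)) (nat_lit 0x14d9e3) (nat_lit 39121) (nat_lit 0xe9383a) (.node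
  (.node (.node .nil (nat_lit 0x14f0dd) (nat_lit 40577) (nat_lit 0xc3dc2a) .nil) (nat_lit 0x151dd5) (nat_lit
  7216) (nat_lit 0x4a8eea) .nil) (nat_lit 0x1534eb) (nat_lit 18560) (nat_lit 0x4a9a75) (.node .nil (nat_lit
  0x154fa9) (nat_lit 21152) (nat_lit 0x4aa7d4) .nil)))))))
def tD_1 : T := (.node (.node (.node (.node (.node (.node (.node (.node .nil (nat_lit 0x156697) (nat_lit 9713)
  (nat_lit 0xdb5582) .nil) (nat_lit 0x15adb2) (nat_lit 10432) (nat_lit 710361) .nil) (nat_lit 0x15b92d)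
  (nat_lit 7376) (nat_lit 0x4adc96) (.node (.node .nil (nat_lit 0x15c26f) (nat_lit 9873) (nat_lit 0xdab88a)
  .nil) (nat_lit 0x15d6f0) (nat_lit 31505) (nat_lit 0x5179aa) .nil)) (nat_lit 0x15eb51) (nat_lit 5393)
  (nat_lit 0xf05c9a) (.node (.node (.node .nil (nat_lit 0x16187f) (nat_lit 35280) (nat_lit 0x4b0c3f) .nil)
  (nat_lit 0x1625de) (nat_lit 20112) (nat_lit 725743) .nil) (nat_lit 0x165e9c) (nat_lit 1041) (nat_lit
  0x47d1b2) (.node .nil (nat_lit 0x16633d) (nat_lit 37744) (nat_lit 0x4b319e) .nil))) (nat_lit 0x1677a2)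
  (nat_lit 35025) (nat_lit 0x6d35a2) (.node (.node (.node (.node .nil (nat_lit 0x1695b9) (nat_lit 30336)
  (nat_lit 0x4b4adc) .nil) (nat_lit 0x16bc87) (nat_lit 15920) (nat_lit 0x4b5e43) .nil) (nat_lit 0x16c7c5)
  (nat_lit 20896) (nat_lit 0x4b63e2) (.node .nil (nat_lit 0x16d35a) (nat_lit 25104) (nat_lit 747949) .nil))
  (nat_lit 0x16fa64) (nat_lit 32337) (nat_lit 0x463cba) (.node (.node (.node .nil (nat_lit 0x1703f3) (nat_lit
  29776) (nat_lit 0x4b81f9) .nil) (nat_lit 0x17176c) (nat_lit 37360) (nat_lit 756662) .nil) (nat_lit 0x172acd)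
  (nat_lit 21681) (nat_lit 0xd79c90) (.node .nil (nat_lit 0x173e52) (nat_lit 34336) (nat_lit 761641) .nil))))
  (nat_lit 0x17518f) (nat_lit 33936) (nat_lit 0x4ba8c7) (.node (.node (.node (.node (.node .nil (nat_lit
  0x176c2e) (nat_lit 16625) (nat_lit 0x5eb512) .nil) (nat_lit 0x1778b1) (nat_lit 224) (nat_lit 0x4bbc58) .nil)
  (nat_lit 0x178e35) (nat_lit 30593) (nat_lit 0xd67198) (.node .nil (nat_lit 0x179aaa) (nat_lit 561) (nat_lit
  0x5db0b8) .nil)) (nat_lit 0x17a70b) (nat_lit 19361) (nat_lit 0xfc9588) (.node (.node (.node .nil (nat_lit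
  0x17b394) (nat_lit 7809) (nat_lit 0x7754a8) .nil) (nat_lit 0x17c8d6) (nat_lit 36960) (nat_lit 779371) .nil)
  (nat_lit 0x17dc49) (nat_lit 18609) (nat_lit 0xd4993a) (.node .nil (nat_lit 0x17e1e8) (nat_lit 27408)
  (nat_lit 782580) .nil))) (nat_lit 0x1839cf) (nat_lit 12752) (nat_lit 0x4c1ce7) (.node (.node (.node (.node
  .nil (nat_lit 0x186bb3) (nat_lit 9184) (nat_lit 0x4c35d9) .nil) (nat_lit 0x187f2c) (nat_lit 33377) (nat_lit
  0x22b5b6) .nil) (nat_lit 0x189d37) (nat_lit 11440) (nat_lit 0x4c4e9b) (.node .nil (nat_lit 0x18cf4b)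
  (nat_lit 40944) (nat_lit 0x4c67a5) .nil)) (nat_lit 0x18dbd4) (nat_lit 30672) (nat_lit 814570) (.node (.node
  (.node .nil (nat_lit 0x18e675) (nat_lit 24512) (nat_lit 0x4c733a) .nil) (nat_lit 0x18f2ea) (nat_lit 6337)
  (nat_lit 638126) .nil) (nat_lit 0x190b7d) (nat_lit 38240) (nat_lit 0x4c85be) (.node .nil (nat_lit 0x191fe2)
  (nat_lit 26880) (nat_lit 823281) .nil))))) (nat_lit 0x1936dc) (nat_lit 35697) (nat_lit 0x13dda4) (.node
  (.node (.node (.node (.node (.node .nil (nat_lit 0x194d9e) (nat_lit 9281) (nat_lit 0x3bd116) .nil) (nat_lit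
  0x19703f) (nat_lit 25536) (nat_lit 0x4cb81f) .nil) (nat_lit 0x1986bb) (nat_lit 17345) (nat_lit 0x99f18c)
  (.node .nil (nat_lit 0x19af85) (nat_lit 1536) (nat_lit 0x4cd7c2) .nil)) (nat_lit 0x19bb1a) (nat_lit 11808)
  (nat_lit 843149) (.node (.node (.node .nil (nat_lit 0x19d4c7) (nat_lit 41040) (nat_lit 0x4cea63) .nil)
  (nat_lit 0x19e966) (nat_lit 27633) (nat_lit 0x3a3c1e) .nil) (nat_lit 0x1a0ed7) (nat_lit 34720) (nat_lit
  0x4d076b) (.node .nil (nat_lit 0x1a27e9) (nat_lit 14945) (nat_lit 0xa5bd84) .nil))) (nat_lit 0x1a3376)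
  (nat_lit 11425) (nat_lit 0x2e7ca4) (.node (.node (.node (.node .nil (nat_lit 0x1a5cab) (nat_lit 18832)
  (nat_lit 0x4d2e55) .nil) (nat_lit 0x1a7595) (nat_lit 30384) (nat_lit 0x4d3aca) .nil) (nat_lit 0x1a978e)
  (nat_lit 26209) (nat_lit 0x2f91ac) (.node .nil (nat_lit 0x1aaa2f) (nat_lit 14337) (nat_lit 0x8eb49c) .nil))
  (nat_lit 0x1abeb0) (nat_lit 6736) (nat_lit 876376) (.node (.node (.node .nil (nat_lit 0x1ac5f2) (nat_lit
  35217) (nat_lit 0x2d790e) .nil) (nat_lit 0x1ad16d) (nat_lit 14513) (nat_lit 0xa6b82e) .nil) (nat_lit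
  0x1aeccc) (nat_lit 8368) (nat_lit 882278) (.node .nil (nat_lit 0x1af853) (nat_lit 6176) (nat_lit 0x4d7c29)
  .nil)))) (nat_lit 0x1b155b) (nat_lit 34833) (nat_lit 0xbcd924) (.node (.node (.node (.node (.node .nil
  (nat_lit 0x1b28fa) (nat_lit 3649) (nat_lit 0x1dfc14) .nil) (nat_lit 0x1b3c65) (nat_lit 15584) (nat_lit
  0x4d9e32) .nil) (nat_lit 0x1b4727) (nat_lit 21121) (nat_lit 0xbe3186) (.node .nil (nat_lit 0x1b53b8)
  (nat_lit 19713) (nat_lit 0x35f0a6) .nil)) (nat_lit 0x1b6e19) (nat_lit 12464) (nat_lit 0x4db70c) (.node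
  (.node (.node .nil (nat_lit 0x1b7a86) (nat_lit 23697) (nat_lit 0x1f14b6) .nil) (nat_lit 0x1b989d) (nat_lit
  23872) (nat_lit 0x4dcc4e) .nil) (nat_lit 0x1ba53c) (nat_lit 29696) (nat_lit 905886) (.node .nil (nat_lit
  0x1bb1a3) (nat_lit 5617) (nat_lit 0xbd342c) .nil))) (nat_lit 0x1bcae1) (nat_lit 16929) (nat_lit 0x95389e)
  (.node (.node (.node (.node .nil (nat_lit 0x1bf740) (nat_lit 39857) (nat_lit 0x341dae) .nil) (nat_lit
  0x1c2cbd) (nat_lit 27025) (nat_lit 0xc3f514) .nil) (nat_lit 0x1c6a5e) (nat_lit 7393) (nat_lit 0x4adc96)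
  (.node .nil (nat_lit 0x1c7ec1) (nat_lit 2225) (nat_lit 0xc11db6) .nil)) (nat_lit 0x1c9cda) (nat_lit 11376)
  (nat_lit 937581) (.node (.node (.node .nil (nat_lit 0x1ca17b) (nat_lit 27248) (nat_lit 0x4e50bd) .nil)
  (nat_lit 0x1cb5e4) (nat_lit 34400) (nat_lit 940786) .nil) (nat_lit 0x1ccea6) (nat_lit 29968) (nat_lit
  943955) (.node .nil (nat_lit 0x1cda39) (nat_lit 40721) (nat_lit 0xc0f0be) .nil)))))) (nat_lit 0x1ce798)
  (nat_lit 32928) (nat_lit 947148) (.node (.node (.node (.node (.node (.node (.node .nil (nat_lit 0x1cf307)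
  (nat_lit 4049) (nat_lit 0xea14ae) .nil) (nat_lit 0x1d1e0f) (nat_lit 9937) (nat_lit 0xda91b4) .nil) (nat_lit
  0x1d23ae) (nat_lit 34976) (nat_lit 954839) (.node .nil (nat_lit 0x1d3731) (nat_lit 6529) (nat_lit 0xf075a4)
  .nil)) (nat_lit 0x1d4c73) (nat_lit 8112) (nat_lit 0x4ea639) (.node (.node (.node .nil (nat_lit 0x1d58ec)
  (nat_lit 25361) (nat_lit 0x53b836) .nil) (nat_lit 0x1d654d) (nat_lit 24240) (nat_lit 0x4eb2a6) .nil)
  (nat_lit 0x1d71d2) (nat_lit 20817) (nat_lit 0x795c26) (.node .nil (nat_lit 0x1d8756) (nat_lit 14833)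
  (nat_lit 0x7a598c) .nil))) (nat_lit 0x1d93c9) (nat_lit 27264) (nat_lit 0x4ec9e4) (.node (.node (.node (.node
  .nil (nat_lit 0x1dae68) (nat_lit 28160) (nat_lit 972596) .nil) (nat_lit 0x1dc1b5) (nat_lit 9904) (nat_lit
  0x4ee0da) .nil) (nat_lit 0x1dd52a) (nat_lit 4704) (nat_lit 977557) (.node .nil (nat_lit 0x1de88b) (nat_lit
  2561) (nat_lit 0xd9941e) .nil)) (nat_lit 0x1dfc14) (nat_lit 1841) (nat_lit 0x52553e) (.node (.node (.node
  .nil (nat_lit 0x1e0f3a) (nat_lit 25921) (nat_lit 0x6cf194) .nil) (nat_lit 0x1e1ba5) (nat_lit 38912) (nat_lit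
  0x4f0dd2) .nil) (nat_lit 0x1e329b) (nat_lit 30257) (nat_lit 0xcdd4a4) (.node .nil (nat_lit 0x1e49d9)
  (nat_lit 13569) (nat_lit 0xe5d816) .nil)))) (nat_lit 0x1e5d46) (nat_lit 20449) (nat_lit 0x6e1936) (.node
  (.node (.node (.node (.node .nil (nat_lit 0x1e60e7) (nat_lit 12449) (nat_lit 0xcf3c06) .nil) (nat_lit
  0x1e7478) (nat_lit 8896) (nat_lit 997948) .nil) (nat_lit 0x1e82fc) (nat_lit 10128) (nat_lit 999806) (.node
  .nil (nat_lit 0x1e9663) (nat_lit 3472) (nat_lit 0x4f4b31) .nil)) (nat_lit 0x1eabc2) (nat_lit 4880) (nat_lit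
  0xf55e1) (.node (.node (.node .nil (nat_lit 0x1ec41f) (nat_lit 35392) (nat_lit 0x4f620f) .nil) (nat_lit
  0x1eed21) (nat_lit 12145) (nat_lit 0xe4351e) .nil) (nat_lit 0x1f14b6) (nat_lit 14304) (nat_lit 0xf8a5b)
  (.node .nil (nat_lit 0x1f2917) (nat_lit 35776) (nat_lit 0x4f948b) .nil))) (nat_lit 0x1f3d88) (nat_lit 22768)
  (nat_lit 0xf9ec4) (.node (.node (.node (.node .nil (nat_lit 0x1f46ca) (nat_lit 2048) (nat_lit 0xfa365) .nil)
  (nat_lit 0x1f5255) (nat_lit 29728) (nat_lit 0x4fa92a) .nil) (nat_lit 0x1f9970) (nat_lit 35328) (nat_lit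
  0xfccb8) (.node .nil (nat_lit 0x1fa4d1) (nat_lit 992) (nat_lit 0x4fd268) .nil)) (nat_lit 0x1fb04e) (nat_lit
  10560) (nat_lit 0xfd827) (.node (.node (.node .nil (nat_lit 0x1fcb0c) (nat_lit 2033) (nat_lit 0x76909e)
  .nil) (nat_lit 0x1fe232) (nat_lit 11953) (nat_lit 0x5c748e) .nil) (nat_lit 0x201bf7) (nat_lit 27169)
  (nat_lit 0xab6ab0) (.node .nil (nat_lit 0x20bf0f) (nat_lit 35409) (nat_lit 0xaa87b8) .nil))))) (nat_lit
  0x20ed73) (nat_lit 33633) (nat_lit 0xa86f1a) (.node (.node (.node (.node (.node (.node .nil (nat_lit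
  0x20f9ec) (nat_lit 32512) (nat_lit 0x107cf6) .nil) (nat_lit 0x213dda) (nat_lit 36721) (nat_lit 0x39cf30)
  .nil) (nat_lit 0x216fa6) (nat_lit 11553) (nat_lit 0x3b2792) (.node .nil (nat_lit 0x217b39) (nat_lit 31313)
  (nat_lit 0xb0e6b2) .nil)) (nat_lit 0x218dbd) (nat_lit 27313) (nat_lit 0xb3e318) (.node (.node (.node .nil
  (nat_lit 0x21cb5e) (nat_lit 38049) (nat_lit 0x3aca9a) .nil) (nat_lit 0x21dfc1) (nat_lit 37153) (nat_lit
  0xb10bba) .nil) (nat_lit 0x222cef) (nat_lit 26752) (nat_lit 0x511677) (.node .nil (nat_lit 0x2257ad)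
  (nat_lit 20177) (nat_lit 0xa7a3a2) .nil))) (nat_lit 0x227e93) (nat_lit 38976) (nat_lit 0x513f49) (.node
  (.node (.node (.node .nil (nat_lit 0x22b5b6) (nat_lit 23233) (nat_lit 0x2f6728) .nil) (nat_lit 0x22cef4)
  (nat_lit 14656) (nat_lit 0x11677a) .nil) (nat_lit 0x22da6b) (nat_lit 13425) (nat_lit 0x8caaba) (.node .nil
  (nat_lit 0x22e7ca) (nat_lit 8433) (nat_lit 0x2d8f8a) .nil)) (nat_lit 0x22f355) (nat_lit 31488) (nat_lit
  0x5179aa) (.node (.node (.node .nil (nat_lit 0x231e5d) (nat_lit 13120) (nat_lit 0x518f2e) .nil) (nat_lit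
  0x2323fc) (nat_lit 12624) (nat_lit 0x1191fe) .nil) (nat_lit 0x233763) (nat_lit 1713) (nat_lit 0xbc2fa0)
  (.node .nil (nat_lit 0x2358be) (nat_lit 20593) (nat_lit 0x1fe232) .nil)))) (nat_lit 0x23651f) (nat_lit
  15376) (nat_lit 0x51b28f) (.node (.node (.node (.node (.node .nil (nat_lit 0x23939b) (nat_lit 24496)
  (nat_lit 0x51c9cd) .nil) (nat_lit 0x23ae3a) (nat_lit 22800) (nat_lit 0x11d71d) .nil) (nat_lit 0x23baa5)
  (nat_lit 608) (nat_lit 0x51dd52) (.node .nil (nat_lit 0x23c1e7) (nat_lit 29473) (nat_lit 0xbf2a0a) .nil))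
  (nat_lit 0x23d578) (nat_lit 24337) (nat_lit 0x34eb2a) (.node (.node (.node .nil (nat_lit 0x23e8d9) (nat_lit
  256) (nat_lit 0x51f46c) .nil) (nat_lit 0x23fc46) (nat_lit 19520) (nat_lit 0x11fe23) .nil) (nat_lit 0x2427bb)
  (nat_lit 14000) (nat_lit 0x5213dd) (.node .nil (nat_lit 0x245cf9) (nat_lit 40768) (nat_lit 0x522e7c) .nil)))
  (nat_lit 0x2475c7) (nat_lit 38112) (nat_lit 0x523ae3) (.node (.node (.node (.node .nil (nat_lit 0x2497dc)
  (nat_lit 18753) (nat_lit 0x63cba8) .nil) (nat_lit 0x24aa7d) (nat_lit 1824) (nat_lit 0x52553e) .nil) (nat_lit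
  0x24bee2) (nat_lit 18785) (nat_lit 0x492fb8) (.node .nil (nat_lit 0x24d13f) (nat_lit 27457) (nat_lit
  0xeae22a) .nil)) (nat_lit 0x24ec9e) (nat_lit 13600) (nat_lit 0x12764f) (.node (.node (.node .nil (nat_lit
  0x253c37) (nat_lit 28752) (nat_lit 0x529e1b) .nil) (nat_lit 0x254775) (nat_lit 1920) (nat_lit 0x52a3ba)
  .nil) (nat_lit 0x2553ea) (nat_lit 12528) (nat_lit 0x12a9f5) (.node .nil (nat_lit 0x256e4b) (nat_lit 1969)
  (nat_lit 0xd88f92) .nil)))))))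
def tD_2 : T := (.node (.node (.node (.node (.node (.node (.node (.node .nil (nat_lit 0x2598cf) (nat_lit
  19008) (nat_lit 0x52cc67) .nil) (nat_lit 0x25a56e) (nat_lit 11521) (nat_lit 0x7aaf08) .nil) (nat_lit
  0x25b1f1) (nat_lit 27424) (nat_lit 0x52d8f8) (.node (.node .nil (nat_lit 0x25cab3) (nat_lit 36128) (nat_lit
  0x52e559) .nil) (nat_lit 0x25de2c) (nat_lit 1937) (nat_lit 0x52a3ba) .nil)) (nat_lit 0x25e38d) (nat_lit
  40240) (nat_lit 0x52f1c6) (.node (.node (.node .nil (nat_lit 0x25f712) (nat_lit 36208) (nat_lit 0x12fb89)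
  .nil) (nat_lit 0x26399d) (nat_lit 36449) (nat_lit 0xe7c630) .nil) (nat_lit 0x2642df) (nat_lit 32081)
  (nat_lit 0xcfca82) (.node .nil (nat_lit 0x266be1) (nat_lit 384) (nat_lit 0x5335f0) .nil))) (nat_lit
  0x2689fa) (nat_lit 34256) (nat_lit 0x1344fd) (.node (.node (.node (.node .nil (nat_lit 0x269d65) (nat_lit
  38688) (nat_lit 0x534eb2) .nil) (nat_lit 0x26b45b) (nat_lit 19760) (nat_lit 0x535a2d) .nil) (nat_lit
  0x26cf19) (nat_lit 4672) (nat_lit 0x53678c) (.node .nil (nat_lit 0x26db86) (nat_lit 3585) (nat_lit 0x6f02ba)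
  .nil)) (nat_lit 0x26e627) (nat_lit 8097) (nat_lit 0xce278a) (.node (.node (.node .nil (nat_lit 0x26f2b8)
  (nat_lit 11568) (nat_lit 0x13795c) .nil) (nat_lit 0x270b2f) (nat_lit 32416) (nat_lit 0x538597) .nil)
  (nat_lit 0x271fb0) (nat_lit 13105) (nat_lit 0x7563b0) (.node .nil (nat_lit 0x27368e) (nat_lit 35105)
  (nat_lit 0x5f87a0) .nil)))) (nat_lit 0x274dcc) (nat_lit 6801) (nat_lit 0x778b12) (.node (.node (.node (.node
  (.node .nil (nat_lit 0x275953) (nat_lit 36000) (nat_lit 0x53aca9) .nil) (nat_lit 0x2764f2) (nat_lit 31585)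
  (nat_lit 0x5d6f02) .nil) (nat_lit 0x27706d) (nat_lit 2753) (nat_lit 0xd6ae22) (.node .nil (nat_lit 0x2786e9)
  (nat_lit 23585) (nat_lit 0xd5ab88) .nil)) (nat_lit 0x279276) (nat_lit 4385) (nat_lit 0x5e6aa8) (.node (.node
  (.node .nil (nat_lit 0x27bb48) (nat_lit 21377) (nat_lit 0x748eb8) .nil) (nat_lit 0x27d495) (nat_lit 11152)
  (nat_lit 0x53ea4a) .nil) (nat_lit 0x27e934) (nat_lit 3089) (nat_lit 0x76661a) (.node .nil (nat_lit 0x285ece)
  (nat_lit 13072) (nat_lit 0x142f67) .nil))) (nat_lit 0x28636f) (nat_lit 27376) (nat_lit 0x5431b7) (.node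
  (.node (.node (.node .nil (nat_lit 0x2877f0) (nat_lit 19024) (nat_lit 0x143bf8) .nil) (nat_lit 0x2895eb)
  (nat_lit 33888) (nat_lit 0x544af5) .nil) (nat_lit 0x28bcd5) (nat_lit 12369) (nat_lit 0x834f3c) (.node .nil
  (nat_lit 0x28c797) (nat_lit 33296) (nat_lit 0x5463cb) .nil)) (nat_lit 0x28eea9) (nat_lit 6833) (nat_lit
  0x81a79e) (.node (.node (.node .nil (nat_lit 0x28fa36) (nat_lit 65) (nat_lit 681662) .nil) (nat_lit
  0x29173e) (nat_lit 36528) (nat_lit 0x148b9f) .nil) (nat_lit 0x292a9f) (nat_lit 12592) (nat_lit 0x54954f)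
  (.node .nil (nat_lit 0x2951dd) (nat_lit 480) (nat_lit 0x54a8ee) .nil))))) (nat_lit 0x296c7c) (nat_lit 33344)
  (nat_lit 0x14b63e) (.node (.node (.node (.node (.node (.node .nil (nat_lit 0x2978e3) (nat_lit 25776)
  (nat_lit 0x54bc71) .nil) (nat_lit 0x298e67) (nat_lit 29761) (nat_lit 0x9a2b9c) .nil) (nat_lit 0x299af8)
  (nat_lit 96) (nat_lit 0x14cd7c) (.node .nil (nat_lit 0x29a759) (nat_lit 37008) (nat_lit 0x54d3ac) .nil))
  (nat_lit 0x29b3c6) (nat_lit 23265) (nat_lit 0x3b0eac) (.node (.node (.node .nil (nat_lit 0x29dc1b) (nat_lit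
  19664) (nat_lit 0x54ee0d) .nil) (nat_lit 0x29e1ba) (nat_lit 13825) (nat_lit 0x39e60e) .nil) (nat_lit
  0x29f525) (nat_lit 3168) (nat_lit 0x54fa92) (.node .nil (nat_lit 0x2a2f35) (nat_lit 12977) (nat_lit
  0xa66794) .nil))) (nat_lit 0x2a3baa) (nat_lit 8833) (nat_lit 0x2da6b4) (.node (.node (.node (.node .nil
  (nat_lit 0x2a5477) (nat_lit 27984) (nat_lit 0x552a3b) .nil) (nat_lit 0x2a69d6) (nat_lit 28784) (nat_lit
  0x1534eb) .nil) (nat_lit 0x2a7d49) (nat_lit 800) (nat_lit 0x553ea4) (.node .nil (nat_lit 0x2a8bcd) (nat_lit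
  37729) (nat_lit 0xa78a9c) .nil)) (nat_lit 0x2a9f52) (nat_lit 13745) (nat_lit 0x2c4bbc) (.node (.node (.node
  .nil (nat_lit 0x2aa2f3) (nat_lit 39217) (nat_lit 0x8d6e8c) .nil) (nat_lit 0x2ab66c) (nat_lit 3521) (nat_lit
  438188) .nil) (nat_lit 0x2acd2e) (nat_lit 17200) (nat_lit 0x156697) (.node .nil (nat_lit 0x2ad9b1) (nat_lit
  1248) (nat_lit 0x556cd8) .nil)))) (nat_lit 0x2af08f) (nat_lit 38352) (nat_lit 0x557847) (.node (.node (.node
  (.node (.node .nil (nat_lit 0x2b1d87) (nat_lit 12128) (nat_lit 0x558ec3) .nil) (nat_lit 0x2b34b9) (nat_lit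
  7137) (nat_lit 0x95e724) .nil) (nat_lit 0x2b5b64) (nat_lit 18288) (nat_lit 0x15adb2) (.node .nil (nat_lit
  0x2b66c5) (nat_lit 4832) (nat_lit 0x55b362) .nil)) (nat_lit 0x2b725a) (nat_lit 13232) (nat_lit 0x15b92d)
  (.node (.node (.node .nil (nat_lit 0x2b84de) (nat_lit 3985) (nat_lit 0x1fcb0c) .nil) (nat_lit 0x2bade0)
  (nat_lit 38816) (nat_lit 0x15d6f0) .nil) (nat_lit 0x2bc23d) (nat_lit 35504) (nat_lit 0x55e11e) (.node .nil
  (nat_lit 0x2bd6a2) (nat_lit 10016) (nat_lit 0x15eb51) .nil))) (nat_lit 0x2beb03) (nat_lit 18432) (nat_lit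
  0x55f581) (.node (.node (.node (.node .nil (nat_lit 0x2c0d5f) (nat_lit 16033) (nat_lit 0xeacb14) .nil)
  (nat_lit 0x2c30fe) (nat_lit 38417) (nat_lit 0x4bee24) .nil) (nat_lit 0x2c4bbc) (nat_lit 7681) (nat_lit
  0x63e296) (.node .nil (nat_lit 0x2c5f23) (nat_lit 16113) (nat_lit 0xe823b6) .nil)) (nat_lit 0x2c761d)
  (nat_lit 19568) (nat_lit 0x563b0e) (.node (.node (.node .nil (nat_lit 0x2ca9a7) (nat_lit 37809) (nat_lit
  0xeb261c) .nil) (nat_lit 0x2cbd38) (nat_lit 2080) (nat_lit 0x165e9c) .nil) (nat_lit 0x2cc67a) (nat_lit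
  13713) (nat_lit 0x48eb8e) (.node .nil (nat_lit 0x2cd2e5) (nat_lit 3921) (nat_lit 0xc32aae) .nil))))))
  (nat_lit 0x2cef44) (nat_lit 40112) (nat_lit 0x1677a2) (.node (.node (.node (.node (.node (.node (.node .nil
  (nat_lit 0x2d16d3) (nat_lit 29153) (nat_lit 0xd94ba4) .nil) (nat_lit 0x2d2b72) (nat_lit 13409) (nat_lit
  0x786e94) .nil) (nat_lit 0x2d44af) (nat_lit 30480) (nat_lit 0x56a257) (.node .nil (nat_lit 0x2d6d91)
  (nat_lit 37184) (nat_lit 0x56b6c8) .nil)) (nat_lit 0x2d790e) (nat_lit 25488) (nat_lit 0x16bc87) (.node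
  (.node (.node .nil (nat_lit 0x2d8f8a) (nat_lit 4449) (nat_lit 0x79839c) .nil) (nat_lit 0x2d9b15) (nat_lit
  16064) (nat_lit 0x56cd8a) .nil) (nat_lit 0x2da6b4) (nat_lit 4689) (nat_lit 0x53678c) (.node .nil (nat_lit
  0x2db22b) (nat_lit 16368) (nat_lit 0x56d915) .nil))) (nat_lit 0x2dc969) (nat_lit 4736) (nat_lit 0x56e4b4)
  (.node (.node (.node (.node .nil (nat_lit 0x2de057) (nat_lit 21793) (nat_lit 0xda4e0e) .nil) (nat_lit
  0x2df4c8) (nat_lit 13137) (nat_lit 0x518f2e) .nil) (nat_lit 0x2e07e6) (nat_lit 4657) (nat_lit 0x6f2b84)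
  (.node .nil (nat_lit 0x2e1379) (nat_lit 13664) (nat_lit 0x5709bc) .nil)) (nat_lit 0x2e2ed8) (nat_lit 24465)
  (nat_lit 0x45cf94) (.node (.node (.node .nil (nat_lit 0x2e3a47) (nat_lit 3408) (nat_lit 0x571d23) .nil)
  (nat_lit 0x2e559a) (nat_lit 32000) (nat_lit 0x172acd) .nil) (nat_lit 0x2e683b) (nat_lit 36896) (nat_lit
  0x57341d) (.node .nil (nat_lit 0x2e7ca4) (nat_lit 6241) (nat_lit 0x472736) .nil)))) (nat_lit 0x2ea31e)
  (nat_lit 28337) (nat_lit 0x6ec68c) (.node (.node (.node (.node (.node .nil (nat_lit 0x2eb781) (nat_lit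
  23136) (nat_lit 0x575bc0) .nil) (nat_lit 0x2eccc3) (nat_lit 27825) (nat_lit 0xcd0b1e) .nil) (nat_lit
  0x2ed85c) (nat_lit 17585) (nat_lit 0x46ca3e) (.node .nil (nat_lit 0x2ef162) (nat_lit 448) (nat_lit 0x1778b1)
  .nil)) (nat_lit 0x2f08f5) (nat_lit 30176) (nat_lit 0x57847a) (.node (.node (.node .nil (nat_lit 0x2f1c6a)
  (nat_lit 38480) (nat_lit 0x178e35) .nil) (nat_lit 0x2f21cb) (nat_lit 23329) (nat_lit 0xfd8e04) .nil)
  (nat_lit 0x2f3554) (nat_lit 1120) (nat_lit 0x179aaa) (.node .nil (nat_lit 0x2f4e16) (nat_lit 29632) (nat_lit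
  0x17a70b) .nil))) (nat_lit 0x2f5a89) (nat_lit 5009) (nat_lit 0xd582b6) (.node (.node (.node (.node .nil
  (nat_lit 0x2f6728) (nat_lit 13968) (nat_lit 0x17b394) .nil) (nat_lit 0x2f8533) (nat_lit 29168) (nat_lit
  0x57c299) .nil) (nat_lit 0x2f91ac) (nat_lit 16449) (nat_lit 0x77a22c) (.node .nil (nat_lit 0x2fac0d)
  (nat_lit 37296) (nat_lit 0x57d606) .nil)) (nat_lit 0x2fb892) (nat_lit 28864) (nat_lit 0x17dc49) (.node
  (.node (.node .nil (nat_lit 0x2fc3d0) (nat_lit 25329) (nat_lit 0x754a8e) .nil) (nat_lit 0x30357d) (nat_lit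
  33425) (nat_lit 0xa2ff20) .nil) (nat_lit 0x304e3f) (nat_lit 23600) (nat_lit 0x58271f) (.node .nil (nat_lit
  0x30739e) (nat_lit 17697) (nat_lit 0x2bd6a2) .nil))))) (nat_lit 0x30b8bb) (nat_lit 33808) (nat_lit 0x585c5d)
  (.node (.node (.node (.node (.node (.node .nil (nat_lit 0x30c3f9) (nat_lit 17137) (nat_lit 0xa1fa8a) .nil)
  (nat_lit 0x30d766) (nat_lit 15697) (nat_lit 0x2a3baa) .nil) (nat_lit 0x30eac7) (nat_lit 27585) (nat_lit
  0x8b1e9a) (.node .nil (nat_lit 0x30fe58) (nat_lit 33185) (nat_lit 57274) .nil)) (nat_lit 0x3107cf) (nat_lit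
  30608) (nat_lit 0x5883e7) (.node (.node (.node .nil (nat_lit 0x312ef1) (nat_lit 22848) (nat_lit 0x589778)
  .nil) (nat_lit 0x313a6e) (nat_lit 12257) (nat_lit 0x1abeb0) .nil) (nat_lit 0x3155b3) (nat_lit 37569)
  (nat_lit 0xb97322) (.node .nil (nat_lit 0x317c8d) (nat_lit 19056) (nat_lit 0x58be46) .nil))) (nat_lit
  0x319e96) (nat_lit 30097) (nat_lit 0x1b53b8) (.node (.node (.node (.node .nil (nat_lit 0x31a337) (nat_lit
  8481) (nat_lit 0xba7688) .nil) (nat_lit 0x31b7a8) (nat_lit 38544) (nat_lit 0x18dbd4) .nil) (nat_lit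
  0x31ccea) (nat_lit 20369) (nat_lit 0x19bb1a) (.node .nil (nat_lit 0x31d875) (nat_lit 10193) (nat_lit
  0x927a3a) .nil)) (nat_lit 0x31e5d4) (nat_lit 5857) (nat_lit 0x335f0a) (.node (.node (.node .nil (nat_lit
  0x31f14b) (nat_lit 15264) (nat_lit 0x58f8a5) .nil) (nat_lit 0x3216fa) (nat_lit 40449) (nat_lit 916384) .nil)
  (nat_lit 0x322b5b) (nat_lit 15344) (nat_lit 0x5915ad) (.node .nil (nat_lit 0x323fc4) (nat_lit 22049)
  (nat_lit 0x271fb0) .nil)))) (nat_lit 0x326db8) (nat_lit 40272) (nat_lit 0x1936dc) (.node (.node (.node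
  (.node (.node .nil (nat_lit 0x327927) (nat_lit 4192) (nat_lit 0x593c93) .nil) (nat_lit 0x328fa3) (nat_lit
  28096) (nat_lit 0x5947d1) .nil) (nat_lit 0x329b3c) (nat_lit 16464) (nat_lit 0x194d9e) (.node .nil (nat_lit
  0x32a69d) (nat_lit 25392) (nat_lit 0x59534e) .nil)) (nat_lit 0x32e07e) (nat_lit 35264) (nat_lit 0x19703f)
  (.node (.node (.node .nil (nat_lit 0x32f4e1) (nat_lit 7760) (nat_lit 0x597a70) .nil) (nat_lit 0x330d76)
  (nat_lit 27328) (nat_lit 0x1986bb) .nil) (nat_lit 0x3319e9) (nat_lit 20032) (nat_lit 0x598cf4) (.node .nil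
  (nat_lit 0x3330d7) (nat_lit 10816) (nat_lit 0x59986b) .nil))) (nat_lit 0x334b95) (nat_lit 13472) (nat_lit
  0x59a5ca) (.node (.node (.node (.node .nil (nat_lit 0x335f0a) (nat_lit 3040) (nat_lit 0x19af85) .nil)
  (nat_lit 0x3362ab) (nat_lit 24913) (nat_lit 0x9db682) .nil) (nat_lit 0x337634) (nat_lit 20352) (nat_lit
  0x19bb1a) (.node .nil (nat_lit 0x33942f) (nat_lit 5232) (nat_lit 0x59ca17) .nil)) (nat_lit 0x33a98e)
  (nat_lit 7633) (nat_lit 0x3f9618) (.node (.node (.node .nil (nat_lit 0x33bd11) (nat_lit 18897) (nat_lit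
  0xb45738) .nil) (nat_lit 0x33c653) (nat_lit 16976) (nat_lit 0x59e329) .nil) (nat_lit 0x33d2cc) (nat_lit
  1137) (nat_lit 0x179aaa) (.node .nil (nat_lit 0x341dae) (nat_lit 34241) (nat_lit 0x6bb330) .nil)))))))
def tD_3 : T := (.node (.node (.node (.node (.node (.node (.node (.node .nil (nat_lit 0x345b4d) (nat_lit 4400)
  (nat_lit 0x5a2da6) .nil) (nat_lit 0x3466ec) (nat_lit 19856) (nat_lit 0x1a3376) .nil) (nat_lit 0x347273)
  (nat_lit 6416) (nat_lit 0x5a3939) (.node (.node .nil (nat_lit 0x3484f7) (nat_lit 7552) (nat_lit 0x5a427b)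
  .nil) (nat_lit 0x34adc9) (nat_lit 32672) (nat_lit 0x5a56e4) .nil)) (nat_lit 0x34b956) (nat_lit 29056)
  (nat_lit 0x1a5cab) (.node (.node (.node .nil (nat_lit 0x34d68b) (nat_lit 12208) (nat_lit 0x5a6b45) .nil)
  (nat_lit 0x34eb2a) (nat_lit 14865) (nat_lit 0x68b69a) .nil) (nat_lit 0x3512bd) (nat_lit 36640) (nat_lit
  0x5a895e) (.node .nil (nat_lit 0x352f1c) (nat_lit 31729) (nat_lit 0x72d790) .nil))) (nat_lit 0x353b83)
  (nat_lit 33968) (nat_lit 0x5a9dc1) (.node (.node (.node (.node .nil (nat_lit 0x35545e) (nat_lit 23744)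
  (nat_lit 0x1aaa2f) .nil) (nat_lit 0x357d60) (nat_lit 12240) (nat_lit 0x1abeb0) .nil) (nat_lit 0x358be4)
  (nat_lit 40192) (nat_lit 0x1ac5f2) (.node .nil (nat_lit 0x35a2da) (nat_lit 21521) (nat_lit 0x59de88) .nil))
  (nat_lit 0x35b645) (nat_lit 39329) (nat_lit 0xd21fa8) (.node (.node (.node .nil (nat_lit 0x35cd07) (nat_lit
  13521) (nat_lit 0xfa131a) .nil) (nat_lit 0x35d998) (nat_lit 14896) (nat_lit 0x1aeccc) .nil) (nat_lit
  0x35e439) (nat_lit 40160) (nat_lit 0x5af21c) (.node .nil (nat_lit 0x35f0a6) (nat_lit 11296) (nat_lit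
  0x1af853) .nil)))) (nat_lit 0x361717) (nat_lit 8048) (nat_lit 0x5b0b8b) (.node (.node (.node (.node (.node
  .nil (nat_lit 0x362ab6) (nat_lit 38929) (nat_lit 0x4f7690) .nil) (nat_lit 0x363e29) (nat_lit 2337) (nat_lit
  0xc4b7b0) .nil) (nat_lit 0x36456b) (nat_lit 12032) (nat_lit 0x5b22b5) (.node .nil (nat_lit 0x3651f4)
  (nat_lit 6992) (nat_lit 0x1b28fa) .nil)) (nat_lit 0x366c55) (nat_lit 35312) (nat_lit 0x5b362a) (.node (.node
  (.node .nil (nat_lit 0x3678ca) (nat_lit 15601) (nat_lit 0x4d9e32) .nil) (nat_lit 0x368e4e) (nat_lit 21137)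
  (nat_lit 0x4e9b98) .nil) (nat_lit 0x369ad1) (nat_lit 15648) (nat_lit 0x5b4d68) (.node .nil (nat_lit
  0x36a770) (nat_lit 30080) (nat_lit 0x1b53b8) .nil))) (nat_lit 0x36c8ad) (nat_lit 30785) (nat_lit 0xc7b21a)
  (.node (.node (.node (.node .nil (nat_lit 0x36dc32) (nat_lit 21328) (nat_lit 0x1b6e19) .nil) (nat_lit
  0x36e193) (nat_lit 20272) (nat_lit 0x5b70c9) .nil) (nat_lit 0x36f50c) (nat_lit 31873) (nat_lit 0x66972a)
  (.node .nil (nat_lit 0x370c9b) (nat_lit 20673) (nat_lit 0xddd310) .nil)) (nat_lit 0x3725a5) (nat_lit 15760)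
  (nat_lit 0x5b92d2) (.node (.node (.node .nil (nat_lit 0x37313a) (nat_lit 33872) (nat_lit 0x1b989d) .nil)
  (nat_lit 0x374a78) (nat_lit 3185) (nat_lit 0x54fa92) .nil) (nat_lit 0x376346) (nat_lit 10352) (nat_lit
  0x1bb1a3) (.node .nil (nat_lit 0x37815d) (nat_lit 20225) (nat_lit 0xf6da08) .nil))))) (nat_lit 0x3795c2)
  (nat_lit 1201) (nat_lit 0x7d1b28) (.node (.node (.node (.node (.node (.node .nil (nat_lit 0x37a863) (nat_lit
  9536) (nat_lit 0x5bd431) .nil) (nat_lit 0x37d321) (nat_lit 32368) (nat_lit 0x5be990) .nil) (nat_lit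
  0x37ee80) (nat_lit 38785) (nat_lit 0x55179a) (.node .nil (nat_lit 0x381f99) (nat_lit 15536) (nat_lit
  0x5c0fcc) .nil)) (nat_lit 0x3836a7) (nat_lit 35073) (nat_lit 0x8b37a4) (.node (.node (.node .nil (nat_lit
  0x384de5) (nat_lit 32960) (nat_lit 0x5c26f2) .nil) (nat_lit 0x38597a) (nat_lit 145) (nat_lit 0x28fa36) .nil)
  (nat_lit 0x3864db) (nat_lit 30800) (nat_lit 0x5c326d) (.node .nil (nat_lit 0x38925f) (nat_lit 16801)
  (nat_lit 0x8adaac) .nil))) (nat_lit 0x38bb61) (nat_lit 9089) (nat_lit 0xa03ebc) (.node (.node (.node (.node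
  .nil (nat_lit 0x38d4bc) (nat_lit 13248) (nat_lit 0x1c6a5e) .nil) (nat_lit 0x38e91d) (nat_lit 11936) (nat_lit
  0x5c748e) .nil) (nat_lit 0x38fd82) (nat_lit 4336) (nat_lit 0x1c7ec1) (.node .nil (nat_lit 0x392d2b) (nat_lit
  36192) (nat_lit 0x5c9695) .nil)) (nat_lit 0x3939b4) (nat_lit 19792) (nat_lit 0x1c9cda) (.node (.node (.node
  .nil (nat_lit 0x3942f6) (nat_lit 33761) (nat_lit 0x1b7a86) .nil) (nat_lit 0x395669) (nat_lit 10929) (nat_lit
  0x90bba6) .nil) (nat_lit 0x396bc8) (nat_lit 38305) (nat_lit 0x319e96) (.node .nil (nat_lit 0x3989d3)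
  (nat_lit 20400) (nat_lit 0x5cc4e9) .nil)))) (nat_lit 0x399d4c) (nat_lit 26241) (nat_lit 0x329b3c) (.node
  (.node (.node (.node (.node .nil (nat_lit 0x39a0ed) (nat_lit 40929) (nat_lit 0x93be0c) .nil) (nat_lit
  0x39b472) (nat_lit 39537) (nat_lit 0x187f2c) .nil) (nat_lit 0x39cf30) (nat_lit 27729) (nat_lit 0x30739e)
  (.node .nil (nat_lit 0x39e60e) (nat_lit 7728) (nat_lit 0x1cf307) .nil)) (nat_lit 0x39f291) (nat_lit 18225)
  (nat_lit 0x9156ae) (.node (.node (.node .nil (nat_lit 0x3a01bf) (nat_lit 38033) (nat_lit 0xaff204) .nil)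
  (nat_lit 0x3a3c1e) (nat_lit 17600) (nat_lit 0x1d1e0f) .nil) (nat_lit 0x3a475c) (nat_lit 6897) (nat_lit
  0x26db86) (.node .nil (nat_lit 0x3a53c3) (nat_lit 19536) (nat_lit 0x5d29e1) .nil))) (nat_lit 0x3a6e62)
  (nat_lit 11904) (nat_lit 0x1d3731) (.node (.node (.node (.node .nil (nat_lit 0x3a8c79) (nat_lit 34561)
  (nat_lit 0x84fb1c) .nil) (nat_lit 0x3a98e6) (nat_lit 8913) (nat_lit 997948) .nil) (nat_lit 0x3aa547)
  (nat_lit 15136) (nat_lit 0x5d52a3) (.node .nil (nat_lit 0x3ab1d8) (nat_lit 3793) (nat_lit 0x25de2c) .nil))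
  (nat_lit 0x3aca9a) (nat_lit 29713) (nat_lit 905886) (.node (.node (.node .nil (nat_lit 0x3ade05) (nat_lit
  18673) (nat_lit 0x8613be) .nil) (nat_lit 0x3ae3a4) (nat_lit 31152) (nat_lit 0x1d71d2) .nil) (nat_lit
  0x3b0eac) (nat_lit 13985) (nat_lit 0x17b394) (.node .nil (nat_lit 0x3b1a33) (nat_lit 18993) (nat_lit
  0x9c72b4) .nil)))))) (nat_lit 0x3b2792) (nat_lit 6305) (nat_lit 0x3d5784) (.node (.node (.node (.node (.node
  (.node (.node .nil (nat_lit 0x3b330d) (nat_lit 30001) (nat_lit 0xb696a4) .nil) (nat_lit 0x3b484f) (nat_lit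
  2929) (nat_lit 0x9e9a16) .nil) (nat_lit 0x3b5cd0) (nat_lit 24417) (nat_lit 0x155b36) (.node .nil (nat_lit
  0x3b6171) (nat_lit 544) (nat_lit 0x5db0b8) .nil)) (nat_lit 0x3b836a) (nat_lit 17536) (nat_lit 0x1dc1b5)
  (.node (.node (.node .nil (nat_lit 0x3baa54) (nat_lit 2097) (nat_lit 0x165e9c) .nil) (nat_lit 0x3bc589)
  (nat_lit 1792) (nat_lit 0x5de2c4) .nil) (nat_lit 0x3bd116) (nat_lit 4960) (nat_lit 0x1de88b) (.node .nil
  (nat_lit 0x3bf828) (nat_lit 3632) (nat_lit 0x1dfc14) .nil))) (nat_lit 0x3c0aeb) (nat_lit 6848) (nat_lit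
  0x5e0575) (.node (.node (.node (.node .nil (nat_lit 0x3c1e74) (nat_lit 35440) (nat_lit 0x1e0f3a) .nil)
  (nat_lit 0x3c23d5) (nat_lit 21553) (nat_lit 0xe35e84) .nil) (nat_lit 0x3c374a) (nat_lit 31857) (nat_lit
  0x689fa4) (.node .nil (nat_lit 0x3c5897) (nat_lit 21072) (nat_lit 0x5e2c4b) .nil)) (nat_lit 0x3c6536)
  (nat_lit 15569) (nat_lit 0x6a7706) (.node (.node (.node .nil (nat_lit 0x3c71a9) (nat_lit 33073) (nat_lit
  0xe1b626) .nil) (nat_lit 0x3c872d) (nat_lit 28081) (nat_lit 0xe2b38c) .nil) (nat_lit 0x3c93b2) (nat_lit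
  22592) (nat_lit 0x1e49d9) (.node .nil (nat_lit 0x3cae13) (nat_lit 6625) (nat_lit 0xc8579c) .nil)))) (nat_lit
  0x3cba8c) (nat_lit 30832) (nat_lit 0x1e5d46) (.node (.node (.node (.node (.node .nil (nat_lit 0x3cc1ce)
  (nat_lit 21296) (nat_lit 0x1e60e7) .nil) (nat_lit 0x3cd551) (nat_lit 4368) (nat_lit 0x5e6aa8) .nil) (nat_lit
  0x3ce8f0) (nat_lit 15792) (nat_lit 0x1e7478) (.node .nil (nat_lit 0x3d05f8) (nat_lit 14641) (nat_lit
  0x71fb04) .nil)) (nat_lit 0x3d1167) (nat_lit 30705) (nat_lit 0xfa3a24) (.node (.node (.node .nil (nat_lit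
  0x3d2cc6) (nat_lit 6672) (nat_lit 0x1e9663) .nil) (nat_lit 0x3d3859) (nat_lit 39697) (nat_lit 0xd0de34)
  .nil) (nat_lit 0x3d431b) (nat_lit 30465) (nat_lit 0xf8d286) (.node .nil (nat_lit 0x3d5784) (nat_lit 3281)
  (nat_lit 0x7313a6) .nil))) (nat_lit 0x3d6a25) (nat_lit 9169) (nat_lit 0xd23696) (.node (.node (.node (.node
  .nil (nat_lit 0x3d883e) (nat_lit 40177) (nat_lit 0x5af21c) .nil) (nat_lit 0x3d9ca1) (nat_lit 23105) (nat_lit
  0xd1333c) .nil) (nat_lit 0x3dda42) (nat_lit 20880) (nat_lit 0x1eed21) (.node .nil (nat_lit 0x3e14cd)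
  (nat_lit 40048) (nat_lit 0x5f0a66) .nil)) (nat_lit 0x3e296c) (nat_lit 10705) (nat_lit 0x66be14) (.node
  (.node (.node .nil (nat_lit 0x3e46b1) (nat_lit 32881) (nat_lit 0xc57386) .nil) (nat_lit 0x3e522e) (nat_lit
  24257) (nat_lit 0x4eb2a6) .nil) (nat_lit 0x3e7b10) (nat_lit 31281) (nat_lit 0x6456b6) (.node .nil (nat_lit
  0x3e8d94) (nat_lit 4000) (nat_lit 0x1f46ca) .nil))))) (nat_lit 0x3e990b) (nat_lit 34992) (nat_lit 0x5f4c85)
  (.node (.node (.node (.node (.node (.node .nil (nat_lit 0x3ea4aa) (nat_lit 12481) (nat_lit 0x4db70c) .nil)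
  (nat_lit 0x3eb035) (nat_lit 33697) (nat_lit 0xc6762c) .nil) (nat_lit 0x3ee249) (nat_lit 2865) (nat_lit
  0xc49e8e) (.node .nil (nat_lit 0x3f0f41) (nat_lit 23665) (nat_lit 0xf41b94) .nil)) (nat_lit 0x3f32e0)
  (nat_lit 817) (nat_lit 0x553ea4) (.node (.node (.node .nil (nat_lit 0x3f49a2) (nat_lit 1984) (nat_lit
  0x1fa4d1) .nil) (nat_lit 0x3f609c) (nat_lit 18480) (nat_lit 0x1fb04e) .nil) (nat_lit 0x3f7403) (nat_lit
  1425) (nat_lit 0xdc1726) (.node .nil (nat_lit 0x3f8287) (nat_lit 18624) (nat_lit 0x5fc143) .nil))) (nat_lit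
  0x3f9618) (nat_lit 3968) (nat_lit 0x1fcb0c) (.node (.node (.node (.node .nil (nat_lit 0x3fc464) (nat_lit
  19585) (nat_lit 0x563b0e) .nil) (nat_lit 0x4037ee) (nat_lit 36368) (nat_lit 0x201bf7) .nil) (nat_lit
  0x40aeb7) (nat_lit 32785) (nat_lit 0x8b65d8) (.node .nil (nat_lit 0x40d5f5) (nat_lit 20849) (nat_lit
  0xa3696a) .nil)) (nat_lit 0x40fccb) (nat_lit 7856) (nat_lit 0x607e65) (.node (.node (.node .nil (nat_lit
  0x4138fd) (nat_lit 39376) (nat_lit 0x609c7e) .nil) (nat_lit 0x4143bf) (nat_lit 21696) (nat_lit 0x60a1df)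
  .nil) (nat_lit 0x417e1e) (nat_lit 40209) (nat_lit 0x1ac5f2) (.node .nil (nat_lit 0x41b53b) (nat_lit 16528)
  (nat_lit 0x60da9d) .nil)))) (nat_lit 0x41ce79) (nat_lit 24480) (nat_lit 0x60e73c) (.node (.node (.node
  (.node (.node .nil (nat_lit 0x41dae6) (nat_lit 7009) (nat_lit 0x1b28fa) .nil) (nat_lit 0x41e747) (nat_lit
  10784) (nat_lit 0x60f3a3) .nil) (nat_lit 0x41f3d8) (nat_lit 30737) (nat_lit 0x31ccea) (.node .nil (nat_lit
  0x423d57) (nat_lit 12849) (nat_lit 0xae4d70) .nil)) (nat_lit 0x426f2b) (nat_lit 832) (nat_lit 0x613795)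
  (.node (.node (.node .nil (nat_lit 0x427bb4) (nat_lit 38865) (nat_lit 0x2764f2) .nil) (nat_lit 0x4299af)
  (nat_lit 30049) (nat_lit 0xafa078) .nil) (nat_lit 0x42cbd3) (nat_lit 1152) (nat_lit 0x6165e9) (.node .nil
  (nat_lit 0x42df4c) (nat_lit 20000) (nat_lit 0x216fa6) .nil))) (nat_lit 0x42e2ed) (nat_lit 30928) (nat_lit
  0x617176) (.node (.node (.node (.node .nil (nat_lit 0x42f672) (nat_lit 30689) (nat_lit 814570) .nil)
  (nat_lit 0x430fe5) (nat_lit 27361) (nat_lit 0xb729d0) .nil) (nat_lit 0x431b7a) (nat_lit 25345) (nat_lit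
  0x3ce8f0) (.node .nil (nat_lit 0x4326db) (nat_lit 24945) (nat_lit 0x9dcdc0) .nil)) (nat_lit 0x435d99)
  (nat_lit 11089) (nat_lit 0xb5c172) (.node (.node (.node .nil (nat_lit 0x4374a7) (nat_lit 6065) (nat_lit
  0x9f2562) .nil) (nat_lit 0x4396bc) (nat_lit 36481) (nat_lit 0x17e1e8) .nil) (nat_lit 0x43ab1d) (nat_lit
  36608) (nat_lit 0x61d58e) (.node .nil (nat_lit 0x43bf82) (nat_lit 24065) (nat_lit 0x3d05f8) .nil)))))))
def tD_4 : T := (.node (.node (.node (.node (.node (.node (.node (.node .nil (nat_lit 0x43f961) (nat_lit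
  24112) (nat_lit 0x61fcb0) .nil) (nat_lit 0x441f3d) (nat_lit 7425) (nat_lit 0xe2e1f0) .nil) (nat_lit
  0x4459de) (nat_lit 22273) (nat_lit 0x6bc872) (.node (.node .nil (nat_lit 0x44647f) (nat_lit 24960) (nat_lit
  0x62323f) .nil) (nat_lit 0x4492fb) (nat_lit 6401) (nat_lit 0xc9e8e8) .nil)) (nat_lit 0x44af5a) (nat_lit
  30512) (nat_lit 0x2257ad) (.node (.node (.node .nil (nat_lit 0x44bbc5) (nat_lit 17729) (nat_lit 0xe30cf8)
  .nil) (nat_lit 0x44e9b9) (nat_lit 31360) (nat_lit 0x6274dc) .nil) (nat_lit 0x44fd26) (nat_lit 41008)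
  (nat_lit 0x227e93) (.node .nil (nat_lit 0x452d8f) (nat_lit 14881) (nat_lit 0xfb8550) .nil))) (nat_lit
  0x4556cd) (nat_lit 39585) (nat_lit 0xd389e2) (.node (.node (.node (.node .nil (nat_lit 0x456b6c) (nat_lit
  12273) (nat_lit 0x72acd2) .nil) (nat_lit 0x458977) (nat_lit 6369) (nat_lit 0xfa6858) .nil) (nat_lit
  0x459de8) (nat_lit 24080) (nat_lit 0x22cef4) (.node .nil (nat_lit 0x45b4d6) (nat_lit 15665) (nat_lit
  0x5b4d68) .nil)) (nat_lit 0x45cf94) (nat_lit 14960) (nat_lit 0x22e7ca) (.node (.node (.node .nil (nat_lit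
  0x45db0b) (nat_lit 19776) (nat_lit 0x62ed85) .nil) (nat_lit 0x45e6aa) (nat_lit 13489) (nat_lit 0x59a5ca)
  .nil) (nat_lit 0x45f235) (nat_lit 33008) (nat_lit 0x62f91a) (.node .nil (nat_lit 0x463cba) (nat_lit 22064)
  (nat_lit 0x231e5d) .nil)))) (nat_lit 0x4647f8) (nat_lit 21488) (nat_lit 0x2323fc) (.node (.node (.node
  (.node (.node .nil (nat_lit 0x465367) (nat_lit 29089) (nat_lit 0xee28e2) .nil) (nat_lit 0x466ec6) (nat_lit
  3376) (nat_lit 0x233763) .nil) (nat_lit 0x467a59) (nat_lit 39457) (nat_lit 0xc4ccf2) (.node .nil (nat_lit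
  0x468cdd) (nat_lit 16240) (nat_lit 0x63466e) .nil)) (nat_lit 0x46a5e3) (nat_lit 14256) (nat_lit 0x6352f1)
  (.node (.node (.node .nil (nat_lit 0x46b17c) (nat_lit 30960) (nat_lit 0x2358be) .nil) (nat_lit 0x46ca3e)
  (nat_lit 9921) (nat_lit 0x4ee0da) .nil) (nat_lit 0x46dea1) (nat_lit 16225) (nat_lit 0xc521fa) (.node .nil
  (nat_lit 0x471a97) (nat_lit 35616) (nat_lit 0x638d4b) .nil))) (nat_lit 0x472736) (nat_lit 3249) (nat_lit
  0x7e65c0) (.node (.node (.node (.node .nil (nat_lit 0x4733a9) (nat_lit 11248) (nat_lit 0x6399d4) .nil)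
  (nat_lit 0x4748eb) (nat_lit 30400) (nat_lit 0x63a475) .nil) (nat_lit 0x475c74) (nat_lit 15297) (nat_lit
  0x566972) (.node .nil (nat_lit 0x4761d5) (nat_lit 28048) (nat_lit 0x63b0ea) .nil)) (nat_lit 0x47754a)
  (nat_lit 1216) (nat_lit 0x23baa5) (.node (.node (.node .nil (nat_lit 0x4783ce) (nat_lit 37904) (nat_lit
  0x23c1e7) .nil) (nat_lit 0x479751) (nat_lit 18736) (nat_lit 0x63cba8) .nil) (nat_lit 0x47aaf0) (nat_lit
  1265) (nat_lit 0x556cd8) (.node .nil (nat_lit 0x47c52d) (nat_lit 4241) (nat_lit 0xf6a14a) .nil))))) (nat_lit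
  0x47d1b2) (nat_lit 512) (nat_lit 0x23e8d9) (.node (.node (.node (.node (.node (.node .nil (nat_lit 0x47ec13)
  (nat_lit 2993) (nat_lit 0xdc455a) .nil) (nat_lit 0x47f88c) (nat_lit 29840) (nat_lit 0x23fc46) .nil) (nat_lit
  0x484f76) (nat_lit 23280) (nat_lit 0x2427bb) (.node .nil (nat_lit 0x485be9) (nat_lit 18321) (nat_lit
  0xa1a8f6) .nil)) (nat_lit 0x4872d7) (nat_lit 24992) (nat_lit 0x64396b) (.node (.node (.node .nil (nat_lit
  0x48ad6d) (nat_lit 15633) (nat_lit 0xa2ad5c) .nil) (nat_lit 0x48b9f2) (nat_lit 39521) (nat_lit 0x296c7c)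
  .nil) (nat_lit 0x48d62f) (nat_lit 7088) (nat_lit 0x646b17) (.node .nil (nat_lit 0x48eb8e) (nat_lit 7665)
  (nat_lit 0x2b84de) .nil))) (nat_lit 0x48ff11) (nat_lit 37313) (nat_lit 0xa045fe) (.node (.node (.node (.node
  .nil (nat_lit 0x492fb8) (nat_lit 10737) (nat_lit 0x31e5d4) .nil) (nat_lit 0x493b27) (nat_lit 34641) (nat_lit
  0xba24f4) .nil) (nat_lit 0x4954fa) (nat_lit 3600) (nat_lit 0x24aa7d) (.node .nil (nat_lit 0x49695b) (nat_lit
  35857) (nat_lit 0xb8cc56) .nil)) (nat_lit 0x497dc4) (nat_lit 28992) (nat_lit 0x24bee2) (.node (.node (.node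
  .nil (nat_lit 0x49a27e) (nat_lit 14913) (nat_lit 0x1aeccc) .nil) (nat_lit 0x49b6e1) (nat_lit 37713) (nat_lit
  0x912dec) .nil) (nat_lit 0x49cda3) (nat_lit 37553) (nat_lit 0xb9215e) (.node .nil (nat_lit 0x49d93c)
  (nat_lit 22656) (nat_lit 0x24ec9e) .nil)))) (nat_lit 0x49e49d) (nat_lit 13008) (nat_lit 0x64f24e) (.node
  (.node (.node (.node (.node .nil (nat_lit 0x4a17b3) (nat_lit 16001) (nat_lit 0xad61e4) .nil) (nat_lit
  0x4a3e8d) (nat_lit 16513) (nat_lit 0x8785f4) .nil) (nat_lit 0x4a45cf) (nat_lit 32224) (nat_lit 0x6522e7)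
  (.node .nil (nat_lit 0x4a6cf1) (nat_lit 32609) (nat_lit 0x856d56) .nil)) (nat_lit 0x4a786e) (nat_lit 37440)
  (nat_lit 0x253c37) (.node (.node (.node .nil (nat_lit 0x4a8eea) (nat_lit 3760) (nat_lit 0x254775) .nil)
  (nat_lit 0x4a9a75) (nat_lit 10609) (nat_lit 0x8668fc) .nil) (nat_lit 0x4aa7d4) (nat_lit 12337) (nat_lit
  0x274dcc) (.node .nil (nat_lit 0x4ab34b) (nat_lit 14720) (nat_lit 0x6559a5) .nil))) (nat_lit 0x4adc96)
  (nat_lit 3840) (nat_lit 0x256e4b) (.node (.node (.node (.node .nil (nat_lit 0x4ae137) (nat_lit 21809)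
  (nat_lit 0xae644e) .nil) (nat_lit 0x4af5a8) (nat_lit 13936) (nat_lit 0x257ad4) .nil) (nat_lit 0x4b0c3f)
  (nat_lit 25553) (nat_lit 0x9ee154) (.node .nil (nat_lit 0x4b319e) (nat_lit 29216) (nat_lit 0x2598cf) .nil))
  (nat_lit 0x4b4adc) (nat_lit 19984) (nat_lit 0x25a56e) (.node (.node (.node .nil (nat_lit 0x4b5e43) (nat_lit
  8960) (nat_lit 0x65af21) .nil) (nat_lit 0x4b63e2) (nat_lit 12161) (nat_lit 0x3d2cc6) .nil) (nat_lit
  0x4b81f9) (nat_lit 19472) (nat_lit 0x65c0fc) (.node .nil (nat_lit 0x4b9566) (nat_lit 18721) (nat_lit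
  0x3e296c) .nil)))))) (nat_lit 0x4ba8c7) (nat_lit 23968) (nat_lit 0x65d463) (.node (.node (.node (.node
  (.node (.node (.node .nil (nat_lit 0x4bbc58) (nat_lit 113) (nat_lit 0x14cd7c) .nil) (nat_lit 0x4bc71a)
  (nat_lit 31633) (nat_lit 0x3cc1ce) .nil) (nat_lit 0x4bd385) (nat_lit 23072) (nat_lit 0x65e9c2) (.node .nil
  (nat_lit 0x4bee24) (nat_lit 30449) (nat_lit 0x1625de) .nil)) (nat_lit 0x4c1ce7) (nat_lit 7056) (nat_lit
  0x660e73) (.node (.node (.node .nil (nat_lit 0x4c35d9) (nat_lit 4912) (nat_lit 0x661aec) .nil) (nat_lit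
  0x4c4e9b) (nat_lit 6256) (nat_lit 0x66274d) .nil) (nat_lit 0x4c67a5) (nat_lit 38384) (nat_lit 0x6633d2)
  (.node .nil (nat_lit 0x4c733a) (nat_lit 15009) (nat_lit 0x68e4e6) .nil))) (nat_lit 0x4c85be) (nat_lit 30065)
  (nat_lit 0x6be14c) (.node (.node (.node (.node .nil (nat_lit 0x4cb81f) (nat_lit 15952) (nat_lit 0x665c0f)
  .nil) (nat_lit 0x4cc35d) (nat_lit 23729) (nat_lit 0xe2c8ce) .nil) (nat_lit 0x4cd7c2) (nat_lit 768) (nat_lit
  0x266be1) (.node .nil (nat_lit 0x4cea63) (nat_lit 39345) (nat_lit 0xc82cde) .nil)) (nat_lit 0x4d076b)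
  (nat_lit 24864) (nat_lit 0x6683b5) (.node (.node (.node .nil (nat_lit 0x4d13f4) (nat_lit 39872) (nat_lit
  0x2689fa) .nil) (nat_lit 0x4d2e55) (nat_lit 10769) (nat_lit 0xd24dd4) .nil) (nat_lit 0x4d3aca) (nat_lit
  20049) (nat_lit 0x598cf4) (.node .nil (nat_lit 0x4d5517) (nat_lit 11985) (nat_lit 0xfa4166) .nil))))
  (nat_lit 0x4d68b6) (nat_lit 30112) (nat_lit 0x26b45b) (.node (.node (.node (.node (.node .nil (nat_lit
  0x4d7c29) (nat_lit 3217) (nat_lit 0xd0a576) .nil) (nat_lit 0x4d8aad) (nat_lit 37505) (nat_lit 0xd3a0dc)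
  .nil) (nat_lit 0x4d9e32) (nat_lit 8784) (nat_lit 0x26cf19) (.node .nil (nat_lit 0x4da393) (nat_lit 40289)
  (nat_lit 0xf944cc) .nil)) (nat_lit 0x4db70c) (nat_lit 6880) (nat_lit 0x26db86) (.node (.node (.node .nil
  (nat_lit 0x4dcc4e) (nat_lit 14448) (nat_lit 0x26e627) .nil) (nat_lit 0x4dd8d1) (nat_lit 19745) (nat_lit
  0xd1487e) .nil) (nat_lit 0x4de570) (nat_lit 20016) (nat_lit 0x26f2b8) (.node .nil (nat_lit 0x4e165e)
  (nat_lit 27281) (nat_lit 0x4ec9e4) .nil))) (nat_lit 0x4e3f60) (nat_lit 22032) (nat_lit 0x271fb0) (.node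
  (.node (.node (.node .nil (nat_lit 0x4e50bd) (nat_lit 17296) (nat_lit 0x67285e) .nil) (nat_lit 0x4e6d1c)
  (nat_lit 40065) (nat_lit 0x66c556) .nil) (nat_lit 0x4e7983) (nat_lit 21009) (nat_lit 0xed0476) (.node .nil
  (nat_lit 0x4e8f07) (nat_lit 7184) (nat_lit 0x674783) .nil)) (nat_lit 0x4e9b98) (nat_lit 12320) (nat_lit
  0x274dcc) (.node (.node (.node .nil (nat_lit 0x4ea639) (nat_lit 4288) (nat_lit 0x67531c) .nil) (nat_lit
  0x4eb2a6) (nat_lit 14801) (nat_lit 0x4f24ec) .nil) (nat_lit 0x4ec9e4) (nat_lit 17313) (nat_lit 0x67285e)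
  (.node .nil (nat_lit 0x4ee0da) (nat_lit 5328) (nat_lit 0x27706d) .nil))))) (nat_lit 0x4ef445) (nat_lit
  15185) (nat_lit 0xc60d6e) (.node (.node (.node (.node (.node (.node .nil (nat_lit 0x4f0dd2) (nat_lit 31681)
  (nat_lit 0x7d4954) .nil) (nat_lit 0x4f194d) (nat_lit 23041) (nat_lit 0xf68874) .nil) (nat_lit 0x4f24ec)
  (nat_lit 8304) (nat_lit 0x279276) (.node .nil (nat_lit 0x4f3073) (nat_lit 31985) (nat_lit 0xdc6c64) .nil))
  (nat_lit 0x4f4b31) (nat_lit 1760) (nat_lit 0x67a598) (.node (.node (.node .nil (nat_lit 0x4f620f) (nat_lit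
  25808) (nat_lit 0x67b107) .nil) (nat_lit 0x4f7690) (nat_lit 31696) (nat_lit 0x27bb48) .nil) (nat_lit
  0x4f948b) (nat_lit 26400) (nat_lit 0x67ca45) (.node .nil (nat_lit 0x4fa92a) (nat_lit 19440) (nat_lit
  0x27d495) .nil))) (nat_lit 0x4fd268) (nat_lit 497) (nat_lit 0x54a8ee) (.node (.node (.node (.node .nil
  (nat_lit 0x500dfb) (nat_lit 39729) (nat_lit 0xa9f950) .nil) (nat_lit 0x505f87) (nat_lit 26017) (nat_lit
  0xab11f2) .nil) (nat_lit 0x5076b9) (nat_lit 34048) (nat_lit 0x683b5c) (.node .nil (nat_lit 0x50bd9c)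
  (nat_lit 21984) (nat_lit 0x285ece) .nil)) (nat_lit 0x50c6de) (nat_lit 34177) (nat_lit 776650) (.node (.node
  (.node .nil (nat_lit 0x50efe0) (nat_lit 29232) (nat_lit 0x2877f0) .nil) (nat_lit 0x511677) (nat_lit 16864)
  (nat_lit 0x688b3b) .nil) (nat_lit 0x512bd6) (nat_lit 34305) (nat_lit 0x3b5cd0) (.node .nil (nat_lit
  0x513f49) (nat_lit 31840) (nat_lit 0x689fa4) .nil)))) (nat_lit 0x516d35) (nat_lit 14848) (nat_lit 0x68b69a)
  (.node (.node (.node (.node (.node .nil (nat_lit 0x5179aa) (nat_lit 21184) (nat_lit 0x28bcd5) .nil) (nat_lit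
  0x518f2e) (nat_lit 7297) (nat_lit 0x3ab1d8) .nil) (nat_lit 0x519bb1) (nat_lit 27441) (nat_lit 0xb170f8)
  (.node .nil (nat_lit 0x51b28f) (nat_lit 8656) (nat_lit 0x68d947) .nil)) (nat_lit 0x51c9cd) (nat_lit 14992)
  (nat_lit 0x68e4e6) (.node (.node (.node .nil (nat_lit 0x51dd52) (nat_lit 305) (nat_lit 0x38597a) .nil)
  (nat_lit 0x51e0f3) (nat_lit 30225) (nat_lit 0x997c4a) .nil) (nat_lit 0x51f46c) (nat_lit 128) (nat_lit
  0x28fa36) (.node .nil (nat_lit 0x5213dd) (nat_lit 7824) (nat_lit 0x6909ee) .nil))) (nat_lit 0x522e7c)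
  (nat_lit 37201) (nat_lit 458192) (.node (.node (.node (.node .nil (nat_lit 0x523ae3) (nat_lit 29808)
  (nat_lit 0x691d71) .nil) (nat_lit 0x52553e) (nat_lit 913) (nat_lit 0x2ef162) .nil) (nat_lit 0x52689f)
  (nat_lit 34897) (nat_lit 0x8fd452) (.node .nil (nat_lit 0x529e1b) (nat_lit 18545) (nat_lit 0x8cd1f8) .nil))
  (nat_lit 0x52a3ba) (nat_lit 960) (nat_lit 0x2951dd) (.node (.node (.node .nil (nat_lit 0x52b725) (nat_lit
  1873) (nat_lit 0xa635e8) .nil) (nat_lit 0x52cc67) (nat_lit 10865) (nat_lit 0x8e395a) .nil) (nat_lit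
  0x52d8f8) (nat_lit 17425) (nat_lit 391290) (.node .nil (nat_lit 0x52e559) (nat_lit 26785) (nat_lit 0xa4dd4a)
  .nil)))))))
def tD_5 : T := (.node (.node (.node (.node (.node (.node (.node (.node .nil (nat_lit 0x531cce) (nat_lit
  38080) (nat_lit 0x298e67) .nil) (nat_lit 0x53216f) (nat_lit 22369) (nat_lit 0xbebc40) .nil) (nat_lit
  0x5335f0) (nat_lit 192) (nat_lit 0x299af8) (.node (.node .nil (nat_lit 0x534eb2) (nat_lit 31169) (nat_lit
  0x1d71d2) .nil) (nat_lit 0x535a2d) (nat_lit 11329) (nat_lit 0x96b0f2) .nil)) (nat_lit 0x53678c) (nat_lit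
  2401) (nat_lit 0x3795c2) (.node (.node (.node .nil (nat_lit 0x537313) (nat_lit 32401) (nat_lit 0xbc54e2)
  .nil) (nat_lit 0x538597) (nat_lit 22160) (nat_lit 0x69c2cb) .nil) (nat_lit 0x53aca9) (nat_lit 26657)
  (nat_lit 0x95b558) (.node .nil (nat_lit 0x53b836) (nat_lit 15809) (nat_lit 0x1e7478) .nil))) (nat_lit
  0x53c374) (nat_lit 22992) (nat_lit 0x29e1ba) (.node (.node (.node (.node .nil (nat_lit 0x53ea4a) (nat_lit
  6080) (nat_lit 0x29f525) .nil) (nat_lit 0x5431b7) (nat_lit 17376) (nat_lit 0x6a18db) .nil) (nat_lit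
  0x544af5) (nat_lit 23905) (nat_lit 0xc378d2) (.node .nil (nat_lit 0x545e6a) (nat_lit 21840) (nat_lit
  0x2a2f35) .nil)) (nat_lit 0x5463cb) (nat_lit 23120) (nat_lit 0x6a31e5) (.node (.node (.node .nil (nat_lit
  0x547754) (nat_lit 15680) (nat_lit 0x2a3baa) .nil) (nat_lit 0x54954f) (nat_lit 6945) (nat_lit 0xea9968)
  .nil) (nat_lit 0x54a8ee) (nat_lit 241) (nat_lit 0x4bbc58) (.node .nil (nat_lit 0x54bc71) (nat_lit 16145)
  (nat_lit 0xc07d78) .nil)))) (nat_lit 0x54c733) (nat_lit 23808) (nat_lit 0x6a6399) (.node (.node (.node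
  (.node (.node .nil (nat_lit 0x54d3ac) (nat_lit 28065) (nat_lit 0x63b0ea) .nil) (nat_lit 0x54ee0d) (nat_lit
  11281) (nat_lit 0xc295da) .nil) (nat_lit 0x54fa92) (nat_lit 1600) (nat_lit 0x2a7d49) (.node .nil (nat_lit
  0x55179a) (nat_lit 31409) (nat_lit 0x79d1e0) .nil)) (nat_lit 0x552a3b) (nat_lit 17888) (nat_lit 0x6a951d)
  (.node (.node (.node .nil (nat_lit 0x553ea4) (nat_lit 401) (nat_lit 0x5335f0) .nil) (nat_lit 0x5545e6)
  (nat_lit 39473) (nat_lit 0x7b3942) .nil) (nat_lit 0x555179) (nat_lit 32545) (nat_lit 0xf0f862) (.node .nil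
  (nat_lit 0x556cd8) (nat_lit 625) (nat_lit 0x51dd52) .nil))) (nat_lit 0x557847) (nat_lit 30320) (nat_lit
  0x6abc23) (.node (.node (.node (.node .nil (nat_lit 0x558ec3) (nat_lit 6640) (nat_lit 0x6ac761) .nil)
  (nat_lit 0x559a5c) (nat_lit 27136) (nat_lit 0x2acd2e) .nil) (nat_lit 0x55b362) (nat_lit 2480) (nat_lit
  0x2ad9b1) (.node .nil (nat_lit 0x55e11e) (nat_lit 25985) (nat_lit 0x7ad44a) .nil)) (nat_lit 0x55f581)
  (nat_lit 10529) (nat_lit 0xf1156a) (.node (.node (.node .nil (nat_lit 0x5606af) (nat_lit 19376) (nat_lit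
  0x6b0357) .nil) (nat_lit 0x562f91) (nat_lit 33665) (nat_lit 0xe555d0) .nil) (nat_lit 0x563b0e) (nat_lit
  11233) (nat_lit 0x6e94f0) (.node .nil (nat_lit 0x5654d3) (nat_lit 37968) (nat_lit 0x6b2a69) .nil)))))
  (nat_lit 0x566972) (nat_lit 8609) (nat_lit 0x6c7c52) (.node (.node (.node (.node (.node (.node .nil (nat_lit
  0x568b69) (nat_lit 28352) (nat_lit 0x6b45b4) .nil) (nat_lit 0x56a257) (nat_lit 20145) (nat_lit 0xce5cc8)
  .nil) (nat_lit 0x56b6c8) (nat_lit 28448) (nat_lit 0x2b5b64) (.node .nil (nat_lit 0x56cd8a) (nat_lit 9040)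
  (nat_lit 0x2b66c5) .nil)) (nat_lit 0x56d915) (nat_lit 9217) (nat_lit 0xe6507a) (.node (.node (.node .nil
  (nat_lit 0x56e4b4) (nat_lit 2433) (nat_lit 0x47754a) .nil) (nat_lit 0x56f02b) (nat_lit 34145) (nat_lit
  0xccb46a) .nil) (nat_lit 0x5709bc) (nat_lit 7648) (nat_lit 0x2b84de) (.node .nil (nat_lit 0x571d23) (nat_lit
  1728) (nat_lit 0x6b8e91) .nil))) (nat_lit 0x57341d) (nat_lit 27968) (nat_lit 0x6b9a0e) (.node (.node (.node
  (.node .nil (nat_lit 0x575bc0) (nat_lit 13921) (nat_lit 0x7518f2) .nil) (nat_lit 0x576661) (nat_lit 34224)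
  (nat_lit 0x6bb330) .nil) (nat_lit 0x57847a) (nat_lit 19841) (nat_lit 0x5cf948) (.node .nil (nat_lit
  0x5790e5) (nat_lit 22256) (nat_lit 0x6bc872) .nil)) (nat_lit 0x57ad44) (nat_lit 17680) (nat_lit 0x2bd6a2)
  (.node (.node (.node .nil (nat_lit 0x57c299) (nat_lit 18961) (nat_lit 0xd5d0ca) .nil) (nat_lit 0x57d606)
  (nat_lit 28592) (nat_lit 0x2beb03) .nil) (nat_lit 0x581abe) (nat_lit 25632) (nat_lit 0x2c0d5f) (.node .nil
  (nat_lit 0x58271f) (nat_lit 14241) (nat_lit 0xaad5c4) .nil)))) (nat_lit 0x585c5d) (nat_lit 23776) (nat_lit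
  0x6c2e2e) (.node (.node (.node (.node (.node .nil (nat_lit 0x5861fc) (nat_lit 29857) (nat_lit 0x23fc46)
  .nil) (nat_lit 0x587563) (nat_lit 32177) (nat_lit 0xa83d66) .nil) (nat_lit 0x5883e7) (nat_lit 20257)
  (nat_lit 0xab38cc) (.node .nil (nat_lit 0x589778) (nat_lit 13728) (nat_lit 0x2c4bbc) .nil)) (nat_lit
  0x58aad9) (nat_lit 39057) (nat_lit 0x81dcdc) (.node (.node (.node .nil (nat_lit 0x58be46) (nat_lit 10897)
  (nat_lit 663036) .nil) (nat_lit 0x58d19b) (nat_lit 33793) (nat_lit 0xa9d06e) .nil) (nat_lit 0x58ec3a)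
  (nat_lit 29920) (nat_lit 0x2c761d) (.node .nil (nat_lit 0x58f8a5) (nat_lit 8592) (nat_lit 0x6c7c52) .nil)))
  (nat_lit 0x5915ad) (nat_lit 8641) (nat_lit 0xb3b164) (.node (.node (.node (.node .nil (nat_lit 0x593c93)
  (nat_lit 2144) (nat_lit 0x6c9e49) .nil) (nat_lit 0x5947d1) (nat_lit 17985) (nat_lit 0xb159c6) .nil) (nat_lit
  0x59534e) (nat_lit 15841) (nat_lit 0x3a98e6) (.node .nil (nat_lit 0x597a70) (nat_lit 4064) (nat_lit
  0x2cbd38) .nil)) (nat_lit 0x598cf4) (nat_lit 11585) (nat_lit 0x13795c) (.node (.node (.node .nil (nat_lit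
  0x59986b) (nat_lit 5904) (nat_lit 0x6ccc35) .nil) (nat_lit 0x59a5ca) (nat_lit 7520) (nat_lit 0x2cd2e5) .nil)
  (nat_lit 0x59b155) (nat_lit 34272) (nat_lit 0x6cd8aa) (.node .nil (nat_lit 0x59ca17) (nat_lit 2704) (nat_lit
  0x6ce50b) .nil)))))) (nat_lit 0x59de88) (nat_lit 12641) (nat_lit 0x1191fe) (.node (.node (.node (.node
  (.node (.node (.node .nil (nat_lit 0x59e329) (nat_lit 9585) (nat_lit 0xb0b4ce) .nil) (nat_lit 0x5a2da6)
  (nat_lit 2257) (nat_lit 0x2f3554) .nil) (nat_lit 0x5a3939) (nat_lit 3345) (nat_lit 0xa4f474) (.node .nil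
  (nat_lit 0x5a427b) (nat_lit 3936) (nat_lit 0x6d213d) .nil)) (nat_lit 0x5a56e4) (nat_lit 22464) (nat_lit
  0x2d2b72) (.node (.node (.node .nil (nat_lit 0x5a6b45) (nat_lit 6721) (nat_lit 0xa61cd6) .nil) (nat_lit
  0x5a895e) (nat_lit 27601) (nat_lit 0x2ed85c) .nil) (nat_lit 0x5a9dc1) (nat_lit 24001) (nat_lit 0xa5197c)
  (.node .nil (nat_lit 0x5adb22) (nat_lit 40752) (nat_lit 0x2d6d91) .nil))) (nat_lit 0x5ae683) (nat_lit 28145)
  (nat_lit 0x8d15ce) (.node (.node (.node (.node .nil (nat_lit 0x5af21c) (nat_lit 35200) (nat_lit 0x2d790e)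
  .nil) (nat_lit 0x5b0b8b) (nat_lit 4256) (nat_lit 0x6d85c5) .nil) (nat_lit 0x5b1f14) (nat_lit 8416) (nat_lit
  0x2d8f8a) (.node .nil (nat_lit 0x5b22b5) (nat_lit 6593) (nat_lit 0x9774c4) .nil)) (nat_lit 0x5b362a)
  (nat_lit 25648) (nat_lit 0x2d9b15) (.node (.node (.node .nil (nat_lit 0x5b4d68) (nat_lit 8816) (nat_lit
  0x2da6b4) .nil) (nat_lit 0x5b6456) (nat_lit 26064) (nat_lit 0x2db22b) .nil) (nat_lit 0x5b70c9) (nat_lit
  11745) (nat_lit 0x959c66) (.node .nil (nat_lit 0x5b864d) (nat_lit 38512) (nat_lit 0x6dc326) .nil))))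
  (nat_lit 0x5b92d2) (nat_lit 8880) (nat_lit 0x2dc969) (.node (.node (.node (.node (.node .nil (nat_lit
  0x5bc0ae) (nat_lit 18497) (nat_lit 0x1fb04e) .nil) (nat_lit 0x5bd431) (nat_lit 5121) (nat_lit 0x94716e)
  .nil) (nat_lit 0x5be990) (nat_lit 22096) (nat_lit 0x2df4c8) (.node .nil (nat_lit 0x5c0fcc) (nat_lit 8752)
  (nat_lit 0x2e07e6) .nil)) (nat_lit 0x5c1b53) (nat_lit 39488) (nat_lit 0x6e0da9) (.node (.node (.node .nil
  (nat_lit 0x5c26f2) (nat_lit 22736) (nat_lit 0x2e1379) .nil) (nat_lit 0x5c326d) (nat_lit 20432) (nat_lit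
  0x6e1936) .nil) (nat_lit 0x5c492f) (nat_lit 19825) (nat_lit 0xeab056) (.node .nil (nat_lit 0x5c5db0)
  (nat_lit 30945) (nat_lit 0x617176) .nil))) (nat_lit 0x5c748e) (nat_lit 6544) (nat_lit 0x2e3a47) (.node
  (.node (.node (.node .nil (nat_lit 0x5c9695) (nat_lit 26849) (nat_lit 0xc351ec) .nil) (nat_lit 0x5cab34)
  (nat_lit 31377) (nat_lit 0x6274dc) .nil) (nat_lit 0x5cc4e9) (nat_lit 11840) (nat_lit 0x6e6274) (.node .nil
  (nat_lit 0x5cd076) (nat_lit 40688) (nat_lit 0x2e683b) .nil)) (nat_lit 0x5cf948) (nat_lit 11408) (nat_lit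
  0x2e7ca4) (.node (.node (.node .nil (nat_lit 0x5d00df) (nat_lit 36865) (nat_lit 0xdbd844) .nil) (nat_lit
  0x5d29e1) (nat_lit 11216) (nat_lit 0x6e94f0) .nil) (nat_lit 0x5d463c) (nat_lit 37120) (nat_lit 0x2ea31e)
  (.node .nil (nat_lit 0x5d52a3) (nat_lit 8528) (nat_lit 0x6ea951) .nil))))) (nat_lit 0x5d6f02) (nat_lit
  21249) (nat_lit 0x7815d6) (.node (.node (.node (.node (.node (.node .nil (nat_lit 0x5d8d19) (nat_lit 28320)
  (nat_lit 0x6ec68c) .nil) (nat_lit 0x5d9986) (nat_lit 36800) (nat_lit 0x2eccc3) .nil) (nat_lit 0x5da427)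
  (nat_lit 31057) (nat_lit 0xda354c) (.node .nil (nat_lit 0x5db0b8) (nat_lit 273) (nat_lit 0x51f46c) .nil))
  (nat_lit 0x5de2c4) (nat_lit 896) (nat_lit 0x2ef162) (.node (.node (.node .nil (nat_lit 0x5e0575) (nat_lit
  3568) (nat_lit 0x6f02ba) .nil) (nat_lit 0x5e11ea) (nat_lit 38320) (nat_lit 0x2f08f5) .nil) (nat_lit
  0x5e2c4b) (nat_lit 12288) (nat_lit 0x6f1625) (.node .nil (nat_lit 0x5e38d4) (nat_lit 24817) (nat_lit
  0x475c74) .nil))) (nat_lit 0x5e4396) (nat_lit 26817) (nat_lit 0x6f50c6) (.node (.node (.node (.node .nil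
  (nat_lit 0x5e5709) (nat_lit 4640) (nat_lit 0x6f2b84) .nil) (nat_lit 0x5e6aa8) (nat_lit 2240) (nat_lit
  0x2f3554) .nil) (nat_lit 0x5e88b3) (nat_lit 23921) (nat_lit 0xcd705c) (.node .nil (nat_lit 0x5e9c2c)
  (nat_lit 38016) (nat_lit 0x2f4e16) .nil)) (nat_lit 0x5ea18d) (nat_lit 26800) (nat_lit 0x6f50c6) (.node
  (.node (.node .nil (nat_lit 0x5eb512) (nat_lit 9360) (nat_lit 0x2f5a89) .nil) (nat_lit 0x5ece50) (nat_lit
  23216) (nat_lit 0x2f6728) .nil) (nat_lit 0x5f0a66) (nat_lit 34657) (nat_lit 0x5e38d4) (.node .nil (nat_lit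
  0x5f2358) (nat_lit 26192) (nat_lit 0x2f91ac) .nil)))) (nat_lit 0x5f4c85) (nat_lit 25152) (nat_lit 0x6fa642)
  (.node (.node (.node (.node (.node .nil (nat_lit 0x5f581a) (nat_lit 40784) (nat_lit 0x2fac0d) .nil) (nat_lit
  0x5f7124) (nat_lit 37488) (nat_lit 0x2fb892) .nil) (nat_lit 0x5f87a0) (nat_lit 25377) (nat_lit 0x7531cc)
  (.node .nil (nat_lit 0x5fba01) (nat_lit 15745) (nat_lit 0xd414fc) .nil)) (nat_lit 0x5fc143) (nat_lit 10640)
  (nat_lit 0x6fe0a1) (.node (.node (.node .nil (nat_lit 0x60575b) (nat_lit 23473) (nat_lit 0xa8cbe2) .nil)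
  (nat_lit 0x606afa) (nat_lit 26273) (nat_lit 650962) .nil) (nat_lit 0x607e65) (nat_lit 4145) (nat_lit
  0x822ff2) (.node .nil (nat_lit 0x609c7e) (nat_lit 32913) (nat_lit 715640) .nil))) (nat_lit 0x60a1df)
  (nat_lit 12881) (nat_lit 0xabce48) (.node (.node (.node (.node .nil (nat_lit 0x60da9d) (nat_lit 9313)
  (nat_lit 0x83c2fa) .nil) (nat_lit 0x60e73c) (nat_lit 14977) (nat_lit 0x22e7ca) .nil) (nat_lit 0x60f3a3)
  (nat_lit 5889) (nat_lit 0xa926ea) (.node .nil (nat_lit 0x611eab) (nat_lit 28737) (nat_lit 0x99a3f0) .nil))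
  (nat_lit 0x613795) (nat_lit 416) (nat_lit 0x709bca) (.node (.node (.node .nil (nat_lit 0x614cd7) (nat_lit
  23344) (nat_lit 0x70a66b) .nil) (nat_lit 0x6165e9) (nat_lit 576) (nat_lit 0x70b2f4) .nil) (nat_lit 0x617176)
  (nat_lit 20545) (nat_lit 0x3a6e62) (.node .nil (nat_lit 0x6187f2) (nat_lit 27040) (nat_lit 0x30c3f9)
  .nil)))))))
def tD_6 : T := (.node (.node (.node (.node (.node (.node (.node (.node .nil (nat_lit 0x61aecc) (nat_lit
  25232) (nat_lit 0x30d766) .nil) (nat_lit 0x61ba53) (nat_lit 22448) (nat_lit 0x70dd29) .nil) (nat_lit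
  0x61d58e) (nat_lit 27553) (nat_lit 0x3b836a) (.node (.node .nil (nat_lit 0x61e82f) (nat_lit 11040) (nat_lit
  0x70f417) .nil) (nat_lit 0x61fcb0) (nat_lit 14673) (nat_lit 0x11677a) .nil)) (nat_lit 0x620f9e) (nat_lit
  35089) (nat_lit 0x2fc3d0) (.node (.node (.node .nil (nat_lit 0x62323f) (nat_lit 15425) (nat_lit 0x8ee6e0)
  .nil) (nat_lit 0x62497d) (nat_lit 19905) (nat_lit 0xa6ea52) .nil) (nat_lit 0x625de2) (nat_lit 22481)
  (nat_lit 0x2d2b72) (.node .nil (nat_lit 0x6274dc) (nat_lit 21040) (nat_lit 0x313a6e) .nil))) (nat_lit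
  0x6296c7) (nat_lit 26289) (nat_lit 0x8f0be8) (.node (.node (.node (.node .nil (nat_lit 0x62ab66) (nat_lit
  34353) (nat_lit 0x2e2ed8) .nil) (nat_lit 0x62c4bb) (nat_lit 15200) (nat_lit 0x71625d) .nil) (nat_lit
  0x62ed85) (nat_lit 11361) (nat_lit 0xa7075a) (.node .nil (nat_lit 0x62f91a) (nat_lit 22833) (nat_lit
  0x2cc67a) .nil)) (nat_lit 0x6329b3) (nat_lit 33920) (nat_lit 0x7194d9) (.node (.node (.node .nil (nat_lit
  0x633d2c) (nat_lit 38289) (nat_lit 0x36a770) .nil) (nat_lit 0x63466e) (nat_lit 9137) (nat_lit 0x1eabc2)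
  .nil) (nat_lit 0x6352f1) (nat_lit 7985) (nat_lit 0x956ae2) (.node .nil (nat_lit 0x636f50) (nat_lit 34321)
  (nat_lit 0x344fd2) .nil)))) (nat_lit 0x638d4b) (nat_lit 26112) (nat_lit 0x71c6a5) (.node (.node (.node
  (.node (.node .nil (nat_lit 0x6399d4) (nat_lit 6129) (nat_lit 0x374a78) .nil) (nat_lit 0x63a475) (nat_lit
  20064) (nat_lit 0x71d23a) .nil) (nat_lit 0x63b0ea) (nat_lit 17936) (nat_lit 0x31d875) (.node .nil (nat_lit
  0x63cba8) (nat_lit 10720) (nat_lit 0x31e5d4) .nil)) (nat_lit 0x63e296) (nat_lit 4017) (nat_lit 0x1f46ca)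
  (.node (.node (.node .nil (nat_lit 0x63f609) (nat_lit 14624) (nat_lit 0x71fb04) .nil) (nat_lit 0x642df4)
  (nat_lit 39921) (nat_lit 0x636f50) .nil) (nat_lit 0x64396b) (nat_lit 15440) (nat_lit 0x721cb5) (.node .nil
  (nat_lit 0x6456b6) (nat_lit 20913) (nat_lit 0x4b63e2) .nil))) (nat_lit 0x646b17) (nat_lit 3696) (nat_lit
  0x72358b) (.node (.node (.node (.node .nil (nat_lit 0x647f88) (nat_lit 32304) (nat_lit 0x323fc4) .nil)
  (nat_lit 0x649d93) (nat_lit 37393) (nat_lit 0xe94378) .nil) (nat_lit 0x64b4ad) (nat_lit 39984) (nat_lit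
  0x725a56) (.node .nil (nat_lit 0x64db70) (nat_lit 35713) (nat_lit 0x606afa) .nil)) (nat_lit 0x64e6d1)
  (nat_lit 37600) (nat_lit 0x727368) (.node (.node (.node .nil (nat_lit 0x64f24e) (nat_lit 7233) (nat_lit
  0x4a8eea) .nil) (nat_lit 0x650bd9) (nat_lit 35921) (nat_lit 0xf1cad0) .nil) (nat_lit 0x651f46) (nat_lit
  23201) (nat_lit 0x7a0bf0) (.node .nil (nat_lit 0x6522e7) (nat_lit 21889) (nat_lit 0xdb2ec0) .nil)))))
  (nat_lit 0x653678) (nat_lit 26224) (nat_lit 0x329b3c) (.node (.node (.node (.node (.node (.node .nil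
  (nat_lit 0x654d3a) (nat_lit 32289) (nat_lit 0x78e352) .nil) (nat_lit 0x6559a5) (nat_lit 8257) (nat_lit
  0xf32272) .nil) (nat_lit 0x65709b) (nat_lit 31120) (nat_lit 0x72b84d) (.node .nil (nat_lit 0x65861f)
  (nat_lit 25585) (nat_lit 0xdac3c8) .nil)) (nat_lit 0x65af21) (nat_lit 4785) (nat_lit 0xf027d8) (.node (.node
  (.node .nil (nat_lit 0x65c0fc) (nat_lit 11169) (nat_lit 0x53ea4a) .nil) (nat_lit 0x65d463) (nat_lit 14544)
  (nat_lit 0x72ea31) .nil) (nat_lit 0x65e9c2) (nat_lit 13872) (nat_lit 0x32f4e1) (.node .nil (nat_lit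
  0x660e73) (nat_lit 3681) (nat_lit 0xcc6bd0) .nil))) (nat_lit 0x661aec) (nat_lit 2529) (nat_lit 0x47aaf0)
  (.node (.node (.node (.node .nil (nat_lit 0x66274d) (nat_lit 3264) (nat_lit 0x7313a6) .nil) (nat_lit
  0x6633d2) (nat_lit 30368) (nat_lit 0x3319e9) .nil) (nat_lit 0x665c0f) (nat_lit 8976) (nat_lit 0x732e07)
  (.node .nil (nat_lit 0x6661ae) (nat_lit 18912) (nat_lit 0x3330d7) .nil)) (nat_lit 0x667531) (nat_lit 39233)
  (nat_lit 0xe46762) (.node (.node (.node .nil (nat_lit 0x6683b5) (nat_lit 15329) (nat_lit 0xe762c8) .nil)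
  (nat_lit 0x66972a) (nat_lit 21537) (nat_lit 0x6ca3e8) .nil) (nat_lit 0x66aa8b) (nat_lit 17873) (nat_lit
  0xcd86d8) (.node .nil (nat_lit 0x66be14) (nat_lit 5840) (nat_lit 0x335f0a) .nil)))) (nat_lit 0x66c556)
  (nat_lit 34752) (nat_lit 0x3362ab) (.node (.node (.node (.node (.node .nil (nat_lit 0x66d1c9) (nat_lit
  41088) (nat_lit 0x7368e4) .nil) (nat_lit 0x66ec68) (nat_lit 30720) (nat_lit 0x337634) .nil) (nat_lit
  0x67285e) (nat_lit 9760) (nat_lit 0x33942f) (.node .nil (nat_lit 0x673cc1) (nat_lit 29248) (nat_lit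
  0x739e60) .nil)) (nat_lit 0x674783) (nat_lit 3745) (nat_lit 0xfd03c2) (.node (.node (.node .nil (nat_lit
  0x67531c) (nat_lit 2193) (nat_lit 0x76c2e2) .nil) (nat_lit 0x677a22) (nat_lit 29120) (nat_lit 0x33bd11)
  .nil) (nat_lit 0x678ca6) (nat_lit 26896) (nat_lit 0x33c653) (.node .nil (nat_lit 0x679839) (nat_lit 22960)
  (nat_lit 0x73cc1c) .nil))) (nat_lit 0x67a598) (nat_lit 881) (nat_lit 0x75c748) (.node (.node (.node (.node
  .nil (nat_lit 0x67b107) (nat_lit 16176) (nat_lit 0x73d883) .nil) (nat_lit 0x67ca45) (nat_lit 16577) (nat_lit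
  0xd60ada) .nil) (nat_lit 0x6806fd) (nat_lit 38641) (nat_lit 0x83ebc4) (.node .nil (nat_lit 0x682fc3)
  (nat_lit 32737) (nat_lit 0xa90fd4) .nil)) (nat_lit 0x683b5c) (nat_lit 24097) (nat_lit 0x22cef4) (.node
  (.node (.node .nil (nat_lit 0x688b3b) (nat_lit 9521) (nat_lit 0xa8e2dc) .nil) (nat_lit 0x689fa4) (nat_lit
  21505) (nat_lit 0x2323fc) .nil) (nat_lit 0x68b69a) (nat_lit 8336) (nat_lit 0x345b4d) (.node .nil (nat_lit
  0x68cdd8) (nat_lit 30192) (nat_lit 0x3466ec) .nil)))))) (nat_lit 0x68d947) (nat_lit 4592) (nat_lit 0x746ca3)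
  (.node (.node (.node (.node (.node (.node (.node .nil (nat_lit 0x68e4e6) (nat_lit 8449) (nat_lit 733006)
  .nil) (nat_lit 0x68f079) (nat_lit 36656) (nat_lit 0x74783c) .nil) (nat_lit 0x6909ee) (nat_lit 4113) (nat_lit
  0x3baa54) (.node .nil (nat_lit 0x691d71) (nat_lit 19505) (nat_lit 0xb06b74) .nil)) (nat_lit 0x69344f)
  (nat_lit 32576) (nat_lit 0x749a27) (.node (.node (.node .nil (nat_lit 0x694f0d) (nat_lit 16657) (nat_lit
  0xb283d6) .nil) (nat_lit 0x695b92) (nat_lit 39296) (nat_lit 0x34adc9) .nil) (nat_lit 0x696633) (nat_lit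
  24272) (nat_lit 0x74b319) (.node .nil (nat_lit 0x6972ac) (nat_lit 37648) (nat_lit 0x34b956) .nil))) (nat_lit
  0x6990b7) (nat_lit 35233) (nat_lit 0x9b626c) (.node (.node (.node (.node .nil (nat_lit 0x69ad16) (nat_lit
  12513) (nat_lit 0x3a475c) .nil) (nat_lit 0x69b989) (nat_lit 30912) (nat_lit 0x74dcc4) .nil) (nat_lit
  0x69c2cb) (nat_lit 13184) (nat_lit 0x74e165) (.node .nil (nat_lit 0x69d654) (nat_lit 24320) (nat_lit
  0x34eb2a) .nil)) (nat_lit 0x6a18db) (nat_lit 9809) (nat_lit 0x8dca74) (.node (.node (.node .nil (nat_lit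
  0x6a257a) (nat_lit 40640) (nat_lit 0x3512bd) .nil) (nat_lit 0x6a31e5) (nat_lit 13904) (nat_lit 0x7518f2)
  .nil) (nat_lit 0x6a4aa7) (nat_lit 6448) (nat_lit 0x752553) (.node .nil (nat_lit 0x6a5e38) (nat_lit 38944)
  (nat_lit 0x352f1c) .nil)))) (nat_lit 0x6a6399) (nat_lit 14401) (nat_lit 0xa5c6c6) (.node (.node (.node
  (.node (.node .nil (nat_lit 0x6a7706) (nat_lit 8769) (nat_lit 0x2e07e6) .nil) (nat_lit 0x6a951d) (nat_lit
  10161) (nat_lit 0xa6c36c) .nil) (nat_lit 0x6aa8bc) (nat_lit 25697) (nat_lit 517724) (.node .nil (nat_lit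
  0x6abc23) (nat_lit 19968) (nat_lit 0x755e11) .nil)) (nat_lit 0x6ac761) (nat_lit 3457) (nat_lit 0xa42bce)
  (.node (.node (.node .nil (nat_lit 0x6afac0) (nat_lit 21024) (nat_lit 0x357d60) .nil) (nat_lit 0x6b0357)
  (nat_lit 11121) (nat_lit 0xbe4ac4) .nil) (nat_lit 0x6b17c8) (nat_lit 41104) (nat_lit 0x358be4) (.node .nil
  (nat_lit 0x6b2a69) (nat_lit 29585) (nat_lit 0x94aed4) .nil))) (nat_lit 0x6b45b4) (nat_lit 18209) (nat_lit
  0x376346) (.node (.node (.node (.node .nil (nat_lit 0x6b512b) (nat_lit 35488) (nat_lit 0x75a895) .nil)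
  (nat_lit 0x6b6c8a) (nat_lit 24305) (nat_lit 0x1d8756) .nil) (nat_lit 0x6b7815) (nat_lit 33040) (nat_lit
  0x75bc0a) (.node .nil (nat_lit 0x6b8e91) (nat_lit 864) (nat_lit 0x75c748) .nil)) (nat_lit 0x6b9a0e) (nat_lit
  17857) (nat_lit 0x1e82fc) (.node (.node (.node .nil (nat_lit 0x6bb330) (nat_lit 24368) (nat_lit 0x35d998)
  .nil) (nat_lit 0x6bc872) (nat_lit 13265) (nat_lit 0x1c6a5e) .nil) (nat_lit 0x6be14c) (nat_lit 19696)
  (nat_lit 0x35f0a6) (.node .nil (nat_lit 0x6c138f) (nat_lit 19297) (nat_lit 0xeb82e4) .nil))))) (nat_lit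
  0x6c2e2e) (nat_lit 14352) (nat_lit 0x361717) (.node (.node (.node (.node (.node (.node .nil (nat_lit
  0x6c3ab1) (nat_lit 31553) (nat_lit 0xc166f4) .nil) (nat_lit 0x6c41f3) (nat_lit 41056) (nat_lit 0x7620f9)
  .nil) (nat_lit 0x6c556c) (nat_lit 39953) (nat_lit 0x62ab66) (.node .nil (nat_lit 0x6c68cd) (nat_lit 32865)
  (nat_lit 0xc38e56) .nil)) (nat_lit 0x6c7c52) (nat_lit 4560) (nat_lit 0x363e29) (.node (.node (.node .nil
  (nat_lit 0x6c8ad6) (nat_lit 20720) (nat_lit 0x36456b) .nil) (nat_lit 0x6c9e49) (nat_lit 1073) (nat_lit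
  0xc08bfc) .nil) (nat_lit 0x6ca3e8) (nat_lit 12656) (nat_lit 0x3651f4) (.node .nil (nat_lit 0x6ccc35)
  (nat_lit 3072) (nat_lit 0x76661a) .nil))) (nat_lit 0x6cd8aa) (nat_lit 24401) (nat_lit 0x49a27e) (.node
  (.node (.node (.node .nil (nat_lit 0x6ce50b) (nat_lit 1361) (nat_lit 0xe8874e) .nil) (nat_lit 0x6cf194)
  (nat_lit 16257) (nat_lit 0x63466e) .nil) (nat_lit 0x6d1c9c) (nat_lit 31456) (nat_lit 0x368e4e) (.node .nil
  (nat_lit 0x6d213d) (nat_lit 2016) (nat_lit 0x76909e) .nil)) (nat_lit 0x6d35a2) (nat_lit 25200) (nat_lit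
  0x369ad1) (.node (.node (.node .nil (nat_lit 0x6d4ee0) (nat_lit 38272) (nat_lit 0x36a770) .nil) (nat_lit
  0x6d7341) (nat_lit 39904) (nat_lit 0x76b9a0) .nil) (nat_lit 0x6d85c5) (nat_lit 2176) (nat_lit 0x76c2e2)
  (.node .nil (nat_lit 0x6d915a) (nat_lit 35009) (nat_lit 0x78ca6c) .nil)))) (nat_lit 0x6db864) (nat_lit
  31648) (nat_lit 0x36dc32) (.node (.node (.node (.node (.node .nil (nat_lit 0x6dc326) (nat_lit 30624)
  (nat_lit 0x36e193) .nil) (nat_lit 0x6dea18) (nat_lit 38992) (nat_lit 0x36f50c) .nil) (nat_lit 0x6e0da9)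
  (nat_lit 33328) (nat_lit 0x7706d4) (.node .nil (nat_lit 0x6e1936) (nat_lit 11857) (nat_lit 0x6e6274) .nil))
  (nat_lit 0x6e2497) (nat_lit 28128) (nat_lit 0x77124b) (.node (.node (.node .nil (nat_lit 0x6e4b4a) (nat_lit
  25296) (nat_lit 0x3725a5) .nil) (nat_lit 0x6e6274) (nat_lit 6497) (nat_lit 0x466ec6) .nil) (nat_lit
  0x6e806f) (nat_lit 27936) (nat_lit 0x774037) (.node .nil (nat_lit 0x6e94f0) (nat_lit 6112) (nat_lit
  0x374a78) .nil))) (nat_lit 0x6ea951) (nat_lit 4513) (nat_lit 0xe44e5c) (.node (.node (.node (.node .nil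
  (nat_lit 0x6ec68c) (nat_lit 18192) (nat_lit 0x376346) .nil) (nat_lit 0x6ed213) (nat_lit 39809) (nat_lit
  0xcc42ee) .nil) (nat_lit 0x6f02ba) (nat_lit 1809) (nat_lit 0x5de2c4) (.node .nil (nat_lit 0x6f1625) (nat_lit
  6784) (nat_lit 0x778b12) .nil)) (nat_lit 0x6f2b84) (nat_lit 2384) (nat_lit 0x3795c2) (.node (.node (.node
  .nil (nat_lit 0x6f4459) (nat_lit 16432) (nat_lit 0x77a22c) .nil) (nat_lit 0x6f50c6) (nat_lit 16896) (nat_lit
  0x37a863) .nil) (nat_lit 0x6fa642) (nat_lit 15553) (nat_lit 0x5c0fcc) (.node .nil (nat_lit 0x6fdd00)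
  (nat_lit 38753) (nat_lit 0x74037e) .nil)))))))
def tD_7 : T := (.node (.node (.node (.node (.node (.node (.node (.node .nil (nat_lit 0x702bad) (nat_lit
  21232) (nat_lit 0x7815d6) .nil) (nat_lit 0x703f32) (nat_lit 25136) (nat_lit 0x381f99) .nil) (nat_lit
  0x7050ef) (nat_lit 39280) (nat_lit 0x782877) (.node (.node .nil (nat_lit 0x706d4e) (nat_lit 22881) (nat_lit
  0x2a9f52) .nil) (nat_lit 0x7079d1) (nat_lit 20769) (nat_lit 0xa15e72) .nil)) (nat_lit 0x708f55) (nat_lit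
  39008) (nat_lit 0x7847aa) (.node (.node (.node .nil (nat_lit 0x709bca) (nat_lit 209) (nat_lit 0x299af8)
  .nil) (nat_lit 0x70a66b) (nat_lit 14049) (nat_lit 0x88bfc8) .nil) (nat_lit 0x70b2f4) (nat_lit 288) (nat_lit
  0x38597a) (.node .nil (nat_lit 0x70c9b6) (nat_lit 22225) (nat_lit 0x2b725a) .nil))) (nat_lit 0x70dd29)
  (nat_lit 13392) (nat_lit 0x786e94) (.node (.node (.node (.node .nil (nat_lit 0x70f417) (nat_lit 6016)
  (nat_lit 0x787a0b) .nil) (nat_lit 0x71191f) (nat_lit 18256) (nat_lit 0x788c8f) .nil) (nat_lit 0x7124be)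
  (nat_lit 26672) (nat_lit 0x38925f) (.node .nil (nat_lit 0x714b63) (nat_lit 17921) (nat_lit 0xb83ad2) .nil))
  (nat_lit 0x71625d) (nat_lit 8561) (nat_lit 0x92dec2) (.node (.node (.node .nil (nat_lit 0x7176c2) (nat_lit
  16160) (nat_lit 0x38bb61) .nil) (nat_lit 0x7194d9) (nat_lit 23953) (nat_lit 0x91db68) .nil) (nat_lit
  0x71a978) (nat_lit 22240) (nat_lit 0x38d4bc) (.node .nil (nat_lit 0x71c6a5) (nat_lit 16401) (nat_lit
  0x9333ca) .nil)))) (nat_lit 0x71d23a) (nat_lit 11601) (nat_lit 0x18f2ea) (.node (.node (.node (.node (.node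
  .nil (nat_lit 0x71fb04) (nat_lit 8208) (nat_lit 0x38fd82) .nil) (nat_lit 0x721cb5) (nat_lit 8689) (nat_lit
  0x877370) .nil) (nat_lit 0x72358b) (nat_lit 1888) (nat_lit 0x791ac5) (.node .nil (nat_lit 0x724ec9) (nat_lit
  39168) (nat_lit 0x792764) .nil)) (nat_lit 0x725a56) (nat_lit 34417) (nat_lit 940786) (.node (.node (.node
  .nil (nat_lit 0x727368) (nat_lit 29009) (nat_lit 0x24bee2) .nil) (nat_lit 0x7285ec) (nat_lit 31713) (nat_lit
  0x27bb48) .nil) (nat_lit 0x729173) (nat_lit 39200) (nat_lit 0x7948b9) (.node .nil (nat_lit 0x72acd2)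
  (nat_lit 6753) (nat_lit 876376) .nil))) (nat_lit 0x72b84d) (nat_lit 20800) (nat_lit 0x795c26) (.node (.node
  (.node (.node .nil (nat_lit 0x72c30f) (nat_lit 36288) (nat_lit 0x796187) .nil) (nat_lit 0x72d790) (nat_lit
  21393) (nat_lit 0x2553ea) .nil) (nat_lit 0x72ea31) (nat_lit 8161) (nat_lit 0x8476da) (.node .nil (nat_lit
  0x730739) (nat_lit 4432) (nat_lit 0x79839c) .nil)) (nat_lit 0x7313a6) (nat_lit 1649) (nat_lit 0x3f32e0)
  (.node (.node (.node .nil (nat_lit 0x732e07) (nat_lit 4800) (nat_lit 0x799703) .nil) (nat_lit 0x733a98)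
  (nat_lit 35680) (nat_lit 0x399d4c) .nil) (nat_lit 0x7341da) (nat_lit 31265) (nat_lit 0x3dda42) (.node .nil
  (nat_lit 0x735545) (nat_lit 14752) (nat_lit 0x79aaa2) .nil))))) (nat_lit 0x7368e4) (nat_lit 39937) (nat_lit
  0x173e52) (.node (.node (.node (.node (.node (.node .nil (nat_lit 0x739e60) (nat_lit 19041) (nat_lit
  0x143bf8) .nil) (nat_lit 0x73a3c1) (nat_lit 31392) (nat_lit 0x79d1e0) .nil) (nat_lit 0x73cc1c) (nat_lit
  13808) (nat_lit 0x39e60e) (.node .nil (nat_lit 0x73d883) (nat_lit 9104) (nat_lit 0x79ec41) .nil)) (nat_lit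
  0x73e522) (nat_lit 28384) (nat_lit 0x39f291) (.node (.node (.node .nil (nat_lit 0x74037e) (nat_lit 31345)
  (nat_lit 0x6afac0) .nil) (nat_lit 0x7417e1) (nat_lit 23184) (nat_lit 0x7a0bf0) .nil) (nat_lit 0x74459d)
  (nat_lit 21265) (nat_lit 0xe3d342) (.node .nil (nat_lit 0x746ca3) (nat_lit 2352) (nat_lit 0x7a3651) .nil)))
  (nat_lit 0x74783c) (nat_lit 27616) (nat_lit 0x3a3c1e) (.node (.node (.node (.node .nil (nat_lit 0x748eb8)
  (nat_lit 12496) (nat_lit 0x3a475c) .nil) (nat_lit 0x749a27) (nat_lit 22384) (nat_lit 0x7a4d13) .nil)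
  (nat_lit 0x74a786) (nat_lit 29872) (nat_lit 0x3a53c3) (.node .nil (nat_lit 0x74b319) (nat_lit 14816)
  (nat_lit 0x7a598c) .nil)) (nat_lit 0x74c85b) (nat_lit 25953) (nat_lit 0xc8da5a) (.node (.node (.node .nil
  (nat_lit 0x74dcc4) (nat_lit 20528) (nat_lit 0x3a6e62) .nil) (nat_lit 0x74e165) (nat_lit 7329) (nat_lit
  0xe23e4a) .nil) (nat_lit 0x750c6d) (nat_lit 34433) (nat_lit 0xd2bb50) (.node .nil (nat_lit 0x7518f2)
  (nat_lit 7777) (nat_lit 0x597a70) .nil)))) (nat_lit 0x752553) (nat_lit 3361) (nat_lit 0xf85f40) (.node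
  (.node (.node (.node (.node .nil (nat_lit 0x7531cc) (nat_lit 15824) (nat_lit 0x3a98e6) .nil) (nat_lit
  0x754a8e) (nat_lit 15777) (nat_lit 0x5b92d2) .nil) (nat_lit 0x755e11) (nat_lit 11504) (nat_lit 0x7aaf08)
  (.node .nil (nat_lit 0x7563b0) (nat_lit 7280) (nat_lit 0x3ab1d8) .nil)) (nat_lit 0x7581ab) (nat_lit 37760)
  (nat_lit 0x7ac0d5) (.node (.node (.node .nil (nat_lit 0x759534) (nat_lit 37617) (nat_lit 0x727368) .nil)
  (nat_lit 0x75a895) (nat_lit 25968) (nat_lit 0x7ad44a) .nil) (nat_lit 0x75bc0a) (nat_lit 22865) (nat_lit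
  0x589778) (.node .nil (nat_lit 0x75c748) (nat_lit 433) (nat_lit 0x709bca) .nil))) (nat_lit 0x7609c7)
  (nat_lit 22624) (nat_lit 0x7b04e3) (.node (.node (.node (.node .nil (nat_lit 0x761d58) (nat_lit 23248)
  (nat_lit 0x3b0eac) .nil) (nat_lit 0x7620f9) (nat_lit 39569) (nat_lit 0xc5fe40) .nil) (nat_lit 0x763466)
  (nat_lit 29200) (nat_lit 0x3b1a33) (.node .nil (nat_lit 0x764f24) (nat_lit 11536) (nat_lit 0x3b2792) .nil))
  (nat_lit 0x76661a) (nat_lit 1553) (nat_lit 0x4cd7c2) (.node (.node (.node .nil (nat_lit 0x767285) (nat_lit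
  29905) (nat_lit 0xc716e2) .nil) (nat_lit 0x76909e) (nat_lit 1009) (nat_lit 0x4fd268) .nil) (nat_lit
  0x76b9a0) (nat_lit 34288) (nat_lit 0x3b5cd0) (.node .nil (nat_lit 0x76c2e2) (nat_lit 1088) (nat_lit
  0x3b6171) .nil)))))) (nat_lit 0x7706d4) (nat_lit 23153) (nat_lit 0x575bc0) (.node (.node (.node (.node
  (.node (.node (.node .nil (nat_lit 0x77124b) (nat_lit 18000) (nat_lit 0x7b8925) .nil) (nat_lit 0x774037)
  (nat_lit 17808) (nat_lit 0x7ba01b) .nil) (nat_lit 0x7754a8) (nat_lit 4096) (nat_lit 0x3baa54) (.node .nil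
  (nat_lit 0x776909) (nat_lit 37233) (nat_lit 0xf49652) .nil)) (nat_lit 0x778b12) (nat_lit 3536) (nat_lit
  0x3bc589) (.node (.node (.node .nil (nat_lit 0x77a22c) (nat_lit 9264) (nat_lit 0x3bd116) .nil) (nat_lit
  0x77f050) (nat_lit 6960) (nat_lit 0x3bf828) .nil) (nat_lit 0x7815d6) (nat_lit 12400) (nat_lit 0x3c0aeb)
  (.node .nil (nat_lit 0x782877) (nat_lit 32624) (nat_lit 0x7c143b) .nil))) (nat_lit 0x783ce8) (nat_lit 39409)
  (nat_lit 114548) (.node (.node (.node (.node .nil (nat_lit 0x7847aa) (nat_lit 31888) (nat_lit 0x3c23d5)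
  .nil) (nat_lit 0x785335) (nat_lit 24609) (nat_lit 0xa272e6) .nil) (nat_lit 0x786e94) (nat_lit 7473) (nat_lit
  219094) (.node .nil (nat_lit 0x787a0b) (nat_lit 3136) (nat_lit 0x7c3d05) .nil)) (nat_lit 0x788c8f) (nat_lit
  10417) (nat_lit 0x8b935c) (.node (.node (.node .nil (nat_lit 0x78a5b1) (nat_lit 19105) (nat_lit 0xa1774c)
  .nil) (nat_lit 0x78b12e) (nat_lit 6769) (nat_lit 0x2ab66c) .nil) (nat_lit 0x78ca6c) (nat_lit 25168) (nat_lit
  0x3c6536) (.node .nil (nat_lit 0x78e352) (nat_lit 22001) (nat_lit 0x285ece) .nil)))) (nat_lit 0x790e5a)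
  (nat_lit 37024) (nat_lit 0x3c872d) (.node (.node (.node (.node (.node .nil (nat_lit 0x791ac5) (nat_lit 945)
  (nat_lit 0x931af4) .nil) (nat_lit 0x792764) (nat_lit 32321) (nat_lit 0x323fc4) .nil) (nat_lit 0x7948b9)
  (nat_lit 32385) (nat_lit 0x91f256) (.node .nil (nat_lit 0x795c26) (nat_lit 12096) (nat_lit 0x3cae13) .nil))
  (nat_lit 0x796187) (nat_lit 26992) (nat_lit 0x7cb0c3) (.node (.node (.node .nil (nat_lit 0x797518) (nat_lit
  25249) (nat_lit 0x30d766) .nil) (nat_lit 0x79839c) (nat_lit 2273) (nat_lit 0x33d2cc) .nil) (nat_lit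
  0x799703) (nat_lit 2465) (nat_lit 0xb813ec) (.node .nil (nat_lit 0x79aaa2) (nat_lit 8272) (nat_lit 0x3cd551)
  .nil))) (nat_lit 0x79d1e0) (nat_lit 21057) (nat_lit 0x313a6e) (.node (.node (.node (.node .nil (nat_lit
  0x79ec41) (nat_lit 4865) (nat_lit 0x901f5e) .nil) (nat_lit 0x7a0bf0) (nat_lit 13953) (nat_lit 0x257ad4)
  .nil) (nat_lit 0x7a22ce) (nat_lit 22785) (nat_lit 0xf9ec4) (.node .nil (nat_lit 0x7a3651) (nat_lit 1184)
  (nat_lit 0x7d1b28) .nil)) (nat_lit 0x7a4d13) (nat_lit 13344) (nat_lit 0x7d2689) (.node (.node (.node .nil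
  (nat_lit 0x7a598c) (nat_lit 8321) (nat_lit 0x279276) .nil) (nat_lit 0x7a642d) (nat_lit 39312) (nat_lit
  0x7d3216) .nil) (nat_lit 0x7a70b2) (nat_lit 8385) (nat_lit 882278) (.node .nil (nat_lit 0x7a8636) (nat_lit
  32945) (nat_lit 947148) .nil))))) (nat_lit 0x7a92a9) (nat_lit 31664) (nat_lit 0x7d4954) (.node (.node (.node
  (.node (.node (.node .nil (nat_lit 0x7aaf08) (nat_lit 6288) (nat_lit 0x3d5784) .nil) (nat_lit 0x7ac0d5)
  (nat_lit 29264) (nat_lit 0x7d606a) .nil) (nat_lit 0x7ad44a) (nat_lit 16304) (nat_lit 0x3d6a25) (.node .nil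
  (nat_lit 0x7b04e3) (nat_lit 13585) (nat_lit 0x9d3b44) .nil)) (nat_lit 0x7b107c) (nat_lit 39185) (nat_lit
  0x16fa64) (.node (.node (.node .nil (nat_lit 0x7b3942) (nat_lit 33280) (nat_lit 0x3d9ca1) .nil) (nat_lit
  0x7b8925) (nat_lit 10224) (nat_lit 0x7dc492) .nil) (nat_lit 0x7ba01b) (nat_lit 10096) (nat_lit 0x7dd00d)
  (.node .nil (nat_lit 0x7bb484) (nat_lit 31248) (nat_lit 0x3dda42) .nil))) (nat_lit 0x7c143b) (nat_lit 22416)
  (nat_lit 0x7e0a1d) (.node (.node (.node (.node .nil (nat_lit 0x7c299a) (nat_lit 34209) (nat_lit 0x69d654)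
  .nil) (nat_lit 0x7c3d05) (nat_lit 1585) (nat_lit 0xe21774) .nil) (nat_lit 0x7c4647) (nat_lit 40897) (nat_lit
  0xca1bc6) (.node .nil (nat_lit 0x7c52d8) (nat_lit 12689) (nat_lit 0x41dae6) .nil)) (nat_lit 0x7c8d62)
  (nat_lit 34065) (nat_lit 0x683b5c) (.node (.node (.node .nil (nat_lit 0x7ca45c) (nat_lit 30353) (nat_lit
  0x42df4c) .nil) (nat_lit 0x7cb0c3) (nat_lit 17088) (nat_lit 0x7e5861) .nil) (nat_lit 0x7ccb81) (nat_lit
  3232) (nat_lit 0x7e65c0) (.node .nil (nat_lit 0x7cf620) (nat_lit 38704) (nat_lit 0x3e7b10) .nil)))) (nat_lit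
  0x7d1b28) (nat_lit 593) (nat_lit 0x70b2f4) (.node (.node (.node (.node (.node .nil (nat_lit 0x7d2689)
  (nat_lit 7440) (nat_lit 0x7e9344) .nil) (nat_lit 0x7d3216) (nat_lit 32689) (nat_lit 0x5a56e4) .nil) (nat_lit
  0x7d4954) (nat_lit 21344) (nat_lit 0x3ea4aa) (.node .nil (nat_lit 0x7d606a) (nat_lit 19073) (nat_lit
  0x58be46) .nil)) (nat_lit 0x7d8271) (nat_lit 21904) (nat_lit 0x7ec138) (.node (.node (.node .nil (nat_lit
  0x7dc492) (nat_lit 5536) (nat_lit 0x3ee249) .nil) (nat_lit 0x7dd00d) (nat_lit 5440) (nat_lit 0x7ee806) .nil)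
  (nat_lit 0x7e0a1d) (nat_lit 13360) (nat_lit 0x7f050e) (.node .nil (nat_lit 0x7e1e82) (nat_lit 33728)
  (nat_lit 0x3f0f41) .nil))) (nat_lit 0x7e2323) (nat_lit 40593) (nat_lit 0xec36c4) (.node (.node (.node (.node
  .nil (nat_lit 0x7e5861) (nat_lit 9649) (nat_lit 0xc43a76) .nil) (nat_lit 0x7e65c0) (nat_lit 1632) (nat_lit
  0x3f32e0) .nil) (nat_lit 0x7e9344) (nat_lit 3872) (nat_lit 0x3f49a2) (.node .nil (nat_lit 0x7ec138) (nat_lit
  13025) (nat_lit 0x64f24e) .nil)) (nat_lit 0x7ee806) (nat_lit 2816) (nat_lit 0x3f7403) (.node (.node (.node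
  .nil (nat_lit 0x7f050e) (nat_lit 7457) (nat_lit 0x7e9344) .nil) (nat_lit 0x7f1191) (nat_lit 38160) (nat_lit
  0x7f88c8) .nil) (nat_lit 0x7f2c30) (nat_lit 7616) (nat_lit 0x3f9618) (.node .nil (nat_lit 0x7f88c8) (nat_lit
  29952) (nat_lit 0x3fc464) .nil)))))))
def tD_8 : T := (.node (.node (.node (.node (.node (.node (.node (.node .nil (nat_lit 0x80d3cf) (nat_lit
  15232) (nat_lit 0xc069e7) .nil) (nat_lit 0x80ee6e) (nat_lit 31776) (nat_lit 0x807737) .nil) (nat_lit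
  0x80faf1) (nat_lit 16128) (nat_lit 0xc07d78) (.node (.node .nil (nat_lit 0x8117f9) (nat_lit 1056) (nat_lit
  0xc08bfc) .nil) (nat_lit 0x813ec7) (nat_lit 15856) (nat_lit 0xc09f63) .nil)) (nat_lit 0x816cbb) (nat_lit
  9952) (nat_lit 0xc0b65d) (.node (.node (.node .nil (nat_lit 0x819a3f) (nat_lit 5024) (nat_lit 0xc0cd1f)
  .nil) (nat_lit 0x81a79e) (nat_lit 3553) (nat_lit 0x3bc589) .nil) (nat_lit 0x81dcdc) (nat_lit 31969) (nat_lit
  0x13c93b) (.node .nil (nat_lit 0x81e17d) (nat_lit 40704) (nat_lit 0xc0f0be) .nil))) (nat_lit 0x81f5e2)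
  (nat_lit 25744) (nat_lit 0x80faf1) (.node (.node (.node (.node .nil (nat_lit 0x822ff2) (nat_lit 2112)
  (nat_lit 0x8117f9) .nil) (nat_lit 0x823b6d) (nat_lit 2208) (nat_lit 0xc11db6) .nil) (nat_lit 0x827d8e)
  (nat_lit 25408) (nat_lit 0x813ec7) (.node .nil (nat_lit 0x829f95) (nat_lit 35665) (nat_lit 0xa741b9) .nil))
  (nat_lit 0x82b6ab) (nat_lit 36336) (nat_lit 0xc15b55) (.node (.node (.node .nil (nat_lit 0x82cde9) (nat_lit
  31536) (nat_lit 0xc166f4) .nil) (nat_lit 0x82d976) (nat_lit 17632) (nat_lit 0x816cbb) .nil) (nat_lit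
  0x82e4d7) (nat_lit 1489) (nat_lit 0x8f4d0b) (.node .nil (nat_lit 0x8309df) (nat_lit 31825) (nat_lit
  0xbfc811) .nil)))) (nat_lit 0x83347e) (nat_lit 9392) (nat_lit 0x819a3f) (.node (.node (.node (.node (.node
  .nil (nat_lit 0x834f3c) (nat_lit 6816) (nat_lit 0x81a79e) .nil) (nat_lit 0x835ba3) (nat_lit 38096) (nat_lit
  0xc1add1) .nil) (nat_lit 0x83729d) (nat_lit 24049) (nat_lit 0x97c4a3) (.node .nil (nat_lit 0x83ad27)
  (nat_lit 20464) (nat_lit 0xc1d693) .nil)) (nat_lit 0x83b9b8) (nat_lit 39040) (nat_lit 0x81dcdc) (.node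
  (.node (.node .nil (nat_lit 0x83c2fa) (nat_lit 4977) (nat_lit 0x1de88b) .nil) (nat_lit 0x83d665) (nat_lit
  38465) (nat_lit 0x9629ab) .nil) (nat_lit 0x83ebc4) (nat_lit 31041) (nat_lit 0x370c9b) (.node .nil (nat_lit
  0x844b7b) (nat_lit 32096) (nat_lit 0xc225bd) .nil))) (nat_lit 0x845fe4) (nat_lit 4128) (nat_lit 0x822ff2)
  (.node (.node (.node (.node .nil (nat_lit 0x8476da) (nat_lit 4304) (nat_lit 0x823b6d) .nil) (nat_lit
  0x84c6bd) (nat_lit 40672) (nat_lit 0xc2635e) .nil) (nat_lit 0x84ef83) (nat_lit 30977) (nat_lit 0xe9059b)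
  (.node .nil (nat_lit 0x84fb1c) (nat_lit 24705) (nat_lit 0x62c4bb) .nil)) (nat_lit 0x852bb5) (nat_lit 11264)
  (nat_lit 0xc295da) (.node (.node (.node .nil (nat_lit 0x853f2a) (nat_lit 29297) (nat_lit 0x78a5b1) .nil)
  (nat_lit 0x8550f7) (nat_lit 16720) (nat_lit 0xc2a87b) .nil) (nat_lit 0x856d56) (nat_lit 22401) (nat_lit
  0x7a4d13) (.node .nil (nat_lit 0x8579c9) (nat_lit 31072) (nat_lit 0xc2bce4) .nil))))) (nat_lit 0x858f4d)
  (nat_lit 18145) (nat_lit 0xf28999) (.node (.node (.node (.node (.node (.node .nil (nat_lit 0x859bd2)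
  (nat_lit 38848) (nat_lit 0x82cde9) .nil) (nat_lit 0x85a673) (nat_lit 18081) (nat_lit 0xd86d89) .nil)
  (nat_lit 0x85b2ec) (nat_lit 27664) (nat_lit 0x82d976) (.node .nil (nat_lit 0x85c9ae) (nat_lit 2944) (nat_lit
  0x82e4d7) .nil)) (nat_lit 0x85dd31) (nat_lit 29280) (nat_lit 0xc2ee98) (.node (.node (.node .nil (nat_lit
  0x85f40f) (nat_lit 14096) (nat_lit 0xc2fa07) .nil) (nat_lit 0x8613be) (nat_lit 10657) (nat_lit 0x6fe0a1)
  .nil) (nat_lit 0x862e1f) (nat_lit 24849) (nat_lit 0xcec591) (.node .nil (nat_lit 0x86555d) (nat_lit 3904)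
  (nat_lit 0xc32aae) .nil))) (nat_lit 0x8668fc) (nat_lit 5761) (nat_lit 0x47ec13) (.node (.node (.node (.node
  .nil (nat_lit 0x867c63) (nat_lit 5601) (nat_lit 0xcc2d33) .nil) (nat_lit 0x868ae7) (nat_lit 37281) (nat_lit
  0xcf2899) .nil) (nat_lit 0x869e78) (nat_lit 12352) (nat_lit 0x834f3c) (.node .nil (nat_lit 0x86a3d9)
  (nat_lit 26832) (nat_lit 0xc351ec) .nil)) (nat_lit 0x86b746) (nat_lit 39505) (nat_lit 0x6e0da9) (.node
  (.node (.node .nil (nat_lit 0x86d89b) (nat_lit 31297) (nat_lit 0xcdc03b) .nil) (nat_lit 0x86e53a) (nat_lit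
  2721) (nat_lit 0x6ce50b) .nil) (nat_lit 0x86f1a5) (nat_lit 23888) (nat_lit 0xc378d2) (.node .nil (nat_lit
  0x871cad) (nat_lit 32848) (nat_lit 0xc38e56) .nil)))) (nat_lit 0x873593) (nat_lit 37248) (nat_lit 0xc39ac9)
  (.node (.node (.node (.node (.node .nil (nat_lit 0x874ed1) (nat_lit 17041) (nat_lit 0xd54993) .nil) (nat_lit
  0x875a4e) (nat_lit 30848) (nat_lit 0x83ad27) .nil) (nat_lit 0x877370) (nat_lit 4609) (nat_lit 0x746ca3)
  (.node .nil (nat_lit 0x8785f4) (nat_lit 9296) (nat_lit 0x83c2fa) .nil)) (nat_lit 0x87916b) (nat_lit 17649)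
  (nat_lit 0xfca829) (.node (.node (.node .nil (nat_lit 0x87acca) (nat_lit 37105) (nat_lit 0x5d8d19) .nil)
  (nat_lit 0x87b855) (nat_lit 40560) (nat_lit 0xc3dc2a) .nil) (nat_lit 0x87c317) (nat_lit 40881) (nat_lit
  0xfe408b) (.node .nil (nat_lit 0x87d788) (nat_lit 38624) (nat_lit 0x83ebc4) .nil))) (nat_lit 0x87ea29)
  (nat_lit 15473) (nat_lit 0xd4a49b) (.node (.node (.node (.node .nil (nat_lit 0x880faf) (nat_lit 17232)
  (nat_lit 0xc407d7) .nil) (nat_lit 0x885dd3) (nat_lit 3104) (nat_lit 0xc42ee9) .nil) (nat_lit 0x8874ed)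
  (nat_lit 9632) (nat_lit 0xc43a76) (.node .nil (nat_lit 0x8896f6) (nat_lit 25121) (nat_lit 747949) .nil))
  (nat_lit 0x88ab57) (nat_lit 10064) (nat_lit 0xc455ab) (.node (.node (.node .nil (nat_lit 0x88bfc8) (nat_lit
  7840) (nat_lit 0x845fe4) .nil) (nat_lit 0x88edb4) (nat_lit 8144) (nat_lit 0x8476da) .nil) (nat_lit 0x88f92b)
  (nat_lit 13152) (nat_lit 0xc47c95) (.node .nil (nat_lit 0x893d1d) (nat_lit 2848) (nat_lit 0xc49e8e)
  .nil)))))) (nat_lit 0x89465f) (nat_lit 19169) (nat_lit 0x9ac987) (.node (.node (.node (.node (.node (.node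
  (.node .nil (nat_lit 0x896f61) (nat_lit 2320) (nat_lit 0xc4b7b0) .nil) (nat_lit 0x898d7a) (nat_lit 20577)
  (nat_lit 0x38e91d) .nil) (nat_lit 0x8999e5) (nat_lit 4945) (nat_lit 0xb3283d) (.node .nil (nat_lit 0x89b0db)
  (nat_lit 26592) (nat_lit 0xc4d86d) .nil)) (nat_lit 0x89cb99) (nat_lit 34464) (nat_lit 0xc4e5cc) (.node
  (.node (.node .nil (nat_lit 0x89df06) (nat_lit 38608) (nat_lit 0x84ef83) .nil) (nat_lit 0x89e2a7) (nat_lit
  29505) (nat_lit 0x9b248f) .nil) (nat_lit 0x89f638) (nat_lit 34544) (nat_lit 0x84fb1c) (.node .nil (nat_lit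
  0x8a38b7) (nat_lit 1329) (nat_lit 0x8f6435) .nil))) (nat_lit 0x8a43f5) (nat_lit 16208) (nat_lit 0xc521fa)
  (.node (.node (.node (.node .nil (nat_lit 0x8a576a) (nat_lit 19632) (nat_lit 0x852bb5) .nil) (nat_lit
  0x8a6acb) (nat_lit 35168) (nat_lit 0xc53565) .nil) (nat_lit 0x8a7e54) (nat_lit 37776) (nat_lit 0x853f2a)
  (.node .nil (nat_lit 0x8a9c4f) (nat_lit 17504) (nat_lit 0xc54e27) .nil)) (nat_lit 0x8aa1ee) (nat_lit 26560)
  (nat_lit 0x8550f7) (.node (.node (.node .nil (nat_lit 0x8ab571) (nat_lit 16289) (nat_lit 0xa46d2d) .nil)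
  (nat_lit 0x8ace33) (nat_lit 28656) (nat_lit 0xc56719) .nil) (nat_lit 0x8adaac) (nat_lit 9473) (nat_lit
  499903) (.node .nil (nat_lit 0x8ae70d) (nat_lit 17761) (nat_lit 0xa6858f) .nil)))) (nat_lit 0x8af392)
  (nat_lit 38433) (nat_lit 0x2d44af) (.node (.node (.node (.node (.node .nil (nat_lit 0x8b1e9a) (nat_lit
  17553) (nat_lit 0x1dc1b5) .nil) (nat_lit 0x8b233b) (nat_lit 31937) (nat_lit 0xbce485) .nil) (nat_lit
  0x8b37a4) (nat_lit 25313) (nat_lit 0x3725a5) (.node .nil (nat_lit 0x8b4ce6) (nat_lit 28208) (nat_lit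
  0x85a673) .nil)) (nat_lit 0x8b5879) (nat_lit 40336) (nat_lit 0xc5ac3c) (.node (.node (.node .nil (nat_lit
  0x8b65d8) (nat_lit 22545) (nat_lit 0x35cd07) .nil) (nat_lit 0x8b7147) (nat_lit 27104) (nat_lit 0xc5b8a3)
  .nil) (nat_lit 0x8b87c3) (nat_lit 13280) (nat_lit 0xc5c3e1) (.node .nil (nat_lit 0x8b935c) (nat_lit 5648)
  (nat_lit 0x85c9ae) .nil))) (nat_lit 0x8bba62) (nat_lit 36321) (nat_lit 0x1c2cbd) (.node (.node (.node (.node
  .nil (nat_lit 0x8be81e) (nat_lit 23392) (nat_lit 0x85f40f) .nil) (nat_lit 0x8bfc81) (nat_lit 39552) (nat_lit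
  0xc5fe40) .nil) (nat_lit 0x8c1add) (nat_lit 15168) (nat_lit 0xc60d6e) (.node .nil (nat_lit 0x8c277c)
  (nat_lit 18656) (nat_lit 0x8613be) .nil)) (nat_lit 0x8c33e3) (nat_lit 27744) (nat_lit 0xc619f1) (.node
  (.node (.node .nil (nat_lit 0x8c5c3e) (nat_lit 32161) (nat_lit 0x4ae137) .nil) (nat_lit 0x8c619f) (nat_lit
  22928) (nat_lit 0xc630cf) .nil) (nat_lit 0x8c971b) (nat_lit 35249) (nat_lit 0xe8c1ad) (.node .nil (nat_lit
  0x8caaba) (nat_lit 7488) (nat_lit 0x86555d) .nil))))) (nat_lit 0x8cbe25) (nat_lit 32113) (nat_lit 0xc225bd)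
  (.node (.node (.node (.node (.node (.node .nil (nat_lit 0x8cc567) (nat_lit 19184) (nat_lit 0xc662b3) .nil)
  (nat_lit 0x8cd1f8) (nat_lit 10592) (nat_lit 0x8668fc) .nil) (nat_lit 0x8cec59) (nat_lit 5041) (nat_lit
  0xc0cd1f) (.node .nil (nat_lit 0x8cf8c6) (nat_lit 10320) (nat_lit 0x867c63) .nil)) (nat_lit 0x8d15ce)
  (nat_lit 18017) (nat_lit 0x7b8925) (.node (.node (.node .nil (nat_lit 0x8d286f) (nat_lit 13457) (nat_lit
  0xdaac15) .nil) (nat_lit 0x8d3cf0) (nat_lit 21168) (nat_lit 0x869e78) .nil) (nat_lit 0x8d47b2) (nat_lit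
  36160) (nat_lit 0x86a3d9) (.node .nil (nat_lit 0x8d532d) (nat_lit 17025) (nat_lit 0xf2a0a7) .nil))) (nat_lit
  0x8d6e8c) (nat_lit 32433) (nat_lit 0x538597) (.node (.node (.node (.node .nil (nat_lit 0x8d7a13) (nat_lit
  29425) (nat_lit 0xd844b7) .nil) (nat_lit 0x8d8c97) (nat_lit 34112) (nat_lit 0xc6c64b) .nil) (nat_lit
  0x8da5a9) (nat_lit 31184) (nat_lit 0xc6d2d4) (.node .nil (nat_lit 0x8db136) (nat_lit 38720) (nat_lit
  0x86d89b) .nil)) (nat_lit 0x8dca74) (nat_lit 5264) (nat_lit 0x86e53a) (.node (.node (.node .nil (nat_lit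
  0x8de34a) (nat_lit 18273) (nat_lit 0x788c8f) .nil) (nat_lit 0x8e04fb) (nat_lit 18048) (nat_lit 0xc7027d)
  .nil) (nat_lit 0x8e2dc5) (nat_lit 26641) (nat_lit 0xe70d15) (.node .nil (nat_lit 0x8e395a) (nat_lit 5921)
  (nat_lit 0x6ccc35) .nil)))) (nat_lit 0x8e5687) (nat_lit 23520) (nat_lit 0xc72b43) (.node (.node (.node
  (.node (.node .nil (nat_lit 0x8e6b26) (nat_lit 37057) (nat_lit 0x6e2497) .nil) (nat_lit 0x8e893d) (nat_lit
  20945) (nat_lit 0xe6e01d) .nil) (nat_lit 0x8e9da2) (nat_lit 3953) (nat_lit 0x6d213d) (.node .nil (nat_lit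
  0x8eb49c) (nat_lit 8033) (nat_lit 0x47c52d) .nil)) (nat_lit 0x8edb41) (nat_lit 11776) (nat_lit 0xc76da0)
  (.node (.node (.node .nil (nat_lit 0x8ee6e0) (nat_lit 8672) (nat_lit 0x877370) .nil) (nat_lit 0x8f0be8)
  (nat_lit 16496) (nat_lit 0x8785f4) .nil) (nat_lit 0x8f22d6) (nat_lit 27680) (nat_lit 0x87916b) (.node .nil
  (nat_lit 0x8f3649) (nat_lit 23505) (nat_lit 0xd48da5) .nil))) (nat_lit 0x8f4d0b) (nat_lit 736) (nat_lit
  0xc7a685) (.node (.node (.node (.node .nil (nat_lit 0x8f5994) (nat_lit 27953) (nat_lit 0x774037) .nil)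
  (nat_lit 0x8f6435) (nat_lit 657) (nat_lit 0xd66507) .nil) (nat_lit 0x8f70aa) (nat_lit 38657) (nat_lit
  0x5da427) (.node .nil (nat_lit 0x8f862e) (nat_lit 36145) (nat_lit 0x5ea18d) .nil)) (nat_lit 0x8f92b1)
  (nat_lit 30161) (nat_lit 0xd560ad) (.node (.node (.node .nil (nat_lit 0x8faf10) (nat_lit 31601) (nat_lit
  0x74459d) .nil) (nat_lit 0x8fc0cd) (nat_lit 31440) (nat_lit 0xc7e066) .nil) (nat_lit 0x8fd452) (nat_lit
  25040) (nat_lit 0x87ea29) (.node .nil (nat_lit 0x901f5e) (nat_lit 2497) (nat_lit 0x2ad9b1) .nil)))))))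
def tD_9 : T := (.node (.node (.node (.node (.node (.node (.node (.node .nil (nat_lit 0x9059bd) (nat_lit
  28497) (nat_lit 0xa3f033) .nil) (nat_lit 0x90af39) (nat_lit 6608) (nat_lit 0xc8579c) .nil) (nat_lit
  0x90bba6) (nat_lit 5952) (nat_lit 0x885dd3) (.node (.node .nil (nat_lit 0x90d47b) (nat_lit 5680) (nat_lit
  0xc86a3d) .nil) (nat_lit 0x90e9da) (nat_lit 17056) (nat_lit 0x8874ed) .nil)) (nat_lit 0x90fd45) (nat_lit
  5185) (nat_lit 0xa21d3b) (.node (.node (.node .nil (nat_lit 0x912dec) (nat_lit 29137) (nat_lit 0x33bd11)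
  .nil) (nat_lit 0x913973) (nat_lit 8496) (nat_lit 0xc89cb9) .nil) (nat_lit 0x9156ae) (nat_lit 10369) (nat_lit
  0x1bb1a3) (.node .nil (nat_lit 0x916b0f) (nat_lit 16592) (nat_lit 0xc8b587) .nil))) (nat_lit 0x917f90)
  (nat_lit 14032) (nat_lit 0x88bfc8) (.node (.node (.node (.node .nil (nat_lit 0x919d8b) (nat_lit 16817)
  (nat_lit 0xb99139) .nil) (nat_lit 0x91b4b5) (nat_lit 25936) (nat_lit 0xc8da5a) .nil) (nat_lit 0x91db68)
  (nat_lit 14528) (nat_lit 0x88edb4) (.node .nil (nat_lit 0x91e6c9) (nat_lit 26721) (nat_lit 0x919d8b) .nil))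
  (nat_lit 0x91f256) (nat_lit 22112) (nat_lit 0x88f92b) (.node (.node (.node .nil (nat_lit 0x9215e7) (nat_lit
  30880) (nat_lit 0xc90af3) .nil) (nat_lit 0x923cd9) (nat_lit 21408) (nat_lit 0xc91e6c) .nil) (nat_lit
  0x92479b) (nat_lit 34929) (nat_lit 0xadd183) (.node .nil (nat_lit 0x926ea5) (nat_lit 29024) (nat_lit
  0xc93752) .nil)))) (nat_lit 0x927a3a) (nat_lit 5504) (nat_lit 0x893d1d) (.node (.node (.node (.node (.node
  .nil (nat_lit 0x928cbe) (nat_lit 29360) (nat_lit 0x89465f) .nil) (nat_lit 0x92b11f) (nat_lit 38880) (nat_lit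
  0xc9588f) .nil) (nat_lit 0x92ca5d) (nat_lit 34496) (nat_lit 0xc9652e) (.node .nil (nat_lit 0x92dec2)
  (nat_lit 4528) (nat_lit 0x896f61) .nil)) (nat_lit 0x92e363) (nat_lit 40528) (nat_lit 0xc971b1) (.node (.node
  (.node .nil (nat_lit 0x930e6b) (nat_lit 28945) (nat_lit 0x9cb991) .nil) (nat_lit 0x931af4) (nat_lit 465)
  (nat_lit 0x1778b1) .nil) (nat_lit 0x932755) (nat_lit 32209) (nat_lit 0xb65d81) (.node .nil (nat_lit
  0x9333ca) (nat_lit 9232) (nat_lit 0x8999e5) .nil))) (nat_lit 0x935c17) (nat_lit 27216) (nat_lit 0xc9ae0b)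
  (.node (.node (.node (.node .nil (nat_lit 0x9361b6) (nat_lit 2833) (nat_lit 0x3f7403) .nil) (nat_lit
  0x937529) (nat_lit 36112) (nat_lit 0xc9ba94) .nil) (nat_lit 0x9383ad) (nat_lit 10384) (nat_lit 0xc9c1d6)
  (.node .nil (nat_lit 0x939732) (nat_lit 39393) (nat_lit 0x3c71a9) .nil)) (nat_lit 0x93aa93) (nat_lit 40257)
  (nat_lit 0x9d5499) (.node (.node (.node .nil (nat_lit 0x93be0c) (nat_lit 38369) (nat_lit 0x1695b9) .nil)
  (nat_lit 0x93c54e) (nat_lit 37936) (nat_lit 0x89e2a7) .nil) (nat_lit 0x93d1d1) (nat_lit 6384) (nat_lit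
  0xc9e8e8) (.node .nil (nat_lit 0x93ec70) (nat_lit 35729) (nat_lit 0x147d1b) .nil))))) (nat_lit 0x941eb3)
  (nat_lit 35872) (nat_lit 0xca0f59) (.node (.node (.node (.node (.node (.node .nil (nat_lit 0x94378d)
  (nat_lit 14193) (nat_lit 0xe395a1) .nil) (nat_lit 0x944ccf) (nat_lit 33569) (nat_lit 0xcb9913) .nil)
  (nat_lit 0x9465f1) (nat_lit 7905) (nat_lit 0xe17d03) (.node .nil (nat_lit 0x94716e) (nat_lit 2640) (nat_lit
  0x8a38b7) .nil)) (nat_lit 0x9487ea) (nat_lit 25856) (nat_lit 0x8a43f5) (.node (.node (.node .nil (nat_lit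
  0x949375) (nat_lit 37089) (nat_lit 0xe278a9) .nil) (nat_lit 0x94aed4) (nat_lit 19329) (nat_lit 0x435d99)
  .nil) (nat_lit 0x94ba4b) (nat_lit 8513) (nat_lit 0xc89cb9) (.node .nil (nat_lit 0x94d596) (nat_lit 40144)
  (nat_lit 0x8a6acb) .nil))) (nat_lit 0x94e837) (nat_lit 37856) (nat_lit 0xca741b) (.node (.node (.node (.node
  .nil (nat_lit 0x94fca8) (nat_lit 26353) (nat_lit 0x41b53b) .nil) (nat_lit 0x95053f) (nat_lit 36240) (nat_lit
  0xca829f) .nil) (nat_lit 0x95389e) (nat_lit 9553) (nat_lit 0x5bd431) (.node .nil (nat_lit 0x9543dc) (nat_lit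
  16193) (nat_lit 0x73d883) .nil)) (nat_lit 0x955743) (nat_lit 37473) (nat_lit 0xf819a3) (.node (.node (.node
  .nil (nat_lit 0x956ae2) (nat_lit 4209) (nat_lit 0x593c93) .nil) (nat_lit 0x9588f9) (nat_lit 18353) (nat_lit
  0xd1f819) .nil) (nat_lit 0x959c66) (nat_lit 6433) (nat_lit 0x5a3939) (.node .nil (nat_lit 0x95a1c7) (nat_lit
  29312) (nat_lit 0xcad0e3) .nil)))) (nat_lit 0x95b558) (nat_lit 16784) (nat_lit 0x8adaac) (.node (.node
  (.node (.node (.node .nil (nat_lit 0x95ce1a) (nat_lit 27840) (nat_lit 0x8ae70d) .nil) (nat_lit 0x95da85)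
  (nat_lit 32448) (nat_lit 0xcaed42) .nil) (nat_lit 0x95e724) (nat_lit 3713) (nat_lit 0x72358b) (.node .nil
  (nat_lit 0x9629ab) (nat_lit 30561) (nat_lit 0xedb411) .nil)) (nat_lit 0x963d34) (nat_lit 27568) (nat_lit
  0x8b1e9a) (.node (.node (.node .nil (nat_lit 0x964676) (nat_lit 31329) (nat_lit 0x4e7983) .nil) (nat_lit
  0x9652e9) (nat_lit 27121) (nat_lit 0xc5b8a3) .nil) (nat_lit 0x966f48) (nat_lit 35056) (nat_lit 0x8b37a4)
  (.node .nil (nat_lit 0x968d53) (nat_lit 40833) (nat_lit 0xec5919) .nil))) (nat_lit 0x9699cc) (nat_lit 33153)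
  (nat_lit 0x679839) (.node (.node (.node (.node .nil (nat_lit 0x96a46d) (nat_lit 30897) (nat_lit 0xc6bd09)
  .nil) (nat_lit 0x96b0f2) (nat_lit 6193) (nat_lit 0x4d7c29) .nil) (nat_lit 0x96cbb0) (nat_lit 32768) (nat_lit
  0x8b65d8) (.node .nil (nat_lit 0x96e28e) (nat_lit 35793) (nat_lit 0x4f948b) .nil)) (nat_lit 0x96f611)
  (nat_lit 10081) (nat_lit 0xc455ab) (.node (.node (.node .nil (nat_lit 0x970f86) (nat_lit 22288) (nat_lit
  0x8b87c3) .nil) (nat_lit 0x971b19) (nat_lit 11617) (nat_lit 0xf4d0b1) .nil) (nat_lit 0x9726b8) (nat_lit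
  10400) (nat_lit 0x8b935c) (.node .nil (nat_lit 0x973227) (nat_lit 33552) (nat_lit 0xcb9913) .nil))))))
  (nat_lit 0x974965) (nat_lit 18096) (nat_lit 0xcba4b2) (.node (.node (.node (.node (.node (.node (.node .nil
  (nat_lit 0x97605b) (nat_lit 22560) (nat_lit 0xcbb02d) .nil) (nat_lit 0x9774c4) (nat_lit 3425) (nat_lit
  0x571d23) .nil) (nat_lit 0x97c4a3) (nat_lit 14609) (nat_lit 0xdd310b) (.node .nil (nat_lit 0x97d03c)
  (nat_lit 33504) (nat_lit 0x8be81e) .nil)) (nat_lit 0x97f902) (nat_lit 32641) (nat_lit 0x7c143b) (.node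
  (.node (.node .nil (nat_lit 0x9835ba) (nat_lit 6097) (nat_lit 0x29f525) .nil) (nat_lit 0x984ef8) (nat_lit
  23057) (nat_lit 129431) .nil) (nat_lit 0x985a67) (nat_lit 2657) (nat_lit 0x8a38b7) (.node .nil (nat_lit
  0x9867c6) (nat_lit 20865) (nat_lit 0x2b1d87) .nil))) (nat_lit 0x987359) (nat_lit 12192) (nat_lit 0xcc39ac)
  (.node (.node (.node (.node .nil (nat_lit 0x9885dd) (nat_lit 39025) (nat_lit 0xa3d90d) .nil) (nat_lit
  0x98ace3) (nat_lit 5521) (nat_lit 0x893d1d) .nil) (nat_lit 0x98b87c) (nat_lit 9841) (nat_lit 195645) (.node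
  .nil (nat_lit 0x98c33e) (nat_lit 33104) (nat_lit 0x8c619f) .nil)) (nat_lit 0x98d7a1) (nat_lit 3664) (nat_lit
  0xcc6bd0) (.node (.node (.node .nil (nat_lit 0x991397) (nat_lit 24128) (nat_lit 0xcc89cb) .nil) (nat_lit
  0x992e36) (nat_lit 38401) (nat_lit 0x1a7595) .nil) (nat_lit 0x993aa9) (nat_lit 35457) (nat_lit 0x91b4b5)
  (.node .nil (nat_lit 0x9941eb) (nat_lit 16336) (nat_lit 0xcca0f5) .nil)))) (nat_lit 0x995574) (nat_lit 7953)
  (nat_lit 0x327927) (.node (.node (.node (.node (.node .nil (nat_lit 0x9968d5) (nat_lit 34128) (nat_lit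
  0xccb46a) .nil) (nat_lit 0x997c4a) (nat_lit 19873) (nat_lit 0x189d37) .nil) (nat_lit 0x998ace) (nat_lit
  29376) (nat_lit 0x8cc567) (.node .nil (nat_lit 0x999e51) (nat_lit 21824) (nat_lit 0xcccf28) .nil)) (nat_lit
  0x99a3f0) (nat_lit 18528) (nat_lit 0x8cd1f8) (.node (.node (.node .nil (nat_lit 0x99cc2d) (nat_lit 40416)
  (nat_lit 0xcce616) .nil) (nat_lit 0x99d8b2) (nat_lit 9424) (nat_lit 0x8cec59) .nil) (nat_lit 0x99e513)
  (nat_lit 5825) (nat_lit 0xb8550f) (.node .nil (nat_lit 0x99f18c) (nat_lit 9777) (nat_lit 0x33942f) .nil)))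
  (nat_lit 0x9a163d) (nat_lit 27808) (nat_lit 0xcd0b1e) (.node (.node (.node (.node .nil (nat_lit 0x9a2b9c)
  (nat_lit 19457) (nat_lit 0x27d495) .nil) (nat_lit 0x9a3f03) (nat_lit 26385) (nat_lit 0xac15b5) .nil)
  (nat_lit 0x9a50de) (nat_lit 10577) (nat_lit 0xfd827) (.node .nil (nat_lit 0x9a79e0) (nat_lit 31472) (nat_lit
  0x8d3cf0) .nil)) (nat_lit 0x9a8f64) (nat_lit 40512) (nat_lit 0x8d47b2) (.node (.node (.node .nil (nat_lit
  0x9aa65a) (nat_lit 11825) (nat_lit 843149) .nil) (nat_lit 0x9ab2c5) (nat_lit 39361) (nat_lit 0x871cad) .nil)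
  (nat_lit 0x9ac987) (nat_lit 10976) (nat_lit 0xcd64c3) (.node .nil (nat_lit 0x9add18) (nat_lit 36513)
  (nat_lit 0x24d13f) .nil))))) (nat_lit 0x9ae0b9) (nat_lit 23409) (nat_lit 0x85f40f) (.node (.node (.node
  (.node (.node (.node .nil (nat_lit 0x9af426) (nat_lit 19953) (nat_lit 931119) .nil) (nat_lit 0x9b0db1)
  (nat_lit 17473) (nat_lit 0xb57115) .nil) (nat_lit 0x9b192e) (nat_lit 39745) (nat_lit 0x3eb035) (.node .nil
  (nat_lit 0x9b248f) (nat_lit 19249) (nat_lit 0x9f9505) .nil)) (nat_lit 0x9b4b52) (nat_lit 31425) (nat_lit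
  0x3c5897) (.node (.node (.node .nil (nat_lit 0x9b626c) (nat_lit 25505) (nat_lit 0x16bc87) .nil) (nat_lit
  0x9b8077) (nat_lit 21281) (nat_lit 0x9e780d) .nil) (nat_lit 0x9b94e8) (nat_lit 9792) (nat_lit 0x8dca74)
  (.node .nil (nat_lit 0x9ba949) (nat_lit 30240) (nat_lit 0xcdd4a4) .nil))) (nat_lit 0x9bc694) (nat_lit 28432)
  (nat_lit 0x8de34a) (.node (.node (.node (.node .nil (nat_lit 0x9bd20b) (nat_lit 32833) (nat_lit 0x9c90af)
  .nil) (nat_lit 0x9c09f6) (nat_lit 28176) (nat_lit 0x8e04fb) .nil) (nat_lit 0x9c1d69) (nat_lit 10001)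
  (nat_lit 0xe0b935) (.node .nil (nat_lit 0x9c3457) (nat_lit 26032) (nat_lit 0xce1a2b) .nil)) (nat_lit
  0x9c4f15) (nat_lit 8080) (nat_lit 0xce278a) (.node (.node (.node .nil (nat_lit 0x9c5b8a) (nat_lit 35984)
  (nat_lit 0x8e2dc5) .nil) (nat_lit 0x9c662b) (nat_lit 16609) (nat_lit 0xc8b587) .nil) (nat_lit 0x9c72b4)
  (nat_lit 10848) (nat_lit 0x8e395a) (.node .nil (nat_lit 0x9c90af) (nat_lit 22577) (nat_lit 0xcbb02d)
  .nil)))) (nat_lit 0x9cad0e) (nat_lit 17905) (nat_lit 0x6a951d) (.node (.node (.node (.node (.node .nil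
  (nat_lit 0x9cb991) (nat_lit 18689) (nat_lit 0xe1543d) .nil) (nat_lit 0x9cc2d3) (nat_lit 38897) (nat_lit
  0xc9588f) .nil) (nat_lit 0x9cd64c) (nat_lit 38225) (nat_lit 0x4299af) (.node .nil (nat_lit 0x9d06e5)
  (nat_lit 32273) (nat_lit 0xd33985) .nil)) (nat_lit 0x9d127a) (nat_lit 15281) (nat_lit 0x58f8a5) (.node
  (.node (.node .nil (nat_lit 0x9d3b44) (nat_lit 7584) (nat_lit 0x8e9da2) .nil) (nat_lit 0x9d5499) (nat_lit
  35424) (nat_lit 0xceaa4c) .nil) (nat_lit 0x9d6938) (nat_lit 11057) (nat_lit 0x70f417) (.node .nil (nat_lit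
  0x9d8b23) (nat_lit 24832) (nat_lit 0xcec591) .nil))) (nat_lit 0x9da21d) (nat_lit 36689) (nat_lit 0xd2d48d)
  (.node (.node (.node (.node .nil (nat_lit 0x9db682) (nat_lit 15361) (nat_lit 0x5915ad) .nil) (nat_lit
  0x9dcdc0) (nat_lit 15408) (nat_lit 0x8ee6e0) .nil) (nat_lit 0x9df061) (nat_lit 32049) (nat_lit 0xd03c2f)
  (.node .nil (nat_lit 0x9e034f) (nat_lit 28193) (nat_lit 0xee9885) .nil)) (nat_lit 0x9e17d0) (nat_lit 14737)
  (nat_lit 0x6559a5) (.node (.node (.node .nil (nat_lit 0x9e2a71) (nat_lit 13169) (nat_lit 0xc47c95) .nil)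
  (nat_lit 0x9e45ac) (nat_lit 25825) (nat_lit 0x67b107) .nil) (nat_lit 0x9e5133) (nat_lit 37264) (nat_lit
  0xcf2899) (.node .nil (nat_lit 0x9e6c92) (nat_lit 20641) (nat_lit 0x4d5517) .nil)))))))
def tD_10 : T := (.node (.node (.node (.node (.node (.node (.node (.node .nil (nat_lit 0x9e8e89) (nat_lit
  30496) (nat_lit 0xcf4744) .nil) (nat_lit 0x9e9a16) (nat_lit 1472) (nat_lit 0x8f4d0b) .nil) (nat_lit
  0x9eb328) (nat_lit 36880) (nat_lit 0x8f5994) (.node (.node .nil (nat_lit 0x9ec86a) (nat_lit 1312) (nat_lit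
  0x8f6435) .nil) (nat_lit 0x9ee154) (nat_lit 15969) (nat_lit 0x665c0f) .nil)) (nat_lit 0x9f0c5c) (nat_lit
  16385) (nat_lit 0x56d915) (.node (.node (.node .nil (nat_lit 0x9f18c3) (nat_lit 13776) (nat_lit 0xcf8c61)
  .nil) (nat_lit 0x9f2562) (nat_lit 3153) (nat_lit 0x7c3d05) .nil) (nat_lit 0x9f5e20) (nat_lit 27393) (nat_lit
  0x5431b7) (.node .nil (nat_lit 0x9f6381) (nat_lit 40033) (nat_lit 0xf51487) .nil))) (nat_lit 0x9f819a)
  (nat_lit 10113) (nat_lit 0x7dd00d) (.node (.node (.node (.node .nil (nat_lit 0x9f9505) (nat_lit 11025)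
  (nat_lit 0xf6112d) .nil) (nat_lit 0x9fa8a4) (nat_lit 34880) (nat_lit 0x8fd452) .nil) (nat_lit 0xa03ebc)
  (nat_lit 4848) (nat_lit 0x901f5e) (.node .nil (nat_lit 0xa045fe) (nat_lit 28609) (nat_lit 0x2beb03) .nil))
  (nat_lit 0xa0785f) (nat_lit 32032) (nat_lit 0xd03c2f) (.node (.node (.node .nil (nat_lit 0xa08edb) (nat_lit
  25712) (nat_lit 0xd0476d) .nil) (nat_lit 0xa0a7e5) (nat_lit 35040) (nat_lit 0xd053f2) .nil) (nat_lit
  0xa0b37a) (nat_lit 12385) (nat_lit 0x28eea9) (.node .nil (nat_lit 0xa0dca7) (nat_lit 10944) (nat_lit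
  0xd06e53) .nil)))) (nat_lit 0xa0f599) (nat_lit 37952) (nat_lit 0xd07acc) (.node (.node (.node (.node (.node
  .nil (nat_lit 0xa131af) (nat_lit 31025) (nat_lit 0xbba621) .nil) (nat_lit 0xa14aed) (nat_lit 3200) (nat_lit
  0xd0a576) .nil) (nat_lit 0xa15e72) (nat_lit 12064) (nat_lit 0x90af39) (.node .nil (nat_lit 0xa163d3)
  (nat_lit 31104) (nat_lit 0xd0b1e9) .nil)) (nat_lit 0xa1774c) (nat_lit 10912) (nat_lit 0x90bba6) (.node
  (.node (.node .nil (nat_lit 0xa19557) (nat_lit 5568) (nat_lit 0xd0caab) .nil) (nat_lit 0xa1a8f6) (nat_lit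
  10448) (nat_lit 0x90d47b) .nil) (nat_lit 0xa1bc69) (nat_lit 12081) (nat_lit 0x90af39) (.node .nil (nat_lit
  0xa1c72b) (nat_lit 37169) (nat_lit 0xb8a38b) .nil))) (nat_lit 0xa1d3b4) (nat_lit 26960) (nat_lit 0x90e9da)
  (.node (.node (.node (.node .nil (nat_lit 0xa1ee15) (nat_lit 40097) (nat_lit 0x92479b) .nil) (nat_lit
  0xa1fa8a) (nat_lit 9664) (nat_lit 0x90fd45) .nil) (nat_lit 0xa21d3b) (nat_lit 2672) (nat_lit 0xd10e9d)
  (.node .nil (nat_lit 0xa24f47) (nat_lit 721) (nat_lit 0xae0b93) .nil)) (nat_lit 0xa25bd8) (nat_lit 37696)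
  (nat_lit 0x912dec) (.node (.node (.node .nil (nat_lit 0xa26679) (nat_lit 23088) (nat_lit 0xd1333c) .nil)
  (nat_lit 0xa272e6) (nat_lit 15072) (nat_lit 0x913973) .nil) (nat_lit 0xa290fd) (nat_lit 19728) (nat_lit
  0xd1487e) (.node .nil (nat_lit 0xa2ad5c) (nat_lit 8801) (nat_lit 0x26cf19) .nil))))) (nat_lit 0xa2b9c3)
  (nat_lit 24624) (nat_lit 0xd15ce1) (.node (.node (.node (.node (.node (.node .nil (nat_lit 0xa2d61e)
  (nat_lit 26432) (nat_lit 0x916b0f) .nil) (nat_lit 0xa2ff20) (nat_lit 23297) (nat_lit 0x2427bb) .nil)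
  (nat_lit 0xa306b7) (nat_lit 26512) (nat_lit 0xd1835b) (.node .nil (nat_lit 0xa32f89) (nat_lit 33584)
  (nat_lit 0xd197c4) .nil)) (nat_lit 0xa33b16) (nat_lit 26704) (nat_lit 0x919d8b) (.node (.node (.node .nil
  (nat_lit 0xa354cb) (nat_lit 34689) (nat_lit 0x9d8b23) .nil) (nat_lit 0xa3696a) (nat_lit 12113) (nat_lit
  0x3cae13) .nil) (nat_lit 0xa38b71) (nat_lit 16832) (nat_lit 0xd1c5b8) (.node .nil (nat_lit 0xa3a24f)
  (nat_lit 38449) (nat_lit 0x9e8e89) .nil))) (nat_lit 0xa3b6d0) (nat_lit 23936) (nat_lit 0x91db68) (.node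
  (.node (.node (.node .nil (nat_lit 0xa3cd92) (nat_lit 36064) (nat_lit 0x91e6c9) .nil) (nat_lit 0xa3d90d)
  (nat_lit 31953) (nat_lit 0xb6823b) .nil) (nat_lit 0xa3e4ac) (nat_lit 29649) (nat_lit 0x17a70b) (.node .nil
  (nat_lit 0xa3f033) (nat_lit 18336) (nat_lit 0xd1f819) .nil)) (nat_lit 0xa4166f) (nat_lit 36592) (nat_lit
  0xd20b37) (.node (.node (.node .nil (nat_lit 0xa42bce) (nat_lit 1745) (nat_lit 0x6b8e91) .nil) (nat_lit
  0xa43f51) (nat_lit 8945) (nat_lit 0xe04fb1) .nil) (nat_lit 0xa46d2d) (nat_lit 9152) (nat_lit 0xd23696)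
  (.node .nil (nat_lit 0xa479b2) (nat_lit 31744) (nat_lit 0x923cd9) .nil)))) (nat_lit 0xa48f36) (nat_lit
  23825) (nat_lit 0x6a6399) (.node (.node (.node (.node (.node .nil (nat_lit 0xa49ba9) (nat_lit 10752)
  (nat_lit 0xd24dd4) .nil) (nat_lit 0xa4b297) (nat_lit 18384) (nat_lit 0xd2594b) .nil) (nat_lit 0xa4c9d5)
  (nat_lit 37456) (nat_lit 0xd264ea) (.node .nil (nat_lit 0xa4dd4a) (nat_lit 16881) (nat_lit 0x688b3b) .nil))
  (nat_lit 0xa4e0eb) (nat_lit 18160) (nat_lit 0xd27075) (.node (.node (.node .nil (nat_lit 0xa4f474) (nat_lit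
  1681) (nat_lit 0x426f2b) .nil) (nat_lit 0xa50de3) (nat_lit 29617) (nat_lit 0xf92b11) .nil) (nat_lit
  0xa5197c) (nat_lit 14561) (nat_lit 0x72ea31) (.node .nil (nat_lit 0xa524dd) (nat_lit 34864) (nat_lit
  0xd2926e) .nil))) (nat_lit 0xa5623e) (nat_lit 37073) (nat_lit 0x5ae683) (.node (.node (.node (.node .nil
  (nat_lit 0xa576a1) (nat_lit 13217) (nat_lit 0xd127a3) .nil) (nat_lit 0xa594ba) (nat_lit 16993) (nat_lit
  0x59e329) .nil) (nat_lit 0xa5a91b) (nat_lit 34609) (nat_lit 0xf8c619) (.node .nil (nat_lit 0xa5bd84)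
  (nat_lit 8401) (nat_lit 0x730739) .nil)) (nat_lit 0xa5c6c6) (nat_lit 8065) (nat_lit 0x5b0b8b) (.node (.node
  (.node .nil (nat_lit 0xa5d259) (nat_lit 5585) (nat_lit 0xd0caab) .nil) (nat_lit 0xa61cd6) (nat_lit 3489)
  (nat_lit 0x4f4b31) .nil) (nat_lit 0xa62177) (nat_lit 27201) (nat_lit 0xee6e01) (.node .nil (nat_lit
  0xa635e8) (nat_lit 928) (nat_lit 0x931af4) .nil)))))) (nat_lit 0xa64eaa) (nat_lit 39152) (nat_lit 0x932755)
  (.node (.node (.node (.node (.node (.node (.node .nil (nat_lit 0xa65a35) (nat_lit 14768) (nat_lit 0xd32d1a)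
  .nil) (nat_lit 0xa66794) (nat_lit 7201) (nat_lit 0x674783) .nil) (nat_lit 0xa6730b) (nat_lit 26625) (nat_lit
  0xec86a3) (.node .nil (nat_lit 0xa6858f) (nat_lit 10048) (nat_lit 0xd342c7) .nil)) (nat_lit 0xa6acb1)
  (nat_lit 28673) (nat_lit 0xc56719) (.node (.node (.node .nil (nat_lit 0xa6b82e) (nat_lit 8129) (nat_lit
  0x4ea639) .nil) (nat_lit 0xa6c36c) (nat_lit 5472) (nat_lit 0x9361b6) .nil) (nat_lit 0xa6ea52) (nat_lit
  11457) (nat_lit 0x4c4e9b) (.node .nil (nat_lit 0xa7075a) (nat_lit 6209) (nat_lit 0x7ccb81) .nil))) (nat_lit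
  0xa713c5) (nat_lit 21457) (nat_lit 0xf70aa1) (.node (.node (.node (.node .nil (nat_lit 0xa72e64) (nat_lit
  39713) (nat_lit 0x562f91) .nil) (nat_lit 0xa741b9) (nat_lit 26161) (nat_lit 0xf5e203) .nil) (nat_lit
  0xa75526) (nat_lit 41120) (nat_lit 0x93aa93) (.node .nil (nat_lit 0xa76887) (nat_lit 27712) (nat_lit
  0xd3b443) .nil)) (nat_lit 0xa77c18) (nat_lit 33841) (nat_lit 0x54c733) (.node (.node (.node .nil (nat_lit
  0xa78a9c) (nat_lit 29185) (nat_lit 0x57c299) .nil) (nat_lit 0xa79e03) (nat_lit 39968) (nat_lit 0xd3cf01)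
  .nil) (nat_lit 0xa7a3a2) (nat_lit 11664) (nat_lit 0x93d1d1) (.node .nil (nat_lit 0xa7d8e0) (nat_lit 28001)
  (nat_lit 0x552a3b) .nil)))) (nat_lit 0xa7e541) (nat_lit 12913) (nat_lit 0xf40f0b) (.node (.node (.node
  (.node (.node .nil (nat_lit 0xa829f9) (nat_lit 15728) (nat_lit 0xd414fc) .nil) (nat_lit 0xa83d66) (nat_lit
  21857) (nat_lit 0x2a2f35) .nil) (nat_lit 0xa852bb) (nat_lit 7696) (nat_lit 0xd4295d) (.node .nil (nat_lit
  0xa86f1a) (nat_lit 23536) (nat_lit 0x94378d) .nil)) (nat_lit 0xa87b85) (nat_lit 35905) (nat_lit 0xa306b7)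
  (.node (.node (.node .nil (nat_lit 0xa8999e) (nat_lit 39648) (nat_lit 0x944ccf) .nil) (nat_lit 0xa8a43f)
  (nat_lit 27857) (nat_lit 0x8ae70d) .nil) (nat_lit 0xa8cbe2) (nat_lit 14128) (nat_lit 0x9465f1) (.node .nil
  (nat_lit 0xa8e2dc) (nat_lit 5104) (nat_lit 0x94716e) .nil))) (nat_lit 0xa8f643) (nat_lit 13040) (nat_lit
  0xd47b21) (.node (.node (.node (.node .nil (nat_lit 0xa90fd4) (nat_lit 22513) (nat_lit 0x334b95) .nil)
  (nat_lit 0xa91b4b) (nat_lit 5729) (nat_lit 0xb88ab5) .nil) (nat_lit 0xa926ea) (nat_lit 3057) (nat_lit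
  0x19af85) (.node .nil (nat_lit 0xa93275) (nat_lit 18592) (nat_lit 0xd4993a) .nil)) (nat_lit 0xa94937)
  (nat_lit 15456) (nat_lit 0xd4a49b) (.node (.node (.node .nil (nat_lit 0xa95da8) (nat_lit 15057) (nat_lit
  0x31a337) .nil) (nat_lit 0xa97496) (nat_lit 15104) (nat_lit 0x94ba4b) .nil) (nat_lit 0xa9968d) (nat_lit
  18241) (nat_lit 0x9383ad) (.node .nil (nat_lit 0xa9ab2c) (nat_lit 35121) (nat_lit 0x32a69d) .nil)))))
  (nat_lit 0xa9c4f1) (nat_lit 23376) (nat_lit 0xd4e278) (.node (.node (.node (.node (.node (.node .nil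
  (nat_lit 0xa9d06e) (nat_lit 23761) (nat_lit 0x1aaa2f) .nil) (nat_lit 0xa9f950) (nat_lit 33681) (nat_lit
  0x304e3f) .nil) (nat_lit 0xaa0a7e) (nat_lit 4721) (nat_lit 977557) (.node .nil (nat_lit 0xaa1ee1) (nat_lit
  19649) (nat_lit 0x852bb5) .nil)) (nat_lit 0xaa4c9d) (nat_lit 5776) (nat_lit 0xd5264e) (.node (.node (.node
  .nil (nat_lit 0xaa65a3) (nat_lit 12560) (nat_lit 0xd532d1) .nil) (nat_lit 0xaa713c) (nat_lit 14465) (nat_lit
  0x26e627) .nil) (nat_lit 0xaa87b8) (nat_lit 25840) (nat_lit 0x9543dc) (.node .nil (nat_lit 0xaa9327)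
  (nat_lit 1521) (nat_lit 0xae22ad) .nil))) (nat_lit 0xaaae86) (nat_lit 40657) (nat_lit 984989) (.node (.node
  (.node (.node .nil (nat_lit 0xaaba19) (nat_lit 41201) (nat_lit 0x84c6bd) .nil) (nat_lit 0xaac15b) (nat_lit
  1297) (nat_lit 0xacca0f) .nil) (nat_lit 0xaad5c4) (nat_lit 7968) (nat_lit 0x956ae2) (.node .nil (nat_lit
  0xaae865) (nat_lit 34705) (nat_lit 0x862e1f) .nil)) (nat_lit 0xab056d) (nat_lit 4992) (nat_lit 0xd582b6)
  (.node (.node (.node .nil (nat_lit 0xab11f2) (nat_lit 16321) (nat_lit 0x3d6a25) .nil) (nat_lit 0xab2c53)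
  (nat_lit 14433) (nat_lit 0x9c4f15) .nil) (nat_lit 0xab38cc) (nat_lit 11728) (nat_lit 0x959c66) (.node .nil
  (nat_lit 0xab438e) (nat_lit 28897) (nat_lit 0x3f8287) .nil)))) (nat_lit 0xab5711) (nat_lit 689) (nat_lit
  0xb443a7) (.node (.node (.node (.node (.node .nil (nat_lit 0xab6ab0) (nat_lit 17217) (nat_lit 0x156697)
  .nil) (nat_lit 0xab88ab) (nat_lit 28560) (nat_lit 0xd5c455) .nil) (nat_lit 0xab9c34) (nat_lit 36832)
  (nat_lit 0x95ce1a) (.node .nil (nat_lit 0xaba195) (nat_lit 18944) (nat_lit 0xd5d0ca) .nil)) (nat_lit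
  0xabb50a) (nat_lit 37041) (nat_lit 0x3c872d) (.node (.node (.node .nil (nat_lit 0xabce48) (nat_lit 7120)
  (nat_lit 0x95e724) .nil) (nat_lit 0xac15b5) (nat_lit 16560) (nat_lit 0xd60ada) .nil) (nat_lit 0xac3c8b)
  (nat_lit 36736) (nat_lit 0xd61e45) (.node .nil (nat_lit 0xac47c9) (nat_lit 28641) (nat_lit 0xe18b87) .nil)))
  (nat_lit 0xac5356) (nat_lit 11761) (nat_lit 0x6a4aa7) (.node (.node (.node (.node .nil (nat_lit 0xac7a68)
  (nat_lit 36624) (nat_lit 0x963d34) .nil) (nat_lit 0xac8cec) (nat_lit 38736) (nat_lit 0x964676) .nil)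
  (nat_lit 0xac9873) (nat_lit 5697) (nat_lit 0xc86a3d) (.node .nil (nat_lit 0xaca5d2) (nat_lit 26481) (nat_lit
  0x694f0d) .nil)) (nat_lit 0xacb14d) (nat_lit 33856) (nat_lit 0xd658a6) (.node (.node (.node .nil (nat_lit
  0xacca0f) (nat_lit 640) (nat_lit 0xd66507) .nil) (nat_lit 0xacde90) (nat_lit 32017) (nat_lit 0x4143bf) .nil)
  (nat_lit 0xace331) (nat_lit 30576) (nat_lit 0xd67198) (.node .nil (nat_lit 0xad0e39) (nat_lit 40816)
  (nat_lit 0xd6871c) .nil)))))))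
def tD_11 : T := (.node (.node (.node (.node (.node (.node (.node (.node .nil (nat_lit 0xad2707) (nat_lit
  7169) (nat_lit 0xfa0785) .nil) (nat_lit 0xad3398) (nat_lit 26129) (nat_lit 0x71c6a5) .nil) (nat_lit
  0xad48da) (nat_lit 5249) (nat_lit 0x59ca17) (.node (.node .nil (nat_lit 0xad5c45) (nat_lit 2736) (nat_lit
  0xd6ae22) .nil) (nat_lit 0xad61e4) (nat_lit 8993) (nat_lit 0x732e07) .nil)) (nat_lit 0xad9760) (nat_lit
  31569) (nat_lit 0x702bad) (.node (.node (.node .nil (nat_lit 0xadaac1) (nat_lit 2689) (nat_lit 0xd10e9d)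
  .nil) (nat_lit 0xadc51c) (nat_lit 40304) (nat_lit 0x96e28e) .nil) (nat_lit 0xadd183) (nat_lit 25057)
  (nat_lit 0xf9022f) (.node .nil (nat_lit 0xadec22) (nat_lit 17792) (nat_lit 0x96f611) .nil))) (nat_lit
  0xae0b93) (nat_lit 352) (nat_lit 0xd705c9) (.node (.node (.node (.node .nil (nat_lit 0xae1f0c) (nat_lit
  24881) (nat_lit 0x6683b5) .nil) (nat_lit 0xae22ad) (nat_lit 753) (nat_lit 0xc7a685) .nil) (nat_lit 0xae3632)
  (nat_lit 20080) (nat_lit 0x971b19) (.node .nil (nat_lit 0xae4d70) (nat_lit 7105) (nat_lit 0x646b17) .nil))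
  (nat_lit 0xae644e) (nat_lit 12945) (nat_lit 0x4e8f07) (.node (.node (.node .nil (nat_lit 0xae70d1) (nat_lit
  17521) (nat_lit 0xc54e27) .nil) (nat_lit 0xae8655) (nat_lit 36304) (nat_lit 0xd7432a) .nil) (nat_lit
  0xae92ca) (nat_lit 28240) (nat_lit 0x974965) (.node .nil (nat_lit 0xaec0b6) (nat_lit 32800) (nat_lit
  0x97605b) .nil)))) (nat_lit 0xaed429) (nat_lit 33985) (nat_lit 0xc4a32f) (.node (.node (.node (.node (.node
  .nil (nat_lit 0xaee988) (nat_lit 6576) (nat_lit 0x9774c4) .nil) (nat_lit 0xaf101f) (nat_lit 33137) (nat_lit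
  0xdec225) .nil) (nat_lit 0xaf3921) (nat_lit 21664) (nat_lit 0xd79c90) (.node .nil (nat_lit 0xaf4263)
  (nat_lit 35152) (nat_lit 0xd7a131) .nil)) (nat_lit 0xaf8946) (nat_lit 22433) (nat_lit 0x7e0a1d) (.node
  (.node (.node .nil (nat_lit 0xafa078) (nat_lit 19681) (nat_lit 0x54ee0d) .nil) (nat_lit 0xaff204) (nat_lit
  29665) (nat_lit 0x5606af) .nil) (nat_lit 0xb02d97) (nat_lit 1393) (nat_lit 0xab5711) (.node .nil (nat_lit
  0xb056d5) (nat_lit 31520) (nat_lit 0xd82b6a) .nil))) (nat_lit 0xb06b74) (nat_lit 11184) (nat_lit 0x9835ba)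
  (.node (.node (.node (.node .nil (nat_lit 0xb0896f) (nat_lit 29408) (nat_lit 0xd844b7) .nil) (nat_lit
  0xb09df0) (nat_lit 33232) (nat_lit 0x984ef8) .nil) (nat_lit 0xb0b4ce) (nat_lit 5136) (nat_lit 0x985a67)
  (.node .nil (nat_lit 0xb0cf8c) (nat_lit 31232) (nat_lit 0x9867c6) .nil)) (nat_lit 0xb0db13) (nat_lit 13761)
  (nat_lit 0xa852bb) (.node (.node (.node .nil (nat_lit 0xb0e6b2) (nat_lit 20960) (nat_lit 0x987359) .nil)
  (nat_lit 0xb0f22d) (nat_lit 40545) (nat_lit 0x82b6ab) .nil) (nat_lit 0xb10bba) (nat_lit 28401) (nat_lit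
  0x39f291) (.node .nil (nat_lit 0xb11f25) (nat_lit 1952) (nat_lit 0xd88f92) .nil))))) (nat_lit 0xb1361b)
  (nat_lit 7041) (nat_lit 0x98d7a1) (.node (.node (.node (.node (.node (.node .nil (nat_lit 0xb14d59) (nat_lit
  22913) (nat_lit 0xb0db13) .nil) (nat_lit 0xb159c6) (nat_lit 10208) (nat_lit 0x98ace3) .nil) (nat_lit
  0xb16467) (nat_lit 26976) (nat_lit 0xd8b233) (.node .nil (nat_lit 0xb170f8) (nat_lit 17440) (nat_lit
  0x98b87c) .nil)) (nat_lit 0xb1867c) (nat_lit 36225) (nat_lit 0x12fb89) (.node (.node (.node .nil (nat_lit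
  0xb192e3) (nat_lit 37664) (nat_lit 0xd8c971) .nil) (nat_lit 0xb1af42) (nat_lit 7024) (nat_lit 0x98d7a1)
  .nil) (nat_lit 0xb1c09f) (nat_lit 36544) (nat_lit 0xd8e04f) (.node .nil (nat_lit 0xb1e9a1) (nat_lit 12737)
  (nat_lit 0xb1361b) .nil))) (nat_lit 0xb21a8f) (nat_lit 35936) (nat_lit 0xd90d47) (.node (.node (.node (.node
  .nil (nat_lit 0xb2272e) (nat_lit 33313) (nat_lit 0x2eb781) .nil) (nat_lit 0xb233b1) (nat_lit 22209) (nat_lit
  0xa576a1) .nil) (nat_lit 0xb248f3) (nat_lit 17152) (nat_lit 0xd92479) (.node .nil (nat_lit 0xb25c6c)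
  (nat_lit 29569) (nat_lit 441139) .nil)) (nat_lit 0xb261cd) (nat_lit 18368) (nat_lit 0xd930e6) (.node (.node
  (.node .nil (nat_lit 0xb27552) (nat_lit 25729) (nat_lit 0x2c5f23) .nil) (nat_lit 0xb283d6) (nat_lit 9377)
  (nat_lit 0x2f5a89) .nil) (nat_lit 0xb29749) (nat_lit 18817) (nat_lit 0xa49ba9) (.node .nil (nat_lit
  0xb2aae8) (nat_lit 14208) (nat_lit 0x995574) .nil)))) (nat_lit 0xb2c535) (nat_lit 35969) (nat_lit 0xa6730b)
  (.node (.node (.node (.node (.node .nil (nat_lit 0xb2d1aa) (nat_lit 26081) (nat_lit 0x2db22b) .nil) (nat_lit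
  0xb2ec0b) (nat_lit 40225) (nat_lit 0x8c971b) .nil) (nat_lit 0xb2f894) (nat_lit 30208) (nat_lit 0x997c4a)
  (.node .nil (nat_lit 0xb3159c) (nat_lit 37840) (nat_lit 0x998ace) .nil)) (nat_lit 0xb3283d) (nat_lit 2544)
  (nat_lit 0xd9941e) (.node (.node (.node .nil (nat_lit 0xb33ca2) (nat_lit 11921) (nat_lit 0x1d3731) .nil)
  (nat_lit 0xb347e0) (nat_lit 28720) (nat_lit 0x99a3f0) .nil) (nat_lit 0xb37a41) (nat_lit 40385) (nat_lit
  0x941eb3) (.node .nil (nat_lit 0xb38cc5) (nat_lit 20097) (nat_lit 0x971b19) .nil))) (nat_lit 0xb3985a)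
  (nat_lit 41152) (nat_lit 0x99cc2d) (.node (.node (.node (.node .nil (nat_lit 0xb3b164) (nat_lit 4577)
  (nat_lit 0x363e29) .nil) (nat_lit 0xb3ca26) (nat_lit 10688) (nat_lit 0x99e513) .nil) (nat_lit 0xb3e318)
  (nat_lit 17328) (nat_lit 0x99f18c) (.node .nil (nat_lit 0xb411db) (nat_lit 24529) (nat_lit 0xe9da21) .nil))
  (nat_lit 0xb42c7a) (nat_lit 36784) (nat_lit 0x9a163d) (.node (.node (.node .nil (nat_lit 0xb438e5) (nat_lit
  23489) (nat_lit 0xc33e31) .nil) (nat_lit 0xb443a7) (nat_lit 337) (nat_lit 0xeb3283) .nil) (nat_lit 0xb45738)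
  (nat_lit 10801) (nat_lit 0x60f3a3) (.node .nil (nat_lit 0xb46a99) (nat_lit 20481) (nat_lit 0xc1d693)
  .nil)))))) (nat_lit 0xb47e06) (nat_lit 25601) (nat_lit 0x4a17b3) (.node (.node (.node (.node (.node (.node
  (.node .nil (nat_lit 0xb49c1d) (nat_lit 21776) (nat_lit 0xda4e0e) .nil) (nat_lit 0xb4a1bc) (nat_lit 18512)
  (nat_lit 0x9a50de) .nil) (nat_lit 0xb4b523) (nat_lit 33713) (nat_lit 0xe83729) (.node .nil (nat_lit
  0xb4ce61) (nat_lit 39601) (nat_lit 0xc03b9b) .nil)) (nat_lit 0xb4f3c0) (nat_lit 37425) (nat_lit 0x611eab)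
  (.node (.node (.node .nil (nat_lit 0xb50a57) (nat_lit 14288) (nat_lit 0xda852b) .nil) (nat_lit 0xb51ec8)
  (nat_lit 36497) (nat_lit 0x519bb1) .nil) (nat_lit 0xb52369) (nat_lit 4177) (nat_lit 0xf0be81) (.node .nil
  (nat_lit 0xb54cb4) (nat_lit 20384) (nat_lit 0x9aa65a) .nil))) (nat_lit 0xb5582b) (nat_lit 13440) (nat_lit
  0xdaac15) (.node (.node (.node (.node .nil (nat_lit 0xb5658a) (nat_lit 4817) (nat_lit 0x799703) .nil)
  (nat_lit 0xb57115) (nat_lit 9856) (nat_lit 0xdab88a) .nil) (nat_lit 0xb58791) (nat_lit 25568) (nat_lit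
  0xdac3c8) (.node .nil (nat_lit 0xb5930e) (nat_lit 19152) (nat_lit 0x9ac987) .nil)) (nat_lit 0xb5ba30)
  (nat_lit 39825) (nat_lit 0x5076b9) (.node (.node (.node .nil (nat_lit 0xb5c172) (nat_lit 6033) (nat_lit
  0x787a0b) .nil) (nat_lit 0xb5e84c) (nat_lit 28769) (nat_lit 0x529e1b) .nil) (nat_lit 0xb61b62) (nat_lit
  27472) (nat_lit 0x9b0db1) (.node .nil (nat_lit 0xb626c3) (nat_lit 34576) (nat_lit 0xdb1361) .nil))))
  (nat_lit 0xb6325c) (nat_lit 25889) (nat_lit 0x46dea1) (.node (.node (.node (.node (.node .nil (nat_lit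
  0xb6491e) (nat_lit 29488) (nat_lit 0x9b248f) .nil) (nat_lit 0xb65d81) (nat_lit 21872) (nat_lit 0xdb2ec0)
  .nil) (nat_lit 0xb6823b) (nat_lit 21617) (nat_lit 0xccf289) (.node .nil (nat_lit 0xb696a4) (nat_lit 19617)
  (nat_lit 0x4733a9) .nil)) (nat_lit 0xb6ab05) (nat_lit 9696) (nat_lit 0xdb5582) (.node (.node (.node .nil
  (nat_lit 0xb6c4d8) (nat_lit 30145) (nat_lit 0x45db0b) .nil) (nat_lit 0xb6d047) (nat_lit 26049) (nat_lit
  0xce1a2b) .nil) (nat_lit 0xb700ee) (nat_lit 25281) (nat_lit 0x5fba01) (.node .nil (nat_lit 0xb71471)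
  (nat_lit 13057) (nat_lit 0xd47b21) .nil))) (nat_lit 0xb729d0) (nat_lit 17360) (nat_lit 0x9b94e8) (.node
  (.node (.node (.node .nil (nat_lit 0xb7460d) (nat_lit 39425) (nat_lit 0xd69383) .nil) (nat_lit 0xb75292)
  (nat_lit 15153) (nat_lit 0x5d52a3) .nil) (nat_lit 0xb78d28) (nat_lit 24289) (nat_lit 0x74b319) (.node .nil
  (nat_lit 0xb7a416) (nat_lit 8737) (nat_lit 0x5e5709) .nil)) (nat_lit 0xb7b089) (nat_lit 25617) (nat_lit
  0xd59629) (.node (.node (.node .nil (nat_lit 0xb80773) (nat_lit 40320) (nat_lit 0xdc03b9) .nil) (nat_lit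
  0xb813ec) (nat_lit 1233) (nat_lit 0x23baa5) .nil) (nat_lit 0xb82e4d) (nat_lit 1408) (nat_lit 0xdc1726)
  (.node .nil (nat_lit 0xb83ad2) (nat_lit 10177) (nat_lit 614069) .nil))))) (nat_lit 0xb8550f) (nat_lit 3025)
  (nat_lit 0xaa9327) (.node (.node (.node (.node (.node (.node .nil (nat_lit 0xb868ae) (nat_lit 35536)
  (nat_lit 0x9c3457) .nil) (nat_lit 0xb87c31) (nat_lit 31793) (nat_lit 0x807737) .nil) (nat_lit 0xb88ab5)
  (nat_lit 2976) (nat_lit 0xdc455a) (.node .nil (nat_lit 0xb89e2a) (nat_lit 14416) (nat_lit 0x9c4f15) .nil))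
  (nat_lit 0xb8a38b) (nat_lit 28417) (nat_lit 0xa9968d) (.node (.node (.node .nil (nat_lit 0xb8b714) (nat_lit
  30529) (nat_lit 0x2257ad) .nil) (nat_lit 0xb8cc56) (nat_lit 26448) (nat_lit 0x9c662b) .nil) (nat_lit
  0xb8d8c9) (nat_lit 9409) (nat_lit 0x819a3f) (.node .nil (nat_lit 0xb8e568) (nat_lit 18976) (nat_lit
  0x9c72b4) .nil))) (nat_lit 0xb9215e) (nat_lit 28913) (nat_lit 0x3ade05) (.node (.node (.node (.node .nil
  (nat_lit 0xb935c1) (nat_lit 3825) (nat_lit 0xb11f25) .nil) (nat_lit 0xb94e83) (nat_lit 34097) (nat_lit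
  0x991397) .nil) (nat_lit 0xb95a1c) (nat_lit 28016) (nat_lit 0x9cad0e) (.node .nil (nat_lit 0xb97322)
  (nat_lit 28928) (nat_lit 0x9cb991) .nil)) (nat_lit 0xb985a6) (nat_lit 38177) (nat_lit 0x3b330d) (.node
  (.node (.node .nil (nat_lit 0xb99139) (nat_lit 9488) (nat_lit 0xdcc89c) .nil) (nat_lit 0xb9ac98) (nat_lit
  22817) (nat_lit 0x11d71d) .nil) (nat_lit 0xb9b807) (nat_lit 36384) (nat_lit 0xdcdc03) (.node .nil (nat_lit
  0xb9c345) (nat_lit 36560) (nat_lit 0xdce1a2) .nil)))) (nat_lit 0xba0dca) (nat_lit 25665) (nat_lit 0x2d9b15)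
  (.node (.node (.node (.node (.node .nil (nat_lit 0xba1955) (nat_lit 24209) (nat_lit 0xa65a35) .nil) (nat_lit
  0xba24f4) (nat_lit 24784) (nat_lit 0x9d127a) .nil) (nat_lit 0xba306b) (nat_lit 28304) (nat_lit 0xdd1835)
  (.node .nil (nat_lit 0xba4b29) (nat_lit 28545) (nat_lit 0xa4b297) .nil)) (nat_lit 0xba6217) (nat_lit 14592)
  (nat_lit 0xdd310b) (.node (.node (.node .nil (nat_lit 0xba7688) (nat_lit 4481) (nat_lit 366503) .nil)
  (nat_lit 0xba9493) (nat_lit 19920) (nat_lit 0xdd4a49) .nil) (nat_lit 0xbaa932) (nat_lit 29937) (nat_lit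
  0x2c761d) (.node .nil (nat_lit 0xbad270) (nat_lit 19264) (nat_lit 0x9d6938) .nil))) (nat_lit 0xbb02d9)
  (nat_lit 38672) (nat_lit 0xdd816c) (.node (.node (.node (.node .nil (nat_lit 0xbb1646) (nat_lit 34672)
  (nat_lit 0x9d8b23) .nil) (nat_lit 0xbb443a) (nat_lit 7745) (nat_lit 0x1cf307) .nil) (nat_lit 0xbb50a5)
  (nat_lit 39633) (nat_lit 0x973227) (.node .nil (nat_lit 0xbb6d04) (nat_lit 14369) (nat_lit 0x361717) .nil))
  (nat_lit 0xbb9b80) (nat_lit 24928) (nat_lit 0x9dcdc0) (.node (.node (.node .nil (nat_lit 0xbba621) (nat_lit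
  20656) (nat_lit 0xddd310) .nil) (nat_lit 0xbbe0c2) (nat_lit 17617) (nat_lit 0x1d1e0f) .nil) (nat_lit
  0xbc069e) (nat_lit 33249) (nat_lit 0x4bd385) (.node .nil (nat_lit 0xbc2fa0) (nat_lit 849) (nat_lit 0x613795)
  .nil)))))))
def tD_12 : T := (.node (.node (.node (.node (.node (.node (.node (.node .nil (nat_lit 0xbc54e2) (nat_lit
  22128) (nat_lit 0x9e2a71) .nil) (nat_lit 0xbc6943) (nat_lit 21729) (nat_lit 0xe81e17) .nil) (nat_lit
  0xbc8b58) (nat_lit 16545) (nat_lit 0x60da9d) (.node (.node .nil (nat_lit 0xbca266) (nat_lit 26321) (nat_lit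
  0x4a3e8d) .nil) (nat_lit 0xbcd924) (nat_lit 24977) (nat_lit 0x62323f) .nil)) (nat_lit 0xbce485) (nat_lit
  21600) (nat_lit 0xde7242) (.node (.node (.node .nil (nat_lit 0xbcf01a) (nat_lit 12817) (nat_lit 0x48d62f)
  .nil) (nat_lit 0xbd098d) (nat_lit 39440) (nat_lit 0xde84c6) .nil) (nat_lit 0xbd1d12) (nat_lit 34481)
  (nat_lit 0x785335) (.node .nil (nat_lit 0xbd20b3) (nat_lit 34944) (nat_lit 0xde9059) .nil))) (nat_lit
  0xbd342c) (nat_lit 2912) (nat_lit 0x9e9a16) (.node (.node (.node (.node .nil (nat_lit 0xbd6650) (nat_lit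
  35521) (nat_lit 0x505f87) .nil) (nat_lit 0xbd844b) (nat_lit 33120) (nat_lit 0xdec225) .nil) (nat_lit
  0xbd90d4) (nat_lit 2608) (nat_lit 0x9ec86a) (.node .nil (nat_lit 0xbdc2a8) (nat_lit 15393) (nat_lit
  0x51b28f) .nil)) (nat_lit 0xbe0c27) (nat_lit 24161) (nat_lit 0xce3315) (.node (.node (.node .nil (nat_lit
  0xbe18b8) (nat_lit 26096) (nat_lit 0x9f0c5c) .nil) (nat_lit 0xbe2519) (nat_lit 17281) (nat_lit 0xe4d705)
  .nil) (nat_lit 0xbe3186) (nat_lit 12305) (nat_lit 0x6f1625) (.node .nil (nat_lit 0xbe4ac4) (nat_lit 6048)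
  (nat_lit 0x9f2562) .nil)))) (nat_lit 0xbe81e1) (nat_lit 38208) (nat_lit 0xdf40f0) (.node (.node (.node
  (.node (.node .nil (nat_lit 0xbebc40) (nat_lit 13329) (nat_lit 0x441f3d) .nil) (nat_lit 0xbec702) (nat_lit
  29553) (nat_lit 0x6c138f) .nil) (nat_lit 0xbf0334) (nat_lit 17824) (nat_lit 0x9f819a) (.node .nil (nat_lit
  0xbf2a0a) (nat_lit 19232) (nat_lit 0x9f9505) .nil)) (nat_lit 0xbf5148) (nat_lit 32593) (nat_lit 0x749a27)
  (.node (.node (.node .nil (nat_lit 0xbfc811) (nat_lit 21472) (nat_lit 0xdfe408) .nil) (nat_lit 0xc03b9b)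
  (nat_lit 33489) (nat_lit 0xa9c4f1) .nil) (nat_lit 0xc069e7) (nat_lit 8576) (nat_lit 0xe034f3) (.node .nil
  (nat_lit 0xc07d78) (nat_lit 9072) (nat_lit 0xa03ebc) .nil))) (nat_lit 0xc08bfc) (nat_lit 529) (nat_lit
  0x23e8d9) (.node (.node (.node (.node .nil (nat_lit 0xc09f63) (nat_lit 8928) (nat_lit 0xe04fb1) .nil)
  (nat_lit 0xc0b65d) (nat_lit 5360) (nat_lit 0xe05b2e) .nil) (nat_lit 0xc0cd1f) (nat_lit 2593) (nat_lit
  0xaac15b) (.node .nil (nat_lit 0xc0f0be) (nat_lit 36977) (nat_lit 779371) .nil)) (nat_lit 0xc11db6) (nat_lit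
  1105) (nat_lit 0x3b6171) (.node (.node (.node .nil (nat_lit 0xc14fca) (nat_lit 30769) (nat_lit 0x3989d3)
  .nil) (nat_lit 0xc15b55) (nat_lit 27089) (nat_lit 0xb248f3) .nil) (nat_lit 0xc166f4) (nat_lit 21216)
  (nat_lit 0xa0b37a) (.node .nil (nat_lit 0xc1726b) (nat_lit 9984) (nat_lit 0xe0b935) .nil))))) (nat_lit
  0xc184ef) (nat_lit 38337) (nat_lit 0x9ba949) (.node (.node (.node (.node (.node (.node .nil (nat_lit
  0xc1add1) (nat_lit 29792) (nat_lit 0xe0d6e8) .nil) (nat_lit 0xc1b94e) (nat_lit 19120) (nat_lit 0xa0dca7)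
  .nil) (nat_lit 0xc1d693) (nat_lit 11872) (nat_lit 0xe0eb49) (.node .nil (nat_lit 0xc1eb32) (nat_lit 38577)
  (nat_lit 0x3864db) .nil)) (nat_lit 0xc225bd) (nat_lit 21761) (nat_lit 0xa7e541) (.node (.node (.node .nil
  (nat_lit 0xc2635e) (nat_lit 36817) (nat_lit 0x2eccc3) .nil) (nat_lit 0xc277c1) (nat_lit 38001) (nat_lit
  0xa50de3) .nil) (nat_lit 0xc295da) (nat_lit 6144) (nat_lit 0xa14aed) (.node .nil (nat_lit 0xc2a87b) (nat_lit
  9441) (nat_lit 0x8cec59) .nil))) (nat_lit 0xc2bce4) (nat_lit 20752) (nat_lit 0xa15e72) (.node (.node (.node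
  (.node .nil (nat_lit 0xc2c7a6) (nat_lit 33441) (nat_lit 0x2f21cb) .nil) (nat_lit 0xc2d339) (nat_lit 16944)
  (nat_lit 0xe1699c) .nil) (nat_lit 0xc2ee98) (nat_lit 19088) (nat_lit 0xa1774c) (.node .nil (nat_lit
  0xc2fa07) (nat_lit 7888) (nat_lit 0xe17d03) .nil)) (nat_lit 0xc3170f) (nat_lit 28624) (nat_lit 0xe18b87)
  (.node (.node (.node .nil (nat_lit 0xc32aae) (nat_lit 2001) (nat_lit 0x1fa4d1) .nil) (nat_lit 0xc33e31)
  (nat_lit 14145) (nat_lit 0x9465f1) .nil) (nat_lit 0xc34573) (nat_lit 32065) (nat_lit 0xbc6943) (.node .nil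
  (nat_lit 0xc351ec) (nat_lit 16913) (nat_lit 0x37a863) .nil)))) (nat_lit 0xc36c4d) (nat_lit 33056) (nat_lit
  0xe1b626) (.node (.node (.node (.node (.node .nil (nat_lit 0xc378d2) (nat_lit 14481) (nat_lit 0x1d4c73)
  .nil) (nat_lit 0xc38e56) (nat_lit 22609) (nat_lit 0x1e49d9) .nil) (nat_lit 0xc39ac9) (nat_lit 28513)
  (nat_lit 0x9588f9) (.node .nil (nat_lit 0xc3a768) (nat_lit 36256) (nat_lit 0xa1d3b4) .nil)) (nat_lit
  0xc3c8b5) (nat_lit 32817) (nat_lit 0x97605b) (.node (.node (.node .nil (nat_lit 0xc3dc2a) (nat_lit 36417)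
  (nat_lit 0x1ca17b) .nil) (nat_lit 0xc3e18b) (nat_lit 39248) (nat_lit 0xe1f0c5) .nil) (nat_lit 0xc3f514)
  (nat_lit 17120) (nat_lit 0xa1fa8a) (.node .nil (nat_lit 0xc407d7) (nat_lit 9728) (nat_lit 0xe203eb) .nil)))
  (nat_lit 0xc42ee9) (nat_lit 1568) (nat_lit 0xe21774) (.node (.node (.node (.node .nil (nat_lit 0xc43a76)
  (nat_lit 5168) (nat_lit 0xa21d3b) .nil) (nat_lit 0xc455ab) (nat_lit 5425) (nat_lit 0xe9a163) .nil) (nat_lit
  0xc47c95) (nat_lit 7312) (nat_lit 0xe23e4a) (.node .nil (nat_lit 0xc49e8e) (nat_lit 1440) (nat_lit 0xa24f47)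
  .nil)) (nat_lit 0xc4a32f) (nat_lit 24016) (nat_lit 0xe25197) (.node (.node (.node .nil (nat_lit 0xc4b7b0)
  (nat_lit 1169) (nat_lit 0x6165e9) .nil) (nat_lit 0xc4ccf2) (nat_lit 33264) (nat_lit 0xa26679) .nil) (nat_lit
  0xc4d86d) (nat_lit 16737) (nat_lit 0xc2a87b) (.node .nil (nat_lit 0xc4e5cc) (nat_lit 24592) (nat_lit
  0xa272e6) .nil)))))) (nat_lit 0xc4f153) (nat_lit 27889) (nat_lit 0xe84c6b) (.node (.node (.node (.node
  (.node (.node (.node .nil (nat_lit 0xc51c5b) (nat_lit 37681) (nat_lit 0xd8c971) .nil) (nat_lit 0xc521fa)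
  (nat_lit 9121) (nat_lit 0x79ec41) .nil) (nat_lit 0xc53565) (nat_lit 25473) (nat_lit 0xf22d61) (.node .nil
  (nat_lit 0xc54e27) (nat_lit 9889) (nat_lit 0xda21d3) .nil)) (nat_lit 0xc55ab8) (nat_lit 15616) (nat_lit
  0xa2ad5c) (.node (.node (.node .nil (nat_lit 0xc56719) (nat_lit 18465) (nat_lit 0xf0c5c3) .nil) (nat_lit
  0xc57386) (nat_lit 22641) (nat_lit 0x7b04e3) .nil) (nat_lit 0xc5919d) (nat_lit 23712) (nat_lit 0xe2c8ce)
  (.node .nil (nat_lit 0xc5ac3c) (nat_lit 35824) (nat_lit 0xa2d61e) .nil))) (nat_lit 0xc5b8a3) (nat_lit 17169)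
  (nat_lit 0xd92479) (.node (.node (.node (.node .nil (nat_lit 0xc5c3e1) (nat_lit 7408) (nat_lit 0xe2e1f0)
  .nil) (nat_lit 0xc5fe40) (nat_lit 33408) (nat_lit 0xa2ff20) .nil) (nat_lit 0xc60d6e) (nat_lit 8545) (nat_lit
  0x6ea951) (.node .nil (nat_lit 0xc619f1) (nat_lit 17712) (nat_lit 0xe30cf8) .nil)) (nat_lit 0xc630cf)
  (nat_lit 13793) (nat_lit 0xcf8c61) (.node (.node (.node .nil (nat_lit 0xc64b8d) (nat_lit 30305) (nat_lit
  0xe780d3) .nil) (nat_lit 0xc65f12) (nat_lit 39664) (nat_lit 0xa32f89) .nil) (nat_lit 0xc662b3) (nat_lit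
  10993) (nat_lit 0xcd64c3) (.node .nil (nat_lit 0xc6762c) (nat_lit 23633) (nat_lit 0x46a5e3) .nil))))
  (nat_lit 0xc69437) (nat_lit 40864) (nat_lit 0xe34a1b) (.node (.node (.node (.node (.node .nil (nat_lit
  0xc6a996) (nat_lit 26177) (nat_lit 0x6f4459) .nil) (nat_lit 0xc6bd09) (nat_lit 20513) (nat_lit 0xe48579)
  .nil) (nat_lit 0xc6c64b) (nat_lit 24145) (nat_lit 0xcc89cb) (.node .nil (nat_lit 0xc6d2d4) (nat_lit 20832)
  (nat_lit 0xa3696a) .nil)) (nat_lit 0xc7027d) (nat_lit 10256) (nat_lit 0xe3813e) (.node (.node (.node .nil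
  (nat_lit 0xc716e2) (nat_lit 19553) (nat_lit 0x5d29e1) .nil) (nat_lit 0xc72b43) (nat_lit 14176) (nat_lit
  0xe395a1) .nil) (nat_lit 0xc7449e) (nat_lit 18641) (nat_lit 0x5fc143) (.node .nil (nat_lit 0xc76da0)
  (nat_lit 6465) (nat_lit 0x752553) .nil))) (nat_lit 0xc79b24) (nat_lit 40480) (nat_lit 0xa3cd92) (.node
  (.node (.node (.node .nil (nat_lit 0xc7a685) (nat_lit 369) (nat_lit 0xd705c9) .nil) (nat_lit 0xc7b21a)
  (nat_lit 20417) (nat_lit 0x5cc4e9) .nil) (nat_lit 0xc7c958) (nat_lit 35473) (nat_lit 0x74c85b) (.node .nil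
  (nat_lit 0xc7e066) (nat_lit 21089) (nat_lit 0x5e2c4b) .nil)) (nat_lit 0xc8117f) (nat_lit 38528) (nat_lit
  0xe408bf) (.node (.node (.node .nil (nat_lit 0xc82cde) (nat_lit 32753) (nat_lit 773461) .nil) (nat_lit
  0xc8579c) (nat_lit 3440) (nat_lit 0xa42bce) .nil) (nat_lit 0xc86a3d) (nat_lit 2961) (nat_lit 0x82e4d7)
  (.node .nil (nat_lit 0xc87ea2) (nat_lit 15888) (nat_lit 0xa43f51) .nil))))) (nat_lit 0xc89cb9) (nat_lit
  4496) (nat_lit 0xe44e5c) (.node (.node (.node (.node (.node (.node .nil (nat_lit 0xc8b587) (nat_lit 9345)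
  (nat_lit 0xab056d) .nil) (nat_lit 0xc8cec5) (nat_lit 38961) (nat_lit 0x8309df) .nil) (nat_lit 0xc8da5a)
  (nat_lit 16272) (nat_lit 0xa46d2d) (.node .nil (nat_lit 0xc8f364) (nat_lit 36097) (nat_lit 0x222cef) .nil))
  (nat_lit 0xc90af3) (nat_lit 20496) (nat_lit 0xe48579) (.node (.node (.node .nil (nat_lit 0xc91e6c) (nat_lit
  12545) (nat_lit 0x12a9f5) .nil) (nat_lit 0xc923cd) (nat_lit 30433) (nat_lit 0xb38cc5) .nil) (nat_lit
  0xc93752) (nat_lit 18800) (nat_lit 0xa49ba9) (.node .nil (nat_lit 0xc9588f) (nat_lit 31617) (nat_lit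
  0x9b8077) .nil))) (nat_lit 0xc9652e) (nat_lit 24657) (nat_lit 0x3aa547) (.node (.node (.node (.node .nil
  (nat_lit 0xc971b1) (nat_lit 36273) (nat_lit 0xb16467) .nil) (nat_lit 0xc98735) (nat_lit 28529) (nat_lit
  0xb261cd) .nil) (nat_lit 0xc993aa) (nat_lit 40800) (nat_lit 0xa4c9d5) (.node .nil (nat_lit 0xc9ae0b)
  (nat_lit 17264) (nat_lit 0xe4d705) .nil)) (nat_lit 0xc9ba94) (nat_lit 26768) (nat_lit 0xa4dd4a) (.node
  (.node (.node .nil (nat_lit 0xc9c1d6) (nat_lit 5633) (nat_lit 0x3b484f) .nil) (nat_lit 0xc9d549) (nat_lit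
  37873) (nat_lit 0xb0896f) .nil) (nat_lit 0xc9e8e8) (nat_lit 3328) (nat_lit 0xa4f474) (.node .nil (nat_lit
  0xca0f59) (nat_lit 26464) (nat_lit 0xe507ac) .nil)))) (nat_lit 0xca1bc6) (nat_lit 37984) (nat_lit 0xa50de3)
  (.node (.node (.node (.node (.node .nil (nat_lit 0xca2667) (nat_lit 28272) (nat_lit 0xe51333) .nil) (nat_lit
  0xca32f8) (nat_lit 23984) (nat_lit 0xa5197c) .nil) (nat_lit 0xca49ba) (nat_lit 32145) (nat_lit 0x2de057)
  (.node .nil (nat_lit 0xca5d25) (nat_lit 36401) (nat_lit 0xa62177) .nil)) (nat_lit 0xca741b) (nat_lit 29393)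
  (nat_lit 0x8cc567) (.node (.node (.node .nil (nat_lit 0xca829f) (nat_lit 26944) (nat_lit 0xe5414f) .nil)
  (nat_lit 0xcaaba1) (nat_lit 33648) (nat_lit 0xe555d0) .nil) (nat_lit 0xcac47c) (nat_lit 19425) (nat_lit
  452943) (.node .nil (nat_lit 0xcad0e3) (nat_lit 19136) (nat_lit 0xe56871) .nil))) (nat_lit 0xcaed42)
  (nat_lit 22192) (nat_lit 0xa576a1) (.node (.node (.node (.node .nil (nat_lit 0xcb14d5) (nat_lit 28257)
  (nat_lit 0x974965) .nil) (nat_lit 0xcb2974) (nat_lit 26912) (nat_lit 0xa594ba) .nil) (nat_lit 0xcb46a9)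
  (nat_lit 37793) (nat_lit 0x95a1c7) (.node .nil (nat_lit 0xcb5236) (nat_lit 21313) (nat_lit 0x1e60e7) .nil))
  (nat_lit 0xcb7b08) (nat_lit 13537) (nat_lit 0x3484f7) (.node (.node (.node .nil (nat_lit 0xcb8d8c) (nat_lit
  14384) (nat_lit 0xa5c6c6) .nil) (nat_lit 0xcb9913) (nat_lit 23441) (nat_lit 0xbc407d) .nil) (nat_lit
  0xcba4b2) (nat_lit 10288) (nat_lit 0xa5d259) (.node .nil (nat_lit 0xcbb02d) (nat_lit 13552) (nat_lit
  0xe5d816) .nil)))))))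
def tD_13 : T := (.node (.node (.node (.node (.node (.node (.node (.node .nil (nat_lit 0xcc2d33) (nat_lit
  2897) (nat_lit 0xe86555) .nil) (nat_lit 0xcc39ac) (nat_lit 6704) (nat_lit 0xa61cd6) .nil) (nat_lit 0xcc42ee)
  (nat_lit 33953) (nat_lit 0x4ba8c7) (.node (.node .nil (nat_lit 0xcc5671) (nat_lit 15249) (nat_lit 0xc069e7)
  .nil) (nat_lit 0xcc6bd0) (nat_lit 1856) (nat_lit 0xa635e8) .nil)) (nat_lit 0xcc89cb) (nat_lit 14688)
  (nat_lit 0xe644e5) (.node (.node (.node .nil (nat_lit 0xcc9d54) (nat_lit 30273) (nat_lit 0x62497d) .nil)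
  (nat_lit 0xcca0f5) (nat_lit 9200) (nat_lit 0xe6507a) .nil) (nat_lit 0xccb46a) (nat_lit 24192) (nat_lit
  0xa65a35) (.node .nil (nat_lit 0xcccf28) (nat_lit 12960) (nat_lit 0xa66794) .nil))) (nat_lit 0xcce616)
  (nat_lit 35952) (nat_lit 0xa6730b) (.node (.node (.node (.node .nil (nat_lit 0xccf289) (nat_lit 12784)
  (nat_lit 0xe67944) .nil) (nat_lit 0xcd0b1e) (nat_lit 17744) (nat_lit 0xa6858f) .nil) (nat_lit 0xcd1f81)
  (nat_lit 39617) (nat_lit 0xf101f5) (.node .nil (nat_lit 0xcd5962) (nat_lit 37344) (nat_lit 0xa6acb1) .nil))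
  (nat_lit 0xcd64c3) (nat_lit 5984) (nat_lit 0xe6b261) (.node (.node (.node .nil (nat_lit 0xcd705c) (nat_lit
  14496) (nat_lit 0xa6b82e) .nil) (nat_lit 0xcd86d8) (nat_lit 10144) (nat_lit 0xa6c36c) .nil) (nat_lit
  0xcd9247) (nat_lit 29440) (nat_lit 0xe6c923) (.node .nil (nat_lit 0xcdc03b) (nat_lit 20928) (nat_lit
  0xe6e01d) .nil)))) (nat_lit 0xcdd4a4) (nat_lit 19888) (nat_lit 0xa6ea52) (.node (.node (.node (.node (.node
  .nil (nat_lit 0xcde905) (nat_lit 30657) (nat_lit 0xf2045f) .nil) (nat_lit 0xce0eb4) (nat_lit 11344) (nat_lit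
  0xa7075a) .nil) (nat_lit 0xce1a2b) (nat_lit 16353) (nat_lit 0xcca0f5) (.node .nil (nat_lit 0xce278a)
  (nat_lit 4273) (nat_lit 0x6d85c5) .nil)) (nat_lit 0xce3315) (nat_lit 14705) (nat_lit 0xe644e5) (.node (.node
  (.node .nil (nat_lit 0xce4857) (nat_lit 41168) (nat_lit 0xe7242b) .nil) (nat_lit 0xce5cc8) (nat_lit 11649)
  (nat_lit 0x458977) .nil) (nat_lit 0xce6169) (nat_lit 40401) (nat_lit 0xe4ac47) (.node .nil (nat_lit
  0xce8372) (nat_lit 35648) (nat_lit 0xa741b9) .nil))) (nat_lit 0xceaa4c) (nat_lit 25905) (nat_lit 0x468cdd)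
  (.node (.node (.node (.node .nil (nat_lit 0xcec591) (nat_lit 15312) (nat_lit 0xe762c8) .nil) (nat_lit
  0xced10e) (nat_lit 36704) (nat_lit 0xa76887) .nil) (nat_lit 0xcef830) (nat_lit 34801) (nat_lit 0x44647f)
  (.node .nil (nat_lit 0xcf01a7) (nat_lit 30288) (nat_lit 0xe780d3) .nil)) (nat_lit 0xcf1538) (nat_lit 13201)
  (nat_lit 0x74e165) (.node (.node (.node .nil (nat_lit 0xcf2899) (nat_lit 28577) (nat_lit 0xd5c455) .nil)
  (nat_lit 0xcf3c06) (nat_lit 6865) (nat_lit 0x5e0575) .nil) (nat_lit 0xcf4744) (nat_lit 20160) (nat_lit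
  0xa7a3a2) (.node .nil (nat_lit 0xcf8c61) (nat_lit 7713) (nat_lit 0xd4295d) .nil))))) (nat_lit 0xcfb1c0)
  (nat_lit 36928) (nat_lit 0xa7d8e0) (.node (.node (.node (.node (.node (.node .nil (nat_lit 0xcfca82)
  (nat_lit 21744) (nat_lit 0xa7e541) .nil) (nat_lit 0xd03c2f) (nat_lit 21712) (nat_lit 0xe81e17) .nil)
  (nat_lit 0xd0476d) (nat_lit 16096) (nat_lit 0xe823b6) (.node .nil (nat_lit 0xd053f2) (nat_lit 25264)
  (nat_lit 0xa829f9) .nil)) (nat_lit 0xd06e53) (nat_lit 5969) (nat_lit 0x885dd3) (.node (.node (.node .nil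
  (nat_lit 0xd07acc) (nat_lit 29537) (nat_lit 236787) .nil) (nat_lit 0xd098d7) (nat_lit 27872) (nat_lit
  0xe84c6b) .nil) (nat_lit 0xd0a576) (nat_lit 1617) (nat_lit 0x2a7d49) (.node .nil (nat_lit 0xd0b1e9) (nat_lit
  20785) (nat_lit 0xa1bc69) .nil))) (nat_lit 0xd0caab) (nat_lit 2880) (nat_lit 0xe86555) (.node (.node (.node
  (.node .nil (nat_lit 0xd0de34) (nat_lit 33616) (nat_lit 0xa86f1a) .nil) (nat_lit 0xd0e395) (nat_lit 39680)
  (nat_lit 0xe871ca) .nil) (nat_lit 0xd0f70a) (nat_lit 39793) (nat_lit 0x2895eb) (.node .nil (nat_lit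
  0xd10e9d) (nat_lit 1344) (nat_lit 0xe8874e) .nil)) (nat_lit 0xd127a3) (nat_lit 7361) (nat_lit 0xb935c1)
  (.node (.node (.node .nil (nat_lit 0xd1333c) (nat_lit 13889) (nat_lit 0x32f4e1) .nil) (nat_lit 0xd1487e)
  (nat_lit 11313) (nat_lit 0x1af853) .nil) (nat_lit 0xd15ce1) (nat_lit 15089) (nat_lit 0x913973) (.node .nil
  (nat_lit 0xd1835b) (nat_lit 16689) (nat_lit 0xb8d8c9) .nil)))) (nat_lit 0xd197c4) (nat_lit 23456) (nat_lit
  0xa8cbe2) (.node (.node (.node (.node (.node .nil (nat_lit 0xd1aa65) (nat_lit 31761) (nat_lit 0x923cd9)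
  .nil) (nat_lit 0xd1c5b8) (nat_lit 9504) (nat_lit 0xa8e2dc) .nil) (nat_lit 0xd1d127) (nat_lit 35136) (nat_lit
  0xe8e893) (.node .nil (nat_lit 0xd1ec86) (nat_lit 21936) (nat_lit 0xa8f643) .nil)) (nat_lit 0xd1f819)
  (nat_lit 10465) (nat_lit 0x90d47b) (.node (.node (.node .nil (nat_lit 0xd20b37) (nat_lit 27537) (nat_lit
  0xae70d1) .nil) (nat_lit 0xd21fa8) (nat_lit 32720) (nat_lit 0xa90fd4) .nil) (nat_lit 0xd23696) (nat_lit
  4897) (nat_lit 0xf55e1) (.node .nil (nat_lit 0xd24dd4) (nat_lit 5872) (nat_lit 0xa926ea) .nil))) (nat_lit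
  0xd2594b) (nat_lit 10497) (nat_lit 0xac9873) (.node (.node (.node (.node .nil (nat_lit 0xd264ea) (nat_lit
  28832) (nat_lit 0xa93275) .nil) (nat_lit 0xd27075) (nat_lit 10337) (nat_lit 0x867c63) .nil) (nat_lit
  0xd286f1) (nat_lit 37376) (nat_lit 0xe94378) (.node .nil (nat_lit 0xd2926e) (nat_lit 25024) (nat_lit
  0xa94937) .nil)) (nat_lit 0xd2bb50) (nat_lit 24560) (nat_lit 0xa95da8) (.node (.node (.node .nil (nat_lit
  0xd2d48d) (nat_lit 27697) (nat_lit 0x87916b) .nil) (nat_lit 0xd2e92c) (nat_lit 24640) (nat_lit 0xa97496)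
  .nil) (nat_lit 0xd310bb) (nat_lit 39089) (nat_lit 0x9df061) (.node .nil (nat_lit 0xd32d1a) (nat_lit 8289)
  (nat_lit 0x3cd551) .nil)))))) (nat_lit 0xd33985) (nat_lit 21969) (nat_lit 0xb71471) (.node (.node (.node
  (.node (.node (.node (.node .nil (nat_lit 0xd342c7) (nat_lit 5408) (nat_lit 0xe9a163) .nil) (nat_lit
  0xd35658) (nat_lit 40128) (nat_lit 0xa9ab2c) .nil) (nat_lit 0xd389e2) (nat_lit 33472) (nat_lit 0xa9c4f1)
  (.node .nil (nat_lit 0xd3a0dc) (nat_lit 28881) (nat_lit 0x17dc49) .nil)) (nat_lit 0xd3b443) (nat_lit 17665)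
  (nat_lit 0x9c1d69) (.node (.node (.node .nil (nat_lit 0xd3cf01) (nat_lit 34385) (nat_lit 0xb411db) .nil)
  (nat_lit 0xd3f2a0) (nat_lit 28801) (nat_lit 0x1534eb) .nil) (nat_lit 0xd414fc) (nat_lit 8864) (nat_lit
  0xaa0a7e) (.node .nil (nat_lit 0xd4295d) (nat_lit 4032) (nat_lit 0xea14ae) .nil))) (nat_lit 0xd43dc2)
  (nat_lit 29825) (nat_lit 0x691d71) (.node (.node (.node (.node .nil (nat_lit 0xd4521f) (nat_lit 29329)
  (nat_lit 0xcad0e3) .nil) (nat_lit 0xd47b21) (nat_lit 7248) (nat_lit 0xea3d90) .nil) (nat_lit 0xd48da5)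
  (nat_lit 14160) (nat_lit 0xea46d2) (.node .nil (nat_lit 0xd4993a) (nat_lit 10624) (nat_lit 0xaa4c9d) .nil))
  (nat_lit 0xd4a49b) (nat_lit 8704) (nat_lit 0xea524d) (.node (.node (.node .nil (nat_lit 0xd4cb46) (nat_lit
  17393) (nat_lit 0x6a18db) .nil) (nat_lit 0xd4e278) (nat_lit 14065) (nat_lit 0x40fccb) .nil) (nat_lit
  0xd50f70) (nat_lit 31089) (nat_lit 0x7079d1) (.node .nil (nat_lit 0xd5264e) (nat_lit 3008) (nat_lit
  0xaa9327) .nil)))) (nat_lit 0xd532d1) (nat_lit 6928) (nat_lit 0xea9968) (.node (.node (.node (.node (.node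
  .nil (nat_lit 0xd54993) (nat_lit 9617) (nat_lit 0xf95053) .nil) (nat_lit 0xd55d0c) (nat_lit 41025) (nat_lit
  0x729173) .nil) (nat_lit 0xd560ad) (nat_lit 19808) (nat_lit 0xeab056) (.node .nil (nat_lit 0xd57432)
  (nat_lit 39137) (nat_lit 0x587563) .nil)) (nat_lit 0xd582b6) (nat_lit 2576) (nat_lit 0xaac15b) (.node (.node
  (.node .nil (nat_lit 0xd59629) (nat_lit 16016) (nat_lit 0xeacb14) .nil) (nat_lit 0xd5ab88) (nat_lit 14224)
  (nat_lit 0xaad5c4) .nil) (nat_lit 0xd5c455) (nat_lit 18401) (nat_lit 0xd2594b) (.node .nil (nat_lit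
  0xd5d0ca) (nat_lit 10833) (nat_lit 0x59986b) .nil))) (nat_lit 0xd60ada) (nat_lit 9328) (nat_lit 0xab056d)
  (.node (.node (.node (.node .nil (nat_lit 0xd61e45) (nat_lit 27761) (nat_lit 0xc619f1) .nil) (nat_lit
  0xd623e4) (nat_lit 26000) (nat_lit 0xab11f2) .nil) (nat_lit 0xd64c39) (nat_lit 36849) (nat_lit 0xc4f153)
  (.node .nil (nat_lit 0xd658a6) (nat_lit 23856) (nat_lit 0xab2c53) .nil)) (nat_lit 0xd66507) (nat_lit 320)
  (nat_lit 0xeb3283) (.node (.node (.node .nil (nat_lit 0xd67198) (nat_lit 20240) (nat_lit 0xab38cc) .nil)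
  (nat_lit 0xd6871c) (nat_lit 37520) (nat_lit 0xab438e) .nil) (nat_lit 0xd69383) (nat_lit 33201) (nat_lit
  0xed10e9) (.node .nil (nat_lit 0xd6ae22) (nat_lit 1376) (nat_lit 0xab5711) .nil))))) (nat_lit 0xd6d560)
  (nat_lit 25009) (nat_lit 0x64396b) (.node (.node (.node (.node (.node (.node .nil (nat_lit 0xd6e8c1)
  (nat_lit 22016) (nat_lit 0xeb7460) .nil) (nat_lit 0xd705c9) (nat_lit 177) (nat_lit 0xf59941) .nil) (nat_lit
  0xd71156) (nat_lit 17105) (nat_lit 0x7e5861) (.node .nil (nat_lit 0xd73868) (nat_lit 25793) (nat_lit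
  0x54bc71) .nil)) (nat_lit 0xd7432a) (nat_lit 27009) (nat_lit 0x7cb0c3) (.node (.node (.node .nil (nat_lit
  0xd76a14) (nat_lit 40736) (nat_lit 0xabb50a) .nil) (nat_lit 0xd7880f) (nat_lit 34961) (nat_lit 0xde9059)
  .nil) (nat_lit 0xd79c90) (nat_lit 12864) (nat_lit 0xabce48) (.node .nil (nat_lit 0xd7a131) (nat_lit 25441)
  (nat_lit 0xf47449) .nil))) (nat_lit 0xd816cb) (nat_lit 9249) (nat_lit 0x8999e5) (.node (.node (.node (.node
  .nil (nat_lit 0xd82b6a) (nat_lit 21201) (nat_lit 0x28bcd5) .nil) (nat_lit 0xd844b7) (nat_lit 19200) (nat_lit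
  0xec225b) .nil) (nat_lit 0xd86d89) (nat_lit 10273) (nat_lit 0xa19557) (.node .nil (nat_lit 0xd87916)
  (nat_lit 36913) (nat_lit 0x2a5477) .nil)) (nat_lit 0xd88f92) (nat_lit 977) (nat_lit 0x2951dd) (.node (.node
  (.node .nil (nat_lit 0xd89b0d) (nat_lit 29680) (nat_lit 0xec4d86) .nil) (nat_lit 0xd8a6ac) (nat_lit 20288)
  (nat_lit 0xac5356) .nil) (nat_lit 0xd8b233) (nat_lit 17073) (nat_lit 0x8874ed) (.node .nil (nat_lit
  0xd8c971) (nat_lit 29104) (nat_lit 0xec64b8) .nil)))) (nat_lit 0xd8e04f) (nat_lit 27505) (nat_lit 0x8a9c4f)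
  (.node (.node (.node (.node (.node .nil (nat_lit 0xd8f4d0) (nat_lit 40624) (nat_lit 0xac7a68) .nil) (nat_lit
  0xd90d47) (nat_lit 26608) (nat_lit 0xec86a3) .nil) (nat_lit 0xd919d8) (nat_lit 17953) (nat_lit 0x31d875)
  (.node .nil (nat_lit 0xd92479) (nat_lit 9681) (nat_lit 0x90fd45) .nil)) (nat_lit 0xd930e6) (nat_lit 10480)
  (nat_lit 0xac9873) (.node (.node (.node .nil (nat_lit 0xd94ba4) (nat_lit 18929) (nat_lit 0x3330d7) .nil)
  (nat_lit 0xd9629a) (nat_lit 39776) (nat_lit 0xacb14d) .nil) (nat_lit 0xd97605) (nat_lit 38593) (nat_lit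
  0x9215e7) (.node .nil (nat_lit 0xd9941e) (nat_lit 1280) (nat_lit 0xacca0f) .nil))) (nat_lit 0xd9bd20)
  (nat_lit 39072) (nat_lit 0xacde90) (.node (.node (.node (.node .nil (nat_lit 0xd9c662) (nat_lit 21585)
  (nat_lit 0x1839cf) .nil) (nat_lit 0xda08ed) (nat_lit 20992) (nat_lit 0xed0476) .nil) (nat_lit 0xda1c72)
  (nat_lit 31921) (nat_lit 817525) (.node .nil (nat_lit 0xda21d3) (nat_lit 5313) (nat_lit 0xad5c45) .nil))
  (nat_lit 0xda354c) (nat_lit 20736) (nat_lit 0xad1aa6) (.node (.node (.node .nil (nat_lit 0xda4e0e) (nat_lit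
  12928) (nat_lit 0xad2707) .nil) (nat_lit 0xda5a91) (nat_lit 26577) (nat_lit 0x8550f7) .nil) (nat_lit
  0xda6730) (nat_lit 35632) (nat_lit 0xad3398) (.node .nil (nat_lit 0xda852b) (nat_lit 8000) (nat_lit
  0xed4295) .nil)))))))
def tD_14 : T := (.node (.node (.node (.node (.node (.node (.node (.node .nil (nat_lit 0xdaac15) (nat_lit
  7505) (nat_lit 0x86555d) .nil) (nat_lit 0xdab88a) (nat_lit 5296) (nat_lit 0xad5c45) .nil) (nat_lit 0xdac3c8)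
  (nat_lit 15984) (nat_lit 0xad61e4) (.node (.node .nil (nat_lit 0xdb1361) (nat_lit 24720) (nat_lit 0xed89b0)
  .nil) (nat_lit 0xdb2ec0) (nat_lit 12993) (nat_lit 0x151dd5) .nil)) (nat_lit 0xdb411d) (nat_lit 35569)
  (nat_lit 0xb6d047) (.node (.node (.node .nil (nat_lit 0xdb5582) (nat_lit 5200) (nat_lit 0xadaac1) .nil)
  (nat_lit 0xdb6823) (nat_lit 30544) (nat_lit 0xedb411) .nil) (nat_lit 0xdb8a38) (nat_lit 41136) (nat_lit
  0xadc51c) (.node .nil (nat_lit 0xdba306) (nat_lit 34912) (nat_lit 0xadd183) .nil))) (nat_lit 0xdbd844)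
  (nat_lit 27904) (nat_lit 0xadec22) (.node (.node (.node (.node .nil (nat_lit 0xdc03b9) (nat_lit 35808)
  (nat_lit 0xee01dc) .nil) (nat_lit 0xdc1726) (nat_lit 704) (nat_lit 0xae0b93) .nil) (nat_lit 0xdc2a87)
  (nat_lit 31808) (nat_lit 0xee1543) (.node .nil (nat_lit 0xdc3e18) (nat_lit 31217) (nat_lit 0x40d5f5) .nil))
  (nat_lit 0xdc455a) (nat_lit 1504) (nat_lit 0xae22ad) (.node (.node (.node .nil (nat_lit 0xdc51c5) (nat_lit
  29072) (nat_lit 0xee28e2) .nil) (nat_lit 0xdc6c64) (nat_lit 21649) (nat_lit 0x423d57) .nil) (nat_lit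
  0xdc9ae0) (nat_lit 12832) (nat_lit 0xae4d70) (.node .nil (nat_lit 0xdca741) (nat_lit 36081) (nat_lit
  0xe01dcd) .nil)))) (nat_lit 0xdcc89c) (nat_lit 5089) (nat_lit 0x43d05f) (.node (.node (.node (.node (.node
  .nil (nat_lit 0xdcdc03) (nat_lit 27184) (nat_lit 0xee6e01) .nil) (nat_lit 0xdce1a2) (nat_lit 27520) (nat_lit
  0xae70d1) .nil) (nat_lit 0xdd0caa) (nat_lit 39889) (nat_lit 0x59b155) (.node .nil (nat_lit 0xdd1835)
  (nat_lit 18177) (nat_lit 0xd27075) .nil)) (nat_lit 0xdd2594) (nat_lit 24177) (nat_lit 0x735545) (.node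
  (.node (.node .nil (nat_lit 0xdd310b) (nat_lit 8193) (nat_lit 0xf89465) .nil) (nat_lit 0xdd4a49) (nat_lit
  11472) (nat_lit 0xeea524) .nil) (nat_lit 0xdd816c) (nat_lit 31137) (nat_lit 0x72b84d) (.node .nil (nat_lit
  0xdda852) (nat_lit 33825) (nat_lit 0x585c5d) .nil))) (nat_lit 0xddd310) (nat_lit 12000) (nat_lit 0xaee988)
  (.node (.node (.node (.node .nil (nat_lit 0xde203e) (nat_lit 24689) (nat_lit 0x4ef445) .nil) (nat_lit
  0xde34a1) (nat_lit 35185) (nat_lit 0xc53565) .nil) (nat_lit 0xde7242) (nat_lit 12769) (nat_lit 0x4c1ce7)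
  (.node .nil (nat_lit 0xde84c6) (nat_lit 33217) (nat_lit 0x4f194d) .nil)) (nat_lit 0xde9059) (nat_lit 25072)
  (nat_lit 0xef482c) (.node (.node (.node .nil (nat_lit 0xdec225) (nat_lit 22945) (nat_lit 0xc630cf) .nil)
  (nat_lit 0xdf0613) (nat_lit 30992) (nat_lit 0xef8309) .nil) (nat_lit 0xdf128c) (nat_lit 32481) (nat_lit
  0x5790e5) (.node .nil (nat_lit 0xdf40f0) (nat_lit 30032) (nat_lit 0xafa078) .nil))))) (nat_lit 0xdfe408)
  (nat_lit 12609) (nat_lit 0x54954f) (.node (.node (.node (.node (.node (.node .nil (nat_lit 0xe01dcd)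
  (nat_lit 26737) (nat_lit 0xa38b71) .nil) (nat_lit 0xe034f3) (nat_lit 4545) (nat_lit 0x896f61) .nil) (nat_lit
  0xe04fb1) (nat_lit 4768) (nat_lit 0xf027d8) (.node .nil (nat_lit 0xe05b2e) (nat_lit 2768) (nat_lit 0xb02d97)
  .nil)) (nat_lit 0xe0668f) (nat_lit 22305) (nat_lit 0x8b87c3) (.node (.node (.node .nil (nat_lit 0xe0adaa)
  (nat_lit 38832) (nat_lit 0xb056d5) .nil) (nat_lit 0xe0b935) (nat_lit 5376) (nat_lit 0xf05c9a) .nil) (nat_lit
  0xe0c277) (nat_lit 32256) (nat_lit 0xf0613b) (.node .nil (nat_lit 0xe0d6e8) (nat_lit 19488) (nat_lit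
  0xb06b74) .nil))) (nat_lit 0xe0eb49) (nat_lit 6512) (nat_lit 0xf075a4) (.node (.node (.node (.node .nil
  (nat_lit 0xe112de) (nat_lit 26865) (nat_lit 0x1bcae1) .nil) (nat_lit 0xe13be0) (nat_lit 33025) (nat_lit
  0x312ef1) .nil) (nat_lit 0xe1543d) (nat_lit 10672) (nat_lit 0xf0aa1e) (.node .nil (nat_lit 0xe1699c)
  (nat_lit 9568) (nat_lit 0xb0b4ce) .nil)) (nat_lit 0xe17d03) (nat_lit 4160) (nat_lit 0xf0be81) (.node (.node
  (.node .nil (nat_lit 0xe18b87) (nat_lit 18448) (nat_lit 0xf0c5c3) .nil) (nat_lit 0xe19f18) (nat_lit 27057)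
  (nat_lit 0x30c3f9) .nil) (nat_lit 0xe1a2b9) (nat_lit 32704) (nat_lit 0xf0d15c) (.node .nil (nat_lit
  0xe1b626) (nat_lit 22896) (nat_lit 0xb0db13) .nil)))) (nat_lit 0xe1cd64) (nat_lit 24897) (nat_lit 0x322b5b)
  (.node (.node (.node (.node (.node .nil (nat_lit 0xe1e45a) (nat_lit 41184) (nat_lit 0xb0f22d) .nil) (nat_lit
  0xe1f0c5) (nat_lit 32528) (nat_lit 0xf0f862) .nil) (nat_lit 0xe203eb) (nat_lit 5217) (nat_lit 0xadaac1)
  (.node .nil (nat_lit 0xe21774) (nat_lit 785) (nat_lit 0x266be1) .nil)) (nat_lit 0xe22ad5) (nat_lit 10512)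
  (nat_lit 0xf1156a) (.node (.node (.node .nil (nat_lit 0xe23e4a) (nat_lit 3808) (nat_lit 0xb11f25) .nil)
  (nat_lit 0xe25197) (nat_lit 14576) (nat_lit 0xf128cb) .nil) (nat_lit 0xe26c36) (nat_lit 12720) (nat_lit
  0xb1361b) (.node .nil (nat_lit 0xe278a9) (nat_lit 28225) (nat_lit 0x85a673) .nil))) (nat_lit 0xe28e2d)
  (nat_lit 36177) (nat_lit 0x86a3d9) (.node (.node (.node (.node .nil (nat_lit 0xe29ab2) (nat_lit 33088)
  (nat_lit 0xb14d59) .nil) (nat_lit 0xe2a713) (nat_lit 37329) (nat_lit 0xac47c9) .nil) (nat_lit 0xe2b38c)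
  (nat_lit 17968) (nat_lit 0xb159c6) (.node .nil (nat_lit 0xe2c8ce) (nat_lit 14321) (nat_lit 0xf8a5b) .nil))
  (nat_lit 0xe2dc51) (nat_lit 39105) (nat_lit 0x844b7b) (.node (.node (.node .nil (nat_lit 0xe2e1f0) (nat_lit
  3857) (nat_lit 0x256e4b) .nil) (nat_lit 0xe30cf8) (nat_lit 10033) (nat_lit 0x15eb51) .nil) (nat_lit
  0xe31867) (nat_lit 22145) (nat_lit 0x9e2a71) (.node .nil (nat_lit 0xe325c6) (nat_lit 33745) (nat_lit
  0x3f0f41) .nil)))))) (nat_lit 0xe33159) (nat_lit 40352) (nat_lit 0xf198ac) (.node (.node (.node (.node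
  (.node (.node (.node .nil (nat_lit 0xe34a1b) (nat_lit 37632) (nat_lit 0xf1a50d) .nil) (nat_lit 0xe35e84)
  (nat_lit 12704) (nat_lit 0xb1af42) .nil) (nat_lit 0xe36325) (nat_lit 26496) (nat_lit 0xf1b192) (.node .nil
  (nat_lit 0xe3813e) (nat_lit 5553) (nat_lit 0x3ee249) .nil)) (nat_lit 0xe395a1) (nat_lit 7937) (nat_lit
  0xb52369) (.node (.node (.node .nil (nat_lit 0xe3d342) (nat_lit 12417) (nat_lit 0x3c0aeb) .nil) (nat_lit
  0xe408bf) (nat_lit 30640) (nat_lit 0xf2045f) .nil) (nat_lit 0xe4351e) (nat_lit 6657) (nat_lit 0x6ac761)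
  (.node .nil (nat_lit 0xe44e5c) (nat_lit 2305) (nat_lit 0x42cbd3) .nil))) (nat_lit 0xe45ac3) (nat_lit 25456)
  (nat_lit 0xf22d61) (.node (.node (.node (.node .nil (nat_lit 0xe46762) (nat_lit 32464) (nat_lit 0xb233b1)
  .nil) (nat_lit 0xe48579) (nat_lit 11889) (nat_lit 0xe0eb49) .nil) (nat_lit 0xe491e6) (nat_lit 27072)
  (nat_lit 0xb248f3) (.node .nil (nat_lit 0xe4ac47) (nat_lit 35889) (nat_lit 0xca0f59) .nil)) (nat_lit
  0xe4b8d8) (nat_lit 34369) (nat_lit 0x41ce79) (.node (.node (.node .nil (nat_lit 0xe4c39a) (nat_lit 22177)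
  (nat_lit 0x69c2cb) .nil) (nat_lit 0xe4d705) (nat_lit 9745) (nat_lit 0xe203eb) .nil) (nat_lit 0xe4eaa4)
  (nat_lit 34785) (nat_lit 0x4326db) (.node .nil (nat_lit 0xe507ac) (nat_lit 16640) (nat_lit 0xb283d6)
  .nil)))) (nat_lit 0xe51333) (nat_lit 18128) (nat_lit 0xf28999) (.node (.node (.node (.node (.node .nil
  (nat_lit 0xe52e92) (nat_lit 28113) (nat_lit 0x5947d1) .nil) (nat_lit 0xe53a0d) (nat_lit 32976) (nat_lit
  0xf29d06) .nil) (nat_lit 0xe5414f) (nat_lit 17008) (nat_lit 0xf2a0a7) (.node .nil (nat_lit 0xe555d0)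
  (nat_lit 23552) (nat_lit 0xb2aae8) .nil)) (nat_lit 0xe56871) (nat_lit 10961) (nat_lit 0xd06e53) (.node
  (.node (.node .nil (nat_lit 0xe58a6a) (nat_lit 40432) (nat_lit 0xb2c535) .nil) (nat_lit 0xe5a354) (nat_lit
  35584) (nat_lit 0xb2d1aa) .nil) (nat_lit 0xe5cc89) (nat_lit 26529) (nat_lit 0xd1835b) (.node .nil (nat_lit
  0xe5d816) (nat_lit 7569) (nat_lit 0x5a427b) .nil))) (nat_lit 0xe5f128) (nat_lit 23361) (nat_lit 0x70a66b)
  (.node (.node (.node (.node .nil (nat_lit 0xe61699) (nat_lit 13297) (nat_lit 0xc5c3e1) .nil) (nat_lit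
  0xe62b38) (nat_lit 40849) (nat_lit 0x64e6d1) .nil) (nat_lit 0xe644e5) (nat_lit 8240) (nat_lit 0xf32272)
  (.node .nil (nat_lit 0xe6507a) (nat_lit 4928) (nat_lit 0xb3283d) .nil)) (nat_lit 0xe67944) (nat_lit 7073)
  (nat_lit 0x660e73) (.node (.node (.node .nil (nat_lit 0xe68fc0) (nat_lit 37408) (nat_lit 0xb347e0) .nil)
  (nat_lit 0xe6b261) (nat_lit 3121) (nat_lit 0xc42ee9) .nil) (nat_lit 0xe6c923) (nat_lit 19217) (nat_lit
  0xec225b) (.node .nil (nat_lit 0xe6e01d) (nat_lit 12176) (nat_lit 0xf3700e) .nil))))) (nat_lit 0xe6f482)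
  (nat_lit 34737) (nat_lit 0x4d076b) (.node (.node (.node (.node (.node (.node .nil (nat_lit 0xe70d15)
  (nat_lit 16769) (nat_lit 0xf64351) .nil) (nat_lit 0xe7198a) (nat_lit 30416) (nat_lit 0xb38cc5) .nil)
  (nat_lit 0xe7242b) (nat_lit 40464) (nat_lit 0xf39215) (.node .nil (nat_lit 0xe730b4) (nat_lit 39841)
  (nat_lit 0x576661) .nil)) (nat_lit 0xe762c8) (nat_lit 8624) (nat_lit 0xb3b164) (.node (.node (.node .nil
  (nat_lit 0xe780d3) (nat_lit 19937) (nat_lit 0xdd4a49) .nil) (nat_lit 0xe7944c) (nat_lit 18704) (nat_lit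
  0xb3ca26) .nil) (nat_lit 0xe7c630) (nat_lit 27296) (nat_lit 0xb3e318) (.node .nil (nat_lit 0xe81e17)
  (nat_lit 12896) (nat_lit 0xf40f0b) .nil))) (nat_lit 0xe823b6) (nat_lit 9057) (nat_lit 0x2b66c5) (.node
  (.node (.node (.node .nil (nat_lit 0xe83729) (nat_lit 23648) (nat_lit 0xf41b94) .nil) (nat_lit 0xe84c6b)
  (nat_lit 17777) (nat_lit 0x88ab57) .nil) (nat_lit 0xe858f4) (nat_lit 35761) (nat_lit 223863) (.node .nil
  (nat_lit 0xe86555) (nat_lit 1457) (nat_lit 0xa24f47) .nil)) (nat_lit 0xe871ca) (nat_lit 33600) (nat_lit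
  0xb438e5) (.node (.node (.node .nil (nat_lit 0xe8874e) (nat_lit 672) (nat_lit 0xb443a7) .nil) (nat_lit
  0xe893d1) (nat_lit 6161) (nat_lit 0xa14aed) .nil) (nat_lit 0xe8ae70) (nat_lit 18880) (nat_lit 0xb45738)
  (.node .nil (nat_lit 0xe8c1ad) (nat_lit 25520) (nat_lit 0xf460d6) .nil)))) (nat_lit 0xe8d532) (nat_lit
  30864) (nat_lit 0xb46a99) (.node (.node (.node (.node (.node .nil (nat_lit 0xe8e893) (nat_lit 25424)
  (nat_lit 0xf47449) .nil) (nat_lit 0xe8fc0c) (nat_lit 20705) (nat_lit 165759) .nil) (nat_lit 0xe9059b)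
  (nat_lit 20608) (nat_lit 0xf482cd) (.node .nil (nat_lit 0xe92ca5) (nat_lit 37216) (nat_lit 0xf49652) .nil))
  (nat_lit 0xe9383a) (nat_lit 32128) (nat_lit 0xb49c1d) (.node (.node (.node .nil (nat_lit 0xe94378) (nat_lit
  28704) (nat_lit 0xb4a1bc) .nil) (nat_lit 0xe96a46) (nat_lit 39760) (nat_lit 0xb4b523) .nil) (nat_lit
  0xe9885d) (nat_lit 34000) (nat_lit 0xf4c42e) (.node .nil (nat_lit 0xe99cc2) (nat_lit 40913) (nat_lit
  0x190b7d) .nil))) (nat_lit 0xe9a163) (nat_lit 2801) (nat_lit 0xb82e4d) (.node (.node (.node (.node .nil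
  (nat_lit 0xe9da21) (nat_lit 15024) (nat_lit 0xf4ed10) .nil) (nat_lit 0xe9e780) (nat_lit 38497) (nat_lit
  0x3107cf) .nil) (nat_lit 0xea14ae) (nat_lit 2065) (nat_lit 0xfa365) (.node .nil (nat_lit 0xea290f) (nat_lit
  40016) (nat_lit 0xf51487) .nil)) (nat_lit 0xea3d90) (nat_lit 3777) (nat_lit 0x254775) (.node (.node (.node
  .nil (nat_lit 0xea46d2) (nat_lit 7920) (nat_lit 0xb52369) .nil) (nat_lit 0xea524d) (nat_lit 4624) (nat_lit
  0xf52926) .nil) (nat_lit 0xea9968) (nat_lit 3617) (nat_lit 0x24aa7d) (.node .nil (nat_lit 0xeaa4c9) (nat_lit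
  28289) (nat_lit 0x858f4d) .nil)))))))
def tD_15 : T := (.node (.node (.node (.node (.node (.node (.node (.node .nil (nat_lit 0xeacb14) (nat_lit
  9008) (nat_lit 0xb5658a) .nil) (nat_lit 0xeae22a) (nat_lit 17456) (nat_lit 0xb57115) .nil) (nat_lit
  0xeb0f22) (nat_lit 31905) (nat_lit 0x3c23d5) (.node (.node .nil (nat_lit 0xeb261c) (nat_lit 29344) (nat_lit
  0xb5930e) .nil) (nat_lit 0xeb3283) (nat_lit 160) (nat_lit 0xf59941) .nil)) (nat_lit 0xeb49c1) (nat_lit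
  23681) (nat_lit 0xb50a57) (.node (.node (.node .nil (nat_lit 0xeb7460) (nat_lit 13089) (nat_lit 0x142f67)
  .nil) (nat_lit 0xeb82e4) (nat_lit 11072) (nat_lit 0xb5c172) .nil) (nat_lit 0xebc407) (nat_lit 26144)
  (nat_lit 0xf5e203) (.node .nil (nat_lit 0xebd098) (nat_lit 17489) (nat_lit 0x15c26f) .nil))) (nat_lit
  0xec0b65) (nat_lit 18417) (nat_lit 0xe22ad5) (.node (.node (.node (.node .nil (nat_lit 0xec225b) (nat_lit
  11008) (nat_lit 0xf6112d) .nil) (nat_lit 0xec36c4) (nat_lit 36465) (nat_lit 0x430fe5) .nil) (nat_lit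
  0xec4d86) (nat_lit 19393) (nat_lit 0x6b0357) (.node .nil (nat_lit 0xec5919) (nat_lit 37584) (nat_lit
  0xf62c8c) .nil)) (nat_lit 0xec64b8) (nat_lit 18865) (nat_lit 0x41e747) (.node (.node (.node .nil (nat_lit
  0xec7027) (nat_lit 34624) (nat_lit 0xf63813) .nil) (nat_lit 0xec86a3) (nat_lit 16752) (nat_lit 0xf64351)
  .nil) (nat_lit 0xec923c) (nat_lit 37920) (nat_lit 0xb6491e) (.node .nil (nat_lit 0xecbb02) (nat_lit 32192)
  (nat_lit 0xb65d81) .nil)))) (nat_lit 0xed0476) (nat_lit 12225) (nat_lit 0x5a6b45) (.node (.node (.node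
  (.node (.node .nil (nat_lit 0xed10e9) (nat_lit 23024) (nat_lit 0xf68874) .nil) (nat_lit 0xed2d48) (nat_lit
  29984) (nat_lit 0xb696a4) .nil) (nat_lit 0xed4295) (nat_lit 4224) (nat_lit 0xf6a14a) (.node .nil (nat_lit
  0xed560a) (nat_lit 17184) (nat_lit 0xb6ab05) .nil)) (nat_lit 0xed89b0) (nat_lit 15217) (nat_lit 0x71625d)
  (.node (.node (.node .nil (nat_lit 0xeda08e) (nat_lit 35552) (nat_lit 0xb6d047) .nil) (nat_lit 0xedb411)
  (nat_lit 20208) (nat_lit 0xf6da08) .nil) (nat_lit 0xee01dc) (nat_lit 26417) (nat_lit 0x67ca45) (.node .nil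
  (nat_lit 0xee1543) (nat_lit 21440) (nat_lit 0xf70aa1) .nil))) (nat_lit 0xee28e2) (nat_lit 18849) (nat_lit
  0x4d2e55) (.node (.node (.node (.node .nil (nat_lit 0xee53a0) (nat_lit 27344) (nat_lit 0xb729d0) .nil)
  (nat_lit 0xee6e01) (nat_lit 17249) (nat_lit 0xc407d7) .nil) (nat_lit 0xee8c1a) (nat_lit 33777) (nat_lit
  0x4cc35d) (.node .nil (nat_lit 0xee9885) (nat_lit 18065) (nat_lit 0xc7027d) .nil)) (nat_lit 0xeea524)
  (nat_lit 6273) (nat_lit 0x66274d) (.node (.node (.node .nil (nat_lit 0xef1a50) (nat_lit 33905) (nat_lit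
  0x544af5) .nil) (nat_lit 0xef482c) (nat_lit 15504) (nat_lit 0xb7a416) .nil) (nat_lit 0xef6112) (nat_lit
  35296) (nat_lit 0xb7b089) (.node .nil (nat_lit 0xef8309) (nat_lit 20625) (nat_lit 0xf482cd) .nil)))))
  (nat_lit 0xf00ee6) (nat_lit 38561) (nat_lit 736209) (.node (.node (.node (.node (.node (.node .nil (nat_lit
  0xf01a79) (nat_lit 25761) (nat_lit 0x80faf1) .nil) (nat_lit 0xf027d8) (nat_lit 2448) (nat_lit 0xb813ec)
  .nil) (nat_lit 0xf03347) (nat_lit 30017) (nat_lit 0xaa1ee1) (.node .nil (nat_lit 0xf05c9a) (nat_lit 2784)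
  (nat_lit 0xb82e4d) .nil)) (nat_lit 0xf0613b) (nat_lit 21953) (nat_lit 0xa8f643) (.node (.node (.node .nil
  (nat_lit 0xf075a4) (nat_lit 3393) (nat_lit 0x233763) .nil) (nat_lit 0xf0aa1e) (nat_lit 5808) (nat_lit
  0xb8550f) .nil) (nat_lit 0xf0be81) (nat_lit 2129) (nat_lit 0x8117f9) (.node .nil (nat_lit 0xf0c5c3) (nat_lit
  10545) (nat_lit 0xa91b4b) .nil))) (nat_lit 0xf0d15c) (nat_lit 22497) (nat_lit 0x22da6b) (.node (.node (.node
  (.node .nil (nat_lit 0xf0f862) (nat_lit 22337) (nat_lit 540283) .nil) (nat_lit 0xf101f5) (nat_lit 33536)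
  (nat_lit 0xf880fa) .nil) (nat_lit 0xf1156a) (nat_lit 5712) (nat_lit 0xb88ab5) (.node .nil (nat_lit 0xf128cb)
  (nat_lit 8176) (nat_lit 0xf89465) .nil)) (nat_lit 0xf13c54) (nat_lit 23840) (nat_lit 0xb89e2a) (.node (.node
  (.node .nil (nat_lit 0xf14716) (nat_lit 29889) (nat_lit 0x3a53c3) .nil) (nat_lit 0xf15389) (nat_lit 32352)
  (nat_lit 0xf8a9c4) .nil) (nat_lit 0xf16e28) (nat_lit 34449) (nat_lit 0x10b7d3) (.node .nil (nat_lit
  0xf18c33) (nat_lit 20977) (nat_lit 0x987359) .nil)))) (nat_lit 0xf198ac) (nat_lit 35840) (nat_lit 0xb8cc56)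
  (.node (.node (.node (.node (.node .nil (nat_lit 0xf1a50d) (nat_lit 29041) (nat_lit 0xb29749) .nil) (nat_lit
  0xf1b192) (nat_lit 16672) (nat_lit 0xb8d8c9) .nil) (nat_lit 0xf1cad0) (nat_lit 26545) (nat_lit 0x115adb)
  (.node .nil (nat_lit 0xf2045f) (nat_lit 20305) (nat_lit 0x8edb41) .nil)) (nat_lit 0xf22d61) (nat_lit 15905)
  (nat_lit 0xa43f51) (.node (.node (.node .nil (nat_lit 0xf242bc) (nat_lit 37536) (nat_lit 0xb9215e) .nil)
  (nat_lit 0xf25623) (nat_lit 29600) (nat_lit 0xf92b11) .nil) (nat_lit 0xf26b82) (nat_lit 7344) (nat_lit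
  0xb935c1) (.node .nil (nat_lit 0xf28999) (nat_lit 10305) (nat_lit 0xa5d259) .nil))) (nat_lit 0xf29d06)
  (nat_lit 22753) (nat_lit 0x2e1379) (.node (.node (.node (.node .nil (nat_lit 0xf2a0a7) (nat_lit 9600)
  (nat_lit 0xf95053) .nil) (nat_lit 0xf2b438) (nat_lit 36944) (nat_lit 0xb95a1c) .nil) (nat_lit 0xf2e644)
  (nat_lit 34593) (nat_lit 401355) (.node .nil (nat_lit 0xf30b4c) (nat_lit 25217) (nat_lit 0x369ad1) .nil))
  (nat_lit 0xf32272) (nat_lit 4353) (nat_lit 0x1c7ec1) (.node (.node (.node .nil (nat_lit 0xf35930) (nat_lit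
  11713) (nat_lit 0x347273) .nil) (nat_lit 0xf36491) (nat_lit 40080) (nat_lit 0xf9b248) .nil) (nat_lit
  0xf3700e) (nat_lit 6689) (nat_lit 0x1e9663) (.node .nil (nat_lit 0xf3868a) (nat_lit 36433) (nat_lit
  0x1d93c9) .nil)))))) (nat_lit 0xf39215) (nat_lit 36032) (nat_lit 0xf9c90a) (.node (.node (.node (.node
  (.node (.node (.node .nil (nat_lit 0xf3c069) (nat_lit 15121) (nat_lit 0x94ba4b) .nil) (nat_lit 0xf40f0b)
  (nat_lit 7152) (nat_lit 0xfa0785) .nil) (nat_lit 0xf41b94) (nat_lit 14273) (nat_lit 0x6352f1) (.node .nil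
  (nat_lit 0xf42635) (nat_lit 13504) (nat_lit 0xfa131a) .nil)) (nat_lit 0xf432aa) (nat_lit 34160) (nat_lit
  0xba1955) (.node (.node (.node .nil (nat_lit 0xf449e8) (nat_lit 32657) (nat_lit 0x61ba53) .nil) (nat_lit
  0xf460d6) (nat_lit 15937) (nat_lit 0x4b5e43) .nil) (nat_lit 0xf47449) (nat_lit 15873) (nat_lit 0xc09f63)
  (.node .nil (nat_lit 0xf482cd) (nat_lit 11968) (nat_lit 0xfa4166) .nil))) (nat_lit 0xf49652) (nat_lit 28481)
  (nat_lit 0x485be9) (.node (.node (.node (.node .nil (nat_lit 0xf4c42e) (nat_lit 24032) (nat_lit 0xba6217)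
  .nil) (nat_lit 0xf4d0b1) (nat_lit 6352) (nat_lit 0xfa6858) .nil) (nat_lit 0xf4ed10) (nat_lit 8464) (nat_lit
  0xba7688) (.node .nil (nat_lit 0xf51487) (nat_lit 34528) (nat_lit 0xfa8a43) .nil)) (nat_lit 0xf52926)
  (nat_lit 2369) (nat_lit 0x7a3651) (.node (.node (.node .nil (nat_lit 0xf55264) (nat_lit 38129) (nat_lit
  0x523ae3) .nil) (nat_lit 0xf59941) (nat_lit 80) (nat_lit 0xfacca0) .nil) (nat_lit 0xf5a4e0) (nat_lit 29520)
  (nat_lit 0xbad270) (.node .nil (nat_lit 0xf5e203) (nat_lit 16417) (nat_lit 0xd816cb) .nil)))) (nat_lit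
  0xf605b2) (nat_lit 40976) (nat_lit 0xbb02d9) (.node (.node (.node (.node (.node .nil (nat_lit 0xf6112d)
  (nat_lit 6001) (nat_lit 0xe6b261) .nil) (nat_lit 0xf62c8c) (nat_lit 28977) (nat_lit 0x479751) .nil) (nat_lit
  0xf63813) (nat_lit 24769) (nat_lit 0xcc5671) (.node .nil (nat_lit 0xf64351) (nat_lit 9456) (nat_lit
  0xfb21a8) .nil)) (nat_lit 0xf68874) (nat_lit 13840) (nat_lit 0xbb443a) (.node (.node (.node .nil (nat_lit
  0xf6a14a) (nat_lit 2161) (nat_lit 0x6c9e49) .nil) (nat_lit 0xf6da08) (nat_lit 11697) (nat_lit 0x4492fb)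
  .nil) (nat_lit 0xf70aa1) (nat_lit 12577) (nat_lit 0xd532d1) (.node .nil (nat_lit 0xf73700) (nat_lit 33361)
  (nat_lit 0x7417e1) .nil))) (nat_lit 0xf74c42) (nat_lit 31008) (nat_lit 0xbba621) (.node (.node (.node (.node
  .nil (nat_lit 0xf7c184) (nat_lit 27648) (nat_lit 0xbbe0c2) .nil) (nat_lit 0xf80d3c) (nat_lit 38801) (nat_lit
  0x22f355) .nil) (nat_lit 0xf819a3) (nat_lit 28849) (nat_lit 0xa93275) (.node .nil (nat_lit 0xf8309d)
  (nat_lit 28816) (nat_lit 0xfc184e) .nil)) (nat_lit 0xf85f40) (nat_lit 1696) (nat_lit 0xbc2fa0) (.node (.node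
  (.node .nil (nat_lit 0xf862e1) (nat_lit 14080) (nat_lit 0xfc3170) .nil) (nat_lit 0xf880fa) (nat_lit 23424)
  (nat_lit 0xbc407d) .nil) (nat_lit 0xf89465) (nat_lit 4321) (nat_lit 0x823b6d) (.node .nil (nat_lit 0xf8a9c4)
  (nat_lit 22081) (nat_lit 0x231e5d) .nil))))) (nat_lit 0xf8c619) (nat_lit 24753) (nat_lit 0x80d3cf) (.node
  (.node (.node (.node (.node (.node .nil (nat_lit 0xf8d286) (nat_lit 20129) (nat_lit 725743) .nil) (nat_lit
  0xf9022f) (nat_lit 15488) (nat_lit 0xfc8117) .nil) (nat_lit 0xf916b0) (nat_lit 26368) (nat_lit 0xbc8b58)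
  (.node .nil (nat_lit 0xf92b11) (nat_lit 19344) (nat_lit 0xfc9588) .nil)) (nat_lit 0xf944cc) (nat_lit 35744)
  (nat_lit 0xbca266) (.node (.node (.node .nil (nat_lit 0xf95053) (nat_lit 5153) (nat_lit 0x985a67) .nil)
  (nat_lit 0xf9b248) (nat_lit 34816) (nat_lit 0xbcd924) .nil) (nat_lit 0xf9c90a) (nat_lit 26689) (nat_lit
  0x38925f) (.node .nil (nat_lit 0xf9e034) (nat_lit 13617) (nat_lit 0x12764f) .nil))) (nat_lit 0xfa0785)
  (nat_lit 3728) (nat_lit 0xfd03c2) (.node (.node (.node (.node .nil (nat_lit 0xfa131a) (nat_lit 7537)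
  (nat_lit 0x2cd2e5) .nil) (nat_lit 0xfa3a24) (nat_lit 20337) (nat_lit 407285) .nil) (nat_lit 0xfa4166)
  (nat_lit 6561) (nat_lit 0x2e3a47) (.node .nil (nat_lit 0xfa6858) (nat_lit 3313) (nat_lit 319063) .nil))
  (nat_lit 0xfa8a43) (nat_lit 24673) (nat_lit 0x8c1add) (.node (.node (.node .nil (nat_lit 0xfacca0) (nat_lit
  33) (nat_lit 340831) .nil) (nat_lit 0xfaf101) (nat_lit 32560) (nat_lit 0xfd7880) .nil) (nat_lit 0xfb0896)
  (nat_lit 38065) (nat_lit 0x1f5255) (.node .nil (nat_lit 0xfb1c09) (nat_lit 23312) (nat_lit 0xfd8e04)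
  .nil)))) (nat_lit 0xfb21a8) (nat_lit 5056) (nat_lit 0xbd90d4) (.node (.node (.node (.node (.node .nil
  (nat_lit 0xfb8550) (nat_lit 8353) (nat_lit 0x345b4d) .nil) (nat_lit 0xfc0cd1) (nat_lit 36353) (nat_lit
  0xc15b55) .nil) (nat_lit 0xfc184e) (nat_lit 18577) (nat_lit 0x4a9a75) (.node .nil (nat_lit 0xfc3170)
  (nat_lit 7873) (nat_lit 0x607e65) .nil)) (nat_lit 0xfc4a32) (nat_lit 27232) (nat_lit 0xbe2519) (.node (.node
  (.node .nil (nat_lit 0xfc630c) (nat_lit 21104) (nat_lit 0xbe3186) .nil) (nat_lit 0xfc8117) (nat_lit 8721)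
  (nat_lit 0xea524d) .nil) (nat_lit 0xfc9588) (nat_lit 11104) (nat_lit 0xbe4ac4) (.node .nil (nat_lit
  0xfca829) (nat_lit 9969) (nat_lit 0xc0b65d) .nil))) (nat_lit 0xfd03c2) (nat_lit 1905) (nat_lit 0x791ac5)
  (.node (.node (.node (.node .nil (nat_lit 0xfd4521) (nat_lit 38193) (nat_lit 0xf03347) .nil) (nat_lit
  0xfd7880) (nat_lit 22352) (nat_lit 0xbebc40) .nil) (nat_lit 0xfd8e04) (nat_lit 14017) (nat_lit 0x5213dd)
  (.node .nil (nat_lit 0xfe0668) (nat_lit 27793) (nat_lit 0x44bbc5) .nil)) (nat_lit 0xfe408b) (nat_lit 37889)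
  (nat_lit 0xcd9247) (.node (.node (.node .nil (nat_lit 0xfe5414) (nat_lit 29456) (nat_lit 0xbf2a0a) .nil)
  (nat_lit 0xfea290) (nat_lit 39264) (nat_lit 0xbf5148) .nil) (nat_lit 0xff2045) (nat_lit 36753) (nat_lit
  0xd61e45) (.node .nil (nat_lit 0xff9022) (nat_lit 30817) (nat_lit 0x5c326d) .nil)))))))
def tD : T := (.node (.node (.node (.node tD_0 (nat_lit 0x155b36) (nat_lit 14929) (nat_lit 0x7a70b2) tD_1)
  (nat_lit 0x257ad4) (nat_lit 7792) (nat_lit 0x12bd6a) (.node tD_2 (nat_lit 0x344fd2) (nat_lit 24432) (nat_lit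
  0x1a27e9) tD_3)) (nat_lit 0x43d05f) (nat_lit 2625) (nat_lit 0x9ec86a) (.node (.node tD_4 (nat_lit 0x52f1c6)
  (nat_lit 35376) (nat_lit 0x2978e3) tD_5) (nat_lit 0x61936d) (nat_lit 23569) (nat_lit 0xb2aae8) (.node tD_6
  (nat_lit 0x6fe0a1) (nat_lit 5793) (nat_lit 0xd5264e) tD_7))) (nat_lit 0x807737) (nat_lit 21425) (nat_lit
  0xaa65a3) (.node (.node (.node tD_8 (nat_lit 0x9022ff) (nat_lit 40960) (nat_lit 0xc8117f) tD_9) (nat_lit
  0x9e780d) (nat_lit 12432) (nat_lit 0xcf3c06) (.node tD_10 (nat_lit 0xad1aa6) (nat_lit 12049) (nat_lit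
  0x5b22b5) tD_11)) (nat_lit 0xbc407d) (nat_lit 14113) (nat_lit 0xc2fa07) (.node (.node tD_12 (nat_lit
  0xcbe251) (nat_lit 33456) (nat_lit 0xe5f128) tD_13) (nat_lit 0xda91b4) (nat_lit 5345) (nat_lit 0x27706d)
  (.node tD_14 (nat_lit 0xeab056) (nat_lit 11393) (nat_lit 937581) tD_15))))

/-- The standard dodecad. -/
abbrev D0 : Finset GolayPt := Spor.squareDodecad

theorem mask_D0 : mask D0 = 340831 := mask_qrWord 0
theorem D0_eq : D0 = unmask 340831 := eq_unmask mask_D0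
theorem D0_mem : D0 ∈ dodecads :=
  ⟨isCw_iff.2 (by rw [mask_D0]; decide +kernel), by rw [card_eq_pc, mask_D0]; decide +kernel⟩

theorem tD_chk : orbChk act gM 340831 (2 ^ 24) tD = true := by decide +kernel

theorem orbit_D0 : orbit M24 D0 = dodecads := by
  have := (acSM.orb_sound valid_gM (x₀ := D0) trivial (mask_D0 ▸ tD_chk)).2.1
  rw [gen_gM, orbit_top] at this
  refine Set.eq_of_subset_of_ncard_le (by rintro _ ⟨g, rfl⟩; exact dodecad_smul D0_mem g.2) ?_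
    (Set.toFinite _)
  rw [this, ncard_dodecads]; decide +kernel

theorem exists_smul_D0 {d : Finset GolayPt} (hd : d ∈ dodecads) : ∃ g : M24, g • D0 = d := by
  rwa [← orbit_D0] at hd

end Cfsg.Agent.M24
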