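import Cfsg.Agent.M24.P24
import Cfsg.Agent.M24.Abstract
import Cfsg.Prelude.Def_SporadicCombinatorics

/-!
# The binary Golay code of the definitions: membership test, weights, membership test for `M24`
-/

set_option autoImplicit false

namespace Cfsg.Agent.M24

open Finset
open scoped Pointwise symmDiff

/-- `s` is the support of a Golay code word. -/
def IsCw (s : Finset GolayPt) : Prop := s ∈ supports (golayCode : Set (GolayPt → ZMod 2))

theorem isCw_iff_ind {s : Finset GolayPt} : IsCw s ↔ ind s ∈ golayCode := mem_supports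

theorem isCw_support {w : GolayPt → ZMod 2} : IsCw (support₂ w) ↔ w ∈ golayCode := by
  rw [isCw_iff_ind, ind_support]

theorem IsCw.symmDiff {s t : Finset GolayPt} (hs : IsCw s) (ht : IsCw t) : IsCw (s ∆ t) := by
  rw [isCw_iff_ind] at *
  rw [ind_symmDiff]; exact golayCode.add_mem hs ht

theorem isCw_empty : IsCw ∅ := by rw [isCw_iff_ind, ind_empty]; exact golayCode.zero_mem

theorem isCw_univ : IsCw univ := by
  rw [isCw_iff_ind, ind_univ]
  exact Submodule.subset_span (Set.mem_union_right _ rfl)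

theorem univ_sdiff_eq (s : Finset GolayPt) : univ \ s = s ∆ univ := by
  ext a; simp [mem_symmDiff]

theorem IsCw.compl {s : Finset GolayPt} (hs : IsCw s) : IsCw (univ \ s) := by
  rw [univ_sdiff_eq]; exact hs.symmDiff isCw_univ

theorem mem_octads {o : Finset GolayPt} : o ∈ octads ↔ IsCw o ∧ o.card = 8 := Iff.rfl
theorem mem_dodecads {o : Finset GolayPt} : o ∈ dodecads ↔ IsCw o ∧ o.card = 12 := Iff.rfl

/-- Masks of the generating words. -/
def qrM : List ℕ := [nat_lit 340831, nat_lit 681662, nat_lit 0x14cd7c, nat_lit 0x299af8, nat_lit 0x5335f0, nat_lit 0x266be1, nat_lit 0x4cd7c2, nat_lit 0x19af85, nat_lit 0x335f0a, nat_lit 0x66be14, nat_lit 0x4d7c29, nat_lit 0x1af853, nat_lit 0x35f0a6, nat_lit 0x6be14c, nat_lit 0x57c299, nat_lit 0x2f8533, nat_lit 0x5f0a66, nat_lit 0x3e14cd, nat_lit 0x7c299a, nat_lit 0x785335, nat_lit 0x70a66b, nat_lit 0x614cd7, nat_lit 0x4299af, nat_lit 0xffffff]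

theorem support_qrWord : ∀ t : ZMod 23, ∀ a : GolayPt,
    (qrM.getD t.val 0).testBit (idx a) = true ↔ qrWord t a ≠ 0 := by
  decide +kernel

theorem qrM_lt : ∀ j < 24, qrM.getD j 0 < 2 ^ 24 := by decide +kernel

theorem mask_qrWord (t : ZMod 23) : mask (support₂ (qrWord t)) = qrM.getD t.val 0 :=
  EG.mask_eq_of (qrM_lt _ (by have := t.val_lt; omega)) fun a => by
    rw [mem_support₂]; exact support_qrWord t a

theorem isCw_qrM {j : ℕ} (hj : j < 24) : IsCw (unmask (qrM.getD j 0)) := by
  by_cases h : j < 23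
  · have := mask_qrWord (j : ZMod 23)
    rw [ZMod.val_cast_of_lt h] at this
    rw [← this, unmask_mask, isCw_support]
    exact Submodule.subset_span (Set.mem_union_left _ ⟨_, rfl⟩)
  · obtain rfl : j = 23 := by omega
    have : qrM.getD 23 0 = mask univ := by rw [mask_univ]; rfl
    rw [this, unmask_mask]; exact isCw_univ

theorem unmask_xor {a b : ℕ} (ha : a < 2 ^ 24) (hb : b < 2 ^ 24) :
    unmask (a ^^^ b) = unmask a ∆ unmask b :=
  (eq_unmask (by rw [mask_symmDiff, mask_unmask ha, mask_unmask hb]; rfl)).symm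

theorem unmask_zero : unmask 0 = ∅ := (eq_unmask mask_empty).symm

/-- Sum of the generating words selected by the bits of `c`. -/
noncomputable def comb (c n : ℕ) : ℕ :=
  Nat.rec (motive := fun _ => ℕ) 0
    (fun j acc => bif' (c.testBit j) (Nat.xor acc (qrM.getD j 0)) acc) n

theorem comb_mem (c : ℕ) {n : ℕ} (hn : n ≤ 24) : comb c n < 2 ^ 24 ∧ IsCw (unmask (comb c n)) := by
  induction n with
  | zero => exact ⟨by norm_num [comb], unmask_zero ▸ isCw_empty⟩
  | succ n ih =>
    have e : comb c (n + 1) = bif' (c.testBit n) (comb c n ^^^ qrM.getD n 0) (comb c n) := rfl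
    obtain ⟨h1, h2⟩ := ih (by omega)
    rw [e, bif'_eq]
    split_ifs
    · refine ⟨Nat.xor_lt_two_pow h1 (qrM_lt n (by omega)), ?_⟩
      rw [unmask_xor h1 (qrM_lt n (by omega))]
      exact h2.symmDiff (isCw_qrM (by omega))
    · exact ⟨h1, h2⟩

theorem comb_basis : ∀ i < 12, comb ([nat_lit 0x8006a9, nat_lit 280, nat_lit 0x800499, nat_lit 1400, nat_lit 0x8006ba, nat_lit 0x800797, nat_lit 0x8005cd, nat_lit 2000, nat_lit 1347, nat_lit 101, nat_lit 0x800663, nat_lit 0x800625].getD i 0) 24 = cw (2 ^ i) := by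
  decide +kernel

theorem isCw_basis {i : ℕ} (hi : i < 12) : IsCw (unmask (cw (2 ^ i))) := by
  rw [← comb_basis i hi]; exact (comb_mem _ le_rfl).2

theorem par_lt (x : ℕ) : par x < 2 ^ 12 :=
  Nat.xor_lt_two_pow (Nat.and_lt_two_pow _ (by norm_num)) (Nat.and_lt_two_pow _ (by norm_num))

theorem par_chk : ball (fun i => force (Nat.shiftRight i (nat_lit 6)) fun x =>
    force (Nat.land i (nat_lit 63)) fun y =>
      band (Nat.beq (par (Nat.xor x y)) (Nat.xor (par x) (par y)))
        (Nat.beq (par (Nat.mul (nat_lit 64) (Nat.xor x y)))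
          (Nat.xor (par (Nat.mul (nat_lit 64) x)) (par (Nat.mul (nat_lit 64) y)))))
    (nat_lit 12) (nat_lit 0) = true := by decide +kernel

theorem par_split_chk : ball (fun x => Nat.beq (par x) (Nat.xor (par (Nat.land x (nat_lit 63)))
    (par (Nat.mul (nat_lit 64) (Nat.shiftRight x (nat_lit 6)))))) (nat_lit 12) (nat_lit 0) = true := by
  decide +kernel

theorem par_xor {x y : ℕ} (hx : x < 2 ^ 12) (hy : y < 2 ^ 12) : par (x ^^^ y) = par x ^^^ par y := by
  have sp : ∀ z < 2 ^ 12, par z = par (z &&& 63) ^^^ par (64 * (z >>> 6)) := fun z hz =>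
    Nat.eq_of_beq_eq_true (ball_zero par_split_chk z hz)
  have lin : ∀ a < 64, ∀ b < 64, par (a ^^^ b) = par a ^^^ par b ∧
      par (64 * (a ^^^ b)) = par (64 * a) ^^^ par (64 * b) := by
    intro a ha b hb
    have := ball_zero par_chk (64 * a + b) (show _ < 4096 by omega)
    simp only [force_eq, band_eq, Bool.and_eq_true, Nat.beq_eq] at this
    have e1 : Nat.shiftRight (64 * a + b) (nat_lit 6) = a := by
      change (64 * a + b) >>> 6 = a
      rw [Nat.shiftRight_eq_div_pow]; omega
    have e2 : Nat.land (64 * a + b) (nat_lit 63) = b := by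
      change (64 * a + b) &&& (2 ^ 6 - 1) = b
      rw [Nat.and_two_pow_sub_one_eq_mod]; omega
    rw [e1, e2] at this
    exact this
  have l1 : ∀ z, z &&& 63 < 64 := fun z => Nat.and_lt_two_pow (n := 6) _ (by norm_num)
  have l2 : ∀ z < 2 ^ 12, z >>> 6 < 64 := fun z hz => by rw [Nat.shiftRight_eq_div_pow]; omega
  rw [sp _ (Nat.xor_lt_two_pow hx hy), sp x hx, sp y hy, Nat.and_xor_distrib_right,
    Nat.shiftRight_xor_distrib, (lin _ (l1 x) _ (l1 y)).1, (lin _ (l2 x hx) _ (l2 y hy)).2]
  ac_rfl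

theorem and4095_lt (m : ℕ) : m &&& 4095 < 2 ^ 12 := Nat.and_lt_two_pow _ (by norm_num)

theorem syn_def (m : ℕ) : syn m = (m >>> 12) ^^^ par (m &&& 4095) := rfl
theorem cw_def (x : ℕ) : cw x = x ^^^ (par x <<< 12) := rfl

theorem syn_xor (a b : ℕ) : syn (a ^^^ b) = syn a ^^^ syn b := by
  rw [syn_def, syn_def, syn_def, Nat.and_xor_distrib_right, Nat.shiftRight_xor_distrib,
    par_xor (and4095_lt a) (and4095_lt b)]
  ac_rfl

theorem syn_lt {m : ℕ} (hm : m < 2 ^ 24) : syn m < 2 ^ 12 :=
  Nat.xor_lt_two_pow (by change m >>> 12 < _; rw [Nat.shiftRight_eq_div_pow]; omega) (par_lt _)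

theorem cw_xor {x y : ℕ} (hx : x < 2 ^ 12) (hy : y < 2 ^ 12) : cw (x ^^^ y) = cw x ^^^ cw y := by
  rw [cw_def, cw_def, cw_def, par_xor hx hy, Nat.shiftLeft_xor_distrib]
  ac_rfl

theorem cw_lt {x : ℕ} (hx : x < 2 ^ 12) : cw x < 2 ^ 24 :=
  Nat.xor_lt_two_pow (by omega) (by
    have := par_lt x
    change par x <<< 12 < _
    rw [Nat.shiftLeft_eq]; omega)

theorem cw_chk : ball (fun x => force (cw x) fun c => band (band (Nat.beq (syn c) (nat_lit 0))
    (Nat.beq (Nat.land c (nat_lit 4095)) x)) (band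
      (Nat.beq (syn (Nat.shiftLeft x (nat_lit 12))) x)
      (force (pc c) fun k => bor (Nat.beq k (nat_lit 12))
      (bor (Nat.beq k (nat_lit 8)) (bor (Nat.beq k (nat_lit 16)) (bor (Nat.beq k (nat_lit 24))
        (Nat.beq x (nat_lit 0)))))))) (nat_lit 12) (nat_lit 0) = true := by
  decide +kernel

theorem cw_facts {x : ℕ} (hx : x < 2 ^ 12) : syn (cw x) = 0 ∧ cw x &&& 4095 = x ∧
    syn (x <<< 12) = x ∧
    (pc (cw x) = 12 ∨ pc (cw x) = 8 ∨ pc (cw x) = 16 ∨ pc (cw x) = 24 ∨ x = 0) := by
  have := ball_zero cw_chk x hx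
  simp only [force_eq, band_eq, bor_eq, Bool.and_eq_true, Bool.or_eq_true, Nat.beq_eq] at this
  exact ⟨this.1.1, this.1.2, this.2.1, this.2.2⟩

theorem cw_zero : cw 0 = 0 := by decide +kernel

theorem bits_induction {P : ℕ → Prop} {n : ℕ} (h0 : P 0) (hb : ∀ i < n, P (2 ^ i))
    (hx : ∀ x < 2 ^ n, ∀ y < 2 ^ n, P x → P y → P (x ^^^ y)) : ∀ x < 2 ^ n, P x := by
  have : ∀ k ≤ n, ∀ x < 2 ^ k, P x := by
    intro k
    induction k with
    | zero => intro _ x hx; obtain rfl : x = 0 := by omega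
              exact h0
    | succ k ih =>
      intro hk x hxk
      by_cases h : x < 2 ^ k
      · exact ih (by omega) x h
      · have h1 : x - 2 ^ k < 2 ^ k := by rw [pow_succ] at hxk; omega
        have h2 : 2 ^ k < 2 ^ n := Nat.pow_lt_pow_right (by norm_num) (by omega)
        have h3 := hx _ h2 _ (by omega) (hb k (by omega)) (ih (by omega) _ h1)
        have h4 : 2 ^ k ^^^ (x - 2 ^ k) = x := by
          have e : x = 2 ^ k + (x - 2 ^ k) := by omega
          apply Nat.eq_of_testBit_eq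
          intro t
          conv_rhs => rw [e]
          rw [Nat.testBit_xor, Nat.testBit_two_pow]
          rcases lt_trichotomy t k with ht | rfl | ht
          · rw [Nat.testBit_two_pow_add_gt ht]; simp [ht.ne']
          · rw [Nat.testBit_two_pow_add_eq]; simp
          · rw [Nat.testBit_lt_two_pow (lt_of_lt_of_le h1 (Nat.pow_le_pow_right (by norm_num) ht.le)),
              Nat.testBit_lt_two_pow (x := 2 ^ k + (x - 2 ^ k))
                (lt_of_lt_of_le (show _ < 2 ^ (k + 1) by omega)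
                (Nat.pow_le_pow_right (by norm_num) ht))]
            simp [ht.ne]
        rwa [h4] at h3
  exact this n le_rfl

theorem isCw_cw {x : ℕ} (hx : x < 2 ^ 12) : IsCw (unmask (cw x)) := by
  refine bits_induction (P := fun x => IsCw (unmask (cw x))) ?_ (fun i hi => isCw_basis hi)
    (fun x hx y hy h1 h2 => ?_) x hx
  · simp only [cw_zero, unmask_zero]; exact isCw_empty
  · simp only [cw_xor hx hy, unmask_xor (cw_lt hx) (cw_lt hy)]; exact h1.symmDiff h2

theorem eq_cw_of_syn {m : ℕ} (h : syn m = 0) : m = cw (m &&& 4095) := by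
  rw [syn_def, Nat.xor_eq_zero_iff] at h
  rw [cw_def, ← h]
  apply Nat.eq_of_testBit_eq
  intro t
  rw [Nat.testBit_xor, Nat.testBit_and, Nat.testBit_shiftLeft, Nat.testBit_shiftRight,
    show (4095 : ℕ) = 2 ^ 12 - 1 by norm_num, Nat.testBit_two_pow_sub_one]
  by_cases ht : t < 12
  · simp [ht, not_le.2 ht]
  · simp [ht, not_lt.1 ht]

theorem syn_qrM : ∀ j < 24, syn (qrM.getD j 0) = 0 := by decide +kernel

theorem syn_zero : syn 0 = 0 := by decide +kernel

theorem isCw_iff {s : Finset GolayPt} : IsCw s ↔ syn (mask s) = 0 := by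
  constructor
  · rintro ⟨w, hw, rfl⟩
    induction hw using Submodule.span_induction with
    | mem x hx =>
      rcases hx with ⟨t, rfl⟩ | rfl
      · rw [mask_qrWord]; exact syn_qrM _ (by have := t.val_lt; omega)
      · have : support₂ (1 : GolayPt → ZMod 2) = univ := by ext a; simp [mem_support₂]
        rw [this, mask_univ]; decide +kernel
    | zero => rw [support₂_zero, mask_empty, syn_zero]
    | add x y _ _ hx hy =>
      rw [support₂_add, mask_symmDiff]
      change syn (_ ^^^ _) = 0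
      rw [syn_xor, hx, hy]; rfl
    | smul a x _ hx =>
      have : a = 0 ∨ a = 1 := by revert a; decide
      rcases this with rfl | rfl
      · rw [zero_smul, support₂_zero, mask_empty, syn_zero]
      · rwa [one_smul]
  · intro h
    rw [← unmask_mask s, eq_cw_of_syn h]
    exact isCw_cw (and4095_lt _)

theorem isCw_unmask {m : ℕ} (hm : m < 2 ^ 24) : IsCw (unmask m) ↔ syn m = 0 := by
  rw [isCw_iff, mask_unmask hm]

theorem syn_eq_iff {s t : Finset GolayPt} : syn (mask s) = syn (mask t) ↔ IsCw (s ∆ t) := by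
  rw [isCw_iff, mask_symmDiff]
  change _ ↔ syn (_ ^^^ _) = 0
  rw [syn_xor, Nat.xor_eq_zero_iff]

theorem IsCw.exists_cw {s : Finset GolayPt} (h : IsCw s) : ∃ x < 2 ^ 12, mask s = cw x :=
  ⟨_, and4095_lt _, eq_cw_of_syn (isCw_iff.1 h)⟩

theorem IsCw.card {s : Finset GolayPt} (h : IsCw s) :
    s.card = 0 ∨ s.card = 8 ∨ s.card = 12 ∨ s.card = 16 ∨ s.card = 24 := by
  obtain ⟨x, hx, e⟩ := h.exists_cw
  rw [card_eq_pc, e]
  rcases (cw_facts hx).2.2.2 with h | h | h | h | rfl
  · simp [h]
  · simp [h]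
  · simp [h]
  · simp [h]
  · left; decide +kernel

theorem IsCw.induction {P : Finset GolayPt → Prop} (h0 : P ∅)
    (hb : ∀ i < 12, P (unmask (cw (2 ^ i)))) (hs : ∀ s t, P s → P t → P (s ∆ t)) :
    ∀ s, IsCw s → P s := by
  intro s h
  obtain ⟨x, hx, e⟩ := h.exists_cw
  rw [eq_unmask e]
  refine bits_induction (P := fun x => P (unmask (cw x))) ?_ hb (fun x hx y hy h1 h2 => ?_) x hx
  · simp only [cw_zero, unmask_zero]; exact h0
  · simp only [cw_xor hx hy, unmask_xor (cw_lt hx) (cw_lt hy)]; exact hs _ _ h1 h2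

/-- Counting code words with a property by running over the information parts. -/
theorem ncard_cw {P : Finset GolayPt → Prop} {f : ℕ → Bool}
    (hf : ∀ s, IsCw s → (P s ↔ f (mask s) = true)) :
    {s | IsCw s ∧ P s}.ncard = bsum (fun x => b2n (force (cw x) f)) 12 0 := by
  rw [bsum_count, ← Set.ncard_coe_finset]
  symm
  refine Set.ncard_congr (fun x _ => unmask (cw x)) ?_ ?_ ?_
  · intro x hx
    simp only [coe_filter, mem_range, Set.mem_ofPred_eq, force_eq] at hx
    refine ⟨isCw_cw hx.1, (hf _ (isCw_cw hx.1)).2 ?_⟩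
    rw [mask_unmask (cw_lt hx.1)]; exact hx.2
  · intro x y hx hy e
    simp only [coe_filter, mem_range, Set.mem_ofPred_eq] at hx hy
    have := congrArg mask e
    rw [mask_unmask (cw_lt hx.1), mask_unmask (cw_lt hy.1)] at this
    rw [← (cw_facts hx.1).2.1, this, (cw_facts hy.1).2.1]
  · rintro s ⟨hs, hP⟩
    obtain ⟨x, hx, e⟩ := hs.exists_cw
    refine ⟨x, ?_, (eq_unmask e).symm⟩
    simp only [coe_filter, mem_range, Set.mem_ofPred_eq, force_eq]
    exact ⟨hx, e ▸ (hf s hs).1 hP⟩

/-- A property of all code words by running over the information parts. -/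
theorem forall_cw {f : ℕ → Bool} (h : ball (fun x => force (cw x) f) 12 0 = true) :
    ∀ s, IsCw s → f (mask s) = true := by
  intro s hs
  obtain ⟨x, hx, e⟩ := hs.exists_cw
  simpa [e] using ball_zero h x hx

theorem mem_famOf_golay {s : Finset GolayPt} : s ∈ famOf golayCode ↔ IsCw s := by
  rw [mem_famOf, isCw_iff_ind]

theorem card_golayPt : Fintype.card GolayPt = 24 := by simp [ZMod.card]

theorem golayFam : GolayFam (famOf golayCode) where
  card_univ := card_golayPt
  symm s hs t ht := by rw [mem_famOf_golay] at *; exact hs.symmDiff ht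
  card := by
    have : {s | IsCw s ∧ True}.ncard = 4096 := by
      rw [ncard_cw (f := fun _ => true) (by simp)]; decide +kernel
    rw [← this, ← Set.ncard_coe_finset]
    congr 1
    ext s; simp [mem_famOf_golay]
  minwt s hs hne := by
    rw [mem_famOf_golay] at hs
    have := hs.card
    have h0 : s.card ≠ 0 := by rwa [Ne, card_eq_zero]
    omega

theorem IsCw.eq_empty {s : Finset GolayPt} (h : IsCw s) (h8 : s.card < 8) : s = ∅ := by
  have := h.card
  exact card_eq_zero.1 (by omega)

theorem ncard_octads : octads.ncard = 759 := by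
  have : octads = {s | IsCw s ∧ s.card = 8} := rfl
  rw [this, ncard_cw (f := fun m => Nat.beq (pc m) 8) (by simp [card_eq_pc])]
  decide +kernel

theorem ncard_dodecads : dodecads.ncard = 2576 := by
  have : dodecads = {s | IsCw s ∧ s.card = 12} := rfl
  rw [this, ncard_cw (f := fun m => Nat.beq (pc m) 12) (by simp [card_eq_pc])]
  decide +kernel

theorem exists_octad {F : Finset GolayPt} (hF : F.card = 5) : ∃ o ∈ octads, F ⊆ o := by
  obtain ⟨o, ho, h8, h⟩ := golayFam.exists_octad hF
  exact ⟨o, ⟨mem_famOf_golay.1 ho, h8⟩, h⟩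

theorem octad_unique {o o' : Finset GolayPt} (ho : o ∈ octads) (ho' : o' ∈ octads)
    (h5 : 5 ≤ (o ∩ o').card) : o = o' :=
  golayFam.octad_unique (mem_famOf_golay.2 ho.1) (mem_famOf_golay.2 ho'.1) ho.2 ho'.2 h5

theorem exists_leader (x : Finset GolayPt) : ∃ u : Finset GolayPt, u.card ≤ 4 ∧ IsCw (x ∆ u) := by
  obtain ⟨u, h1, h2⟩ := golayFam.exists_leader x
  exact ⟨u, h1, mem_famOf_golay.1 h2⟩

theorem IsCw.octad_induction {P : Finset GolayPt → Prop} (h0 : P ∅) (h8 : ∀ o ∈ octads, P o)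
    (hs : ∀ s t, IsCw s → IsCw t → P s → P t → P (s ∆ t)) : ∀ s, IsCw s → P s := fun s h =>
  golayFam.induction h0 (fun o ho e => h8 o ⟨mem_famOf_golay.1 ho, e⟩)
    (fun s hs' t ht => hs s t (mem_famOf_golay.1 hs') (mem_famOf_golay.1 ht)) s (mem_famOf_golay.2 h)

theorem IsCw.four_dvd {s : Finset GolayPt} (h : IsCw s) : 4 ∣ s.card := by
  have := h.card; omega

theorem IsCw.even_inter {s t : Finset GolayPt} (hs : IsCw s) (ht : IsCw t) : 2 ∣ (s ∩ t).card := by
  have h1 := hs.four_dvd
  have h2 := ht.four_dvd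
  have h3 := (hs.symmDiff ht).four_dvd
  have := card_symmDiff_add s t
  omega

/-! ### Membership in `M24` -/

theorem smul_symmDiff (g : Equiv.Perm GolayPt) (s t : Finset GolayPt) :
    g • (s ∆ t) = (g • s) ∆ (g • t) := Finset.smul_finset_symmDiff

theorem mem_M24 {g : Equiv.Perm GolayPt} : g ∈ M24 ↔ ∀ s, IsCw s → IsCw (g • s) := by
  rw [MulAction.mem_stabilizer_iff]
  constructor
  · intro h s hs
    have : g • s ∈ g • supports (golayCode : Set (GolayPt → ZMod 2)) := Set.smul_mem_smul_set hs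
    rwa [h] at this
  · intro h
    apply Set.eq_of_subset_of_ncard_le
    · rintro _ ⟨s, hs, rfl⟩; exact h s hs
    · rw [Set.ncard_smul_set]
    · exact Set.toFinite _

theorem IsCw.smul {s : Finset GolayPt} (hs : IsCw s) {g : Equiv.Perm GolayPt} (hg : g ∈ M24) :
    IsCw (g • s) := mem_M24.1 hg s hs

theorem isCw_smul_iff {s : Finset GolayPt} {g : Equiv.Perm GolayPt} (hg : g ∈ M24) :
    IsCw (g • s) ↔ IsCw s :=
  ⟨fun h => by simpa using h.smul (M24.inv_mem hg), fun h => h.smul hg⟩

theorem octad_smul {o : Finset GolayPt} (ho : o ∈ octads) {g : Equiv.Perm GolayPt}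
    (hg : g ∈ M24) : g • o ∈ octads := ⟨IsCw.smul ho.1 hg, by rw [card_smul_finset]; exact ho.2⟩

theorem dodecad_smul {o : Finset GolayPt} (ho : o ∈ dodecads) {g : Equiv.Perm GolayPt}
    (hg : g ∈ M24) : g • o ∈ dodecads := ⟨IsCw.smul ho.1 hg, by rw [card_smul_finset]; exact ho.2⟩

/-- Masks of the systematic basis. -/
def basisM : List ℕ := [nat_lit 0xc75001, nat_lit 0x49f002, nat_lit 0xd4b004, nat_lit 0x6e3008, nat_lit 0x9b3010, nat_lit 0xb66020, nat_lit 0xecc040, nat_lit 0x1ed080, nat_lit 0x3da100, nat_lit 0x7b4200, nat_lit 0xb1d400, nat_lit 0xe3a800]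

theorem basisM_eq : ∀ i < 12, cw (2 ^ i) ∈ basisM := by decide +kernel

/-- The permutation with code `p` preserves the code. -/
noncomputable def presC (p : ℕ) : Bool :=
  lall basisM fun b => force (act p b) fun c => Nat.beq (syn c) (nat_lit 0)

/-- `p` is the code of an element of `M24`. -/
noncomputable def isM24 (p : ℕ) : Bool := band (isPerm p) (presC p)

theorem mem_M24_of_presC {g : Equiv.Perm GolayPt} (h : presC (pcode g) = true) : g ∈ M24 := by
  rw [mem_M24]
  refine IsCw.induction (by simpa using isCw_empty) (fun i hi => ?_) fun s t h1 h2 => ?_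
  · have := (lall_iff _ _).1 h _ (basisM_eq i hi)
    rw [force_eq, Nat.beq_eq] at this
    rw [isCw_iff, ← act_mask, mask_unmask (cw_lt (Nat.pow_lt_pow_right (by norm_num) hi))]
    exact this
  · rw [smul_symmDiff]; exact h1.symmDiff h2

theorem basisM_cw : ∀ b ∈ basisM, b < 2 ^ 24 ∧ syn b = 0 := by decide +kernel

theorem presC_of_mem {g : Equiv.Perm GolayPt} (h : g ∈ M24) : presC (pcode g) = true := by
  rw [presC, lall_iff]
  intro b hb
  obtain ⟨h1, h2⟩ := basisM_cw b hb
  rw [force_eq, Nat.beq_eq, ← mask_unmask h1, act_mask]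
  exact isCw_iff.1 (((isCw_unmask h1).2 h2).smul h)

/-- Code of an element of `M24`. -/
noncomputable def mcode (g : M24) : ℕ := pcode g

theorem gcM : GC mcode mul inv one := gcP.subgroup M24
theorem acM : AC mcode Set.univ idx ap := acP.subgroup M24
theorem acSM : AC (X := Finset GolayPt) mcode Set.univ mask act := acS.subgroup M24

theorem exists_mcode {p : ℕ} (h : isM24 p = true) : ∃ g : M24, mcode g = p := by
  rw [isM24, band_eq, Bool.and_eq_true] at h
  obtain ⟨g, rfl⟩ := exists_pcode h.1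
  exact ⟨⟨g, mem_M24_of_presC h.2⟩, rfl⟩

theorem valid_mcode {l : List ℕ} (h : lall l isM24 = true) : Valid mcode l :=
  fun s hs => exists_mcode ((lall_iff _ _).1 h s hs)

open Classical in
/-- The element of `M24` with code `p` (junk value `1`). -/
noncomputable def elt (p : ℕ) : M24 := if h : ∃ g : M24, mcode g = p then h.choose else 1

theorem mcode_elt {p : ℕ} (h : isM24 p = true) : mcode (elt p) = p := by
  rw [elt, dif_pos (exists_mcode h)]; exact (exists_mcode h).choose_spec

theorem mcode_elt' {p : ℕ} (h : ∃ g : M24, mcode g = p) : mcode (elt p) = p := by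
  rw [elt, dif_pos h]; exact h.choose_spec

end Cfsg.Agent.M24
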