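import Cfsg.Agent.M24.Golay

/-!
# `M24`: generators, order, 5-transitivity
-/

set_option autoImplicit false

namespace Cfsg.Agent.M24

open Finset MulAction
open scoped Pointwise symmDiff

theorem fix_octad {g : Equiv.Perm GolayPt} (hg : g ∈ M24) {o F : Finset GolayPt} (ho : o ∈ octads)
    (hF : ∀ a ∈ F, g a = a) (h5 : 5 ≤ (F ∩ o).card) : g • o = o := by
  refine octad_unique (octad_smul ho hg) ho (h5.trans (card_le_card fun a ha => ?_))
  rw [mem_inter] at ha ⊢
  refine ⟨?_, ha.2⟩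
  have : g • a ∈ g • o := smul_mem_smul_finset ha.2
  rwa [Equiv.Perm.smul_def, hF a ha.1] at this

/-- `m` is the mask of an octad. -/
noncomputable def isOct (m : ℕ) : Bool :=
  band (Nat.ble (Nat.succ m) (nat_lit 16777216))
    (band (Nat.beq (syn m) (nat_lit 0)) (Nat.beq (pc m) (nat_lit 8)))

theorem isOct_iff {s : Finset GolayPt} : isOct (mask s) = true ↔ s ∈ octads := by
  have := mask_lt s
  simp only [isOct, band_eq, Bool.and_eq_true, Nat.ble_eq, Nat.beq_eq, mem_octads, isCw_iff,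
    card_eq_pc]
  exact ⟨fun h => h.2, fun h => ⟨this, h⟩⟩

theorem isOct_sound {m : ℕ} (h : isOct m = true) : unmask m ∈ octads ∧ mask (unmask m) = m := by
  have h1 : m < 2 ^ 24 := by
    simp only [isOct, band_eq, Bool.and_eq_true, Nat.ble_eq] at h
    exact h.1
  exact ⟨isOct_iff.1 (by rwa [mask_unmask h1]), mask_unmask h1⟩

/-- All of `os` are octads with at least five points in `F`. -/
noncomputable def octsOn (F : ℕ) (os : List ℕ) : Bool :=
  lall os fun o => band (isOct o) (Nat.ble (nat_lit 5) (pc (Nat.land F o)))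

/-- `y` is a possible image of `x` under an element fixing `F` pointwise and all of `os`. -/
noncomputable def cand (F : ℕ) (os : List ℕ) (x y : ℕ) : Bool :=
  band (!F.testBit y) (lall os fun o => o.testBit x == o.testBit y)

theorem cand_of_fix {g : Equiv.Perm GolayPt} (hg : g ∈ M24) {F : Finset GolayPt} {os : List ℕ}
    (hos : octsOn (mask F) os = true) (hF : ∀ a ∈ F, g a = a) {x : GolayPt} (hx : x ∉ F) :
    cand (mask F) os (idx x) (idx (g x)) = true := by
  simp only [cand, band_eq, Bool.and_eq_true, lall_iff, Bool.not_eq_true', beq_iff_eq]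
  refine ⟨?_, fun o ho => ?_⟩
  · rw [← Bool.not_eq_true, testBit_mask]
    intro h
    exact hx (g.injective (hF _ h) ▸ h)
  · have h1 := (lall_iff _ _).1 hos o ho
    simp only [band_eq, Bool.and_eq_true, Nat.ble_eq] at h1
    obtain ⟨h2, h3⟩ := isOct_sound h1.1
    have h4 := fix_octad hg h2 hF (by rw [card_eq_pc, mask_inter, h3]; exact h1.2)
    rw [Bool.eq_iff_iff, ← mem_unmask, ← mem_unmask]
    conv_rhs => rw [← h4]
    exact (smul_mem_smul_finset_iff g).symm

/-- Certificate that every element of `M24` fixing `F` pointwise fixes `F'` pointwise. -/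
noncomputable def fixChk (F : ℕ) (os : List ℕ) (F' : ℕ) : Bool :=
  band (octsOn F os) (nall 24 fun x => bor (!F'.testBit x) (bor (F.testBit x)
    (nall 24 fun y => bor (Nat.beq y x) (!cand F os x y))))

theorem fix_step {g : Equiv.Perm GolayPt} (hg : g ∈ M24) {F F' : ℕ} {os : List ℕ}
    (hlt : F < 2 ^ 24) (h : fixChk F os F' = true) (hF : ∀ a ∈ unmask F, g a = a) :
    ∀ a ∈ unmask F', g a = a := by
  intro a ha
  by_cases haF : a ∈ unmask F
  · exact hF a haF
  simp only [fixChk, band_eq, bor_eq, Bool.and_eq_true, nall_iff, Bool.or_eq_true,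
    Bool.not_eq_true', Nat.beq_eq] at h
  have h1 := cand_of_fix hg (os := os) (by rw [mask_unmask hlt]; exact h.1) hF haF
  rw [mask_unmask hlt] at h1
  rcases h.2 _ (idx_lt a) with h2 | h2 | h2
  · rw [mem_unmask, h2] at ha; exact absurd ha (by simp)
  · exact absurd (mem_unmask.2 h2) haF
  · rcases h2 _ (idx_lt (g a)) with h3 | h3
    · exact idx_inj h3
    · rw [h1] at h3; exact absurd h3 (by simp)

/-- Certificate for `Full` along a chain. -/
noncomputable def fullChk (Ls : List Lvl) : ℕ → List (List ℕ) → Bool :=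
  List.rec (motive := fun _ => ℕ → List (List ℕ) → Bool) (fun _ _ => true)
    (fun L _ ih F oss => band (band (octsOn F (oss.headD [])) (!F.testBit L.b))
      (band (nall 24 fun y => bor (!cand F (oss.headD []) L.b y) (L.t.has y))
        (ih (Nat.lor F (2 ^ L.b)) oss.tail))) Ls

theorem full_of_chk {Ls : List Lvl} {F : Finset GolayPt} {oss : List (List ℕ)}
    (h : fullChk Ls (mask F) oss = true) {H : Set (Equiv.Perm GolayPt)}
    (hH : ∀ g ∈ H, (∀ a ∈ F, g a = a) ∧ (g ∈ M24 ∨ ∀ os ∈ oss, os = [])) :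
    Full Set.univ idx H Ls := by
  induction Ls generalizing F oss H with
  | nil => trivial
  | cons L Ls ih =>
    have e : fullChk (L :: Ls) (mask F) oss = band (band (octsOn (mask F) (oss.headD []))
      (!(mask F).testBit L.b)) (band (nall 24 fun y => bor (!cand (mask F) (oss.headD []) L.b y)
        (L.t.has y)) (fullChk Ls (Nat.lor (mask F) (2 ^ L.b)) oss.tail)) := rfl
    rw [e] at h
    simp only [band_eq, bor_eq, Bool.and_eq_true, nall_iff, Bool.or_eq_true, Bool.not_eq_true'] at h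
    obtain ⟨⟨h1, h2⟩, h3, h4⟩ := h
    intro x₀ _ hb
    have hx : x₀ ∉ F := by rw [← testBit_mask, hb, h2]; simp
    refine ⟨fun g hg => ?_, ih (F := F ∪ {x₀}) (oss := oss.tail) ?_ ?_⟩
    · have hc : cand (mask F) (oss.headD []) (idx x₀) (idx (g x₀)) = true := by
        rcases (hH g hg).2 with hm | hm
        · exact cand_of_fix hm h1 (hH g hg).1 hx
        · have : oss.headD [] = [] := by
            cases oss with
            | nil => rfl
            | cons a l => exact hm a List.mem_cons_self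
          rw [this]
          simp only [cand, band_eq, Bool.and_eq_true, lall_iff, Bool.not_eq_true']
          refine ⟨?_, by simp⟩
          rw [← Bool.not_eq_true, testBit_mask]
          intro h
          exact hx (g.injective ((hH g hg).1 _ h) ▸ h)
      rcases h3 _ (idx_lt (g x₀)) with h5 | h5
      · rw [← hb, hc] at h5; exact absurd h5 (by simp)
      · exact T.has_sound h5
    · rw [mask_union, mask_singleton, hb]; exact h4
    · rintro g ⟨hg, hg'⟩
      refine ⟨fun a ha => ?_, (hH g hg).2.imp id fun hm os ho => hm os (List.mem_of_mem_tail ho)⟩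
      rcases mem_union.1 ha with ha | ha
      · exact (hH g hg).1 a ha
      · rw [mem_singleton.1 ha]; exact hg'

theorem bases_ok {Ls : List Lvl} (h : (Ls.all fun L => decide (L.b < 24)) = true) :
    ∀ L ∈ Ls, ∃ x ∈ (Set.univ : Set GolayPt), idx x = L.b := fun L hL =>
  ⟨pt L.b, trivial, idx_pt (by simpa using List.all_eq_true.1 h L hL)⟩

/-- Complete check of a chain of elements of `M24` on points. -/
noncomputable def chkM (Ls : List Lvl) : Bool :=
  band (band (lall (gensOf Ls) isM24) (Ls.all fun L => decide (L.b < 24)))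
    (chainChk mul inv one ap (nat_lit 24) Ls)

theorem chkM_sound {Ls : List Lvl} (h : chkM Ls = true) :
    Valid mcode (gensOf Ls) ∧ ChainOk mcode Set.univ idx Ls ∧
      Nat.card (gen mcode (gensOf Ls)) = chainSize Ls ∧
      ∀ g, g ∈ gen mcode (gensOf Ls) ↔ sift mul one ap Ls (mcode g) = true := by
  simp only [chkM, band_eq, Bool.and_eq_true] at h
  have hv := valid_mcode h.1.1
  obtain ⟨h1, -, h3⟩ := chain_sound gcM acM (bases_ok h.1.2) h.2 hv
  exact ⟨hv, h1, h1.card, h3⟩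

theorem Valid.pcode {l : List ℕ} (h : Valid mcode l) : Valid pcode l := fun s hs =>
  let ⟨g, hg⟩ := h s hs; ⟨g, hg⟩

theorem chkM_sound_perm {Ls : List Lvl} (h : chkM Ls = true) :
    ChainOk pcode Set.univ idx Ls ∧ gen pcode (gensOf Ls) ≤ M24 := by
  simp only [chkM, band_eq, Bool.and_eq_true] at h
  have hv := valid_mcode h.1.1
  refine ⟨(chain_sound gcP acP (bases_ok h.1.2) h.2 hv.pcode).1, gen_le fun g hg => ?_⟩
  obtain ⟨g', e⟩ := hv _ hg
  rw [← gcP.inj e]; exact g'.2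

theorem map_gen {l : List ℕ} (h : Valid mcode l) : (gen mcode l).map M24.subtype = gen pcode l := by
  rw [gen, MonoidHom.map_closure, gen]
  congr 1
  ext g
  constructor
  · rintro ⟨g', hg, rfl⟩; exact hg
  · intro hg
    obtain ⟨g', e⟩ := h _ hg
    exact ⟨g', by rw [Set.mem_ofPred_eq, e]; exact hg, gcP.inj e⟩

def cM_t0 : T := (.node (.node (.node (.node (.node .nil (nat_lit 0) (nat_lit 2) (nat_lit
  0x192c15a5418545220f582dae7c677) .nil) (nat_lit 1) (nat_lit 65) (nat_lit 0x2582b4a830a8a441eb05b5cf8cee6)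
  (.node .nil (nat_lit 2) (nat_lit 2081) (nat_lit 0x305695061514883d60b6b9f19dcc9) .nil)) (nat_lit 3) (nat_lit
  66593) (nat_lit 0xad2a0c2a29107ac16d73e33b992c) (.node (.node .nil (nat_lit 4) (nat_lit 66626) (nat_lit
  0x216ea35240da055307513cf78ca66) .nil) (nat_lit 5) (nat_lit 82480) (nat_lit
  0x98047946cfab9ab4c026222ea2d183) .nil)) (nat_lit 6) (nat_lit 2577) (nat_lit
  0x988f28d9f573569804c445d45a3060) (.node (.node (.node .nil (nat_lit 7) (nat_lit 82465) (nat_lit
  0x99e51b3eae6ad3009888ba8b460c02) .nil) (nat_lit 8) (nat_lit 82434) (nat_lit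
  0x8d48174d866bcb05a0f7b287490920) .nil) (nat_lit 9) (nat_lit 82449) (nat_lit
  0x8b116789c76ae06a8ee524c2a92680) (.node (.node .nil (nat_lit 10) (nat_lit 0x208a11) (nat_lit
  0xb4d72a242c515151ddaf800ee11226) .nil) (nat_lit 11) (nat_lit 82481) (nat_lit
  0x58951bd88a1552bace130930745b3) .nil))) (nat_lit 12) (nat_lit 0x208a10) (nat_lit
  0x3580da926990a373b9f05b0682a834) (.node (.node (.node (.node .nil (nat_lit 13) (nat_lit 66640) (nat_lit
  0x301b524d32146e773e0b60d0550696) .nil) (nat_lit 14) (nat_lit 2082) (nat_lit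
  0x336a49a6428dcee7c16c1a0aa0d2c0) .nil) (nat_lit 15) (nat_lit 66625) (nat_lit
  0x354934c851b9dcf82d8341541a580d) (.node (.node .nil (nat_lit 16) (nat_lit 0x208630) (nat_lit
  0x4828b098776ce2fb3882ac1883aa45) .nil) (nat_lit 17) (nat_lit 66609) (nat_lit
  0x4d16130eed9c5f67105583107548a0) .nil)) (nat_lit 18) (nat_lit 2562) (nat_lit
  0x9c10a7dc497448b69ea691423a5980) (.node (.node (.node .nil (nat_lit 19) (nat_lit 2097) (nat_lit
  0x34a03bd26b8bdc269587aa4880d940) .nil) (nat_lit 20) (nat_lit 67105) (nat_lit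
  0x34077a4d717b84d2b0f549101b2812) .nil) (nat_lit 21) (nat_lit 2576) (nat_lit
  0x4ee64b05695061514883d60b6b9f1) (.node (.node .nil (nat_lit 22) (nat_lit 80) (nat_lit
  0x5cc960ad2a0c2a29107ac16d73e33) .nil) (nat_lit 23) (nat_lit 0) (nat_lit 0xbdab49ca307b9ac5a928398a418820)
  .nil))))
def cM_l0 : Lvl := ⟨nat_lit 23, [nat_lit 0xb82d5a4e5183dcd62d4941cc520c41, nat_lit
  0x49100c447190b4336aa4d98b7cdd7], [nat_lit 0, nat_lit 0], cM_t0⟩
def cM_t1 : T := (.node (.node (.node (.node (.node .nil (nat_lit 0) (nat_lit 0) (nat_lit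
  0xbdab49ca307b9ac5a928398a418820) .nil) (nat_lit 1) (nat_lit 16449) (nat_lit
  0xbadb52c28f70928985461b0f68c804) .nil) (nat_lit 2) (nat_lit 514) (nat_lit 0xbc847199b67918aa553328510581d1)
  (.node (.node .nil (nat_lit 3) (nat_lit 1) (nat_lit 0xb8e2a3916f0d525419929b6900584e) .nil) (nat_lit 4)
  (nat_lit 1073) (nat_lit 0xbaec7329b178e05ac90e251800a453) .nil)) (nat_lit 5) (nat_lit 2113) (nat_lit
  0xb9d8998635b10cda38455c80853e03) (.node (.node (.node .nil (nat_lit 6) (nat_lit 16450) (nat_lit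
  0xbc2438b12b75901ab545380cf99054) .nil) (nat_lit 7) (nat_lit 65) (nat_lit 0xba131a3d41ad992388cd01663591d0)
  .nil) (nat_lit 8) (nat_lit 49) (nat_lit 0xbc453550d58588c72160915237b427) (.node (.node .nil (nat_lit 9)
  (nat_lit 17457) (nat_lit 0xba8d459d81756c910c132b630249e8) .nil) (nat_lit 10) (nat_lit 561) (nat_lit
  0xb85e83b562b18b1981501a65573094) .nil))) (nat_lit 11) (nat_lit 17) (nat_lit
  0xbd427a154e20a4902e23431b6819f3) (.node (.node (.node (.node .nil (nat_lit 12) (nat_lit 67617) (nat_lit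
  0xbaa2e5a296830402c9a19993519de4) .nil) (nat_lit 13) (nat_lit 50705) (nat_lit
  0xbda0a4b267a04047985172cad1a2b2) .nil) (nat_lit 14) (nat_lit 16) (nat_lit 0xb89c53a2a4800c98d1ab9a992b05e3)
  (.node (.node .nil (nat_lit 15) (nat_lit 1104) (nat_lit 0xbd5e454c61022c561e8672da984452) .nil) (nat_lit 16)
  (nat_lit 34) (nat_lit 0xbc0677258013e8d32cb35588195628) .nil)) (nat_lit 17) (nat_lit 545) (nat_lit
  0xbc14b458047862d1b125a48ee9d4c2) (.node (.node (.node .nil (nat_lit 18) (nat_lit 1584) (nat_lit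
  0xbb6c990043a9cab34c8e521948860f) .nil) (nat_lit 19) (nat_lit 2) (nat_lit 0xb92d3035230c0a654587a0a4f43aab)
  .nil) (nat_lit 20) (nat_lit 66) (nat_lit 0xbbc8059588a8e428a4d49b9a13c2ca) (.node (.node .nil (nat_lit 21)
  (nat_lit 528) (nat_lit 0xb840c9add220d4da94d13d12813e16) .nil) (nat_lit 22) (nat_lit 33) (nat_lit
  0xb81669c10114594934a43a54f70ed5) .nil))))
def cM_l1 : Lvl := ⟨nat_lit 0, [nat_lit 0xb89c53a2a4800c98d1ab9a992b05e3, nat_lit
  0xbd427a154e20a4902e23431b6819f3], [nat_lit 0x8220842284202108218c611, nat_lit 0x20884108831], cM_t1⟩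
def cM_t2 : T := (.node (.node (.node (.node (.node .nil (nat_lit 1) (nat_lit 0) (nat_lit
  0xbdab49ca307b9ac5a928398a418820) .nil) (nat_lit 2) (nat_lit 17) (nat_lit 0xba5d3230a76d862445eb5569030640)
  .nil) (nat_lit 3) (nat_lit 1584) (nat_lit 0xbc9067c687610a2836c95546e0cd60) (.node (.node .nil (nat_lit 4)
  (nat_lit 514) (nat_lit 0xbac959d868542453b6297ba8133040) .nil) (nat_lit 5) (nat_lit 65) (nat_lit
  0xb8a2a2a5c623612ad9135bc233b280) .nil)) (nat_lit 6) (nat_lit 16464) (nat_lit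
  0xb8d13152aab1dc5899af9048983160) (.node (.node (.node .nil (nat_lit 7) (nat_lit 34353) (nat_lit
  0xbd66d28acb4b8f41bd060aa2494180) .nil) (nat_lit 8) (nat_lit 16449) (nat_lit
  0xb8a83aa964419e5844e14cace6b260) .nil) (nat_lit 9) (nat_lit 34) (nat_lit 0xb8db28cd265960f2202eaaad43b040)
  (.node (.node .nil (nat_lit 10) (nat_lit 1073) (nat_lit 0xbb9516b1e444d22306a35cac53d200) .nil) (nat_lit 11)
  (nat_lit 1104) (nat_lit 0xba4d115a4b9914f09d15851ae2b060) .nil))) (nat_lit 12) (nat_lit 66) (nat_lit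
  0xbd471288f3b19215c1c8235547c980) (.node (.node (.node (.node .nil (nat_lit 13) (nat_lit 2562) (nat_lit
  0xba266a39ab3903183d564d4a21c980) .nil) (nat_lit 14) (nat_lit 49) (nat_lit 0xbac74332483854225a0e496356cde0)
  .nil) (nat_lit 15) (nat_lit 80) (nat_lit 0xba894144a90a072b34f07cccbab1c0) (.node (.node .nil (nat_lit 16)
  (nat_lit 2576) (nat_lit 0xb952271a818da723d5af1ac9043140) .nil) (nat_lit 17) (nat_lit 33) (nat_lit
  0xbce568c025aa90c1adc621ded48a80) .nil)) (nat_lit 18) (nat_lit 2) (nat_lit 0xbb8c5a05444d5f241ecb80e336b040)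
  (.node (.node (.node .nil (nat_lit 19) (nat_lit 16) (nat_lit 0xbc6130968f92ccc48d47692a870ac0) .nil)
  (nat_lit 20) (nat_lit 528) (nat_lit 0xbd1e1b56722a48c5386d3220758a20) .nil) (nat_lit 21) (nat_lit 1585)
  (nat_lit 0xbc026a8a2952db3748e4b0e882bd80) (.node .nil (nat_lit 22) (nat_lit 1) (nat_lit
  0xb84b1a3ed580cec725644364650a60) .nil))))
def cM_l2 : Lvl := ⟨nat_lit 1, [nat_lit 0xbc6130968f92ccc48d47692a870ac0, nat_lit
  0xba5d3230a76d862445eb5569030640], [nat_lit 0x1108421, nat_lit 0x20863108421], cM_t2⟩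
def cM_t3 : T := (.node (.node (.node (.node (.node .nil (nat_lit 2) (nat_lit 0) (nat_lit
  0xbdab49ca307b9ac5a928398a418820) .nil) (nat_lit 3) (nat_lit 49) (nat_lit 0xbbd48914c3a4ec95c22d710ec15420)
  .nil) (nat_lit 4) (nat_lit 1585) (nat_lit 0xbc60a4da65411d57b4cc91d62a0c20) (.node (.node .nil (nat_lit 5)
  (nat_lit 50721) (nat_lit 0xbbd8a2527019d76935058a44ea9820) .nil) (nat_lit 6) (nat_lit 17953) (nat_lit
  0xba46a2d0c892ec7612ad889f383820) .nil)) (nat_lit 7) (nat_lit 16929) (nat_lit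
  0xb9cb07266a436c43568c10e4b7c420) (.node (.node (.node .nil (nat_lit 8) (nat_lit 65) (nat_lit
  0xb954f89134638d06d46259d129d820) .nil) (nat_lit 9) (nat_lit 16) (nat_lit 0xb9e14332284cc83b28555b9a593c20)
  .nil) (nat_lit 10) (nat_lit 2097) (nat_lit 0xb8eaa819c479d76289328a1b365020) (.node .nil (nat_lit 11)
  (nat_lit 16944) (nat_lit 0xb99906be6588e491550a3b97625020) .nil))) (nat_lit 12) (nat_lit 17) (nat_lit
  0xba555635d2a18e2b2224995637c020) (.node (.node (.node (.node .nil (nat_lit 13) (nat_lit 2114) (nat_lit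
  0xb9864931734584d73cb48263551c20) .nil) (nat_lit 14) (nat_lit 16450) (nat_lit
  0xbb53223ce32890b752d06466aa9820) .nil) (nat_lit 15) (nat_lit 1) (nat_lit 0xbad1470e35118b23a9f0b4c8d62420)
  (.node (.node .nil (nat_lit 16) (nat_lit 2) (nat_lit 0xbae8f3c1221c6532d6ca6b8c823020) .nil) (nat_lit 17)
  (nat_lit 514) (nat_lit 0xbda895a04f945866c0ea24dd528c20) .nil)) (nat_lit 18) (nat_lit 66) (nat_lit
  0xb95e368acc2260735175945ca44c20) (.node (.node (.node .nil (nat_lit 19) (nat_lit 561) (nat_lit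
  0xbc50a11ccda9670491c362ecfa4820) .nil) (nat_lit 20) (nat_lit 34) (nat_lit 0xb9e82b55e96446e2216a29a706c820)
  .nil) (nat_lit 21) (nat_lit 80) (nat_lit 0xbb44f74d2ab1d045d5942c64680c20) (.node .nil (nat_lit 22) (nat_lit
  529) (nat_lit 0xb89501926ca396f3d625336d24a020) .nil))))
def cM_l3 : Lvl := ⟨nat_lit 2, [nat_lit 0xb9e14332284cc83b28555b9a593c20, nat_lit
  0xba555635d2a18e2b2224995637c020], [nat_lit 0x84210a0208621, nat_lit 0x40501085084041], cM_t3⟩
def cM_t4 : T := (.node (.node (.node (.node (.node .nil (nat_lit 3) (nat_lit 0) (nat_lit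
  0xbdab49ca307b9ac5a928398a418820) .nil) (nat_lit 4) (nat_lit 16449) (nat_lit
  0xbc4f49c18e548b6225ed3550358820) .nil) (nat_lit 5) (nat_lit 514) (nat_lit 0xbd97543cad3b88aa1a699307088820)
  (.node (.node .nil (nat_lit 6) (nat_lit 17) (nat_lit 0xb98aa8a213a12b25bd2c70da7b0820) .nil) (nat_lit 7)
  (nat_lit 526370) (nat_lit 0xbacaa75a6c4990d251f01c4f2a8820) .nil)) (nat_lit 8) (nat_lit 1073) (nat_lit
  0xbad30a38f26cd858d88353cc8a8820) (.node (.node (.node .nil (nat_lit 9) (nat_lit 33857) (nat_lit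
  0xbae1122aa874e4f494746d8ec30820) .nil) (nat_lit 10) (nat_lit 16913) (nat_lit
  0xbb64e59d448a6d330cb54329078820) .nil) (nat_lit 11) (nat_lit 16929) (nat_lit
  0xbb0d49bad24c1111bd45a9dab20820) (.node .nil (nat_lit 12) (nat_lit 33) (nat_lit
  0xbd58d91687b28c38c08e42d3378820) .nil))) (nat_lit 13) (nat_lit 529) (nat_lit
  0xbc4876a90534869a566f8596e60820) (.node (.node (.node (.node .nil (nat_lit 14) (nat_lit 526385) (nat_lit
  0xbd509635d3a0cf0229f692ca688820) .nil) (nat_lit 15) (nat_lit 528) (nat_lit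
  0xbbed124d6a1a295338a78364960820) .nil) (nat_lit 16) (nat_lit 17442) (nat_lit
  0xb96122192363e33aad076da8e50820) (.node .nil (nat_lit 17) (nat_lit 545) (nat_lit
  0xbda8b49c6493a06ab1137aa2d28820) .nil)) (nat_lit 18) (nat_lit 1058) (nat_lit
  0xbbcd638e548212e8b4859d58a58820) (.node (.node (.node .nil (nat_lit 19) (nat_lit 16464) (nat_lit
  0xbaa2c1cc895b687ac9067160fb0820) .nil) (nat_lit 20) (nat_lit 560) (nat_lit
  0xbcac36a6ac2cd7453a2f240e830820) .nil) (nat_lit 21) (nat_lit 16) (nat_lit 0xbb0662a5a8ac16fa1e6a74492b0820)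
  (.node .nil (nat_lit 22) (nat_lit 1) (nat_lit 0xb8deb490ce61e366a25055265a8820) .nil))))
def cM_l4 : Lvl := ⟨nat_lit 3, [nat_lit 0xbb0662a5a8ac16fa1e6a74492b0820, nat_lit
  0xb98aa8a213a12b25bd2c70da7b0820], [nat_lit 0x21108842, nat_lit 0x22106301085010a0210442], cM_t4⟩
def cM_t5 : T := (.node (.node .nil (nat_lit 5) (nat_lit 0) (nat_lit 0xbdab49ca307b9ac5a928398a418820) .nil)
  (nat_lit 14) (nat_lit 2) (nat_lit 0xba4eca91d491550b216d99a2f18820) (.node .nil (nat_lit 17) (nat_lit 1)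
  (nat_lit 0xba0d6aa4b26c56a792143cdcc18820) .nil))
def cM_l5 : Lvl := ⟨nat_lit 5, [nat_lit 0xbd268341c9595e46b2563d62a18820, nat_lit
  0xbae703bcac245144b6caa99d218820, nat_lit 0xbca0fb4dcb49507aaa862362c18820], [nat_lit 80, nat_lit
  0x1180841084220843180822, nat_lit 0x422114041], cM_t5⟩
def cM_t6 : T := (.node (.node (.node (.node (.node .nil (nat_lit 4) (nat_lit 0) (nat_lit
  0xbdab49ca307b9ac5a928398a418820) .nil) (nat_lit 6) (nat_lit 2148) (nat_lit
  0xb9e086be3593a6952d94b10a618820) .nil) (nat_lit 7) (nat_lit 1091) (nat_lit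
  0xb99b28523343aaa4b16f258a718820) (.node .nil (nat_lit 8) (nat_lit 2) (nat_lit
  0xbc92655a2c3b9706cea47d0a818820) .nil)) (nat_lit 9) (nat_lit 1) (nat_lit 0xba91094e346b9e63d8955b0a918820)
  (.node (.node .nil (nat_lit 10) (nat_lit 4) (nat_lit 0xba64d4562f83a87312d362caa18820) .nil) (nat_lit 11)
  (nat_lit 67) (nat_lit 0xbb1f3a4232ab916218ed4a8ab18820) (.node .nil (nat_lit 12) (nat_lit 34916) (nat_lit
  0xbae957b6289ba44b1cd0524ac18820) .nil))) (nat_lit 13) (nat_lit 3) (nat_lit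
  0xbc0ea332364b892451ebaccad18820) (.node (.node (.node .nil (nat_lit 15) (nat_lit 35) (nat_lit
  0xbd17661a2a23933ac1a7448af18820) .nil) (nat_lit 16) (nat_lit 1124) (nat_lit
  0xbb4c93ae2453ac893e8c9d4b018820) (.node .nil (nat_lit 18) (nat_lit 1092) (nat_lit
  0xba1474922b3398d85676a3cb218820) .nil)) (nat_lit 19) (nat_lit 68) (nat_lit
  0xbd6cb22627638cfa224a834b318820) (.node (.node .nil (nat_lit 20) (nat_lit 100) (nat_lit
  0xbbd8459e29b39559b606920b418820) .nil) (nat_lit 21) (nat_lit 34) (nat_lit 0xbcc8cb2a265b8f47c9096c0b518820)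
  (.node .nil (nat_lit 22) (nat_lit 36) (nat_lit 0xb926faa22da3a0b6255231cb618820) .nil))))
def cM_l6 : Lvl := ⟨nat_lit 4, [nat_lit 0xba91094e346b9e63d8955b0a918820, nat_lit
  0xbc92655a2c3b9706cea47d0a818820, nat_lit 0xbc0ea332364b892451ebaccad18820, nat_lit
  0xba64d4562f83a87312d362caa18820], [nat_lit 0x85010470, nat_lit 68720, nat_lit 2128, nat_lit 112], cM_t6⟩
def cM : List Lvl := [cM_l0, cM_l1, cM_l2, cM_l3, cM_l4, cM_l5, cM_l6]

theorem cM_chk : chkM cM = true := by decide +kernel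

/-- The two generators of `M24`. -/
def gM : List ℕ := cM_l0.gens

theorem fix7 {g : Equiv.Perm GolayPt} (hg : g ∈ M24) (h : ∀ a ∈ unmask 8388671, g a = a) : g = 1 := by
  have h1 := fix_step hg (F' := 16629759) (os := [nat_lit 5279, nat_lit 10558, nat_lit 786999, nat_lit 0x21007b, nat_lit 0x50803d, nat_lit 0x800c75, nat_lit 0x8081b3, nat_lit 0x82402f, nat_lit 0x843039, nat_lit 0x84805e, nat_lit 0x8900bc, nat_lit 0x98081b, nat_lit 0xa0031d, nat_lit 0xb01036, nat_lit 0xc0063a, nat_lit 0xc12017]) (by norm_num) (by decide +kernel) h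
  have h2 := fix_step hg (F' := 16777215) (os := [nat_lit 18147]) (by norm_num) (by decide +kernel) h1
  ext a
  rw [h2 a (by rw [← mask_univ, unmask_mask]; exact mem_univ a)]; rfl

theorem gen_gM_perm : gen pcode gM = M24 := by
  obtain ⟨h1, h2⟩ := chkM_sound_perm cM_chk
  refine le_antisymm h2 fun g hg => ?_
  have hf : Full Set.univ idx (M24 : Set (Equiv.Perm GolayPt)) (cM.take 7) :=
    full_of_chk (F := ∅) (oss := [[], [], [], [], [], [8536111], [8536111]])
      (by rw [mask_empty]; decide +kernel) fun g hg => ⟨by simp, Or.inl hg⟩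
  obtain ⟨k, hk, hk'⟩ := h1.reduce acP 7 h2 hf g hg
  have : k * g = 1 := by
    refine fix7 (M24.mul_mem (h2 hk) hg) fun a ha => ?_
    have : ∀ a ∈ unmask 8388671, ∃ L ∈ cM.take 7, idx a = L.b := by decide +kernel
    obtain ⟨L, hL, e⟩ := this a ha
    exact hk' L hL a trivial e
  rw [eq_inv_of_mul_eq_one_right this]
  exact Subgroup.inv_mem _ hk

theorem valid_gM : Valid mcode gM := (chkM_sound cM_chk).1

theorem gen_gM : gen mcode gM = ⊤ := by
  apply Subgroup.map_injective M24.subtype_injective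
  rw [map_gen valid_gM, gen_gM_perm, ← MonoidHom.range_eq_map, Subgroup.range_subtype]

theorem card_M24 : Nat.card M24 = 244823040 := by
  have h := (chkM_sound cM_chk).2.2.1
  have e : gensOf cM = gM := rfl
  rw [e, gen_gM, Subgroup.card_top] at h
  rw [h]; decide +kernel

/-- The first five base points. -/
def B5 : Finset GolayPt := unmask 8388623

theorem agree_B5 (σ : Equiv.Perm GolayPt) : ∃ g ∈ M24, ∀ a ∈ B5, g a = σ a := by
  obtain ⟨h1, h2⟩ := chkM_sound_perm cM_chk
  have hf : Full Set.univ idx ((⊤ : Subgroup (Equiv.Perm GolayPt)) : Set (Equiv.Perm GolayPt))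
      (cM.take 5) :=
    full_of_chk (F := ∅) (oss := []) (by rw [mask_empty]; decide +kernel)
      fun g _ => ⟨by simp, Or.inr (by simp)⟩
  obtain ⟨k, hk, hk'⟩ := h1.reduce acP 5 le_top hf σ trivial
  refine ⟨k⁻¹, M24.inv_mem (h2 hk), fun a ha => ?_⟩
  have : ∀ a ∈ B5, ∃ L ∈ cM.take 5, idx a = L.b := by decide +kernel
  obtain ⟨L, hL, e⟩ := this a ha
  have := hk' L hL a trivial e
  rw [Equiv.Perm.smul_def, Equiv.Perm.mul_apply] at this
  rw [Equiv.Perm.inv_eq_iff_eq, this]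

theorem card_B5 : B5.card = 5 := by decide +kernel

theorem exists_perm_smul {s t : Finset GolayPt} (h : s.card = t.card) :
    ∃ σ : Equiv.Perm GolayPt, σ • s = t := by
  obtain ⟨σ, hσ⟩ := Equiv.Perm.exists_map_finset_eq s t h
  exact ⟨σ, by rw [← hσ, map_eq_image]; rfl⟩

/-- 5-transitivity: every permutation agrees on any five points with an element of `M24`. -/
theorem agree5 (σ : Equiv.Perm GolayPt) {F : Finset GolayPt} (hF : F.card ≤ 5) :
    ∃ g ∈ M24, ∀ a ∈ F, g a = σ a := by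
  obtain ⟨F', hFF, -, hF'⟩ := exists_subsuperset_card_eq (subset_univ F) hF
    (by rw [card_univ, card_golayPt]; norm_num)
  obtain ⟨τ, hτ⟩ := exists_perm_smul (card_B5.trans hF'.symm)
  obtain ⟨k₁, hk₁, e₁⟩ := agree_B5 τ
  obtain ⟨k₂, hk₂, e₂⟩ := agree_B5 (σ * τ)
  refine ⟨k₂ * k₁⁻¹, M24.mul_mem hk₂ (M24.inv_mem hk₁), fun a ha => ?_⟩
  have : a ∈ τ • B5 := hτ ▸ hFF ha
  obtain ⟨b, hb, rfl⟩ := mem_smul_finset.1 this
  have e3 : k₁⁻¹ (τ • b) = b := by rw [Equiv.Perm.inv_eq_iff_eq, e₁ b hb]; rfl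
  rw [Equiv.Perm.mul_apply, e3, e₂ b hb]; rfl

theorem smul_eq_of_agree {g σ : Equiv.Perm GolayPt} {F : Finset GolayPt} (h : ∀ a ∈ F, g a = σ a) :
    g • F = σ • F := image_congr h

/-- Transitivity on sets of at most five points. -/
theorem trans_sets {s t : Finset GolayPt} (h : s.card = t.card) (h5 : s.card ≤ 5) :
    ∃ g ∈ M24, g • s = t := by
  obtain ⟨σ, hσ⟩ := exists_perm_smul h
  obtain ⟨g, hg, e⟩ := agree5 σ h5
  exact ⟨g, hg, (smul_eq_of_agree e).trans hσ⟩

/-- 5-transitivity for families of points. -/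
theorem trans_tuples {ι : Type*} [Fintype ι] (hι : Fintype.card ι ≤ 5) {x y : ι → GolayPt}
    (hx : Function.Injective x) (hy : Function.Injective y) : ∃ g ∈ M24, ∀ i, g (x i) = y i := by
  obtain ⟨σ, hσ⟩ := Equiv.Perm.exists_extending_pair x y hx hy
  obtain ⟨g, hg, e⟩ := agree5 σ (F := univ.image x) (card_image_le.trans hι)
  exact ⟨g, hg, fun i => by rw [e _ (mem_image_of_mem x (mem_univ i)), hσ]⟩

theorem trans_octads {o o' : Finset GolayPt} (ho : o ∈ octads) (ho' : o' ∈ octads) :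
    ∃ g ∈ M24, g • o = o' := by
  obtain ⟨F, hF, h5⟩ := exists_subset_card_eq (show 5 ≤ o.card by rw [ho.2]; norm_num)
  obtain ⟨F', hF', h5'⟩ := exists_subset_card_eq (show 5 ≤ o'.card by rw [ho'.2]; norm_num)
  obtain ⟨g, hg, e⟩ := trans_sets (h5.trans h5'.symm) h5.le
  refine ⟨g, hg, octad_unique (octad_smul ho hg) ho' ?_⟩
  rw [← h5']
  exact card_le_card (subset_inter (e ▸ smul_finset_subset_smul_finset hF) hF')

/-! ### General facts on stabilisers -/

section general
variable {G X : Type*} [Group G] [MulAction G X]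

theorem inf_stab_eq [Finite G] {H K : Subgroup G} {x : X} (h1 : K ≤ H) (h2 : K ≤ stabilizer G x)
    (hc : Nat.card K * (orbit H x).ncard = Nat.card H) : H ⊓ stabilizer G x = K := by
  have e1 : stabilizer H x = (H ⊓ stabilizer G x).subgroupOf H := by
    ext g; simp [Subgroup.mem_subgroupOf, Subgroup.smul_def]
  have e2 := Subgroup.card_mul_index (stabilizer H x)
  rw [index_stabilizer, e1, Nat.card_congr (Subgroup.subgroupOfEquivOfLe inf_le_left).toEquiv,
    ← hc] at e2
  have hpos : 0 < (orbit H x).ncard := by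
    rcases Nat.eq_zero_or_pos (orbit H x).ncard with h0 | h0
    · rw [h0, mul_zero] at hc; exact absurd hc.symm Nat.card_pos.ne'
    · exact h0
  exact (Subgroup.eq_of_le_of_card_ge (le_inf h1 h2) (Nat.eq_of_mul_eq_mul_right hpos e2).le).symm

theorem card_inf_stab (H : Subgroup G) (x : X) :
    Nat.card ↥(H ⊓ stabilizer G x) * (orbit H x).ncard = Nat.card H := by
  have e1 : stabilizer H x = (H ⊓ stabilizer G x).subgroupOf H := by
    ext g; simp [Subgroup.mem_subgroupOf, Subgroup.smul_def]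
  have e2 := Subgroup.card_mul_index (stabilizer H x)
  rwa [index_stabilizer, e1, Nat.card_congr (Subgroup.subgroupOfEquivOfLe inf_le_left).toEquiv] at e2

theorem orbit_top (x : X) : orbit (⊤ : Subgroup G) x = orbit G x := by
  ext y
  exact ⟨fun ⟨g, hg⟩ => ⟨g, hg⟩, fun ⟨g, hg⟩ => ⟨⟨g, trivial⟩, hg⟩⟩

theorem stab_eq [Finite G] {K : Subgroup G} {x : X} (h2 : K ≤ stabilizer G x)
    (hc : Nat.card K * (orbit G x).ncard = Nat.card G) : stabilizer G x = K := by
  have := inf_stab_eq (H := ⊤) le_top h2 (by rw [orbit_top, Subgroup.card_top]; exact hc)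
  rwa [top_inf_eq] at this

theorem AC.gen_le_stab {code : G → ℕ} {D : Set X} {ix : X → ℕ} {ap' : ℕ → ℕ → ℕ}
    (A : AC code D ix ap') {l : List ℕ} {x : X} (hx : x ∈ D)
    (h : (lall l fun s => Nat.beq (ap' s (ix x)) (ix x)) = true) : gen code l ≤ stabilizer G x :=
  gen_le fun g hg => by
    have := Nat.eq_of_beq_eq_true ((lall_iff _ _).1 h _ hg)
    rw [A.ap_code g hx] at this
    exact A.inj (A.smul_mem g hx) hx this

theorem orbit_stab_smul {Y : Type*} [MulAction G Y] (g : G) (x : X) (y : Y) :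
    orbit (stabilizer G (g • x)) (g • y) = g • orbit (stabilizer G x) y := by
  ext z
  constructor
  · rintro ⟨⟨h, hh⟩, rfl⟩
    refine ⟨(g⁻¹ * h * g) • y, ⟨⟨g⁻¹ * h * g, ?_⟩, rfl⟩, ?_⟩
    · rw [mem_stabilizer_iff] at hh ⊢
      rw [mul_smul, mul_smul, hh, inv_smul_smul]
    · simp [mul_smul, Subgroup.smul_def]
  · rintro ⟨_, ⟨⟨h, hh⟩, rfl⟩, rfl⟩
    refine ⟨⟨g * h * g⁻¹, ?_⟩, ?_⟩
    · rw [mem_stabilizer_iff] at hh ⊢
      rw [mul_smul, mul_smul, inv_smul_smul, hh]
    · simp [mul_smul, Subgroup.smul_def]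

theorem orbit_disjoint_of_ncard {x y : X} (h : (orbit G x).ncard ≠ (orbit G y).ncard) :
    Disjoint (orbit G x) (orbit G y) := by
  rw [Set.disjoint_iff]
  rintro z ⟨h1, h2⟩
  exact h (by rw [← orbit_eq_iff.2 h1, ← orbit_eq_iff.2 h2])

end general

/-! ### Six points -/

def tM16 : T := (.node (.node (.node (.node (.node .nil (nat_lit 4) (nat_lit 0) (nat_lit 4) .nil) (nat_lit 6)
  (nat_lit 208) (nat_lit 19) .nil) (nat_lit 7) (nat_lit 146) (nat_lit 12) (.node .nil (nat_lit 8) (nat_lit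
  161) (nat_lit 13) .nil)) (nat_lit 9) (nat_lit 176) (nat_lit 16) (.node (.node .nil (nat_lit 10) (nat_lit 16)
  (nat_lit 4) .nil) (nat_lit 11) (nat_lit 194) (nat_lit 16) (.node .nil (nat_lit 12) (nat_lit 50) (nat_lit 4)
  .nil))) (nat_lit 13) (nat_lit 65) (nat_lit 10) (.node (.node (.node .nil (nat_lit 15) (nat_lit 97) (nat_lit
  18) .nil) (nat_lit 16) (nat_lit 80) (nat_lit 18) (.node .nil (nat_lit 18) (nat_lit 33) (nat_lit 4) .nil))
  (nat_lit 19) (nat_lit 114) (nat_lit 18) (.node (.node .nil (nat_lit 20) (nat_lit 129) (nat_lit 12) .nil)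
  (nat_lit 21) (nat_lit 241) (nat_lit 7) (.node .nil (nat_lit 22) (nat_lit 226) (nat_lit 19) .nil))))

theorem tM16_chk : orbChk ap cM_l5.gens 4 24 tM16 = true := by decide +kernel

/-- The standard octad. -/
def O0 : Finset GolayPt := unmask 8536111

theorem mask_O0 : mask O0 = 8536111 := mask_unmask (by norm_num)
theorem O0_mem : O0 ∈ octads := (isOct_sound (by decide +kernel)).1
theorem B5_subset : B5 ⊆ O0 := by decide +kernel

/-- The pointwise stabiliser of the five base points. -/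
noncomputable def K5 : Subgroup M24 := gen mcode cM_l5.gens

theorem mem_K5 {g : M24} : g ∈ K5 ↔ ∀ a ∈ B5, (g : Equiv.Perm GolayPt) a = a := by
  have h := (chkM_sound cM_chk).2.1
  have hb : ∀ a, a ∈ B5 ↔ ∃ L ∈ cM.take 5, idx a = L.b := by decide +kernel
  constructor
  · intro hg a ha
    obtain ⟨L, hL, e⟩ := (hb a).1 ha
    exact (h.drop_le acM 5 hg).2 L hL a trivial e
  · intro hg
    exact h.mem_drop 5 (show g ∈ gen mcode gM by rw [gen_gM]; trivial)
      fun L hL x _ e => hg x ((hb x).2 ⟨L, hL, e⟩)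

theorem card_K5 : Nat.card K5 = 48 := by
  have h := ((chkM_sound cM_chk).2.1.drop 5).card
  exact h.trans (by decide +kernel)

theorem orbit_K5_in : orbit K5 (pt 5) = ↑(O0 \ B5) := by
  obtain ⟨-, ⟨x₀, -, e, hok⟩, -⟩ := (chkM_sound cM_chk).2.1.drop 5
  obtain rfl : x₀ = pt 5 := idx_inj e
  refine hok.orb.trans (Set.ext fun x => ?_)
  simp only [Set.mem_univ, true_and, Set.mem_ofPred_eq, mem_coe]
  revert x; decide +kernel

theorem orbit_K5_out : orbit K5 (pt 4) = ↑(univ \ O0) := by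
  have hv : Valid mcode cM_l5.gens := ((chkM_sound cM_chk).2.1.drop 5).1
  refine (acM.orb_sound hv (x₀ := pt 4) trivial tM16_chk).1.trans (Set.ext fun x => ?_)
  simp only [Set.mem_univ, true_and, Set.mem_ofPred_eq, mem_coe]
  revert x; decide +kernel

end Cfsg.Agent.M24
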