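import Cfsg.Agent.M24.Reps

/-! # Pairs of octads -/

set_option autoImplicit false

namespace Cfsg.Agent.M24

open Finset MulAction
open scoped Pointwise symmDiff

def oO1 : T := (.node .nil (nat_lit 0x82402f) (nat_lit 0) (nat_lit 0x82402f) .nil)
theorem oO1_chk : band (orbChk act (gensOf cO) 8536111 (2 ^ 24) oO1) (Nat.beq oO1.size 1) = true := by
  decide +kernel
theorem oO1_card : (orbit (stabilizer M24 O0) (unmask 8536111)).ncard = 1 :=
  orbit_ncard_of_chk acSM trivial cO_chk stab_O0 (oct_rep (m := 8536111) (by decide +kernel)).2 oO1_chk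

def oO30 : T := (.node (.node (.node (.node (.node .nil (nat_lit 337856) (nat_lit 0) (nat_lit 337856) .nil)
  (nat_lit 628112) (nat_lit 97) (nat_lit 0x3886c0) (.node .nil (nat_lit 832080) (nat_lit 305) (nat_lit
  0x1d0a90) .nil)) (nat_lit 0x11b8c0) (nat_lit 112) (nat_lit 0x20ab90) (.node (.node .nil (nat_lit 0x149f00)
  (nat_lit 209) (nat_lit 0x11b8c0) .nil) (nat_lit 0x182d50) (nat_lit 417) (nat_lit 832080) (.node .nil
  (nat_lit 0x1d0a90) (nat_lit 192) (nat_lit 628112) .nil))) (nat_lit 0x20ab90) (nat_lit 48) (nat_lit 0x51a610)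
  (.node (.node (.node .nil (nat_lit 0x258c50) (nat_lit 369) (nat_lit 0x2c19c0) .nil) (nat_lit 0x293e00)
  (nat_lit 337) (nat_lit 0x311350) (.node .nil (nat_lit 0x2c19c0) (nat_lit 240) (nat_lit 0x789810) .nil))
  (nat_lit 0x311350) (nat_lit 225) (nat_lit 0x3da100) (.node (.node .nil (nat_lit 0x343490) (nat_lit 464)
  (nat_lit 0x4cac80) .nil) (nat_lit 0x3886c0) (nat_lit 33) (nat_lit 337856) (.node .nil (nat_lit 0x3da100)
  (nat_lit 129) (nat_lit 0x20ab90) .nil)))) (nat_lit 0x401ed0) (nat_lit 449) (nat_lit 0x5d1440) (.node (.node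
  (.node (.node .nil (nat_lit 0x453910) (nat_lit 257) (nat_lit 0x789810) .nil) (nat_lit 0x498b40) (nat_lit
  320) (nat_lit 0x311350) (.node .nil (nat_lit 0x4cac80) (nat_lit 400) (nat_lit 832080) .nil)) (nat_lit
  0x51a610) (nat_lit 16) (nat_lit 337856) (.node (.node .nil (nat_lit 0x5481d0) (nat_lit 80) (nat_lit
  0x3886c0) .nil) (nat_lit 0x583380) (nat_lit 65) (nat_lit 0x51a610) (.node .nil (nat_lit 0x5d1440) (nat_lit
  352) (nat_lit 0x2c19c0) .nil))) (nat_lit 0x60b540) (nat_lit 177) (nat_lit 0x5481d0) (.node (.node (.node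
  .nil (nat_lit 0x659280) (nat_lit 273) (nat_lit 0x710d80) .nil) (nat_lit 0x6920d0) (nat_lit 288) (nat_lit
  0x60b540) (.node .nil (nat_lit 0x6c0710) (nat_lit 433) (nat_lit 0x498b40) .nil)) (nat_lit 0x710d80) (nat_lit
  160) (nat_lit 0x5481d0) (.node (.node .nil (nat_lit 0x742a40) (nat_lit 385) (nat_lit 0x453910) .nil)
  (nat_lit 0x789810) (nat_lit 145) (nat_lit 0x583380) .nil))))
theorem oO30_chk : band (orbChk act (gensOf cO) 337856 (2 ^ 24) oO30) (Nat.beq oO30.size 30) = true := by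
  decide +kernel
theorem oO30_card : (orbit (stabilizer M24 O0) (unmask 337856)).ncard = 30 :=
  orbit_ncard_of_chk acSM trivial cO_chk stab_O0 (oct_rep (m := 337856) (by decide +kernel)).2 oO30_chk

def oO280_0 : T := (.node (.node (.node (.node (.node (.node (.node (.node .nil (nat_lit 5279) (nat_lit 0)
  (nat_lit 5279) .nil) (nat_lit 10558) (nat_lit 1744) (nat_lit 0x90641c) .nil) (nat_lit 18147) (nat_lit 2545)
  (nat_lit 459847) (.node .nil (nat_lit 21116) (nat_lit 1393) (nat_lit 0x9d4006) .nil)) (nat_lit 45159)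
  (nat_lit 625) (nat_lit 0x960095) (.node (.node .nil (nat_lit 52005) (nat_lit 4097) (nat_lit 0x839086) .nil)
  (nat_lit 57883) (nat_lit 1280) (nat_lit 0x836602) (.node .nil (nat_lit 75309) (nat_lit 2432) (nat_lit
  0x87210c) .nil))) (nat_lit 90318) (nat_lit 2337) (nat_lit 0xa44413) (.node (.node (.node (.node .nil
  (nat_lit 115766) (nat_lit 2384) (nat_lit 280334) .nil) (nat_lit 118953) (nat_lit 1488) (nat_lit 0x828b0a)
  .nil) (nat_lit 133817) (nat_lit 257) (nat_lit 742412) (.node .nil (nat_lit 138790) (nat_lit 2176) (nat_lit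
  346141) .nil)) (nat_lit 140167) (nat_lit 4353) (nat_lit 0x838419) (.node (.node .nil (nat_lit 150618)
  (nat_lit 2320) (nat_lit 0xa44413) .nil) (nat_lit 153797) (nat_lit 2976) (nat_lit 0x228817) (.node .nil
  (nat_lit 157028) (nat_lit 3168) (nat_lit 0x34200f) .nil)))) (nat_lit 180636) (nat_lit 3824) (nat_lit
  0x908607) (.node (.node (.node (.node (.node .nil (nat_lit 185603) (nat_lit 1553) (nat_lit 0x1280cb) .nil)
  (nat_lit 190626) (nat_lit 33) (nat_lit 5279) .nil) (nat_lit 198058) (nat_lit 208) (nat_lit 0x94c109) (.node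
  .nil (nat_lit 201013) (nat_lit 1136) (nat_lit 0x120d0d) .nil)) (nat_lit 210955) (nat_lit 753) (nat_lit
  0x325019) (.node (.node .nil (nat_lit 213833) (nat_lit 3792) (nat_lit 0xb30103) .nil) (nat_lit 231532)
  (nat_lit 3329) (nat_lit 0xa4508c) (.node .nil (nat_lit 262637) (nat_lit 945) (nat_lit 0x86cc04) .nil)))
  (nat_lit 280334) (nat_lit 1376) (nat_lit 0x9d4006) (.node (.node (.node (.node .nil (nat_lit 298027)
  (nat_lit 2464) (nat_lit 0x8e4218) .nil) (nat_lit 346141) (nat_lit 1232) (nat_lit 0x8a0516) .nil) (nat_lit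
  352547) (nat_lit 352) (nat_lit 0x1a610a) (.node .nil (nat_lit 402026) (nat_lit 2193) (nat_lit 346141) .nil))
  (nat_lit 416040) (nat_lit 401) (nat_lit 0x10d80e) (.node (.node .nil (nat_lit 418953) (nat_lit 1008)
  (nat_lit 0x8ea003) .nil) (nat_lit 421910) (nat_lit 2768) (nat_lit 551943) (.node .nil (nat_lit 430605)
  (nat_lit 3264) (nat_lit 0x8b0a05) .nil))))) (nat_lit 442481) (nat_lit 3376) (nat_lit 0x2a060b) (.node (.node
  (.node (.node (.node (.node .nil (nat_lit 459847) (nat_lit 1473) (nat_lit 0xa60849) .nil) (nat_lit 475812)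
  (nat_lit 1568) (nat_lit 622863) .nil) (nat_lit 542009) (nat_lit 2817) (nat_lit 705094) (.node .nil (nat_lit
  545190) (nat_lit 384) (nat_lit 0x10d80e) .nil)) (nat_lit 551943) (nat_lit 1633) (nat_lit 0x821253) (.node
  (.node .nil (nat_lit 608810) (nat_lit 3296) (nat_lit 0x81511a) .nil) (nat_lit 622863) (nat_lit 881) (nat_lit
  0xa2c281) (.node .nil (nat_lit 657763) (nat_lit 736) (nat_lit 0x325019) .nil))) (nat_lit 663645) (nat_lit
  2481) (nat_lit 0x8e4218) (.node (.node (.node (.node .nil (nat_lit 684577) (nat_lit 1344) (nat_lit 210955)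
  .nil) (nat_lit 689317) (nat_lit 1121) (nat_lit 0x8206cc) .nil) (nat_lit 692282) (nat_lit 2273) (nat_lit
  0x18428d) (.node .nil (nat_lit 705094) (nat_lit 1665) (nat_lit 0x85028b) .nil)) (nat_lit 737427) (nat_lit
  2656) (nat_lit 185603) (.node (.node .nil (nat_lit 742412) (nat_lit 112) (nat_lit 0x841907) .nil) (nat_lit
  786999) (nat_lit 240) (nat_lit 742412) (.node .nil (nat_lit 806987) (nat_lit 2369) (nat_lit 0x164a03)
  .nil)))) (nat_lit 843820) (nat_lit 1520) (nat_lit 0x88320e) (.node (.node (.node (.node (.node .nil (nat_lit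
  919694) (nat_lit 4272) (nat_lit 0x88d015) .nil) (nat_lit 0x10132b) (nat_lit 3968) (nat_lit 0x934888) .nil)
  (nat_lit 0x104157) (nat_lit 1025) (nat_lit 0x8ea003) (.node .nil (nat_lit 0x106869) (nat_lit 3873) (nat_lit
  421910) .nil)) (nat_lit 0x10d80e) (nat_lit 193) (nat_lit 0x907083) (.node (.node .nil (nat_lit 0x1108a7)
  (nat_lit 4417) (nat_lit 0xa23405) .nil) (nat_lit 0x120d0d) (nat_lit 608) (nat_lit 0x960095) (.node .nil
  (nat_lit 0x122433) (nat_lit 1808) (nat_lit 418953) .nil))) (nat_lit 0x1230ac) (nat_lit 1761) (nat_lit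
  0x90641c) (.node (.node (.node .nil (nat_lit 0x1280cb) (nat_lit 864) (nat_lit 0xa2c281) .nil) (nat_lit
  0x12c628) (nat_lit 1648) (nat_lit 0x85028b) (.node .nil (nat_lit 0x13021e) (nat_lit 3841) (nat_lit 0xa96009)
  .nil)) (nat_lit 0x135062) (nat_lit 3185) (nat_lit 0x34200f) (.node (.node .nil (nat_lit 0x13e005) (nat_lit
  4433) (nat_lit 0xa2209a) .nil) (nat_lit 0x1440ba) (nat_lit 2785) (nat_lit 551943) (.node .nil (nat_lit
  0x145425) (nat_lit 337) (nat_lit 0x922846) .nil)))))) (nat_lit 0x164a03) (nat_lit 1361) (nat_lit 210955)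
  (.node (.node (.node (.node (.node (.node (.node .nil (nat_lit 0x168126) (nat_lit 2256) (nat_lit 0x18428d)
  .nil) (nat_lit 0x18046e) (nat_lit 2097) (nat_lit 0x846245) .nil) (nat_lit 0x18428d) (nat_lit 1297) (nat_lit
  0x836602) (.node .nil (nat_lit 0x1a4834) (nat_lit 16) (nat_lit 5279) .nil)) (nat_lit 0x1a610a) (nat_lit 176)
  (nat_lit 0x907083) (.node (.node .nil (nat_lit 0x1f0029) (nat_lit 1776) (nat_lit 0x8a1189) .nil) (nat_lit
  0x20498b) (nat_lit 2673) (nat_lit 185603) (.node .nil (nat_lit 0x2060b5) (nat_lit 1249) (nat_lit 0x8a0516)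
  .nil))) (nat_lit 0x20742a) (nat_lit 1712) (nat_lit 0xc4680a) (.node (.node (.node (.node .nil (nat_lit
  0x2082ae) (nat_lit 3953) (nat_lit 0x814585) .nil) (nat_lit 0x20c44d) (nat_lit 1600) (nat_lit 0xe60206) .nil)
  (nat_lit 0x21007b) (nat_lit 2577) (nat_lit 0x2e4105) (.node .nil (nat_lit 0x215207) (nat_lit 3008) (nat_lit
  0x434906) .nil)) (nat_lit 0x22114e) (nat_lit 225) (nat_lit 0x94c109) (.node (.node .nil (nat_lit 0x224332)
  (nat_lit 1585) (nat_lit 622863) .nil) (nat_lit 0x226a0c) (nat_lit 3313) (nat_lit 0x81511a) (.node .nil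
  (nat_lit 0x228817) (nat_lit 1793) (nat_lit 0x8a1189) .nil)))) (nat_lit 0x22a129) (nat_lit 3056) (nat_lit
  0xd22209) (.node (.node (.node (.node (.node .nil (nat_lit 0x234c21) (nat_lit 465) (nat_lit 0x22114e) .nil)
  (nat_lit 0x244866) (nat_lit 129) (nat_lit 0x841907) .nil) (nat_lit 0x26043c) (nat_lit 3105) (nat_lit
  0x88494c) (.node .nil (nat_lit 0x2610a3) (nat_lit 1153) (nat_lit 0x120d0d) .nil)) (nat_lit 0x27c00a)
  (nat_lit 3809) (nat_lit 0x20498b) (.node (.node .nil (nat_lit 0x28182d) (nat_lit 3520) (nat_lit 0xc2181c)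
  .nil) (nat_lit 0x2a060b) (nat_lit 2144) (nat_lit 0xc75001) (.node .nil (nat_lit 0x2a40e8) (nat_lit 2401)
  (nat_lit 280334) .nil))) (nat_lit 0x2b2026) (nat_lit 640) (nat_lit 0x40710d) (.node (.node (.node .nil
  (nat_lit 0x2e4105) (nat_lit 1505) (nat_lit 0x828b0a) .nil) (nat_lit 0x31412c) (nat_lit 4193) (nat_lit
  0xa0e106) (.node .nil (nat_lit 0x320265) (nat_lit 2449) (nat_lit 0x87210c) .nil)) (nat_lit 0x324486)
  (nat_lit 3888) (nat_lit 0x44c087) (.node (.node .nil (nat_lit 0x325019) (nat_lit 369) (nat_lit 0x1a610a)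
  .nil) (nat_lit 0x34200f) (nat_lit 1936) (nat_lit 0xca6084) (.node .nil (nat_lit 0x38c023) (nat_lit 4208)
  (nat_lit 0x42528a) .nil))))) (nat_lit 0x400a4f) (nat_lit 2161) (nat_lit 0xc75001) (.node (.node (.node
  (.node (.node (.node .nil (nat_lit 0x404cac) (nat_lit 561) (nat_lit 0xc05446) .nil) (nat_lit 0x405833)
  (nat_lit 3568) (nat_lit 150618) .nil) (nat_lit 0x40710d) (nat_lit 320) (nat_lit 0x922846) (.node .nil
  (nat_lit 0x40c16a) (nat_lit 1312) (nat_lit 0xb0424a) .nil)) (nat_lit 0x4200f6) (nat_lit 2736) (nat_lit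
  0x20c44d) (.node (.node .nil (nat_lit 0x421469) (nat_lit 1456) (nat_lit 0xa60849) .nil) (nat_lit 0x424615)
  (nat_lit 2528) (nat_lit 459847) (.node .nil (nat_lit 0x42528a) (nat_lit 3280) (nat_lit 0x81c843) .nil)))
  (nat_lit 0x42a40e) (nat_lit 2080) (nat_lit 0x846245) (.node (.node (.node (.node .nil (nat_lit 0x434906)
  (nat_lit 1824) (nat_lit 0x104157) .nil) (nat_lit 0x436038) (nat_lit 1041) (nat_lit 0x68401e) .nil) (nat_lit
  0x438223) (nat_lit 4113) (nat_lit 0x63008d) (.node .nil (nat_lit 0x44c087) (nat_lit 2800) (nat_lit 705094)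
  .nil)) (nat_lit 0x45102e) (nat_lit 3088) (nat_lit 0x88494c) (.node (.node .nil (nat_lit 0x46011b) (nat_lit
  2753) (nat_lit 0x4ac809) .nil) (nat_lit 0x462825) (nat_lit 3537) (nat_lit 0xc2181c) (.node .nil (nat_lit
  0x4820ab) (nat_lit 3681) (nat_lit 0x424615) .nil)))) (nat_lit 0x494065) (nat_lit 448) (nat_lit 0x22114e)
  (.node (.node (.node (.node (.node .nil (nat_lit 0x4a032c) (nat_lit 4160) (nat_lit 0x91104d) .nil) (nat_lit
  0x4ac809) (nat_lit 1616) (nat_lit 0x821253) .nil) (nat_lit 0x4e4422) (nat_lit 3409) (nat_lit 0x400a4f)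
  (.node .nil (nat_lit 0x506226) (nat_lit 3584) (nat_lit 90318) .nil)) (nat_lit 0x50803d) (nat_lit 1104)
  (nat_lit 0x8206cc) (.node (.node .nil (nat_lit 0x51440b) (nat_lit 4368) (nat_lit 0x8641c2) .nil) (nat_lit
  0x5241a1) (nat_lit 1536) (nat_lit 0x1280cb) (.node .nil (nat_lit 0x56404c) (nat_lit 1729) (nat_lit 0xc4680a)
  .nil))) (nat_lit 0x5a1007) (nat_lit 3073) (nat_lit 0xd22209) (.node (.node (.node .nil (nat_lit 0x600527)
  (nat_lit 2912) (nat_lit 0x56404c) .nil) (nat_lit 0x626043) (nat_lit 3857) (nat_lit 0x46011b) (.node .nil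
  (nat_lit 0x62d024) (nat_lit 3392) (nat_lit 0x400a4f) .nil)) (nat_lit 0x63008d) (nat_lit 3152) (nat_lit
  0xc28145) (.node (.node .nil (nat_lit 0x644229) (nat_lit 3025) (nat_lit 0x434906) .nil) (nat_lit 0x68401e)
  (nat_lit 544) (nat_lit 0xc05446) (.node .nil (nat_lit 0x72082a) (nat_lit 657) (nat_lit 0x40710d) .nil)))))))
def oO280_1 : T := (.node (.node (.node (.node (.node (.node (.node (.node .nil (nat_lit 0x8018ea) (nat_lit
  689) (nat_lit 0x145425) .nil) (nat_lit 0x80254b) (nat_lit 3984) (nat_lit 0xb66020) .nil) (nat_lit 0x804a96)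
  (nat_lit 1441) (nat_lit 0x891423) (.node .nil (nat_lit 0x805e09) (nat_lit 4145) (nat_lit 0x135062) .nil))
  (nat_lit 0x8063a8) (nat_lit 3472) (nat_lit 0x91a02a) (.node (.node .nil (nat_lit 0x8081b3) (nat_lit 1985)
  (nat_lit 689317) .nil) (nat_lit 0x80952c) (nat_lit 4064) (nat_lit 0x940a2c) (.node .nil (nat_lit 0x80a88d)
  (nat_lit 4257) (nat_lit 0x8254b0) .nil))) (nat_lit 0x810366) (nat_lit 4177) (nat_lit 0xa58025) (.node (.node
  (.node (.node .nil (nat_lit 0x814585) (nat_lit 2881) (nat_lit 0xa28462) .nil) (nat_lit 0x81511a) (nat_lit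
  2048) (nat_lit 0x904d22) .nil) (nat_lit 0x817824) (nat_lit 1889) (nat_lit 0xb01036) (.node .nil (nat_lit
  0x81c843) (nat_lit 2033) (nat_lit 0x2610a3) .nil)) (nat_lit 0x8206cc) (nat_lit 593) (nat_lit 0x854468)
  (.node (.node .nil (nat_lit 0x821253) (nat_lit 912) (nat_lit 0x234c21) .nil) (nat_lit 0x8254b0) (nat_lit
  3361) (nat_lit 0x18046e) (.node .nil (nat_lit 0x826911) (nat_lit 2992) (nat_lit 0x122433) .nil)))) (nat_lit
  0x828b0a) (nat_lit 832) (nat_lit 0x914231) (.node (.node (.node (.node (.node .nil (nat_lit 0x82a234)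
  (nat_lit 3632) (nat_lit 75309) .nil) (nat_lit 0x82f048) (nat_lit 3040) (nat_lit 0xa02a23) .nil) (nat_lit
  0x8320e1) (nat_lit 4016) (nat_lit 0x22a129) (.node .nil (nat_lit 0x836602) (nat_lit 704) (nat_lit 352547)
  .nil)) (nat_lit 0x838419) (nat_lit 3617) (nat_lit 0x2a40e8) (.node (.node .nil (nat_lit 0x839086) (nat_lit
  3137) (nat_lit 0xb004a9) .nil) (nat_lit 0x841907) (nat_lit 48) (nat_lit 0x1a4834) (.node .nil (nat_lit
  0x8424a6) (nat_lit 2592) (nat_lit 843820) .nil))) (nat_lit 0x843039) (nat_lit 65) (nat_lit 0x1a4834) (.node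
  (.node (.node .nil (nat_lit 0x846245) (nat_lit 1184) (nat_lit 0x2b2026) .nil) (nat_lit 0x84805e) (nat_lit
  4305) (nat_lit 0x8c48a1) (.node .nil (nat_lit 0x84d222) (nat_lit 4224) (nat_lit 608810) .nil)) (nat_lit
  0x85028b) (nat_lit 929) (nat_lit 0x234c21) (.node (.node .nil (nat_lit 0x854468) (nat_lit 289) (nat_lit
  0x244866) .nil) (nat_lit 0x860721) (nat_lit 2960) (nat_lit 0x1f0029) (.node .nil (nat_lit 0x8641c2) (nat_lit
  3649) (nat_lit 298027) .nil))))) (nat_lit 0x86cc04) (nat_lit 480) (nat_lit 786999) (.node (.node (.node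
  (.node (.node (.node .nil (nat_lit 0x870832) (nat_lit 3904) (nat_lit 542009) .nil) (nat_lit 0x87210c)
  (nat_lit 1409) (nat_lit 0xa0c838) .nil) (nat_lit 0x88320e) (nat_lit 849) (nat_lit 0x914231) (.node .nil
  (nat_lit 0x88494c) (nat_lit 1872) (nat_lit 0xb01036) .nil)) (nat_lit 0x886072) (nat_lit 497) (nat_lit
  786999) (.node (.node .nil (nat_lit 0x888269) (nat_lit 2705) (nat_lit 475812) .nil) (nat_lit 0x88c48a)
  (nat_lit 3713) (nat_lit 18147) (.node .nil (nat_lit 0x88d015) (nat_lit 3424) (nat_lit 138790) .nil)))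
  (nat_lit 0x8900bc) (nat_lit 4465) (nat_lit 0xa84624) (.node (.node (.node (.node .nil (nat_lit 0x891423)
  (nat_lit 800) (nat_lit 416040) .nil) (nat_lit 0x8a0516) (nat_lit 672) (nat_lit 0x145425) .nil) (nat_lit
  0x8a1189) (nat_lit 992) (nat_lit 0x929821) (.node .nil (nat_lit 0x8a2c28) (nat_lit 144) (nat_lit 0x843039)
  .nil)) (nat_lit 0x8b0a05) (nat_lit 2000) (nat_lit 201013) (.node (.node .nil (nat_lit 0x8bc120) (nat_lit
  4449) (nat_lit 0x2082ae) .nil) (nat_lit 0x8c48a1) (nat_lit 3441) (nat_lit 138790) (.node .nil (nat_lit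
  0x8e1064) (nat_lit 4081) (nat_lit 0x940a2c) .nil)))) (nat_lit 0x8e4218) (nat_lit 1424) (nat_lit 0x891423)
  (.node (.node (.node (.node (.node .nil (nat_lit 0x8ea003) (nat_lit 529) (nat_lit 133817) .nil) (nat_lit
  0x904d22) (nat_lit 1169) (nat_lit 45159) .nil) (nat_lit 0x90641c) (nat_lit 977) (nat_lit 0x886072) (.node
  .nil (nat_lit 0x907083) (nat_lit 80) (nat_lit 190626) .nil)) (nat_lit 0x908607) (nat_lit 2688) (nat_lit
  475812) (.node (.node .nil (nat_lit 0x90c0e4) (nat_lit 3745) (nat_lit 0x8424a6) .nil) (nat_lit 0x91104d)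
  (nat_lit 3200) (nat_lit 0xa209a4) (.node .nil (nat_lit 0x914231) (nat_lit 416) (nat_lit 198058) .nil)))
  (nat_lit 0x91a02a) (nat_lit 2209) (nat_lit 0x2060b5) (.node (.node (.node .nil (nat_lit 0x920178) (nat_lit
  2609) (nat_lit 843820) .nil) (nat_lit 0x922846) (nat_lit 161) (nat_lit 0x843039) (.node .nil (nat_lit
  0x925304) (nat_lit 3489) (nat_lit 0x91a02a) .nil)) (nat_lit 0x929821) (nat_lit 512) (nat_lit 133817) (.node
  (.node .nil (nat_lit 0x934888) (nat_lit 2897) (nat_lit 0x20742a) .nil) (nat_lit 0x940a2c) (nat_lit 3121)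
  (nat_lit 0x817824) (.node .nil (nat_lit 0x94c109) (nat_lit 97) (nat_lit 190626) .nil)))))) (nat_lit
  0x960095) (nat_lit 305) (nat_lit 0x8a2c28) (.node (.node (.node (.node (.node (.node (.node .nil (nat_lit
  0x96140a) (nat_lit 4288) (nat_lit 0x8c48a1) .nil) (nat_lit 0x98081b) (nat_lit 2353) (nat_lit 684577) .nil)
  (nat_lit 0x982125) (nat_lit 2944) (nat_lit 0x1230ac) (.node .nil (nat_lit 0x9a02a2) (nat_lit 2560) (nat_lit
  118953) .nil)) (nat_lit 0x9a4441) (nat_lit 2016) (nat_lit 0x2610a3) (.node (.node .nil (nat_lit 0x9d4006)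
  (nat_lit 768) (nat_lit 545190) .nil) (nat_lit 0xa0031d) (nat_lit 2832) (nat_lit 0xd30424) (.node .nil
  (nat_lit 0xa02a23) (nat_lit 1840) (nat_lit 0x436038) .nil))) (nat_lit 0xa05161) (nat_lit 1200) (nat_lit
  0x72082a) (.node (.node (.node (.node .nil (nat_lit 0xa0c838) (nat_lit 785) (nat_lit 545190) .nil) (nat_lit
  0xa0e106) (nat_lit 3249) (nat_lit 0x8081b3) .nil) (nat_lit 0xa10c0e) (nat_lit 2129) (nat_lit 0xa05161)
  (.node .nil (nat_lit 0xa209a4) (nat_lit 1952) (nat_lit 0x50803d) .nil)) (nat_lit 0xa2209a) (nat_lit 3921)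
  (nat_lit 542009) (.node (.node .nil (nat_lit 0xa23405) (nat_lit 3777) (nat_lit 0x920178) .nil) (nat_lit
  0xa28462) (nat_lit 1697) (nat_lit 262637) (.node .nil (nat_lit 0xa2c281) (nat_lit 433) (nat_lit 198058)
  .nil)))) (nat_lit 0xa31228) (nat_lit 4400) (nat_lit 0xc10929) (.node (.node (.node (.node (.node .nil
  (nat_lit 0xa34054) (nat_lit 3505) (nat_lit 0xac012a) .nil) (nat_lit 0xa44413) (nat_lit 1329) (nat_lit
  657763) .nil) (nat_lit 0xa4508c) (nat_lit 2065) (nat_lit 0x904d22) (.node .nil (nat_lit 0xa58025) (nat_lit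
  3217) (nat_lit 0xa209a4) .nil)) (nat_lit 0xa60849) (nat_lit 817) (nat_lit 416040) (.node (.node .nil
  (nat_lit 0xa800c7) (nat_lit 4001) (nat_lit 0x860721) .nil) (nat_lit 0xa84624) (nat_lit 4032) (nat_lit
  0x45102e) (.node .nil (nat_lit 0xa96009) (nat_lit 2721) (nat_lit 0x224332) .nil))) (nat_lit 0xaa5802)
  (nat_lit 4336) (nat_lit 0x405833) (.node (.node (.node .nil (nat_lit 0xac012a) (nat_lit 2224) (nat_lit
  0xd85028) .nil) (nat_lit 0xb004a9) (nat_lit 1904) (nat_lit 0xc680a8) (.node .nil (nat_lit 0xb01036) (nat_lit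
  1056) (nat_lit 0x404cac) .nil)) (nat_lit 0xb0424a) (nat_lit 721) (nat_lit 352547) (.node (.node .nil
  (nat_lit 0xb30103) (nat_lit 2624) (nat_lit 0x5241a1) .nil) (nat_lit 0xb66020) (nat_lit 2929) (nat_lit 10558)
  (.node .nil (nat_lit 0xba800c) (nat_lit 3936) (nat_lit 0xc012a5) .nil))))) (nat_lit 0xc0063a) (nat_lit 576)
  (nat_lit 0x854468) (.node (.node (.node (.node (.node (.node .nil (nat_lit 0xc012a5) (nat_lit 2849) (nat_lit
  0xd30424) .nil) (nat_lit 0xc040d9) (nat_lit 2864) (nat_lit 0xa28462) .nil) (nat_lit 0xc05446) (nat_lit 272)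
  (nat_lit 0x244866) (.node .nil (nat_lit 0xc0e421) (nat_lit 3456) (nat_lit 402026) .nil)) (nat_lit 0xc10929)
  (nat_lit 3760) (nat_lit 0x920178) (.node (.node .nil (nat_lit 0xc12017) (nat_lit 3665) (nat_lit 0xea0031)
  .nil) (nat_lit 0xc1c20c) (nat_lit 3553) (nat_lit 0xe140a2) (.node .nil (nat_lit 0xc20c83) (nat_lit 2513)
  (nat_lit 0x421469) .nil))) (nat_lit 0xc2181c) (nat_lit 2241) (nat_lit 0xd85028) (.node (.node (.node (.node
  .nil (nat_lit 0xc23122) (nat_lit 1969) (nat_lit 0x50803d) .nil) (nat_lit 0xc24a60) (nat_lit 3728) (nat_lit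
  0x21007b) .nil) (nat_lit 0xc28145) (nat_lit 1921) (nat_lit 0xc680a8) (.node .nil (nat_lit 0xc44134) (nat_lit
  3344) (nat_lit 0x18046e) .nil)) (nat_lit 0xc4680a) (nat_lit 960) (nat_lit 0x886072) (.node (.node .nil
  (nat_lit 0xc680a8) (nat_lit 1073) (nat_lit 0x404cac) .nil) (nat_lit 0xc75001) (nat_lit 1217) (nat_lit
  0x72082a) (.node .nil (nat_lit 0xc84303) (nat_lit 4128) (nat_lit 0x135062) .nil)))) (nat_lit 0xc88826)
  (nat_lit 2416) (nat_lit 21116) (.node (.node (.node (.node (.node .nil (nat_lit 0xca6084) (nat_lit 1089)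
  (nat_lit 0xc0063a) .nil) (nat_lit 0xcb004a) (nat_lit 2112) (nat_lit 0xa05161) .nil) (nat_lit 0xcc040d)
  (nat_lit 4385) (nat_lit 0xc24a60) (.node .nil (nat_lit 0xd0018e) (nat_lit 4321) (nat_lit 0xc0e421) .nil))
  (nat_lit 0xd22209) (nat_lit 1857) (nat_lit 0x436038) (.node (.node .nil (nat_lit 0xd2c012) (nat_lit 3696)
  (nat_lit 18147) .nil) (nat_lit 0xd30424) (nat_lit 1680) (nat_lit 262637) (.node .nil (nat_lit 0xd40063)
  (nat_lit 3600) (nat_lit 0x2a40e8) .nil))) (nat_lit 0xd85028) (nat_lit 1264) (nat_lit 0x8018ea) (.node (.node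
  (.node .nil (nat_lit 0xe0206c) (nat_lit 4241) (nat_lit 0xc44134) .nil) (nat_lit 0xe0900b) (nat_lit 2641)
  (nat_lit 0x5241a1) (.node .nil (nat_lit 0xe140a2) (nat_lit 2288) (nat_lit 0x40c16a) .nil)) (nat_lit
  0xe24508) (nat_lit 2305) (nat_lit 0x40c16a) (.node (.node .nil (nat_lit 0xe60206) (nat_lit 896) (nat_lit
  0x494065) .nil) (nat_lit 0xea0031) (nat_lit 2496) (nat_lit 0x421469) (.node .nil (nat_lit 0xf04805) (nat_lit
  3233) (nat_lit 0xc23122) .nil)))))))
def oO280 : T := (.node oO280_0 (nat_lit 0x800c75) (nat_lit 4048) (nat_lit 0x26043c) oO280_1)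
theorem oO280_chk : band (orbChk act (gensOf cO) 5279 (2 ^ 24) oO280) (Nat.beq oO280.size 280) = true := by
  decide +kernel
theorem oO280_card : (orbit (stabilizer M24 O0) (unmask 5279)).ncard = 280 :=
  orbit_ncard_of_chk acSM trivial cO_chk stab_O0 (oct_rep (m := 5279) (by decide +kernel)).2 oO280_chk

def oO448_0 : T := (.node (.node (.node (.node (.node (.node (.node .nil (nat_lit 15777) (nat_lit 0) (nat_lit
  15777) .nil) (nat_lit 31554) (nat_lit 4257) (nat_lit 0x159013) (.node .nil (nat_lit 36294) (nat_lit 880)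
  (nat_lit 0x34c214) .nil)) (nat_lit 39257) (nat_lit 2241) (nat_lit 0x1ed080) (.node (.node .nil (nat_lit
  42232) (nat_lit 2017) (nat_lit 804052) .nil) (nat_lit 63108) (nat_lit 4689) (nat_lit 0x9104d2) (.node .nil
  (nat_lit 69395) (nat_lit 2736) (nat_lit 0x174510) .nil))) (nat_lit 72588) (nat_lit 5537) (nat_lit 0xb1d400)
  (.node (.node (.node .nil (nat_lit 78514) (nat_lit 6560) (nat_lit 126216) .nil) (nat_lit 84464) (nat_lit
  1089) (nat_lit 0x2c9406) (.node .nil (nat_lit 95313) (nat_lit 289) (nat_lit 0x3e0052) .nil)) (nat_lit 99029)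
  (nat_lit 977) (nat_lit 0xaf0480) (.node (.node .nil (nat_lit 104010) (nat_lit 752) (nat_lit 0xa54b00) .nil)
  (nat_lit 126216) (nat_lit 5473) (nat_lit 0x20d0d2) .nil))) (nat_lit 145176) (nat_lit 6784) (nat_lit
  0x952c01) (.node (.node (.node (.node .nil (nat_lit 168928) (nat_lit 6689) (nat_lit 0x15848c) .nil) (nat_lit
  175681) (nat_lit 4976) (nat_lit 0x272211) (.node .nil (nat_lit 208020) (nat_lit 2256) (nat_lit 304405)
  .nil)) (nat_lit 237906) (nat_lit 4273) (nat_lit 0x2c8099) (.node (.node .nil (nat_lit 252432) (nat_lit 3825)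
  (nat_lit 0x39108a) .nil) (nat_lit 267634) (nat_lit 6832) (nat_lit 0x3c4c08) .nil)) (nat_lit 272595) (nat_lit
  6977) (nat_lit 924689) (.node (.node (.node .nil (nat_lit 277580) (nat_lit 737) (nat_lit 0x945850) .nil)
  (nat_lit 283537) (nat_lit 6016) (nat_lit 0x1b8c02) (.node .nil (nat_lit 290352) (nat_lit 1312) (nat_lit
  861210) .nil)) (nat_lit 301236) (nat_lit 6273) (nat_lit 0x981c84) (.node (.node .nil (nat_lit 304405)
  (nat_lit 1216) (nat_lit 0x1e2604) .nil) (nat_lit 307594) (nat_lit 4929) (nat_lit 0x10cc91) .nil)))) (nat_lit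
  314056) (nat_lit 3376) (nat_lit 0xa98212) (.node (.node (.node (.node (.node .nil (nat_lit 334433) (nat_lit
  5073) (nat_lit 0x371804) .nil) (nat_lit 351362) (nat_lit 3281) (nat_lit 0x301c43) (.node .nil (nat_lit
  361272) (nat_lit 5681) (nat_lit 0x29c884) .nil)) (nat_lit 371206) (nat_lit 4881) (nat_lit 0xa11891) (.node
  (.node .nil (nat_lit 381252) (nat_lit 97) (nat_lit 0xb48882) .nil) (nat_lit 396116) (nat_lit 6417) (nat_lit
  0x8d9808) .nil)) (nat_lit 427666) (nat_lit 6160) (nat_lit 902657) (.node (.node (.node .nil (nat_lit 463064)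
  (nat_lit 4496) (nat_lit 0xa88d01) .nil) (nat_lit 493953) (nat_lit 417) (nat_lit 0x229c88) (.node .nil
  (nat_lit 504864) (nat_lit 112) (nat_lit 797449) .nil)) (nat_lit 525274) (nat_lit 5520) (nat_lit 0xb1d400)
  (.node (.node .nil (nat_lit 530245) (nat_lit 3361) (nat_lit 0x978240) .nil) (nat_lit 535268) (nat_lit 3088)
  (nat_lit 0x21b01c) .nil))) (nat_lit 555160) (nat_lit 1568) (nat_lit 0x80bc12) (.node (.node (.node (.node
  .nil (nat_lit 560668) (nat_lit 6080) (nat_lit 0x851614) .nil) (nat_lit 563843) (nat_lit 1601) (nat_lit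
  0x131681) (.node .nil (nat_lit 567074) (nat_lit 1841) (nat_lit 99029) .nil)) (nat_lit 580704) (nat_lit 6480)
  (nat_lit 0x241a1a) (.node (.node .nil (nat_lit 582081) (nat_lit 3520) (nat_lit 0x32b202) .nil) (nat_lit
  593097) (nat_lit 5169) (nat_lit 0x265640) .nil)) (nat_lit 596054) (nat_lit 5184) (nat_lit 0x205d14) (.node
  (.node (.node .nil (nat_lit 602472) (nat_lit 897) (nat_lit 0x34c214) .nil) (nat_lit 615188) (nat_lit 3296)
  (nat_lit 0x113506) (.node .nil (nat_lit 632881) (nat_lit 7120) (nat_lit 145176) .nil)) (nat_lit 668866)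
  (nat_lit 1809) (nat_lit 0x140659) (.node (.node .nil (nat_lit 675712) (nat_lit 1425) (nat_lit 104010) .nil)
  (nat_lit 702724) (nat_lit 144) (nat_lit 0x103a15) .nil))))) (nat_lit 722544) (nat_lit 1457) (nat_lit
  0x2d024c) (.node (.node (.node (.node (.node (.node .nil (nat_lit 762504) (nat_lit 4641) (nat_lit 0x214698)
  .nil) (nat_lit 792232) (nat_lit 2417) (nat_lit 0x114e44) (.node .nil (nat_lit 797449) (nat_lit 48) (nat_lit
  0x9b3010) .nil)) (nat_lit 804052) (nat_lit 1072) (nat_lit 0x2c9406) (.node (.node .nil (nat_lit 837906)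
  (nat_lit 2897) (nat_lit 563843) .nil) (nat_lit 855332) (nat_lit 6801) (nat_lit 0xa09a44) .nil)) (nat_lit
  861210) (nat_lit 688) (nat_lit 0x8c7500) (.node (.node (.node .nil (nat_lit 864389) (nat_lit 304) (nat_lit
  702724) .nil) (nat_lit 884962) (nat_lit 2353) (nat_lit 0x240e85) (.node .nil (nat_lit 902657) (nat_lit 4561)
  (nat_lit 0x230ac2) .nil)) (nat_lit 924689) (nat_lit 6321) (nat_lit 0x1a1a48) (.node (.node .nil (nat_lit
  926128) (nat_lit 4064) (nat_lit 0x18b409) .nil) (nat_lit 951624) (nat_lit 5121) (nat_lit 314056) .nil)))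
  (nat_lit 987906) (nat_lit 5312) (nat_lit 0x195901) (.node (.node (.node (.node .nil (nat_lit 0xf6840)
  (nat_lit 4592) (nat_lit 0x283113) .nil) (nat_lit 0x1007b4) (nat_lit 4449) (nat_lit 0x89a444) (.node .nil
  (nat_lit 0x102e8a) (nat_lit 609) (nat_lit 95313) .nil)) (nat_lit 0x103a15) (nat_lit 65) (nat_lit 0x9b3010)
  (.node (.node .nil (nat_lit 0x1055c8) (nat_lit 80) (nat_lit 0xb48882) .nil) (nat_lit 0x108a72) (nat_lit 641)
  (nat_lit 864389) .nil)) (nat_lit 0x10a34c) (nat_lit 4961) (nat_lit 0x85e090) (.node (.node (.node .nil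
  (nat_lit 0x10cc91) (nat_lit 3169) (nat_lit 668866) .nil) (nat_lit 0x10f130) (nat_lit 1025) (nat_lit
  0x18a096) (.node .nil (nat_lit 0x111c38) (nat_lit 6720) (nat_lit 0x840d98) .nil)) (nat_lit 0x112199)
  (nat_lit 5200) (nat_lit 0x92a580) (.node (.node .nil (nat_lit 0x113506) (nat_lit 1888) (nat_lit 0x146984)
  .nil) (nat_lit 0x114e44) (nat_lit 1297) (nat_lit 0xa53042) .nil)))) (nat_lit 0x118561) (nat_lit 7056)
  (nat_lit 0x360388) (.node (.node (.node (.node (.node .nil (nat_lit 0x11c382) (nat_lit 7137) (nat_lit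
  0x21a483) .nil) (nat_lit 0x121992) (nat_lit 4081) (nat_lit 0x18b409) (.node .nil (nat_lit 0x1262d0) (nat_lit
  1329) (nat_lit 861210) .nil)) (nat_lit 0x129454) (nat_lit 2336) (nat_lit 0x240e85) (.node (.node .nil
  (nat_lit 0x131681) (nat_lit 848) (nat_lit 493953) .nil) (nat_lit 0x132b20) (nat_lit 3105) (nat_lit 0x21b01c)
  .nil)) (nat_lit 0x140659) (nat_lit 960) (nat_lit 0xaf0480) (.node (.node (.node .nil (nat_lit 0x1412c6)
  (nat_lit 5664) (nat_lit 0x29c884) .nil) (nat_lit 0x146984) (nat_lit 1008) (nat_lit 0x18a096) (.node .nil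
  (nat_lit 0x14a2a1) (nat_lit 3761) (nat_lit 208020) .nil)) (nat_lit 0x14e442) (nat_lit 5984) (nat_lit
  0x2c6282) (.node (.node .nil (nat_lit 0x15094a) (nat_lit 2177) (nat_lit 0x24f801) .nil) (nat_lit 0x152074)
  (nat_lit 4193) (nat_lit 0xac2814) .nil))) (nat_lit 0x157208) (nat_lit 3328) (nat_lit 0x892982) (.node (.node
  (.node (.node .nil (nat_lit 0x15848c) (nat_lit 5633) (nat_lit 0xa06cc0) .nil) (nat_lit 0x159013) (nat_lit
  2624) (nat_lit 675712) (.node .nil (nat_lit 0x160ce0) (nat_lit 1409) (nat_lit 277580) .nil)) (nat_lit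
  0x163141) (nat_lit 993) (nat_lit 0x16a818) (.node (.node .nil (nat_lit 0x16a818) (nat_lit 496) (nat_lit
  0x882691) .nil) (nat_lit 0x174510) (nat_lit 1489) (nat_lit 0x28a84a) .nil)) (nat_lit 0x1810f1) (nat_lit 400)
  (nat_lit 0x229c88) (.node (.node (.node .nil (nat_lit 0x185612) (nat_lit 5024) (nat_lit 351362) .nil)
  (nat_lit 0x1889a8) (nat_lit 6225) (nat_lit 63108) (.node .nil (nat_lit 0x18a096) (nat_lit 513) (nat_lit
  0x882691) .nil)) (nat_lit 0x18b409) (nat_lit 2465) (nat_lit 0x1262d0) (.node (.node .nil (nat_lit 0x192243)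
  (nat_lit 4993) (nat_lit 0x272211) .nil) (nat_lit 0x195901) (nat_lit 3537) (nat_lit 0x32b202) .nil))))))
def oO448_1 : T := (.node (.node (.node (.node (.node (.node (.node .nil (nat_lit 0x199224) (nat_lit 6624)
  (nat_lit 72588) .nil) (nat_lit 0x19c058) (nat_lit 6001) (nat_lit 0x2c6282) (.node .nil (nat_lit 0x1a1a48)
  (nat_lit 4864) (nat_lit 0xa11891) .nil)) (nat_lit 0x1a8311) (nat_lit 1584) (nat_lit 0x131681) (.node (.node
  .nil (nat_lit 0x1b01c4) (nat_lit 3489) (nat_lit 0xa4a608) .nil) (nat_lit 0x1b8c02) (nat_lit 4417) (nat_lit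
  0x2032c9) .nil)) (nat_lit 0x1c0583) (nat_lit 2224) (nat_lit 0x1ed080) (.node (.node (.node .nil (nat_lit
  0x1c111c) (nat_lit 6256) (nat_lit 0x981c84) .nil) (nat_lit 0x1c3822) (nat_lit 161) (nat_lit 0x103a15) (.node
  .nil (nat_lit 0x1c4360) (nat_lit 3808) (nat_lit 0x39108a) .nil)) (nat_lit 0x1c8845) (nat_lit 7153) (nat_lit
  0x863a80) (.node (.node .nil (nat_lit 0x1e2604) (nat_lit 624) (nat_lit 864389) .nil) (nat_lit 0x1ed080)
  (nat_lit 1201) (nat_lit 0x102e8a) .nil))) (nat_lit 0x200f68) (nat_lit 225) (nat_lit 381252) (.node (.node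
  (.node (.node .nil (nat_lit 0x202656) (nat_lit 5376) (nat_lit 0x656404) .nil) (nat_lit 0x2032c9) (nat_lit
  2753) (nat_lit 0x174510) (.node .nil (nat_lit 0x205d14) (nat_lit 3424) (nat_lit 0x540c16) .nil)) (nat_lit
  0x209631) (nat_lit 5249) (nat_lit 0x1b01c4) (.node (.node .nil (nat_lit 0x20d0d2) (nat_lit 3729) (nat_lit
  0x1c0583) .nil) (nat_lit 0x2114e4) (nat_lit 3840) (nat_lit 0x64890c) .nil)) (nat_lit 0x212945) (nat_lit
  3040) (nat_lit 0x722114) (.node (.node (.node .nil (nat_lit 0x214698) (nat_lit 2929) (nat_lit 0x294542)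
  .nil) (nat_lit 0x219922) (nat_lit 4945) (nat_lit 0x309185) (.node .nil (nat_lit 0x21a483) (nat_lit 7008)
  (nat_lit 0x46e300) .nil)) (nat_lit 0x21b01c) (nat_lit 1760) (nat_lit 0xc02f04) (.node (.node .nil (nat_lit
  0x21e260) (nat_lit 6113) (nat_lit 0x250196) .nil) (nat_lit 0x2205d1) (nat_lit 6433) (nat_lit 951624)
  .nil)))) (nat_lit 0x223870) (nat_lit 6400) (nat_lit 0x602c19) (.node (.node (.node (.node (.node .nil
  (nat_lit 0x229c88) (nat_lit 193) (nat_lit 0x1055c8) .nil) (nat_lit 0x230ac2) (nat_lit 2833) (nat_lit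
  0x251509) (.node .nil (nat_lit 0x237180) (nat_lit 4032) (nat_lit 0x50a903) .nil)) (nat_lit 0x238704)
  (nat_lit 4721) (nat_lit 0xa181c8) (.node (.node .nil (nat_lit 0x240e85) (nat_lit 1265) (nat_lit 0x831d40)
  .nil) (nat_lit 0x241a1a) (nat_lit 5329) (nat_lit 0x195901) .nil)) (nat_lit 0x243324) (nat_lit 1504) (nat_lit
  0x59280c) (.node (.node (.node .nil (nat_lit 0x246158) (nat_lit 4336) (nat_lit 0xf82402) .nil) (nat_lit
  0x248343) (nat_lit 865) (nat_lit 493953) (.node .nil (nat_lit 0x24c5a0) (nat_lit 1649) (nat_lit 36294)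
  .nil)) (nat_lit 0x24f801) (nat_lit 1168) (nat_lit 0x4a2a12) (.node (.node .nil (nat_lit 0x250196) (nat_lit
  4513) (nat_lit 0xa88d01) .nil) (nat_lit 0x251509) (nat_lit 1536) (nat_lit 0xde0900) .nil))) (nat_lit
  0x2528a8) (nat_lit 1696) (nat_lit 0xc8a118) (.node (.node (.node (.node .nil (nat_lit 0x262d02) (nat_lit
  2192) (nat_lit 0x5c6011) .nil) (nat_lit 0x265640) (nat_lit 3408) (nat_lit 0x6d0803) (.node .nil (nat_lit
  0x26a0c4) (nat_lit 6737) (nat_lit 0x840d98) .nil)) (nat_lit 0x272211) (nat_lit 3248) (nat_lit 0x4b2501)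
  (.node (.node .nil (nat_lit 0x280cb2) (nat_lit 5089) (nat_lit 530245) .nil) (nat_lit 0x28258c) (nat_lit
  5617) (nat_lit 0x80c750) .nil)) (nat_lit 0x283113) (nat_lit 2881) (nat_lit 0x1a8311) (.node (.node (.node
  .nil (nat_lit 0x284a51) (nat_lit 1104) (nat_lit 0x631412) .nil) (nat_lit 0x288174) (nat_lit 6592) (nat_lit
  0x70160c) (.node .nil (nat_lit 0x28a84a) (nat_lit 784) (nat_lit 0xe07210) .nil)) (nat_lit 0x28d308) (nat_lit
  3456) (nat_lit 0xd11a02) (.node (.node .nil (nat_lit 0x2903a1) (nat_lit 1040) (nat_lit 0x539108) .nil)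
  (nat_lit 0x294542) (nat_lit 1617) (nat_lit 0x248343) .nil))))) (nat_lit 0x29c884) (nat_lit 3968) (nat_lit
  0x409316) (.node (.node (.node (.node (.node (.node .nil (nat_lit 0x2a1294) (nat_lit 7104) (nat_lit
  0x419c05) .nil) (nat_lit 0x2ae410) (nat_lit 6609) (nat_lit 525274) (.node .nil (nat_lit 0x2b0918) (nat_lit
  4224) (nat_lit 0xd01511) .nil)) (nat_lit 0x2b9041) (nat_lit 1968) (nat_lit 0x621b01) (.node (.node .nil
  (nat_lit 0x2c2461) (nat_lit 6128) (nat_lit 0x6e3008) .nil) (nat_lit 0x2c6282) (nat_lit 4385) (nat_lit 69395)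
  .nil)) (nat_lit 0x2c8099) (nat_lit 2641) (nat_lit 675712) (.node (.node (.node .nil (nat_lit 0x2c9406)
  (nat_lit 545) (nat_lit 0x900bc1) .nil) (nat_lit 0x2d024c) (nat_lit 769) (nat_lit 0xa54b00) (.node .nil
  (nat_lit 0x2d5030) (nat_lit 1360) (nat_lit 0x481d0a) .nil)) (nat_lit 0x2e8a20) (nat_lit 2320) (nat_lit
  0x491219) (.node (.node .nil (nat_lit 0x3008dc) (nat_lit 705) (nat_lit 0x8c7500) .nil) (nat_lit 0x301c43)
  (nat_lit 1873) (nat_lit 0x163141) .nil))) (nat_lit 0x3021e2) (nat_lit 2273) (nat_lit 304405) (.node (.node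
  (.node (.node .nil (nat_lit 0x305aa0) (nat_lit 3313) (nat_lit 0x113506) .nil) (nat_lit 0x306701) (nat_lit
  5905) (nat_lit 237906) (.node .nil (nat_lit 0x30851a) (nat_lit 5297) (nat_lit 582081) .nil)) (nat_lit
  0x309185) (nat_lit 3184) (nat_lit 0x528a84) (.node (.node .nil (nat_lit 0x30ac24) (nat_lit 6032) (nat_lit
  0x44229c) .nil) (nat_lit 0x316812) (nat_lit 4609) (nat_lit 0x283113) .nil)) (nat_lit 0x318a09) (nat_lit
  5761) (nat_lit 0x237180) (.node (.node (.node .nil (nat_lit 0x32b202) (nat_lit 2080) (nat_lit 0x416a81)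
  .nil) (nat_lit 0x32c940) (nat_lit 3600) (nat_lit 0x700293) (.node .nil (nat_lit 0x332448) (nat_lit 4896)
  (nat_lit 0xe42181) .nil)) (nat_lit 0x3380b0) (nat_lit 3632) (nat_lit 0x408789) (.node (.node .nil (nat_lit
  0x340931) (nat_lit 321) (nat_lit 702724) .nil) (nat_lit 0x349068) (nat_lit 1728) (nat_lit 0xe80a88) .nil))))
  (nat_lit 0x34c214) (nat_lit 432) (nat_lit 0x490686) (.node (.node (.node (.node (.node .nil (nat_lit
  0x350622) (nat_lit 4769) (nat_lit 0x212945) .nil) (nat_lit 0x3540c1) (nat_lit 3681) (nat_lit 0x262d02)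
  (.node .nil (nat_lit 0x360388) (nat_lit 6577) (nat_lit 126216) .nil)) (nat_lit 0x371804) (nat_lit 3345)
  (nat_lit 0xb03908) (.node (.node .nil (nat_lit 0x380b06) (nat_lit 2944) (nat_lit 0x515094) .nil) (nat_lit
  0x382238) (nat_lit 3584) (nat_lit 0xc13488) .nil)) (nat_lit 0x387044) (nat_lit 5856) (nat_lit 0x603886)
  (.node (.node (.node .nil (nat_lit 0x390415) (nat_lit 5952) (nat_lit 0x461584) .nil) (nat_lit 0x39108a)
  (nat_lit 2288) (nat_lit 0xc0d980) (.node .nil (nat_lit 0x3a1520) (nat_lit 6369) (nat_lit 0x10a34c) .nil))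
  (nat_lit 0x3a2881) (nat_lit 5648) (nat_lit 0x42b091) (.node (.node .nil (nat_lit 0x3c4c08) (nat_lit 5889)
  (nat_lit 31554) .nil) (nat_lit 0x3e0052) (nat_lit 129) (nat_lit 797449) .nil))) (nat_lit 0x402371) (nat_lit
  3073) (nat_lit 0x4f8014) (.node (.node (.node (.node .nil (nat_lit 0x406592) (nat_lit 6449) (nat_lit
  0x488453) .nil) (nat_lit 0x408789) (nat_lit 2161) (nat_lit 0x43c4c0) (.node .nil (nat_lit 0x409316) (nat_lit
  2400) (nat_lit 0x114e44) .nil)) (nat_lit 0x40ba28) (nat_lit 2961) (nat_lit 0x515094) (.node (.node .nil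
  (nat_lit 0x40e854) (nat_lit 6528) (nat_lit 0x202656) .nil) (nat_lit 0x41055c) (nat_lit 4848) (nat_lit
  0xb40544) .nil)) (nat_lit 0x4111c3) (nat_lit 5408) (nat_lit 0x32c940) (.node (.node (.node .nil (nat_lit
  0x412c62) (nat_lit 2865) (nat_lit 0x641055) .nil) (nat_lit 0x415720) (nat_lit 3664) (nat_lit 0x15094a)
  (.node .nil (nat_lit 0x416a81) (nat_lit 1121) (nat_lit 0x631412) .nil)) (nat_lit 0x41889a) (nat_lit 5265)
  (nat_lit 0x685481) (.node (.node .nil (nat_lit 0x419c05) (nat_lit 6769) (nat_lit 0xf210c0) .nil) (nat_lit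
  0x41a1a4) (nat_lit 4289) (nat_lit 0xe08494) .nil))))))
def oO448_2 : T := (.node (.node (.node (.node (.node (.node (.node .nil (nat_lit 0x428d30) (nat_lit 1792)
  (nat_lit 0x140659) .nil) (nat_lit 0x42b091) (nat_lit 3953) (nat_lit 0x5a0498) (.node .nil (nat_lit 0x433244)
  (nat_lit 4752) (nat_lit 0x212945) .nil)) (nat_lit 0x43c4c0) (nat_lit 1153) (nat_lit 0x6404ca) (.node (.node
  .nil (nat_lit 0x440ba2) (nat_lit 6848) (nat_lit 0x19c058) .nil) (nat_lit 0x44229c) (nat_lit 4432) (nat_lit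
  0x89a444) .nil)) (nat_lit 0x443603) (nat_lit 6192) (nat_lit 0xf6840) (.node (.node (.node .nil (nat_lit
  0x444d41) (nat_lit 272) (nat_lit 0x3e0052) .nil) (nat_lit 0x4470e0) (nat_lit 1472) (nat_lit 0x28a84a) (.node
  .nil (nat_lit 0x448664) (nat_lit 1440) (nat_lit 0x2d024c) .nil)) (nat_lit 0x44d418) (nat_lit 4144) (nat_lit
  0x8c0e42) (.node (.node .nil (nat_lit 0x4504b1) (nat_lit 4577) (nat_lit 0x6a0c44) .nil) (nat_lit 0x454252)
  (nat_lit 2912) (nat_lit 0x294542) .nil))) (nat_lit 0x45a049) (nat_lit 2545) (nat_lit 0x664890) (.node (.node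
  (.node (.node .nil (nat_lit 0x461584) (nat_lit 4369) (nat_lit 0xd08c48) .nil) (nat_lit 0x469842) (nat_lit
  2064) (nat_lit 0x284a51) (.node .nil (nat_lit 0x46e300) (nat_lit 6384) (nat_lit 0x192243) .nil)) (nat_lit
  0x470e08) (nat_lit 5361) (nat_lit 0x615848) (.node (.node .nil (nat_lit 0x480995) (nat_lit 3888) (nat_lit
  0x129454) .nil) (nat_lit 0x481d0a) (nat_lit 720) (nat_lit 0x945850) .nil)) (nat_lit 0x483434) (nat_lit 1392)
  (nat_lit 277580) (.node (.node (.node .nil (nat_lit 0x486648) (nat_lit 1280) (nat_lit 0xa53042) .nil)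
  (nat_lit 0x488453) (nat_lit 5153) (nat_lit 0x4e02c1) (.node .nil (nat_lit 0x4890cc) (nat_lit 5601) (nat_lit
  0xd44680) .nil)) (nat_lit 0x48c2b0) (nat_lit 449) (nat_lit 0x490686) (.node (.node .nil (nat_lit 0x490686)
  (nat_lit 208) (nat_lit 381252) .nil) (nat_lit 0x491219) (nat_lit 1248) (nat_lit 0x831d40) .nil)))) (nat_lit
  0x49f002) (nat_lit 3617) (nat_lit 0x700293) (.node (.node (.node (.node (.node .nil (nat_lit 0x4a2a12)
  (nat_lit 592) (nat_lit 95313) .nil) (nat_lit 0x4a5150) (nat_lit 3264) (nat_lit 0x301c43) (.node .nil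
  (nat_lit 0x4b18a0) (nat_lit 3744) (nat_lit 39257) .nil)) (nat_lit 0x4b2501) (nat_lit 1856) (nat_lit
  0x163141) (.node (.node .nil (nat_lit 0x4c0878) (nat_lit 5217) (nat_lit 0x4c5a04) .nil) (nat_lit 0x4c2146)
  (nat_lit 4321) (nat_lit 0xc48a11) .nil)) (nat_lit 0x4c5a04) (nat_lit 3473) (nat_lit 0xd11a02) (.node (.node
  (.node .nil (nat_lit 0x4c9121) (nat_lit 3201) (nat_lit 0x528a84) .nil) (nat_lit 0x4d4188) (nat_lit 6209)
  (nat_lit 0x60ce02) (.node .nil (nat_lit 0x4e02c1) (nat_lit 3392) (nat_lit 0x2b9041) .nil)) (nat_lit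
  0x4f8014) (nat_lit 1745) (nat_lit 0xe80a88) (.node (.node .nil (nat_lit 0x501964) (nat_lit 1344) (nat_lit
  0x3008dc) .nil) (nat_lit 0x5024c5) (nat_lit 7025) (nat_lit 0xc62450) .nil))) (nat_lit 0x50305a) (nat_lit
  2209) (nat_lit 0x5c6011) (.node (.node (.node (.node .nil (nat_lit 0x504b18) (nat_lit 4672) (nat_lit
  0x9104d2) .nil) (nat_lit 0x5094a2) (nat_lit 5104) (nat_lit 314056) (.node .nil (nat_lit 0x50a903) (nat_lit
  2448) (nat_lit 0x1262d0) .nil)) (nat_lit 0x50d241) (nat_lit 4544) (nat_lit 0x230ac2) (.node (.node .nil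
  (nat_lit 0x5102e8) (nat_lit 4704) (nat_lit 0xa181c8) .nil) (nat_lit 0x515094) (nat_lit 1632) (nat_lit 36294)
  .nil)) (nat_lit 0x520742) (nat_lit 4177) (nat_lit 0x45a049) (.node (.node (.node .nil (nat_lit 0x527c00)
  (nat_lit 3713) (nat_lit 0x50305a) .nil) (nat_lit 0x528a84) (nat_lit 1824) (nat_lit 99029) (.node .nil
  (nat_lit 0x530851) (nat_lit 6145) (nat_lit 0x6e3008) .nil)) (nat_lit 0x539108) (nat_lit 528) (nat_lit
  0x900bc1) (.node (.node .nil (nat_lit 0x540c16) (nat_lit 2000) (nat_lit 804052) .nil) (nat_lit 0x541889)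
  (nat_lit 5441) (nat_lit 0x527c00) .nil))))) (nat_lit 0x542528) (nat_lit 4016) (nat_lit 0x9c20c8) (.node
  (.node (.node (.node (.node (.node .nil (nat_lit 0x550305) (nat_lit 5232) (nat_lit 0x1b01c4) .nil) (nat_lit
  0x55c820) (nat_lit 5873) (nat_lit 0x603886) (.node .nil (nat_lit 0x561230) (nat_lit 1521) (nat_lit 0x59280c)
  .nil)) (nat_lit 0x572082) (nat_lit 5280) (nat_lit 582081) (.node (.node .nil (nat_lit 0x580e21) (nat_lit
  6096) (nat_lit 463064) .nil) (nat_lit 0x5848c2) (nat_lit 5456) (nat_lit 0x20d0d2) .nil)) (nat_lit 0x58c504)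
  (nat_lit 6704) (nat_lit 0x1412c6) (.node (.node (.node .nil (nat_lit 0x590132) (nat_lit 176) (nat_lit
  0x1055c8) .nil) (nat_lit 0x59280c) (nat_lit 801) (nat_lit 0xe07210) (.node .nil (nat_lit 0x5a0498) (nat_lit
  2385) (nat_lit 0x486648) .nil)) (nat_lit 0x5aa060) (nat_lit 4400) (nat_lit 0x2032c9) (.node (.node .nil
  (nat_lit 0x5c6011) (nat_lit 1185) (nat_lit 0x4a2a12) .nil) (nat_lit 0x5c820a) (nat_lit 2097) (nat_lit
  0x416a81) .nil))) (nat_lit 0x6011b8) (nat_lit 4352) (nat_lit 0xd08c48) (.node (.node (.node (.node .nil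
  (nat_lit 0x602c19) (nat_lit 5009) (nat_lit 0x4a5150) .nil) (nat_lit 0x603886) (nat_lit 4241) (nat_lit
  0xd01511) (.node .nil (nat_lit 0x6043c4) (nat_lit 6336) (nat_lit 0x718046) .nil)) (nat_lit 0x6088e1)
  (nat_lit 5969) (nat_lit 0x461584) (.node (.node .nil (nat_lit 0x60ce02) (nat_lit 4624) (nat_lit 0x454252)
  .nil) (nat_lit 0x610a34) (nat_lit 4097) (nat_lit 0xe91104) .nil)) (nat_lit 0x61230a) (nat_lit 5488) (nat_lit
  0xd16140) (.node (.node (.node .nil (nat_lit 0x615848) (nat_lit 3552) (nat_lit 0xe00952) .nil) (nat_lit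
  0x61c111) (nat_lit 5425) (nat_lit 0x6a8182) (.node .nil (nat_lit 0x621b01) (nat_lit 1057) (nat_lit 0x539108)
  .nil)) (nat_lit 0x6226a0) (nat_lit 4160) (nat_lit 0x45a049) (.node (.node .nil (nat_lit 0x628258) (nat_lit
  6672) (nat_lit 0xe10641) .nil) (nat_lit 0x631412) (nat_lit 560) (nat_lit 0x444d41) .nil)))) (nat_lit
  0x6404ca) (nat_lit 577) (nat_lit 0x444d41) (.node (.node (.node (.node (.node .nil (nat_lit 0x641055)
  (nat_lit 1553) (nat_lit 0xde0900) .nil) (nat_lit 0x64890c) (nat_lit 2305) (nat_lit 0xc0d980) (.node .nil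
  (nat_lit 0x64a032) (nat_lit 2368) (nat_lit 0x486648) .nil)) (nat_lit 0x656404) (nat_lit 3569) (nat_lit
  0xe00952) (.node (.node .nil (nat_lit 0x664890) (nat_lit 1377) (nat_lit 0x481d0a) .nil) (nat_lit 0x670160)
  (nat_lit 3857) (nat_lit 0x64890c) .nil)) (nat_lit 0x681262) (nat_lit 5344) (nat_lit 0x615848) (.node (.node
  (.node .nil (nat_lit 0x685481) (nat_lit 3504) (nat_lit 0x469842) .nil) (nat_lit 0x686920) (nat_lit 3696)
  (nat_lit 0x50305a) (.node .nil (nat_lit 0x68a205) (nat_lit 6288) (nat_lit 0x433244) .nil)) (nat_lit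
  0x698428) (nat_lit 6064) (nat_lit 0xc41348) (.node (.node .nil (nat_lit 0x6a0c44) (nat_lit 2848) (nat_lit
  0x641055) .nil) (nat_lit 0x6a8182) (nat_lit 3649) (nat_lit 0x408789) .nil))) (nat_lit 0x6d0803) (nat_lit
  1985) (nat_lit 0x621b01) (.node (.node (.node (.node .nil (nat_lit 0x6e3008) (nat_lit 4528) (nat_lit
  0xc83841) .nil) (nat_lit 0x700293) (nat_lit 2144) (nat_lit 0x43c4c0) (.node .nil (nat_lit 0x70160c) (nat_lit
  5505) (nat_lit 0xd16140) .nil)) (nat_lit 0x704470) (nat_lit 1136) (nat_lit 0x6404ca) (.node (.node .nil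
  (nat_lit 0x70e088) (nat_lit 6960) (nat_lit 0xc0a2c2) .nil) (nat_lit 0x713021) (nat_lit 3057) (nat_lit
  0x722114) .nil)) (nat_lit 0x718046) (nat_lit 4913) (nat_lit 0xe42181) (.node (.node (.node .nil (nat_lit
  0x722114) (nat_lit 1713) (nat_lit 0xc8a118) .nil) (nat_lit 0x745102) (nat_lit 4049) (nat_lit 0x50a903)
  (.node .nil (nat_lit 0x768401) (nat_lit 5136) (nat_lit 0x4e02c1) .nil)) (nat_lit 0x780149) (nat_lit 6752)
  (nat_lit 0xf210c0) (.node (.node .nil (nat_lit 0x7b4200) (nat_lit 6544) (nat_lit 0x4111c3) .nil) (nat_lit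
  0x7c00a4) (nat_lit 1777) (nat_lit 0xc02f04) .nil))))))
def oO448_3 : T := (.node (.node (.node (.node (.node (.node (.node .nil (nat_lit 0x80bc12) (nat_lit 833)
  (nat_lit 0x1810f1) .nil) (nat_lit 0x80c750) (nat_lit 3921) (nat_lit 884962) (.node .nil (nat_lit 0x812a58)
  (nat_lit 2529) (nat_lit 0x2d5030) .nil)) (nat_lit 0x818ea0) (nat_lit 5569) (nat_lit 0x2114e4) (.node (.node
  .nil (nat_lit 0x81b301) (nat_lit 4816) (nat_lit 0x132b20) .nil) (nat_lit 0x831d40) (nat_lit 656) (nat_lit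
  0x340931) .nil)) (nat_lit 0x840d98) (nat_lit 5696) (nat_lit 0x9c8430) (.node (.node (.node .nil (nat_lit
  0x8494c1) (nat_lit 2609) (nat_lit 0x160ce0) .nil) (nat_lit 0x84a960) (nat_lit 5392) (nat_lit 0x382238)
  (.node .nil (nat_lit 0x851614) (nat_lit 4481) (nat_lit 0xb90860) .nil)) (nat_lit 0x85e090) (nat_lit 3216)
  (nat_lit 567074) (.node (.node .nil (nat_lit 0x863a80) (nat_lit 7089) (nat_lit 0x111c38) .nil) (nat_lit
  0x881b30) (nat_lit 7073) (nat_lit 0x199224) .nil))) (nat_lit 0x882691) (nat_lit 240) (nat_lit 504864) (.node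
  (.node (.node (.node .nil (nat_lit 0x892982) (nat_lit 1904) (nat_lit 0x10f130) .nil) (nat_lit 0x8952c0)
  (nat_lit 6305) (nat_lit 0x350622) (.node .nil (nat_lit 0x89a444) (nat_lit 2768) (nat_lit 0x243324) .nil))
  (nat_lit 0x8a88d0) (nat_lit 4001) (nat_lit 792232) (.node (.node .nil (nat_lit 0x8c0e42) (nat_lit 2512)
  (nat_lit 0x2d5030) .nil) (nat_lit 0x8c7500) (nat_lit 336) (nat_lit 0x1c3822) .nil)) (nat_lit 0x8c8384)
  (nat_lit 6657) (nat_lit 0x818ea0) (.node (.node (.node .nil (nat_lit 0x8d0151) (nat_lit 3873) (nat_lit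
  0x2e8a20) .nil) (nat_lit 0x8d9808) (nat_lit 5057) (nat_lit 0x305aa0) (.node .nil (nat_lit 0x900bc1) (nat_lit
  257) (nat_lit 504864) .nil)) (nat_lit 0x903660) (nat_lit 3024) (nat_lit 0x2528a8) (.node (.node .nil
  (nat_lit 0x909298) (nat_lit 6640) (nat_lit 0x818ea0) .nil) (nat_lit 0x9104d2) (nat_lit 2976) (nat_lit
  0x24c5a0) .nil)))) (nat_lit 0x918914) (nat_lit 6048) (nat_lit 0x1007b4) (.node (.node (.node (.node (.node
  .nil (nat_lit 0x92a580) (nat_lit 3441) (nat_lit 42232) .nil) (nat_lit 0x942312) (nat_lit 6992) (nat_lit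
  0x1964a0) (.node .nil (nat_lit 0x945850) (nat_lit 353) (nat_lit 0x1c3822) .nil)) (nat_lit 0x9511a0) (nat_lit
  6865) (nat_lit 0x30ac24) (.node (.node .nil (nat_lit 0x952c01) (nat_lit 5776) (nat_lit 926128) .nil)
  (nat_lit 0x978240) (nat_lit 1936) (nat_lit 0x2903a1) .nil)) (nat_lit 0x981c84) (nat_lit 4737) (nat_lit
  0x903660) (.node (.node (.node .nil (nat_lit 0x989142) (nat_lit 5040) (nat_lit 0x305aa0) .nil) (nat_lit
  0x98ea00) (nat_lit 7040) (nat_lit 78514) (.node .nil (nat_lit 0x990708) (nat_lit 6945) (nat_lit 0x21e260)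
  .nil)) (nat_lit 0x9b3010) (nat_lit 16) (nat_lit 15777) (.node (.node .nil (nat_lit 0x9c20c8) (nat_lit 2433)
  (nat_lit 290352) .nil) (nat_lit 0x9c8430) (nat_lit 3984) (nat_lit 792232) .nil))) (nat_lit 0xa01782)
  (nat_lit 6816) (nat_lit 0x55c820) (.node (.node (.node (.node .nil (nat_lit 0xa06cc0) (nat_lit 3936)
  (nat_lit 0x64a032) .nil) (nat_lit 0xa09a44) (nat_lit 5808) (nat_lit 0x610a34) (.node .nil (nat_lit 0xa11891)
  (nat_lit 3136) (nat_lit 0x428d30) .nil)) (nat_lit 0xa12530) (nat_lit 5728) (nat_lit 0x542528) (.node (.node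
  .nil (nat_lit 0xa181c8) (nat_lit 2993) (nat_lit 0x24c5a0) .nil) (nat_lit 0xa402f0) (nat_lit 6880) (nat_lit
  0x698428) .nil)) (nat_lit 0xa4a608) (nat_lit 2049) (nat_lit 84464) (.node (.node (.node .nil (nat_lit
  0xa53042) (nat_lit 673) (nat_lit 0x340931) .nil) (nat_lit 0xa54b00) (nat_lit 368) (nat_lit 0x590132) (.node
  .nil (nat_lit 0xa69110) (nat_lit 6912) (nat_lit 0x580e21) .nil)) (nat_lit 0xa81458) (nat_lit 4112) (nat_lit
  0xe41c20) (.node (.node .nil (nat_lit 0xa88d01) (nat_lit 2800) (nat_lit 0x561230) .nil) (nat_lit 0xa8b0a0)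
  (nat_lit 4656) (nat_lit 0x40ba28) .nil))))) (nat_lit 0xa98212) (nat_lit 1953) (nat_lit 0x2903a1) (.node
  (.node (.node (.node (.node (.node .nil (nat_lit 0xaa2340) (nat_lit 4784) (nat_lit 0x713021) .nil) (nat_lit
  0xac2814) (nat_lit 2560) (nat_lit 0x483434) (.node .nil (nat_lit 0xaf0480) (nat_lit 481) (nat_lit 0x200f68)
  .nil)) (nat_lit 0xb03908) (nat_lit 1921) (nat_lit 0x10f130) (.node (.node .nil (nat_lit 0xb0a051) (nat_lit
  5793) (nat_lit 926128) .nil) (nat_lit 0xb12284) (nat_lit 5920) (nat_lit 0x41a1a4) .nil)) (nat_lit 0xb1d400)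
  (nat_lit 3793) (nat_lit 0x3021e2) (.node (.node (.node .nil (nat_lit 0xb20e10) (nat_lit 1681) (nat_lit
  602472) .nil) (nat_lit 0xb40544) (nat_lit 3120) (nat_lit 0x7c00a4) (.node .nil (nat_lit 0xb48882) (nat_lit
  33) (nat_lit 15777) .nil)) (nat_lit 0xb84190) (nat_lit 3233) (nat_lit 567074) (.node (.node .nil (nat_lit
  0xb90860) (nat_lit 2785) (nat_lit 0x243324) .nil) (nat_lit 0xbc1201) (nat_lit 4833) (nat_lit 0x132b20)
  .nil))) (nat_lit 0xc02f04) (nat_lit 945) (nat_lit 0xc19070) (.node (.node (.node (.node .nil (nat_lit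
  0xc0a2c2) (nat_lit 6177) (nat_lit 0x4504b1) .nil) (nat_lit 0xc0d980) (nat_lit 1232) (nat_lit 0x108a72)
  (.node .nil (nat_lit 0xc13488) (nat_lit 2129) (nat_lit 0x704470) .nil)) (nat_lit 0xc19070) (nat_lit 464)
  (nat_lit 0x200f68) (.node (.node .nil (nat_lit 0xc30390) (nat_lit 6897) (nat_lit 0x698428) .nil) (nat_lit
  0xc41348) (nat_lit 4464) (nat_lit 0xb90860) .nil)) (nat_lit 0xc48a11) (nat_lit 2688) (nat_lit 722544) (.node
  (.node (.node .nil (nat_lit 0xc508c4) (nat_lit 4129) (nat_lit 0xe41c20) .nil) (nat_lit 0xc58502) (nat_lit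
  5552) (nat_lit 0x1c4360) (.node .nil (nat_lit 0xc62450) (nat_lit 6465) (nat_lit 0x4c0878) .nil)) (nat_lit
  0xc805e0) (nat_lit 2673) (nat_lit 0x448664) (.node (.node .nil (nat_lit 0xc83841) (nat_lit 2817) (nat_lit
  0x561230) .nil) (nat_lit 0xc8a118) (nat_lit 913) (nat_lit 0x48c2b0) .nil)))) (nat_lit 0xc94c10) (nat_lit
  6513) (nat_lit 0x681262) (.node (.node (.node (.node (.node .nil (nat_lit 0xca9600) (nat_lit 6241) (nat_lit
  0x5102e8) .nil) (nat_lit 0xcc1092) (nat_lit 6929) (nat_lit 0x580e21) (.node .nil (nat_lit 0xcd2220) (nat_lit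
  1664) (nat_lit 602472) .nil)) (nat_lit 0xd01511) (nat_lit 2592) (nat_lit 0x160ce0) (.node (.node .nil
  (nat_lit 0xd028b0) (nat_lit 2577) (nat_lit 0x483434) .nil) (nat_lit 0xd08c48) (nat_lit 2721) (nat_lit
  0x4470e0) .nil)) (nat_lit 0xd11a02) (nat_lit 2032) (nat_lit 84464) (.node (.node (.node .nil (nat_lit
  0xd16140) (nat_lit 3776) (nat_lit 0x3021e2) .nil) (nat_lit 0xd44680) (nat_lit 3904) (nat_lit 884962) (.node
  .nil (nat_lit 0xd4b004) (nat_lit 4209) (nat_lit 0xd028b0) .nil)) (nat_lit 0xd80254) (nat_lit 3009) (nat_lit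
  0xcd2220) (.node (.node .nil (nat_lit 0xd98081) (nat_lit 5841) (nat_lit 0x6226a0) .nil) (nat_lit 0xde0900)
  (nat_lit 816) (nat_lit 0x1810f1) .nil))) (nat_lit 0xe00952) (nat_lit 2112) (nat_lit 0x704470) (.node (.node
  (.node (.node .nil (nat_lit 0xe07210) (nat_lit 385) (nat_lit 0x590132) .nil) (nat_lit 0xe08494) (nat_lit
  2656) (nat_lit 0x448664) (.node .nil (nat_lit 0xe10641) (nat_lit 5584) (nat_lit 0x670160) .nil)) (nat_lit
  0xe3a800) (nat_lit 4800) (nat_lit 0x402371) (.node (.node .nil (nat_lit 0xe41c20) (nat_lit 2497) (nat_lit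
  0x501964) .nil) (nat_lit 0xe42181) (nat_lit 3153) (nat_lit 0x428d30) .nil)) (nat_lit 0xe80a88) (nat_lit 928)
  (nat_lit 0xc19070) (.node (.node (.node .nil (nat_lit 0xe91104) (nat_lit 2480) (nat_lit 0x501964) .nil)
  (nat_lit 0xecc040) (nat_lit 6496) (nat_lit 0x681262) (.node .nil (nat_lit 0xf08320) (nat_lit 5937) (nat_lit
  0x41a1a4) .nil)) (nat_lit 0xf210c0) (nat_lit 5745) (nat_lit 0x542528) (.node (.node .nil (nat_lit 0xf50018)
  (nat_lit 4304) (nat_lit 0xc805e0) .nil) (nat_lit 0xf82402) (nat_lit 2704) (nat_lit 0x4470e0) .nil))))))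
def oO448 : T := (.node (.node oO448_0 (nat_lit 0x1964a0) (nat_lit 6352) (nat_lit 307594) oO448_1) (nat_lit
  0x4229c8) (nat_lit 5825) (nat_lit 0x44d418) (.node oO448_2 (nat_lit 0x8031d4) (nat_lit 5713) (nat_lit
  0x9c8430) oO448_3))
theorem oO448_chk : band (orbChk act (gensOf cO) 15777 (2 ^ 24) oO448) (Nat.beq oO448.size 448) = true := by
  decide +kernel
theorem oO448_card : (orbit (stabilizer M24 O0) (unmask 15777)).ncard = 448 :=
  orbit_ncard_of_chk acSM trivial cO_chk stab_O0 (oct_rep (m := 15777) (by decide +kernel)).2 oO448_chk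


theorem conj_mem_inf_stab {G X Y : Type*} [Group G] [MulAction G X] [MulAction G Y] (g x : G)
    (a : X) (b : Y) : x ∈ stabilizer G a ⊓ stabilizer G b ↔
      g * x * g⁻¹ ∈ stabilizer G (g • a) ⊓ stabilizer G (g • b) := by
  rw [Subgroup.mem_inf, Subgroup.mem_inf, ← conj_mem_stabilizer, ← conj_mem_stabilizer]

theorem card_stab_O0 : Nat.card (stabilizer M24 O0) = 322560 := by
  rw [stab_O0]; exact card_of_chk cO_chk (by decide +kernel)

theorem inv_level {k : ℕ} (g : stabilizer M24 O0) {o : Finset GolayPt}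
    (ho : o ∈ {o | IsCw o ∧ (o.card = 8 ∧ (O0 ∩ o).card = k)}) :
    g • o ∈ {o | IsCw o ∧ (o.card = 8 ∧ (O0 ∩ o).card = k)} := by
  have h1 := octad_smul ⟨ho.1, ho.2.1⟩ g.1.2
  refine ⟨h1.1, h1.2, ?_⟩
  have e : g.1 • O0 = O0 := g.2
  change (O0 ∩ g.1 • o).card = k
  rw [← ho.2.2, ← card_smul_finset g.1 (O0 ∩ o), smul_finset_inter, e]

theorem orbit_oct0 : orbit (stabilizer M24 O0) (unmask 337856) =
    {o | IsCw o ∧ (o.card = 8 ∧ (O0 ∩ o).card = 0)} := by
  refine orbit_eq_of_ncard (Set.toFinite _) ⟨(oct_rep (m := 337856) (by decide +kernel)).1.1,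
    by decide +kernel⟩ (fun g o ho => inv_level g ho) ?_
  rw [oO30_card, ncard_cw (f := fun m => Nat.beq (pc m) 8 && Nat.beq (pc (Nat.land 8536111 m)) 0)
    (by simp [card_eq_pc, mask_inter, mask_O0])]
  decide +kernel

theorem std_pair0 {o o' : Finset GolayPt} (ho : o ∈ octads) (ho' : o' ∈ octads)
    (h : (o ∩ o').card = 0) : ∃ g : M24, g • O0 = o ∧ g • unmask 337856 = o' := by
  obtain ⟨g, rfl⟩ := exists_smul_O0 ho
  have : g⁻¹ • o' ∈ orbit (stabilizer M24 O0) (unmask 337856) := by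
    rw [orbit_oct0]
    have h1 := octad_smul ho' (g⁻¹).2
    refine ⟨h1.1, h1.2, ?_⟩
    rw [← h, ← card_smul_finset g, smul_finset_inter, smul_inv_smul]
  obtain ⟨⟨k, hk⟩, e⟩ := this
  refine ⟨g * k, by rw [mul_smul, mem_stabilizer_iff.1 hk], ?_⟩
  change k • unmask 337856 = _ at e
  rw [mul_smul, e, smul_inv_smul]

theorem card_pair0 {o o' : Finset GolayPt} (ho : o ∈ octads) (ho' : o' ∈ octads)
    (h : (o ∩ o').card = 0) :
    Nat.card ↥(stabilizer M24 o ⊓ stabilizer M24 o') = 10752 := by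
  obtain ⟨g, rfl, rfl⟩ := std_pair0 ho ho' h
  rw [← card_eq_of_conj g (fun x => conj_mem_inf_stab g x O0 _)]
  have := card_inf_stab (stabilizer M24 O0) (unmask 337856)
  rw [oO30_card, card_stab_O0] at this
  exact Nat.eq_of_mul_eq_mul_right (m := 30) (by norm_num) (this.trans (by norm_num))

theorem orbit_oct4 : orbit (stabilizer M24 O0) (unmask 5279) =
    {o | IsCw o ∧ (o.card = 8 ∧ (O0 ∩ o).card = 4)} := by
  refine orbit_eq_of_ncard (Set.toFinite _) ⟨(oct_rep (m := 5279) (by decide +kernel)).1.1,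
    by decide +kernel⟩ (fun g o ho => inv_level g ho) ?_
  rw [oO280_card, ncard_cw (f := fun m => Nat.beq (pc m) 8 && Nat.beq (pc (Nat.land 8536111 m)) 4)
    (by simp [card_eq_pc, mask_inter, mask_O0])]
  decide +kernel

theorem std_pair4 {o o' : Finset GolayPt} (ho : o ∈ octads) (ho' : o' ∈ octads)
    (h : (o ∩ o').card = 4) : ∃ g : M24, g • O0 = o ∧ g • unmask 5279 = o' := by
  obtain ⟨g, rfl⟩ := exists_smul_O0 ho
  have : g⁻¹ • o' ∈ orbit (stabilizer M24 O0) (unmask 5279) := by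
    rw [orbit_oct4]
    have h1 := octad_smul ho' (g⁻¹).2
    refine ⟨h1.1, h1.2, ?_⟩
    rw [← h, ← card_smul_finset g, smul_finset_inter, smul_inv_smul]
  obtain ⟨⟨k, hk⟩, e⟩ := this
  refine ⟨g * k, by rw [mul_smul, mem_stabilizer_iff.1 hk], ?_⟩
  change k • unmask 5279 = _ at e
  rw [mul_smul, e, smul_inv_smul]

theorem card_pair4 {o o' : Finset GolayPt} (ho : o ∈ octads) (ho' : o' ∈ octads)
    (h : (o ∩ o').card = 4) :
    Nat.card ↥(stabilizer M24 o ⊓ stabilizer M24 o') = 1152 := by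
  obtain ⟨g, rfl, rfl⟩ := std_pair4 ho ho' h
  rw [← card_eq_of_conj g (fun x => conj_mem_inf_stab g x O0 _)]
  have := card_inf_stab (stabilizer M24 O0) (unmask 5279)
  rw [oO280_card, card_stab_O0] at this
  exact Nat.eq_of_mul_eq_mul_right (m := 280) (by norm_num) (this.trans (by norm_num))

theorem orbit_oct2 : orbit (stabilizer M24 O0) (unmask 15777) =
    {o | IsCw o ∧ (o.card = 8 ∧ (O0 ∩ o).card = 2)} := by
  refine orbit_eq_of_ncard (Set.toFinite _) ⟨(oct_rep (m := 15777) (by decide +kernel)).1.1,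
    by decide +kernel⟩ (fun g o ho => inv_level g ho) ?_
  rw [oO448_card, ncard_cw (f := fun m => Nat.beq (pc m) 8 && Nat.beq (pc (Nat.land 8536111 m)) 2)
    (by simp [card_eq_pc, mask_inter, mask_O0])]
  decide +kernel

theorem std_pair2 {o o' : Finset GolayPt} (ho : o ∈ octads) (ho' : o' ∈ octads)
    (h : (o ∩ o').card = 2) : ∃ g : M24, g • O0 = o ∧ g • unmask 15777 = o' := by
  obtain ⟨g, rfl⟩ := exists_smul_O0 ho
  have : g⁻¹ • o' ∈ orbit (stabilizer M24 O0) (unmask 15777) := by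
    rw [orbit_oct2]
    have h1 := octad_smul ho' (g⁻¹).2
    refine ⟨h1.1, h1.2, ?_⟩
    rw [← h, ← card_smul_finset g, smul_finset_inter, smul_inv_smul]
  obtain ⟨⟨k, hk⟩, e⟩ := this
  refine ⟨g * k, by rw [mul_smul, mem_stabilizer_iff.1 hk], ?_⟩
  change k • unmask 15777 = _ at e
  rw [mul_smul, e, smul_inv_smul]

theorem card_pair2 {o o' : Finset GolayPt} (ho : o ∈ octads) (ho' : o' ∈ octads)
    (h : (o ∩ o').card = 2) :
    Nat.card ↥(stabilizer M24 o ⊓ stabilizer M24 o') = 720 := by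
  obtain ⟨g, rfl, rfl⟩ := std_pair2 ho ho' h
  rw [← card_eq_of_conj g (fun x => conj_mem_inf_stab g x O0 _)]
  have := card_inf_stab (stabilizer M24 O0) (unmask 15777)
  rw [oO448_card, card_stab_O0] at this
  exact Nat.eq_of_mul_eq_mul_right (m := 448) (by norm_num) (this.trans (by norm_num))


theorem octad_inter {o o' : Finset GolayPt} (ho : o ∈ octads) (ho' : o' ∈ octads) (hne : o ≠ o') :
    (o ∩ o').card = 0 ∨ (o ∩ o').card = 2 ∨ (o ∩ o').card = 4 := by
  have h1 := IsCw.even_inter ho.1 ho'.1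
  have h2 : ¬ 5 ≤ (o ∩ o').card := fun h => hne (octad_unique ho ho' h)
  omega

theorem exists_mid4 {o o' : Finset GolayPt} (ho : o ∈ octads) (ho' : o' ∈ octads)
    (h : (o ∩ o').card = 4) : ∃ c ∈ octads, Disjoint o c ∧ Disjoint c o' := by
  obtain ⟨g, rfl, rfl⟩ := std_pair4 ho ho' h
  exact ⟨g • unmask 4038912, octad_smul (oct_rep (by decide +kernel)).1 g.2,
    disjoint_smul_perm (by decide +kernel), disjoint_smul_perm (by decide +kernel)⟩

theorem exists_mid2 {o o' : Finset GolayPt} (ho : o ∈ octads) (ho' : o' ∈ octads)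
    (h : (o ∩ o').card = 2) : ∃ c ∈ octads, Disjoint o c ∧ (c ∩ o').card = 4 := by
  obtain ⟨g, rfl, rfl⟩ := std_pair2 ho ho' h
  exact ⟨g • unmask 337856, octad_smul (oct_rep (by decide +kernel)).1 g.2,
    disjoint_smul_perm (by decide +kernel),
    by rw [← smul_finset_inter, card_smul_finset]; decide +kernel⟩

theorem no_mid2 {o o' c : Finset GolayPt} (ho : o ∈ octads) (ho' : o' ∈ octads) (hc : c ∈ octads)
    (h : (o ∩ o').card = 2) (h1 : Disjoint o c) (h2 : Disjoint c o') : False := by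
  have h3 := compl_octad ho hc h1
  have h4 : o' \ o ⊆ o' ∩ (univ \ (o ∪ c)) := by
    intro a ha
    simp only [mem_sdiff, mem_inter, mem_univ, mem_union, true_and, not_or] at ha ⊢
    exact ⟨ha.1, ha.2, fun hc' => disjoint_left.1 h2 hc' ha.1⟩
  have h5 := card_sdiff_add_card_inter o' o
  rw [inter_comm o' o, h, ho'.2] at h5
  have h6 := octad_unique ho' h3 (le_trans (by omega) (card_le_card h4))
  obtain ⟨a, ha⟩ := card_pos.1 (show 0 < (o ∩ o').card by omega)
  rw [mem_inter] at ha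
  have := h6 ▸ ha.2
  simp [ha.1] at this

/-- Test: the permutation with code `p` fixes all points of the mask `E`. -/
noncomputable def fixesAll (E p : ℕ) : Bool :=
  nall 24 fun i => bor (!E.testBit i) (Nat.beq (ap p i) i)

theorem fixesAll_iff {E : Finset GolayPt} {g : Equiv.Perm GolayPt} :
    fixesAll (mask E) (pcode g) = true ↔ ∀ a ∈ E, g a = a := by
  simp only [fixesAll, nall_iff, bor_eq, Bool.or_eq_true, Bool.not_eq_true', Nat.beq_eq]
  constructor
  · intro h a ha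
    rcases h _ (idx_lt a) with h1 | h1
    · rw [(testBit_mask E a).2 ha] at h1; exact absurd h1 (by simp)
    · rw [ap_pcode] at h1; exact idx_inj h1
  · intro h i hi
    by_cases h1 : pt i ∈ E
    · right; rw [← idx_pt hi, ap_pcode, h _ h1]
    · left; rw [← idx_pt hi, ← Bool.not_eq_true, testBit_mask]; exact h1

theorem faithful_of_enum {Ls : List Lvl} (h : chkM Ls = true) {E : Finset GolayPt} {m : ℕ}
    (hE : mask E = m) (he : enum mul (fun p => bor (!fixesAll m p) (Nat.beq p one)) Ls one = true) :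
    ∀ g ∈ gen mcode (gensOf Ls), (∀ a ∈ E, (g : Equiv.Perm GolayPt) a = a) → g = 1 := by
  intro g hg hfix
  have := (chkM_sound h).2.1.enum_one gcM acM he g hg
  rw [← hE, mcode, fixesAll_iff.2 hfix] at this
  simp only [bor_eq, Bool.not_true, Bool.false_or, Nat.beq_eq] at this
  exact gcM.inj (this.trans gcM.code_one.symm)

end Cfsg.Agent.M24
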