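import Cfsg.Agent.M24.Perm
import Cfsg.Prelude.Def_Sporadic_a

/-!
# Codes for permutations and subsets of the 24 Golay points
-/

set_option autoImplicit false

namespace Cfsg.Agent.M24

open scoped Pointwise

/-- Index of a Golay point: residues by their value, the extra point is 23. -/
def idx : GolayPt → ℕ
  | none => 23
  | some x => x.val

/-- The Golay point with a given index. -/
def pt (i : ℕ) : GolayPt := if i < 23 then some (i : ZMod 23) else none

/-- The enumeration of the Golay points. -/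
def EG : Enc GolayPt 24 where
  idx := idx
  pt := pt
  idx_lt := by decide
  pt_idx := by decide
  idx_pt := by decide

/-- Image of point `i` under the permutation with code `p`. -/
def ap (p i : ℕ) : ℕ := Nat.land (Nat.shiftRight p (Nat.mul (nat_lit 5) i)) (nat_lit 31)

/-- Product of permutation codes. -/
def mul (p q : ℕ) : ℕ :=
  (Nat.lor (Nat.lor (Nat.lor (Nat.lor (Nat.lor (Nat.lor (Nat.lor (Nat.lor (Nat.lor (Nat.lor (Nat.lor (Nat.lor (Nat.lor (Nat.lor (Nat.lor (Nat.lor (Nat.lor (Nat.lor (Nat.lor (Nat.lor (Nat.lor (Nat.lor (Nat.lor (Nat.lor (nat_lit 0)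
    (Nat.shiftLeft (Nat.land (Nat.shiftRight p (Nat.mul (nat_lit 5) (Nat.land (Nat.shiftRight q (nat_lit 0)) (nat_lit 31)))) (nat_lit 31)) (nat_lit 0)))
    (Nat.shiftLeft (Nat.land (Nat.shiftRight p (Nat.mul (nat_lit 5) (Nat.land (Nat.shiftRight q (nat_lit 5)) (nat_lit 31)))) (nat_lit 31)) (nat_lit 5)))
    (Nat.shiftLeft (Nat.land (Nat.shiftRight p (Nat.mul (nat_lit 5) (Nat.land (Nat.shiftRight q (nat_lit 10)) (nat_lit 31)))) (nat_lit 31)) (nat_lit 10)))
    (Nat.shiftLeft (Nat.land (Nat.shiftRight p (Nat.mul (nat_lit 5) (Nat.land (Nat.shiftRight q (nat_lit 15)) (nat_lit 31)))) (nat_lit 31)) (nat_lit 15)))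
    (Nat.shiftLeft (Nat.land (Nat.shiftRight p (Nat.mul (nat_lit 5) (Nat.land (Nat.shiftRight q (nat_lit 20)) (nat_lit 31)))) (nat_lit 31)) (nat_lit 20)))
    (Nat.shiftLeft (Nat.land (Nat.shiftRight p (Nat.mul (nat_lit 5) (Nat.land (Nat.shiftRight q (nat_lit 25)) (nat_lit 31)))) (nat_lit 31)) (nat_lit 25)))
    (Nat.shiftLeft (Nat.land (Nat.shiftRight p (Nat.mul (nat_lit 5) (Nat.land (Nat.shiftRight q (nat_lit 30)) (nat_lit 31)))) (nat_lit 31)) (nat_lit 30)))
    (Nat.shiftLeft (Nat.land (Nat.shiftRight p (Nat.mul (nat_lit 5) (Nat.land (Nat.shiftRight q (nat_lit 35)) (nat_lit 31)))) (nat_lit 31)) (nat_lit 35)))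
    (Nat.shiftLeft (Nat.land (Nat.shiftRight p (Nat.mul (nat_lit 5) (Nat.land (Nat.shiftRight q (nat_lit 40)) (nat_lit 31)))) (nat_lit 31)) (nat_lit 40)))
    (Nat.shiftLeft (Nat.land (Nat.shiftRight p (Nat.mul (nat_lit 5) (Nat.land (Nat.shiftRight q (nat_lit 45)) (nat_lit 31)))) (nat_lit 31)) (nat_lit 45)))
    (Nat.shiftLeft (Nat.land (Nat.shiftRight p (Nat.mul (nat_lit 5) (Nat.land (Nat.shiftRight q (nat_lit 50)) (nat_lit 31)))) (nat_lit 31)) (nat_lit 50)))
    (Nat.shiftLeft (Nat.land (Nat.shiftRight p (Nat.mul (nat_lit 5) (Nat.land (Nat.shiftRight q (nat_lit 55)) (nat_lit 31)))) (nat_lit 31)) (nat_lit 55)))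
    (Nat.shiftLeft (Nat.land (Nat.shiftRight p (Nat.mul (nat_lit 5) (Nat.land (Nat.shiftRight q (nat_lit 60)) (nat_lit 31)))) (nat_lit 31)) (nat_lit 60)))
    (Nat.shiftLeft (Nat.land (Nat.shiftRight p (Nat.mul (nat_lit 5) (Nat.land (Nat.shiftRight q (nat_lit 65)) (nat_lit 31)))) (nat_lit 31)) (nat_lit 65)))
    (Nat.shiftLeft (Nat.land (Nat.shiftRight p (Nat.mul (nat_lit 5) (Nat.land (Nat.shiftRight q (nat_lit 70)) (nat_lit 31)))) (nat_lit 31)) (nat_lit 70)))
    (Nat.shiftLeft (Nat.land (Nat.shiftRight p (Nat.mul (nat_lit 5) (Nat.land (Nat.shiftRight q (nat_lit 75)) (nat_lit 31)))) (nat_lit 31)) (nat_lit 75)))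
    (Nat.shiftLeft (Nat.land (Nat.shiftRight p (Nat.mul (nat_lit 5) (Nat.land (Nat.shiftRight q (nat_lit 80)) (nat_lit 31)))) (nat_lit 31)) (nat_lit 80)))
    (Nat.shiftLeft (Nat.land (Nat.shiftRight p (Nat.mul (nat_lit 5) (Nat.land (Nat.shiftRight q (nat_lit 85)) (nat_lit 31)))) (nat_lit 31)) (nat_lit 85)))
    (Nat.shiftLeft (Nat.land (Nat.shiftRight p (Nat.mul (nat_lit 5) (Nat.land (Nat.shiftRight q (nat_lit 90)) (nat_lit 31)))) (nat_lit 31)) (nat_lit 90)))
    (Nat.shiftLeft (Nat.land (Nat.shiftRight p (Nat.mul (nat_lit 5) (Nat.land (Nat.shiftRight q (nat_lit 95)) (nat_lit 31)))) (nat_lit 31)) (nat_lit 95)))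
    (Nat.shiftLeft (Nat.land (Nat.shiftRight p (Nat.mul (nat_lit 5) (Nat.land (Nat.shiftRight q (nat_lit 100)) (nat_lit 31)))) (nat_lit 31)) (nat_lit 100)))
    (Nat.shiftLeft (Nat.land (Nat.shiftRight p (Nat.mul (nat_lit 5) (Nat.land (Nat.shiftRight q (nat_lit 105)) (nat_lit 31)))) (nat_lit 31)) (nat_lit 105)))
    (Nat.shiftLeft (Nat.land (Nat.shiftRight p (Nat.mul (nat_lit 5) (Nat.land (Nat.shiftRight q (nat_lit 110)) (nat_lit 31)))) (nat_lit 31)) (nat_lit 110)))
    (Nat.shiftLeft (Nat.land (Nat.shiftRight p (Nat.mul (nat_lit 5) (Nat.land (Nat.shiftRight q (nat_lit 115)) (nat_lit 31)))) (nat_lit 31)) (nat_lit 115)))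

/-- Inverse of a permutation code. -/
def inv (p : ℕ) : ℕ :=
  (Nat.lor (Nat.lor (Nat.lor (Nat.lor (Nat.lor (Nat.lor (Nat.lor (Nat.lor (Nat.lor (Nat.lor (Nat.lor (Nat.lor (Nat.lor (Nat.lor (Nat.lor (Nat.lor (Nat.lor (Nat.lor (Nat.lor (Nat.lor (Nat.lor (Nat.lor (Nat.lor (Nat.lor (nat_lit 0)
    (Nat.shiftLeft (nat_lit 0) (Nat.mul (nat_lit 5) (Nat.land (Nat.shiftRight p (nat_lit 0)) (nat_lit 31)))))
    (Nat.shiftLeft (nat_lit 1) (Nat.mul (nat_lit 5) (Nat.land (Nat.shiftRight p (nat_lit 5)) (nat_lit 31)))))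
    (Nat.shiftLeft (nat_lit 2) (Nat.mul (nat_lit 5) (Nat.land (Nat.shiftRight p (nat_lit 10)) (nat_lit 31)))))
    (Nat.shiftLeft (nat_lit 3) (Nat.mul (nat_lit 5) (Nat.land (Nat.shiftRight p (nat_lit 15)) (nat_lit 31)))))
    (Nat.shiftLeft (nat_lit 4) (Nat.mul (nat_lit 5) (Nat.land (Nat.shiftRight p (nat_lit 20)) (nat_lit 31)))))
    (Nat.shiftLeft (nat_lit 5) (Nat.mul (nat_lit 5) (Nat.land (Nat.shiftRight p (nat_lit 25)) (nat_lit 31)))))
    (Nat.shiftLeft (nat_lit 6) (Nat.mul (nat_lit 5) (Nat.land (Nat.shiftRight p (nat_lit 30)) (nat_lit 31)))))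
    (Nat.shiftLeft (nat_lit 7) (Nat.mul (nat_lit 5) (Nat.land (Nat.shiftRight p (nat_lit 35)) (nat_lit 31)))))
    (Nat.shiftLeft (nat_lit 8) (Nat.mul (nat_lit 5) (Nat.land (Nat.shiftRight p (nat_lit 40)) (nat_lit 31)))))
    (Nat.shiftLeft (nat_lit 9) (Nat.mul (nat_lit 5) (Nat.land (Nat.shiftRight p (nat_lit 45)) (nat_lit 31)))))
    (Nat.shiftLeft (nat_lit 10) (Nat.mul (nat_lit 5) (Nat.land (Nat.shiftRight p (nat_lit 50)) (nat_lit 31)))))
    (Nat.shiftLeft (nat_lit 11) (Nat.mul (nat_lit 5) (Nat.land (Nat.shiftRight p (nat_lit 55)) (nat_lit 31)))))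
    (Nat.shiftLeft (nat_lit 12) (Nat.mul (nat_lit 5) (Nat.land (Nat.shiftRight p (nat_lit 60)) (nat_lit 31)))))
    (Nat.shiftLeft (nat_lit 13) (Nat.mul (nat_lit 5) (Nat.land (Nat.shiftRight p (nat_lit 65)) (nat_lit 31)))))
    (Nat.shiftLeft (nat_lit 14) (Nat.mul (nat_lit 5) (Nat.land (Nat.shiftRight p (nat_lit 70)) (nat_lit 31)))))
    (Nat.shiftLeft (nat_lit 15) (Nat.mul (nat_lit 5) (Nat.land (Nat.shiftRight p (nat_lit 75)) (nat_lit 31)))))
    (Nat.shiftLeft (nat_lit 16) (Nat.mul (nat_lit 5) (Nat.land (Nat.shiftRight p (nat_lit 80)) (nat_lit 31)))))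
    (Nat.shiftLeft (nat_lit 17) (Nat.mul (nat_lit 5) (Nat.land (Nat.shiftRight p (nat_lit 85)) (nat_lit 31)))))
    (Nat.shiftLeft (nat_lit 18) (Nat.mul (nat_lit 5) (Nat.land (Nat.shiftRight p (nat_lit 90)) (nat_lit 31)))))
    (Nat.shiftLeft (nat_lit 19) (Nat.mul (nat_lit 5) (Nat.land (Nat.shiftRight p (nat_lit 95)) (nat_lit 31)))))
    (Nat.shiftLeft (nat_lit 20) (Nat.mul (nat_lit 5) (Nat.land (Nat.shiftRight p (nat_lit 100)) (nat_lit 31)))))
    (Nat.shiftLeft (nat_lit 21) (Nat.mul (nat_lit 5) (Nat.land (Nat.shiftRight p (nat_lit 105)) (nat_lit 31)))))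
    (Nat.shiftLeft (nat_lit 22) (Nat.mul (nat_lit 5) (Nat.land (Nat.shiftRight p (nat_lit 110)) (nat_lit 31)))))
    (Nat.shiftLeft (nat_lit 23) (Nat.mul (nat_lit 5) (Nat.land (Nat.shiftRight p (nat_lit 115)) (nat_lit 31)))))

/-- Image of a bit mask under a permutation code. -/
def act (p m : ℕ) : ℕ :=
  (Nat.lor (Nat.lor (Nat.lor (Nat.lor (Nat.lor (Nat.lor (Nat.lor (Nat.lor (Nat.lor (Nat.lor (Nat.lor (Nat.lor (Nat.lor (Nat.lor (Nat.lor (Nat.lor (Nat.lor (Nat.lor (Nat.lor (Nat.lor (Nat.lor (Nat.lor (Nat.lor (Nat.lor (nat_lit 0)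
    (Nat.shiftLeft (Nat.land (Nat.shiftRight m (nat_lit 0)) (nat_lit 1)) (Nat.land (Nat.shiftRight p (nat_lit 0)) (nat_lit 31))))
    (Nat.shiftLeft (Nat.land (Nat.shiftRight m (nat_lit 1)) (nat_lit 1)) (Nat.land (Nat.shiftRight p (nat_lit 5)) (nat_lit 31))))
    (Nat.shiftLeft (Nat.land (Nat.shiftRight m (nat_lit 2)) (nat_lit 1)) (Nat.land (Nat.shiftRight p (nat_lit 10)) (nat_lit 31))))
    (Nat.shiftLeft (Nat.land (Nat.shiftRight m (nat_lit 3)) (nat_lit 1)) (Nat.land (Nat.shiftRight p (nat_lit 15)) (nat_lit 31))))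
    (Nat.shiftLeft (Nat.land (Nat.shiftRight m (nat_lit 4)) (nat_lit 1)) (Nat.land (Nat.shiftRight p (nat_lit 20)) (nat_lit 31))))
    (Nat.shiftLeft (Nat.land (Nat.shiftRight m (nat_lit 5)) (nat_lit 1)) (Nat.land (Nat.shiftRight p (nat_lit 25)) (nat_lit 31))))
    (Nat.shiftLeft (Nat.land (Nat.shiftRight m (nat_lit 6)) (nat_lit 1)) (Nat.land (Nat.shiftRight p (nat_lit 30)) (nat_lit 31))))
    (Nat.shiftLeft (Nat.land (Nat.shiftRight m (nat_lit 7)) (nat_lit 1)) (Nat.land (Nat.shiftRight p (nat_lit 35)) (nat_lit 31))))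
    (Nat.shiftLeft (Nat.land (Nat.shiftRight m (nat_lit 8)) (nat_lit 1)) (Nat.land (Nat.shiftRight p (nat_lit 40)) (nat_lit 31))))
    (Nat.shiftLeft (Nat.land (Nat.shiftRight m (nat_lit 9)) (nat_lit 1)) (Nat.land (Nat.shiftRight p (nat_lit 45)) (nat_lit 31))))
    (Nat.shiftLeft (Nat.land (Nat.shiftRight m (nat_lit 10)) (nat_lit 1)) (Nat.land (Nat.shiftRight p (nat_lit 50)) (nat_lit 31))))
    (Nat.shiftLeft (Nat.land (Nat.shiftRight m (nat_lit 11)) (nat_lit 1)) (Nat.land (Nat.shiftRight p (nat_lit 55)) (nat_lit 31))))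
    (Nat.shiftLeft (Nat.land (Nat.shiftRight m (nat_lit 12)) (nat_lit 1)) (Nat.land (Nat.shiftRight p (nat_lit 60)) (nat_lit 31))))
    (Nat.shiftLeft (Nat.land (Nat.shiftRight m (nat_lit 13)) (nat_lit 1)) (Nat.land (Nat.shiftRight p (nat_lit 65)) (nat_lit 31))))
    (Nat.shiftLeft (Nat.land (Nat.shiftRight m (nat_lit 14)) (nat_lit 1)) (Nat.land (Nat.shiftRight p (nat_lit 70)) (nat_lit 31))))
    (Nat.shiftLeft (Nat.land (Nat.shiftRight m (nat_lit 15)) (nat_lit 1)) (Nat.land (Nat.shiftRight p (nat_lit 75)) (nat_lit 31))))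
    (Nat.shiftLeft (Nat.land (Nat.shiftRight m (nat_lit 16)) (nat_lit 1)) (Nat.land (Nat.shiftRight p (nat_lit 80)) (nat_lit 31))))
    (Nat.shiftLeft (Nat.land (Nat.shiftRight m (nat_lit 17)) (nat_lit 1)) (Nat.land (Nat.shiftRight p (nat_lit 85)) (nat_lit 31))))
    (Nat.shiftLeft (Nat.land (Nat.shiftRight m (nat_lit 18)) (nat_lit 1)) (Nat.land (Nat.shiftRight p (nat_lit 90)) (nat_lit 31))))
    (Nat.shiftLeft (Nat.land (Nat.shiftRight m (nat_lit 19)) (nat_lit 1)) (Nat.land (Nat.shiftRight p (nat_lit 95)) (nat_lit 31))))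
    (Nat.shiftLeft (Nat.land (Nat.shiftRight m (nat_lit 20)) (nat_lit 1)) (Nat.land (Nat.shiftRight p (nat_lit 100)) (nat_lit 31))))
    (Nat.shiftLeft (Nat.land (Nat.shiftRight m (nat_lit 21)) (nat_lit 1)) (Nat.land (Nat.shiftRight p (nat_lit 105)) (nat_lit 31))))
    (Nat.shiftLeft (Nat.land (Nat.shiftRight m (nat_lit 22)) (nat_lit 1)) (Nat.land (Nat.shiftRight p (nat_lit 110)) (nat_lit 31))))
    (Nat.shiftLeft (Nat.land (Nat.shiftRight m (nat_lit 23)) (nat_lit 1)) (Nat.land (Nat.shiftRight p (nat_lit 115)) (nat_lit 31))))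

/-- Code of the identity. -/
def one : ℕ := nat_lit 984818244535754528103549039458486304

theorem ap_eq : ap = apw 5 31 := rfl
theorem mul_eq : mul = mulG 5 31 24 := by funext p q; rfl
theorem inv_eq : inv = invG 5 31 24 := by funext p; rfl
theorem act_eq : act = actG 5 31 24 := by funext p m; rfl
theorem one_eq : one = oneG 5 24 := by decide +kernel

/-- Code of a permutation of the Golay points. -/
noncomputable def pcode (g : Equiv.Perm GolayPt) : ℕ := EG.code 5 g

/-- Bit mask of a set of Golay points. -/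
noncomputable def mask (s : Finset GolayPt) : ℕ := EG.mask s

/-- The set of Golay points of a bit mask. -/
def unmask (m : ℕ) : Finset GolayPt := EG.unmask m

/-- `p` is the code of a permutation. -/
noncomputable def isPerm (p : ℕ) : Bool := isPermG (nat_lit 5) (nat_lit 31) (nat_lit 24) p

theorem gcP : GC pcode mul inv one := by
  rw [mul_eq, inv_eq, one_eq]; exact EG.gc (by norm_num) (by norm_num)

theorem acP : AC pcode Set.univ idx ap := EG.ac (w := 5) (mk := 31) (by norm_num) (by norm_num)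

theorem acS : AC (X := Finset GolayPt) pcode Set.univ mask act := by
  rw [act_eq]; exact EG.acS (by norm_num) (by norm_num)

theorem ap_pcode (g : Equiv.Perm GolayPt) (a : GolayPt) : ap (pcode g) (idx a) = idx (g a) :=
  acP.ap_code g trivial

theorem act_mask (g : Equiv.Perm GolayPt) (s : Finset GolayPt) :
    act (pcode g) (mask s) = mask (g • s) := acS.ap_code g trivial

theorem exists_pcode {p : ℕ} (h : isPerm p = true) : ∃ g, pcode g = p := EG.exists_code h

theorem idx_lt (a : GolayPt) : idx a < 24 := EG.idx_lt a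
theorem pt_idx (a : GolayPt) : pt (idx a) = a := EG.pt_idx a
theorem idx_pt {i : ℕ} (h : i < 24) : idx (pt i) = i := EG.idx_pt i h
theorem idx_inj : Function.Injective idx := EG.idx_inj
theorem mask_inj : Function.Injective mask := EG.mask_inj
theorem mask_lt (s : Finset GolayPt) : mask s < 2 ^ 24 := EG.mask_lt s
theorem testBit_mask (s : Finset GolayPt) (a : GolayPt) :
    (mask s).testBit (idx a) = true ↔ a ∈ s := EG.testBit_mask_idx s a
theorem mem_unmask {m : ℕ} {a : GolayPt} : a ∈ unmask m ↔ m.testBit (idx a) = true := EG.mem_unmask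
theorem mask_unmask {m : ℕ} (h : m < 2 ^ 24) : mask (unmask m) = m := EG.mask_unmask h
theorem unmask_mask (s : Finset GolayPt) : unmask (mask s) = s := EG.unmask_mask s
theorem mask_inter (s t : Finset GolayPt) : mask (s ∩ t) = Nat.land (mask s) (mask t) :=
  EG.mask_inter s t
theorem mask_union (s t : Finset GolayPt) : mask (s ∪ t) = Nat.lor (mask s) (mask t) :=
  EG.mask_union s t
theorem mask_symmDiff (s t : Finset GolayPt) : mask (symmDiff s t) = Nat.xor (mask s) (mask t) :=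
  EG.mask_symmDiff s t
theorem mask_empty : mask ∅ = 0 := EG.mask_empty
theorem mask_univ : mask Finset.univ = 16777215 := EG.mask_univ
theorem mask_compl (s : Finset GolayPt) : mask (Finset.univ \ s) = Nat.xor (mask s) 16777215 :=
  EG.mask_compl s
theorem mask_singleton (a : GolayPt) : mask {a} = 2 ^ idx a := EG.mask_singleton a
theorem subset_iff_mask (s t : Finset GolayPt) : s ⊆ t ↔ Nat.land (mask s) (mask t) = mask s :=
  EG.subset_iff_mask s t
theorem disjoint_iff_mask (s t : Finset GolayPt) : Disjoint s t ↔ Nat.land (mask s) (mask t) = 0 :=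
  EG.disjoint_iff_mask s t
theorem eq_unmask {s : Finset GolayPt} {m : ℕ} (h : mask s = m) : s = unmask m := by
  rw [← h, unmask_mask]
theorem smul_unmask (g : Equiv.Perm GolayPt) {m : ℕ} (hm : m < 2 ^ 24) :
    g • unmask m = unmask (act (pcode g) m) := by
  apply eq_unmask; rw [← act_mask, mask_unmask hm]

/-- Number of one bits of a 12-bit number. -/
def pc12 (x : ℕ) : ℕ :=
  Nat.mod (Nat.land (Nat.mul x (nat_lit 0x1001001001001)) (nat_lit 0x84210842108421)) (nat_lit 31)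

/-- Number of one bits of a 24-bit number. -/
def pc (m : ℕ) : ℕ :=
  Nat.add (pc12 (Nat.land m (nat_lit 4095))) (pc12 (Nat.shiftRight m (nat_lit 12)))

/-- Slow bit count. -/
noncomputable def sumBits (n x : ℕ) : ℕ :=
  Nat.rec (motive := fun _ => ℕ) (nat_lit 0)
    (fun i acc => Nat.add acc (Nat.land (Nat.shiftRight x i) (nat_lit 1))) n

theorem sumBits_eq (n x : ℕ) : sumBits n x = ∑ i ∈ Finset.range n, ((x >>> i) &&& 1) := by
  induction n with
  | zero => rfl
  | succ n ih => rw [Finset.sum_range_succ, ← ih]; rfl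

theorem pc12_chk : ball (fun x => Nat.beq (pc12 x) (sumBits (nat_lit 12) x)) (nat_lit 12) (nat_lit 0)
    = true := by decide +kernel

theorem pc12_eq {x : ℕ} (hx : x < 4096) : pc12 x = ∑ i ∈ Finset.range 12, ((x >>> i) &&& 1) := by
  rw [← sumBits_eq]
  exact Nat.eq_of_beq_eq_true (ball_zero pc12_chk x hx)

theorem card_eq_pc (s : Finset GolayPt) : s.card = pc (mask s) := by
  have h := mask_lt s
  have e : pc (mask s) = pc12 (mask s &&& 4095) + pc12 (mask s >>> 12) := rfl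
  have h1 : mask s &&& 4095 < 4096 := Nat.and_lt_two_pow (n := 12) _ (by norm_num)
  have h2 : mask s >>> 12 < 4096 := by rw [Nat.shiftRight_eq_div_pow]; omega
  have e2 : s.card = ∑ i ∈ Finset.range (12 + 12), ((mask s >>> i) &&& 1) := EG.card_eq_sum s
  rw [e, pc12_eq h1, pc12_eq h2, e2, Finset.sum_range_add]
  refine congrArg₂ (· + ·) ?_ ?_
  · refine Finset.sum_congr rfl fun i hi => ?_
    rw [Finset.mem_range] at hi
    apply Nat.eq_of_testBit_eq
    intro t
    have : (4095 : ℕ) = 2 ^ 12 - 1 := by norm_num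
    simp only [Nat.testBit_and, Nat.testBit_shiftRight, this, Nat.testBit_two_pow_sub_one]
    rcases Nat.eq_zero_or_pos t with rfl | ht
    · simp [hi]
    · have : Nat.testBit 1 t = false := Nat.testBit_lt_two_pow (Nat.one_lt_two_pow (by omega))
      simp [this]
  · refine Finset.sum_congr rfl fun i _ => ?_
    rw [← Nat.shiftRight_add]

theorem card_unmask {m : ℕ} (h : m < 2 ^ 24) : (unmask m).card = pc m := by
  rw [card_eq_pc, mask_unmask h]

/-- Check part of the code word with information part `x < 4096`. -/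
def par (x : ℕ) : ℕ :=
  Nat.xor
    (Nat.land (Nat.shiftRight (nat_lit 0x197de250897dcdc0a9843436774b013ebf9ea3f64aea02d5824451cbb0ce56f91a1f0d85ec72b2a5862d38cff9713b66af1684e6e21b7babcf325f50c1206788d4f8159d2c5c69b3342f377ddba8e0927ca966e35a19d413ed4b8ea49fc75000)
      (Nat.mul (nat_lit 12) (Nat.land x (nat_lit 63)))) (nat_lit 4095))
    (Nat.land (Nat.shiftRight (nat_lit 0xe680a4f85149db237ec5f2939dc7108316fda064cabeb527575bb9498a546af86374298e2c1c0d32cde011bfd70f6e3a052e9e1bff73388d44265ca97e692a60b8c743caf05d1b1db4f583aa246e8956599787b4cfb237d163daf211edecc000)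
      (Nat.mul (nat_lit 12) (Nat.shiftRight x (nat_lit 6)))) (nat_lit 4095))

/-- The code word with information part `x < 4096`. -/
def cw (x : ℕ) : ℕ := Nat.xor x (Nat.shiftLeft (par x) (nat_lit 12))

/-- Syndrome of a 24-bit word. -/
def syn (m : ℕ) : ℕ := Nat.xor (Nat.shiftRight m (nat_lit 12)) (par (Nat.land m (nat_lit 4095)))

end Cfsg.Agent.M24
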