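import Cfsg.Agent.M24.Chain

/-!
# Coding permutations of an enumerated finite type, and finite subsets, by natural numbers
-/

set_option autoImplicit false

namespace Cfsg.Agent.M24

open scoped Pointwise

/-- Bitwise `or` of `F 0, …, F (n-1)`. -/
noncomputable def orAll (n : ℕ) (F : ℕ → ℕ) : ℕ :=
  Nat.rec (motive := fun _ => ℕ) (nat_lit 0) (fun i acc => Nat.lor acc (F i)) n

theorem testBit_orAll (n : ℕ) (F : ℕ → ℕ) (t : ℕ) :
    (orAll n F).testBit t = true ↔ ∃ i < n, (F i).testBit t = true := by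
  induction n with
  | zero => simp [orAll]
  | succ n ih =>
    have : orAll (n + 1) F = orAll n F ||| F n := rfl
    rw [this, Nat.testBit_or, Bool.or_eq_true, ih]
    constructor
    · rintro (⟨i, hi, h⟩ | h)
      · exact ⟨i, Nat.lt_succ_of_lt hi, h⟩
      · exact ⟨n, Nat.lt_succ_self n, h⟩
    · rintro ⟨i, hi, h⟩
      rcases Nat.lt_succ_iff_lt_or_eq.1 hi with h' | rfl
      · exact Or.inl ⟨i, h', h⟩
      · exact Or.inr h

theorem orAll_congr {n m : ℕ} {F G : ℕ → ℕ} (h1 : ∀ i < n, ∃ j < m, F i = G j)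
    (h2 : ∀ j < m, ∃ i < n, F i = G j) : orAll n F = orAll m G := by
  apply Nat.eq_of_testBit_eq
  intro t
  rw [Bool.eq_iff_iff, testBit_orAll, testBit_orAll]
  constructor
  · rintro ⟨i, hi, h⟩
    obtain ⟨j, hj, e⟩ := h1 i hi
    exact ⟨j, hj, e ▸ h⟩
  · rintro ⟨j, hj, h⟩
    obtain ⟨i, hi, e⟩ := h2 j hj
    exact ⟨i, hi, e ▸ h⟩

/-- Entry `i` of a packed table with entries of `w` bits (`mk = 2^w - 1`). -/
def apw (w mk p i : ℕ) : ℕ := Nat.land (Nat.shiftRight p (Nat.mul w i)) mk

/-- Pack `f 0, …, f (n-1)` into a table with entries of `w` bits. -/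
noncomputable def pack (w n : ℕ) (f : ℕ → ℕ) : ℕ :=
  orAll n fun i => Nat.shiftLeft (f i) (Nat.mul w i)

theorem testBit_apw {w mk : ℕ} (hmk : mk = 2 ^ w - 1) (p i t : ℕ) :
    (apw w mk p i).testBit t = (decide (t < w) && p.testBit (w * i + t)) := by
  have : apw w mk p i = (p >>> (w * i)) &&& mk := rfl
  rw [this, hmk, Nat.testBit_and, Nat.testBit_two_pow_sub_one, Nat.testBit_shiftRight, Bool.and_comm]

theorem apw_lt {w mk : ℕ} (hmk : mk = 2 ^ w - 1) (p i : ℕ) : apw w mk p i < 2 ^ w := by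
  have : apw w mk p i = (p >>> (w * i)) &&& mk := rfl
  rw [this, hmk, Nat.and_two_pow_sub_one_eq_mod]
  exact Nat.mod_lt _ (by positivity)

theorem apw_pack {w mk n : ℕ} (hmk : mk = 2 ^ w - 1) {f : ℕ → ℕ} (hf : ∀ i < n, f i < 2 ^ w)
    {i : ℕ} (hi : i < n) : apw w mk (pack w n f) i = f i := by
  apply Nat.eq_of_testBit_eq
  intro t
  rw [testBit_apw hmk, Bool.eq_iff_iff, Bool.and_eq_true, decide_eq_true_iff, pack, testBit_orAll]
  constructor
  · rintro ⟨ht, j, hj, h⟩
    have h' : (f j <<< (w * j)).testBit (w * i + t) = true := h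
    rw [Nat.testBit_shiftLeft, Bool.and_eq_true, decide_eq_true_iff] at h'
    obtain ⟨h1, h2⟩ := h'
    have h3 : w * i + t - w * j < w := by
      by_contra hc
      rw [Nat.testBit_lt_two_pow (lt_of_lt_of_le (hf j hj) (Nat.pow_le_pow_right (by norm_num)
        (by omega)))] at h2
      exact absurd h2 (by simp)
    have hij : i = j := by
      have a1 : w * j < w * (i + 1) := by rw [mul_add, mul_one]; omega
      have a2 : w * i < w * (j + 1) := by rw [mul_add, mul_one]; omega
      have := Nat.lt_of_mul_lt_mul_left a1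
      have := Nat.lt_of_mul_lt_mul_left a2
      omega
    subst hij
    simpa using h2
  · intro h
    have ht : t < w := by
      by_contra hc
      rw [Nat.testBit_lt_two_pow (lt_of_lt_of_le (hf i hi) (Nat.pow_le_pow_right (by norm_num)
        (by omega)))] at h
      exact absurd h (by simp)
    refine ⟨ht, i, hi, ?_⟩
    change (f i <<< (w * i)).testBit (w * i + t) = true
    rw [Nat.testBit_shiftLeft]
    simpa using h

theorem pack_congr {w n : ℕ} {f g : ℕ → ℕ} (h : ∀ i < n, f i = g i) : pack w n f = pack w n g :=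
  orAll_congr (fun i hi => ⟨i, hi, by rw [h i hi]⟩) fun i hi => ⟨i, hi, by rw [h i hi]⟩

/-- Product of permutation codes. -/
noncomputable def mulG (w mk n p q : ℕ) : ℕ := pack w n fun i => apw w mk p (apw w mk q i)
/-- Inverse of a permutation code. -/
noncomputable def invG (w mk n p : ℕ) : ℕ :=
  orAll n fun i => Nat.shiftLeft i (Nat.mul w (apw w mk p i))
/-- Code of the identity. -/
noncomputable def oneG (w n : ℕ) : ℕ := pack w n fun i => i
/-- Image of a bit mask under a permutation code. -/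
noncomputable def actG (w mk n p m : ℕ) : ℕ :=
  orAll n fun i => Nat.shiftLeft (Nat.land (Nat.shiftRight m i) (nat_lit 1)) (apw w mk p i)
/-- `p` is the code of a permutation. -/
noncomputable def isPermG (w mk n p : ℕ) : Bool :=
  force (invG w mk n p) fun q => band (Nat.beq (pack w n (apw w mk p)) p)
    (nall n fun i => force (apw w mk p i) fun j =>
      band (Nat.ble (Nat.succ j) n) (Nat.beq (apw w mk q j) i))

/-- An enumeration of a type with `n` elements. -/
structure Enc (α : Type*) (n : ℕ) where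
  idx : α → ℕ
  pt : ℕ → α
  idx_lt : ∀ a, idx a < n
  pt_idx : ∀ a, pt (idx a) = a
  idx_pt : ∀ i < n, idx (pt i) = i

namespace Enc
variable {α : Type*} {n : ℕ} (E : Enc α n)

theorem idx_inj : Function.Injective E.idx := fun a b h => by rw [← E.pt_idx a, h, E.pt_idx]

include E in
theorem finite : Finite α :=
  Finite.of_injective (fun a => (⟨E.idx a, E.idx_lt a⟩ : Fin n))
    fun _ _ h => E.idx_inj (congrArg Fin.val h)

/-- Code of a permutation. -/
noncomputable def code (w : ℕ) (g : Equiv.Perm α) : ℕ := pack w n fun i => E.idx (g (E.pt i))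

variable {w mk : ℕ}

theorem ap_code (hmk : mk = 2 ^ w - 1) (hn : n ≤ 2 ^ w) (g : Equiv.Perm α) (a : α) :
    apw w mk (E.code w g) (E.idx a) = E.idx (g a) := by
  rw [code, apw_pack hmk (fun i _ => lt_of_lt_of_le (E.idx_lt _) hn) (E.idx_lt a), E.pt_idx]

theorem ap_code' (hmk : mk = 2 ^ w - 1) (hn : n ≤ 2 ^ w) (g : Equiv.Perm α) {i : ℕ} (hi : i < n) :
    apw w mk (E.code w g) i = E.idx (g (E.pt i)) := by
  rw [← E.ap_code hmk hn, E.idx_pt i hi]

theorem gc (hmk : mk = 2 ^ w - 1) (hn : n ≤ 2 ^ w) :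
    GC (E.code w) (mulG w mk n) (invG w mk n) (oneG w n) where
  inj g h e := by
    ext a
    apply E.idx_inj
    rw [← E.ap_code hmk hn, e, E.ap_code hmk hn]
  code_mul g h := pack_congr fun i hi => by
    rw [E.ap_code' hmk hn h hi, E.ap_code hmk hn]; rfl
  code_inv g := by
    refine orAll_congr (fun j hj => ⟨E.idx (g⁻¹ (E.pt j)), E.idx_lt _, ?_⟩)
      fun i hi => ⟨E.idx (g (E.pt i)), E.idx_lt _, ?_⟩
    · rw [E.ap_code hmk hn]; simp [E.idx_pt j hj]
    · rw [E.ap_code' hmk hn g hi]; simp [E.pt_idx, E.idx_pt i hi]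
  code_one := pack_congr fun i hi => E.idx_pt i hi

theorem ac (hmk : mk = 2 ^ w - 1) (hn : n ≤ 2 ^ w) :
    AC (E.code w) Set.univ E.idx (apw w mk) where
  smul_mem _ _ _ := trivial
  inj := E.idx_inj.injOn
  ap_code g _ _ := E.ap_code hmk hn g _

theorem exists_code {p : ℕ} (h : isPermG w mk n p = true) : ∃ g : Equiv.Perm α, E.code w g = p := by
  simp only [isPermG, force_eq, band_eq, Bool.and_eq_true, nall_iff, Nat.ble_eq, Nat.beq_eq] at h
  obtain ⟨h1, h2⟩ := h
  have := E.finite
  have hinj : Function.Injective fun a => E.pt (apw w mk p (E.idx a)) := by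
    intro a b e
    have e' := congrArg E.idx e
    simp only at e'
    rw [E.idx_pt _ (h2 _ (E.idx_lt a)).1, E.idx_pt _ (h2 _ (E.idx_lt b)).1] at e'
    apply E.idx_inj
    rw [← (h2 _ (E.idx_lt a)).2, e', (h2 _ (E.idx_lt b)).2]
  refine ⟨Equiv.ofBijective _ (Finite.injective_iff_bijective.1 hinj), ?_⟩
  refine Eq.trans (pack_congr fun i hi => ?_) h1
  simp only [Equiv.ofBijective_apply]
  rw [E.idx_pt i hi, E.idx_pt _ (h2 _ hi).1]

theorem valid_of_isPerm {l : List ℕ} (h : lall l (isPermG w mk n) = true) : Valid (E.code w) l :=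
  fun s hs => E.exists_code ((lall_iff _ _).1 h s hs)

variable [DecidableEq α]

/-- Bit mask of a finite set. -/
noncomputable def mask (s : Finset α) : ℕ := orAll n fun i => if E.pt i ∈ s then 2 ^ i else 0

theorem testBit_mask (s : Finset α) (t : ℕ) :
    (E.mask s).testBit t = true ↔ t < n ∧ E.pt t ∈ s := by
  rw [mask, testBit_orAll]
  constructor
  · rintro ⟨i, hi, h⟩
    split_ifs at h with h'
    · rw [Nat.testBit_two_pow] at h
      have : i = t := by simpa using h
      subst this; exact ⟨hi, h'⟩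
    · simp at h
  · rintro ⟨h1, h2⟩
    exact ⟨t, h1, by rw [if_pos h2]; simp⟩

theorem testBit_mask_idx (s : Finset α) (a : α) : (E.mask s).testBit (E.idx a) = true ↔ a ∈ s := by
  rw [testBit_mask, E.pt_idx]; simp [E.idx_lt]

theorem mask_lt (s : Finset α) : E.mask s < 2 ^ n := by
  apply Nat.lt_pow_two_of_testBit
  intro i hi
  by_contra h
  have := (E.testBit_mask s i).1 (by simpa using h)
  omega

theorem mask_inj : Function.Injective E.mask := fun s t h => by
  ext a; rw [← E.testBit_mask_idx, h, E.testBit_mask_idx]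

theorem mask_eq_of {s : Finset α} {m : ℕ} (hm : m < 2 ^ n)
    (h : ∀ a, m.testBit (E.idx a) = true ↔ a ∈ s) : E.mask s = m := by
  apply Nat.eq_of_testBit_eq
  intro t
  rw [Bool.eq_iff_iff, testBit_mask]
  constructor
  · rintro ⟨h1, h2⟩
    rw [← h, E.idx_pt t h1] at h2; exact h2
  · intro h1
    have ht : t < n := by
      by_contra hc
      rw [Nat.testBit_lt_two_pow (lt_of_lt_of_le hm (Nat.pow_le_pow_right (by norm_num)
        (by omega)))] at h1
      exact absurd h1 (by simp)
    exact ⟨ht, by rw [← h, E.idx_pt t ht]; exact h1⟩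

theorem mask_inter (s t : Finset α) : E.mask (s ∩ t) = Nat.land (E.mask s) (E.mask t) :=
  E.mask_eq_of (Nat.and_lt_two_pow _ (E.mask_lt t)) fun a => by
    change (E.mask s &&& E.mask t).testBit _ = true ↔ _
    rw [Nat.testBit_and, Bool.and_eq_true, testBit_mask_idx, testBit_mask_idx, Finset.mem_inter]

theorem mask_union (s t : Finset α) : E.mask (s ∪ t) = Nat.lor (E.mask s) (E.mask t) :=
  E.mask_eq_of (Nat.or_lt_two_pow (E.mask_lt s) (E.mask_lt t)) fun a => by
    change (E.mask s ||| E.mask t).testBit _ = true ↔ _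
    rw [Nat.testBit_or, Bool.or_eq_true, testBit_mask_idx, testBit_mask_idx, Finset.mem_union]

theorem mask_symmDiff (s t : Finset α) : E.mask (symmDiff s t) = Nat.xor (E.mask s) (E.mask t) :=
  E.mask_eq_of (Nat.xor_lt_two_pow (E.mask_lt s) (E.mask_lt t)) fun a => by
    change (E.mask s ^^^ E.mask t).testBit _ = true ↔ _
    rw [Nat.testBit_xor, Finset.mem_symmDiff, ← testBit_mask_idx, ← testBit_mask_idx]
    cases (E.mask s).testBit (E.idx a) <;> cases (E.mask t).testBit (E.idx a) <;> simp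

theorem mask_empty : E.mask ∅ = 0 := E.mask_eq_of (by positivity) fun a => by simp

theorem mask_singleton (a : α) : E.mask {a} = 2 ^ E.idx a :=
  E.mask_eq_of (Nat.pow_lt_pow_right (by norm_num) (E.idx_lt a)) fun b => by
    rw [Nat.testBit_two_pow, Finset.mem_singleton, decide_eq_true_iff]
    exact ⟨fun h => (E.idx_inj h).symm, fun h => by rw [h]⟩

theorem subset_iff_mask (s t : Finset α) : s ⊆ t ↔ Nat.land (E.mask s) (E.mask t) = E.mask s := by
  rw [← mask_inter, E.mask_inj.eq_iff, Finset.inter_eq_left]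

theorem disjoint_iff_mask (s t : Finset α) : Disjoint s t ↔ Nat.land (E.mask s) (E.mask t) = 0 := by
  rw [← mask_inter, ← E.mask_empty, E.mask_inj.eq_iff, Finset.disjoint_iff_inter_eq_empty]

theorem act_mask (hmk : mk = 2 ^ w - 1) (hn : n ≤ 2 ^ w) (g : Equiv.Perm α) (s : Finset α) :
    actG w mk n (E.code w g) (E.mask s) = E.mask (g • s) := by
  have key : ∀ i < n, Nat.shiftLeft (Nat.land (Nat.shiftRight (E.mask s) i) (nat_lit 1))
      (apw w mk (E.code w g) i) = if E.pt (E.idx (g (E.pt i))) ∈ g • s then 2 ^ E.idx (g (E.pt i))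
        else 0 := by
    intro i hi
    rw [E.ap_code' hmk hn g hi, E.pt_idx]
    change ((E.mask s >>> i) &&& 1) <<< _ = _
    have h1 : g (E.pt i) ∈ g • s ↔ E.pt i ∈ s := Finset.smul_mem_smul_finset_iff g
    rw [if_congr h1 rfl rfl, Nat.and_one_is_mod]
    by_cases h : E.pt i ∈ s
    · have := (E.testBit_mask s i).2 ⟨hi, h⟩
      rw [Nat.testBit, Nat.one_and_eq_mod_two] at this
      have h2 : (E.mask s >>> i) % 2 = 1 := by
        have := Nat.mod_two_eq_zero_or_one (E.mask s >>> i)
        simp_all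
      rw [if_pos h, h2, Nat.one_shiftLeft]
    · have : ¬ (E.mask s).testBit i = true := fun h' => h ((E.testBit_mask s i).1 h').2
      rw [Nat.testBit, Nat.one_and_eq_mod_two] at this
      have h2 : (E.mask s >>> i) % 2 = 0 := by simpa using this
      rw [if_neg h, h2, Nat.zero_shiftLeft]
  refine orAll_congr (fun i hi => ⟨E.idx (g (E.pt i)), E.idx_lt _, key i hi⟩)
    fun j hj => ⟨E.idx (g⁻¹ (E.pt j)), E.idx_lt _, ?_⟩
  rw [key _ (E.idx_lt _)]
  simp [E.pt_idx, E.idx_pt j hj]

theorem acS (hmk : mk = 2 ^ w - 1) (hn : n ≤ 2 ^ w) :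
    AC (X := Finset α) (E.code w) Set.univ E.mask (actG w mk n) where
  smul_mem _ _ _ := trivial
  inj := E.mask_inj.injOn
  ap_code g _ _ := E.act_mask hmk hn g _

variable [Fintype α]

/-- The finite set of a bit mask. -/
def unmask (m : ℕ) : Finset α := Finset.univ.filter fun a => m.testBit (E.idx a) = true

omit [DecidableEq α] in
theorem mem_unmask {m : ℕ} {a : α} : a ∈ E.unmask m ↔ m.testBit (E.idx a) = true := by
  simp [unmask]

theorem mask_unmask {m : ℕ} (hm : m < 2 ^ n) : E.mask (E.unmask m) = m :=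
  E.mask_eq_of hm fun _ => E.mem_unmask.symm

theorem unmask_mask (s : Finset α) : E.unmask (E.mask s) = s := by
  ext a; rw [mem_unmask, testBit_mask_idx]

theorem mask_univ : E.mask Finset.univ = 2 ^ n - 1 :=
  E.mask_eq_of (by have : 0 < 2 ^ n := by positivity
                   omega) fun a => by simp [Nat.testBit_two_pow_sub_one, E.idx_lt]

theorem mask_compl (s : Finset α) : E.mask (Finset.univ \ s) = Nat.xor (E.mask s) (2 ^ n - 1) := by
  rw [← E.mask_univ, ← mask_symmDiff]
  congr 1
  ext a; simp [Finset.mem_symmDiff]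

omit [Fintype α] in
theorem card_eq_sum (s : Finset α) :
    s.card = ∑ i ∈ Finset.range n, ((E.mask s >>> i) &&& 1) := by
  have h1 : ∀ i, (E.mask s >>> i) &&& 1 = if (E.mask s).testBit i = true then 1 else 0 := by
    intro i
    rw [Nat.testBit, Nat.one_and_eq_mod_two, Nat.and_one_is_mod]
    rcases Nat.mod_two_eq_zero_or_one (E.mask s >>> i) with h | h <;> simp [h]
  simp only [h1]
  rw [← Finset.card_filter, ← Finset.card_image_of_injective s E.idx_inj]
  congr 1
  ext i
  simp only [Finset.mem_image, Finset.mem_filter, Finset.mem_range, testBit_mask]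
  constructor
  · rintro ⟨a, ha, rfl⟩
    exact ⟨E.idx_lt a, E.idx_lt a, by rw [E.pt_idx]; exact ha⟩
  · rintro ⟨h, -, h'⟩
    exact ⟨_, h', E.idx_pt i h⟩

end Enc

/-- The standard enumeration of `Fin n`. -/
def finEnc (n : ℕ) [NeZero n] : Enc (Fin n) n where
  idx a := a.val
  pt i := Fin.ofNat n i
  idx_lt a := a.2
  pt_idx a := Fin.ext (Nat.mod_eq_of_lt a.2)
  idx_pt _ hi := Nat.mod_eq_of_lt hi

end Cfsg.Agent.M24
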