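import Cfsg.Agent.M24.Stabs

/-! # Explicit octads, sextets and trios from masks -/

set_option autoImplicit false

namespace Cfsg.Agent.M24

open Finset MulAction
open scoped Pointwise symmDiff

theorem oct_rep {m : ℕ} (h : isOct m = true) : unmask m ∈ octads ∧ mask (unmask m) = m :=
  isOct_sound h

theorem sext_rep {t k : ℕ} (h : (decide (t < 2 ^ 24) && Nat.beq (pc t) 4 && Nat.beq (syn t) k) = true) :
    sext (unmask t) ∈ sextets ∧ skey (sext (unmask t)) = k := by
  simp only [Bool.and_eq_true, decide_eq_true_iff, Nat.beq_eq] at h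
  have h4 : (unmask t).card = 4 := by rw [card_unmask h.1.1, h.1.2]
  exact ⟨sext_mem h4, by rw [skey_sext h4, mask_unmask h.1.1, h.2]⟩

theorem trio_rep {a b k : ℕ}
    (h : (isOct a && isOct b && Nat.beq (Nat.land a b) 0 && Nat.beq (tk a b) k) = true) :
    trio (unmask a) (unmask b) ∈ trios ∧ tkey (trio (unmask a) (unmask b)) = k := by
  simp only [Bool.and_eq_true, Nat.beq_eq] at h
  obtain ⟨⟨⟨h1, h2⟩, h3⟩, h4⟩ := h
  obtain ⟨a1, a2⟩ := oct_rep h1
  obtain ⟨b1, b2⟩ := oct_rep h2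
  exact ⟨trio_mem a1 b1 ((disjoint_iff_mask _ _).2 (by rw [a2, b2, h3])),
    by rw [tkey_trio, a2, b2, h4]⟩

/-- A sextet listed by its six tetrads. -/
theorem sextet_eq_list {S : Finset (Finset GolayPt)} (hS : S ∈ sextets) {l : List ℕ} {k : ℕ}
    (hk : skey S = k) (h : (decide l.Nodup && Nat.beq l.length 6 && l.all fun t =>
      decide (t < 2 ^ 24) && Nat.beq (pc t) 4 && Nat.beq (syn t) k) = true) :
    (∀ t, t ∈ S ↔ mask t ∈ l) ∧
      ∀ (P : Finset GolayPt → Prop) [DecidablePred P] (f : ℕ → Bool),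
        (∀ t, P t ↔ f (mask t) = true) → (S.filter P).card = (l.filter f).length := by
  simp only [Bool.and_eq_true, decide_eq_true_iff, Nat.beq_eq, List.all_eq_true] at h
  obtain ⟨⟨h1, h2⟩, h3⟩ := h
  have e : l.toFinset = S.image mask := by
    refine eq_of_subset_of_card_le (fun m hm => ?_) ?_
    · obtain ⟨⟨a, b⟩, c⟩ := h3 m (List.mem_toFinset.1 hm)
      refine mem_image.2 ⟨unmask m, (mem_sextet_iff hS).2 ⟨?_, ?_⟩, mask_unmask a⟩
      · rw [card_unmask a, b]
      · rw [mask_unmask a, c, hk]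
    · rw [card_image_of_injective _ mask_inj, hS.1, List.toFinset_card_of_nodup h1, h2]
  have e1 : ∀ t, t ∈ S ↔ mask t ∈ l := fun t => by
    rw [← List.mem_toFinset, e, mask_inj.mem_finset_image]
  refine ⟨e1, fun P _ f hf => ?_⟩
  rw [← List.toFinset_card_of_nodup (h1.filter f), ← card_image_of_injective _ mask_inj]
  congr 1
  ext m
  simp only [mem_image, mem_filter, List.mem_toFinset, List.mem_filter]
  constructor
  · rintro ⟨t, ⟨ht, hp⟩, rfl⟩; exact ⟨(e1 t).1 ht, (hf t).1 hp⟩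
  · rintro ⟨hm, hp⟩
    have a := (h3 m hm).1.1
    exact ⟨unmask m, ⟨(e1 _).2 (by rwa [mask_unmask a]), (hf _).2 (by rwa [mask_unmask a])⟩,
      mask_unmask a⟩

/-- An orbit on which an invariant is constant and which has the right size is a level set. -/
theorem orbit_eq_of_ncard {G X : Type*} [Group G] [MulAction G X] {x : X} {L : Set X}
    (hL : L.Finite) (hx : x ∈ L) (hinv : ∀ (g : G) y, y ∈ L → g • y ∈ L)
    (hc : L.ncard ≤ (orbit G x).ncard) : orbit G x = L :=
  Set.eq_of_subset_of_ncard_le (by rintro _ ⟨g, rfl⟩; exact hinv g x hx) hc hL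

end Cfsg.Agent.M24
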