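import Cfsg.Agent.M24.Struct

/-! # The 1771 sextets -/

set_option autoImplicit false

namespace Cfsg.Agent.M24

open Finset MulAction
open scoped Pointwise symmDiff

def tS_0 : T := (.node (.node (.node (.node (.node (.node (.node .nil (nat_lit 15) (nat_lit 17392) (nat_lit
  3645) .nil) (nat_lit 23) (nat_lit 20817) (nat_lit 1508) (.node .nil (nat_lit 27) (nat_lit 9393) (nat_lit
  1944) .nil)) (nat_lit 29) (nat_lit 18064) (nat_lit 3636) (.node (.node .nil (nat_lit 30) (nat_lit 5441)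
  (nat_lit 2145) .nil) (nat_lit 39) (nat_lit 25425) (nat_lit 1188) .nil)) (nat_lit 43) (nat_lit 19457)
  (nat_lit 1752) (.node (.node (.node .nil (nat_lit 45) (nat_lit 15153) (nat_lit 2394) .nil) (nat_lit 46)
  (nat_lit 24689) (nat_lit 2337) (.node .nil (nat_lit 51) (nat_lit 18192) (nat_lit 3619) .nil)) (nat_lit 53)
  (nat_lit 19553) (nat_lit 3769) (.node (.node .nil (nat_lit 54) (nat_lit 801) (nat_lit 3778) .nil) (nat_lit
  57) (nat_lit 26641) (nat_lit 3269) .nil))) (nat_lit 58) (nat_lit 21297) (nat_lit 3262) (.node (.node (.node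
  (.node .nil (nat_lit 60) (nat_lit 10000) (nat_lit 30) .nil) (nat_lit 63) (nat_lit 24208) (nat_lit 3621)
  (.node .nil (nat_lit 71) (nat_lit 24657) (nat_lit 228) .nil)) (nat_lit 75) (nat_lit 5520) (nat_lit 3615)
  (.node (.node .nil (nat_lit 77) (nat_lit 9521) (nat_lit 3354) .nil) (nat_lit 78) (nat_lit 15137) (nat_lit
  3425) .nil)) (nat_lit 83) (nat_lit 2433) (nat_lit 1403) (.node (.node (.node .nil (nat_lit 85) (nat_lit
  3873) (nat_lit 2809) .nil) (nat_lit 86) (nat_lit 417) (nat_lit 2690) (.node .nil (nat_lit 89) (nat_lit 4192)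
  (nat_lit 3606) .nil)) (nat_lit 90) (nat_lit 22064) (nat_lit 45) (.node (.node .nil (nat_lit 92) (nat_lit
  27776) (nat_lit 46) .nil) (nat_lit 95) (nat_lit 11888) (nat_lit 3605) .nil)))) (nat_lit 99) (nat_lit 20241)
  (nat_lit 1083) (.node (.node (.node (.node (.node .nil (nat_lit 101) (nat_lit 12080) (nat_lit 3592) .nil)
  (nat_lit 102) (nat_lit 14561) (nat_lit 3010) (.node .nil (nat_lit 105) (nat_lit 12480) (nat_lit 3598) .nil))
  (nat_lit 106) (nat_lit 11089) (nat_lit 2494) (.node (.node .nil (nat_lit 108) (nat_lit 1600) (nat_lit 54)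
  .nil) (nat_lit 111) (nat_lit 2945) (nat_lit 1607) .nil)) (nat_lit 113) (nat_lit 15360) (nat_lit 3586) (.node
  (.node (.node .nil (nat_lit 114) (nat_lit 27841) (nat_lit 3677) .nil) (nat_lit 116) (nat_lit 26448) (nat_lit
  58) (.node .nil (nat_lit 119) (nat_lit 19345) (nat_lit 420) .nil)) (nat_lit 120) (nat_lit 16464) (nat_lit
  60) (.node (.node .nil (nat_lit 125) (nat_lit 18944) (nat_lit 3588) .nil) (nat_lit 126) (nat_lit 27616)
  (nat_lit 63) .nil))) (nat_lit 135) (nat_lit 4832) (nat_lit 3705) (.node (.node (.node (.node .nil (nat_lit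
  139) (nat_lit 26241) (nat_lit 3027) .nil) (nat_lit 141) (nat_lit 19649) (nat_lit 1105) (.node .nil (nat_lit
  142) (nat_lit 27137) (nat_lit 1066) .nil)) (nat_lit 147) (nat_lit 3168) (nat_lit 3699) (.node (.node .nil
  (nat_lit 149) (nat_lit 5552) (nat_lit 3696) .nil) (nat_lit 150) (nat_lit 10128) (nat_lit 75) .nil)) (nat_lit
  153) (nat_lit 26161) (nat_lit 462) (.node (.node (.node .nil (nat_lit 154) (nat_lit 15936) (nat_lit 77)
  .nil) (nat_lit 156) (nat_lit 21841) (nat_lit 3639) (.node .nil (nat_lit 163) (nat_lit 22401) (nat_lit 3440)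
  .nil)) (nat_lit 165) (nat_lit 13937) (nat_lit 754) (.node (.node .nil (nat_lit 166) (nat_lit 4688) (nat_lit
  83) .nil) (nat_lit 169) (nat_lit 27520) (nat_lit 3694) .nil))))) (nat_lit 170) (nat_lit 7296) (nat_lit 85)
  (.node (.node (.node (.node (.node (.node .nil (nat_lit 172) (nat_lit 848) (nat_lit 86) .nil) (nat_lit 175)
  (nat_lit 10897) (nat_lit 3852) (.node .nil (nat_lit 177) (nat_lit 23792) (nat_lit 3682) .nil)) (nat_lit 178)
  (nat_lit 7856) (nat_lit 89) (.node (.node .nil (nat_lit 180) (nat_lit 22721) (nat_lit 2196) .nil) (nat_lit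
  183) (nat_lit 5697) (nat_lit 2287) .nil)) (nat_lit 184) (nat_lit 19409) (nat_lit 2792) (.node (.node (.node
  .nil (nat_lit 187) (nat_lit 10768) (nat_lit 3687) .nil) (nat_lit 189) (nat_lit 20848) (nat_lit 3684) (.node
  .nil (nat_lit 190) (nat_lit 12897) (nat_lit 1386) .nil)) (nat_lit 195) (nat_lit 27681) (nat_lit 2352) (.node
  (.node .nil (nat_lit 197) (nat_lit 21392) (nat_lit 3672) .nil) (nat_lit 198) (nat_lit 25009) (nat_lit 1737)
  .nil))) (nat_lit 201) (nat_lit 8913) (nat_lit 1230) (.node (.node (.node (.node .nil (nat_lit 202) (nat_lit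
  18832) (nat_lit 101) .nil) (nat_lit 204) (nat_lit 21472) (nat_lit 102) (.node .nil (nat_lit 207) (nat_lit
  27489) (nat_lit 2892) .nil)) (nat_lit 209) (nat_lit 27729) (nat_lit 813) (.node (.node .nil (nat_lit 210)
  (nat_lit 7073) (nat_lit 854) .nil) (nat_lit 212) (nat_lit 17680) (nat_lit 106) .nil)) (nat_lit 215) (nat_lit
  23296) (nat_lit 3665) (.node (.node (.node .nil (nat_lit 216) (nat_lit 3136) (nat_lit 108) .nil) (nat_lit
  219) (nat_lit 19824) (nat_lit 3671) (.node .nil (nat_lit 221) (nat_lit 5233) (nat_lit 337) .nil)) (nat_lit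
  222) (nat_lit 5632) (nat_lit 111) (.node (.node .nil (nat_lit 225) (nat_lit 17425) (nat_lit 621) .nil)
  (nat_lit 226) (nat_lit 15649) (nat_lit 534) .nil)))) (nat_lit 228) (nat_lit 18353) (nat_lit 3476) (.node
  (.node (.node (.node (.node .nil (nat_lit 231) (nat_lit 13873) (nat_lit 3567) .nil) (nat_lit 232) (nat_lit
  11873) (nat_lit 4072) (.node .nil (nat_lit 235) (nat_lit 1984) (nat_lit 3663) .nil)) (nat_lit 238) (nat_lit
  17697) (nat_lit 106) (.node (.node .nil (nat_lit 240) (nat_lit 23216) (nat_lit 120) .nil) (nat_lit 243)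
  (nat_lit 3056) (nat_lit 3651) .nil)) (nat_lit 245) (nat_lit 5761) (nat_lit 2034) (.node (.node (.node .nil
  (nat_lit 249) (nat_lit 577) (nat_lit 1422) .nil) (nat_lit 250) (nat_lit 24865) (nat_lit 1525) (.node .nil
  (nat_lit 252) (nat_lit 28225) (nat_lit 2679) .nil)) (nat_lit 255) (nat_lit 22961) (nat_lit 2572) (.node
  (.node .nil (nat_lit 263) (nat_lit 19536) (nat_lit 3769) .nil) (nat_lit 267) (nat_lit 5041) (nat_lit 1689)
  .nil))) (nat_lit 269) (nat_lit 23489) (nat_lit 2331) (.node (.node (.node (.node .nil (nat_lit 270) (nat_lit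
  8928) (nat_lit 135) .nil) (nat_lit 275) (nat_lit 11408) (nat_lit 3763) (.node .nil (nat_lit 277) (nat_lit
  21121) (nat_lit 3832) .nil)) (nat_lit 278) (nat_lit 4673) (nat_lit 3715) (.node (.node .nil (nat_lit 281)
  (nat_lit 6336) (nat_lit 3766) .nil) (nat_lit 282) (nat_lit 25488) (nat_lit 141) .nil)) (nat_lit 284)
  (nat_lit 24145) (nat_lit 893) (.node (.node (.node .nil (nat_lit 287) (nat_lit 13777) (nat_lit 774) .nil)
  (nat_lit 291) (nat_lit 20256) (nat_lit 3755) .nil) (nat_lit 293) (nat_lit 24849) (nat_lit 4024) (.node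
  (.node .nil (nat_lit 294) (nat_lit 6048) (nat_lit 147) .nil) (nat_lit 297) (nat_lit 20448) (nat_lit 3758)
  .nil))))))
def tS_1 : T := (.node (.node (.node (.node (.node (.node (.node .nil (nat_lit 300) (nat_lit 7009) (nat_lit
  573) .nil) (nat_lit 303) (nat_lit 545) (nat_lit 582) (.node .nil (nat_lit 305) (nat_lit 13713) (nat_lit
  2599) .nil)) (nat_lit 306) (nat_lit 28112) (nat_lit 153) (.node (.node .nil (nat_lit 308) (nat_lit 16289)
  (nat_lit 1502) .nil) (nat_lit 311) (nat_lit 13104) (nat_lit 3745) .nil)) (nat_lit 312) (nat_lit 25745)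
  (nat_lit 1954) (.node (.node (.node .nil (nat_lit 315) (nat_lit 15729) (nat_lit 2009) .nil) (nat_lit 317)
  (nat_lit 23457) (nat_lit 2139) (.node .nil (nat_lit 323) (nat_lit 4416) (nat_lit 3739) .nil)) (nat_lit 325)
  (nat_lit 24257) (nat_lit 3064) (.node (.node .nil (nat_lit 326) (nat_lit 19889) (nat_lit 2947) .nil)
  (nat_lit 329) (nat_lit 16449) (nat_lit 2436) .nil))) (nat_lit 330) (nat_lit 20832) (nat_lit 165) (.node
  (.node (.node (.node .nil (nat_lit 332) (nat_lit 1649) (nat_lit 1661) .nil) (nat_lit 335) (nat_lit 24737)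
  (nat_lit 1542) (.node .nil (nat_lit 337) (nat_lit 2720) (nat_lit 3730) .nil)) (nat_lit 338) (nat_lit 28097)
  (nat_lit 3612) (.node (.node .nil (nat_lit 340) (nat_lit 12816) (nat_lit 170) .nil) (nat_lit 344) (nat_lit
  1696) (nat_lit 172) .nil)) (nat_lit 347) (nat_lit 9328) (nat_lit 3735) (.node (.node (.node .nil (nat_lit
  349) (nat_lit 21857) (nat_lit 3099) .nil) (nat_lit 350) (nat_lit 17440) (nat_lit 175) (.node .nil (nat_lit
  353) (nat_lit 10753) (nat_lit 3879) .nil)) (nat_lit 354) (nat_lit 26705) (nat_lit 3932) (.node (.node .nil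
  (nat_lit 356) (nat_lit 10369) (nat_lit 222) .nil) (nat_lit 359) (nat_lit 10640) (nat_lit 3721) .nil))))
  (nat_lit 360) (nat_lit 9649) (nat_lit 674) (.node (.node (.node (.node (.node .nil (nat_lit 363) (nat_lit
  2656) (nat_lit 3727) .nil) (nat_lit 366) (nat_lit 10464) (nat_lit 183) (.node .nil (nat_lit 368) (nat_lit
  7105) (nat_lit 1345) .nil)) (nat_lit 371) (nat_lit 4656) (nat_lit 3715) (.node (.node .nil (nat_lit 373)
  (nat_lit 7504) (nat_lit 3712) .nil) (nat_lit 374) (nat_lit 769) (nat_lit 2755) .nil)) (nat_lit 377) (nat_lit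
  10784) (nat_lit 3718) (.node (.node (.node .nil (nat_lit 378) (nat_lit 25217) (nat_lit 2239) .nil) (nat_lit
  380) (nat_lit 19712) (nat_lit 190) (.node .nil (nat_lit 383) (nat_lit 26353) (nat_lit 1862) .nil)) (nat_lit
  387) (nat_lit 13905) (nat_lit 3377) (.node (.node .nil (nat_lit 389) (nat_lit 7217) (nat_lit 691) .nil)
  (nat_lit 390) (nat_lit 23521) (nat_lit 712) .nil))) (nat_lit 393) (nat_lit 24512) (nat_lit 3838) (.node
  (.node (.node (.node .nil (nat_lit 394) (nat_lit 26480) (nat_lit 197) .nil) (nat_lit 396) (nat_lit 11249)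
  (nat_lit 3894) (.node .nil (nat_lit 399) (nat_lit 5345) (nat_lit 3917) .nil)) (nat_lit 401) (nat_lit 22657)
  (nat_lit 1836) (.node (.node .nil (nat_lit 402) (nat_lit 6769) (nat_lit 1879) .nil) (nat_lit 404) (nat_lit
  18721) (nat_lit 2261) .nil)) (nat_lit 407) (nat_lit 12193) (nat_lit 2222) (.node (.node (.node .nil (nat_lit
  408) (nat_lit 26560) (nat_lit 204) .nil) (nat_lit 411) (nat_lit 12576) (nat_lit 3831) (.node .nil (nat_lit
  413) (nat_lit 23681) (nat_lit 1360) .nil)) (nat_lit 414) (nat_lit 11521) (nat_lit 1323) (.node (.node .nil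
  (nat_lit 417) (nat_lit 20928) (nat_lit 3818) .nil) (nat_lit 418) (nat_lit 20785) (nat_lit 1559) .nil)))))
  (nat_lit 420) (nat_lit 12560) (nat_lit 210) (.node (.node (.node (.node (.node (.node .nil (nat_lit 423)
  (nat_lit 8144) (nat_lit 3817) .nil) (nat_lit 424) (nat_lit 8129) (nat_lit 3049) (.node .nil (nat_lit 427)
  (nat_lit 1937) (nat_lit 2962) .nil)) (nat_lit 430) (nat_lit 22465) (nat_lit 1131) (.node (.node .nil
  (nat_lit 432) (nat_lit 6000) (nat_lit 216) .nil) (nat_lit 437) (nat_lit 17105) (nat_lit 1011) .nil))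
  (nat_lit 438) (nat_lit 25616) (nat_lit 219) (.node (.node (.node .nil (nat_lit 441) (nat_lit 9857) (nat_lit
  399) .nil) (nat_lit 442) (nat_lit 9664) (nat_lit 221) (.node .nil (nat_lit 444) (nat_lit 10352) (nat_lit
  222) .nil)) (nat_lit 447) (nat_lit 23696) (nat_lit 3813) (.node (.node .nil (nat_lit 449) (nat_lit 7648)
  (nat_lit 3802) .nil) (nat_lit 450) (nat_lit 18737) (nat_lit 599) .nil))) (nat_lit 452) (nat_lit 15201)
  (nat_lit 3541) (.node (.node (.node (.node .nil (nat_lit 455) (nat_lit 21504) (nat_lit 3801) .nil) (nat_lit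
  456) (nat_lit 23185) (nat_lit 4009) (.node .nil (nat_lit 459) (nat_lit 13985) (nat_lit 4050) .nil)) (nat_lit
  462) (nat_lit 20768) (nat_lit 231) (.node (.node .nil (nat_lit 464) (nat_lit 15793) (nat_lit 2122) .nil)
  (nat_lit 467) (nat_lit 20960) (nat_lit 3795) .nil)) (nat_lit 469) (nat_lit 20688) (nat_lit 3792) (.node
  (.node (.node .nil (nat_lit 470) (nat_lit 3840) (nat_lit 235) .nil) (nat_lit 473) (nat_lit 19489) (nat_lit
  1487) (.node .nil (nat_lit 476) (nat_lit 18161) (nat_lit 2614) .nil)) (nat_lit 479) (nat_lit 27344) (nat_lit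
  3797) (.node (.node .nil (nat_lit 480) (nat_lit 12353) (nat_lit 2314) .nil) (nat_lit 483) (nat_lit 19121)
  (nat_lit 2417) .nil)))) (nat_lit 486) (nat_lit 5840) (nat_lit 243) (.node (.node (.node (.node (.node .nil
  (nat_lit 490) (nat_lit 10560) (nat_lit 245) .nil) (nat_lit 497) (nat_lit 784) (nat_lit 3778) (.node .nil
  (nat_lit 498) (nat_lit 1168) (nat_lit 249) .nil)) (nat_lit 500) (nat_lit 15681) (nat_lit 3221) (.node (.node
  .nil (nat_lit 503) (nat_lit 15296) (nat_lit 3777) .nil) (nat_lit 504) (nat_lit 8161) (nat_lit 3817) .nil))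
  (nat_lit 507) (nat_lit 2737) (nat_lit 3730) (.node (.node (.node .nil (nat_lit 510) (nat_lit 5137) (nat_lit
  363) .nil) (nat_lit 519) (nat_lit 17841) (nat_lit 848) (.node .nil (nat_lit 523) (nat_lit 12465) (nat_lit
  300) .nil)) (nat_lit 525) (nat_lit 6400) (nat_lit 3900) (.node (.node .nil (nat_lit 526) (nat_lit 25392)
  (nat_lit 263) .nil) (nat_lit 531) (nat_lit 26112) (nat_lit 3891) .nil))) (nat_lit 533) (nat_lit 23585)
  (nat_lit 2381) (.node (.node (.node (.node .nil (nat_lit 534) (nat_lit 9296) (nat_lit 267) .nil) (nat_lit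
  537) (nat_lit 11232) (nat_lit 3894) (.node .nil (nat_lit 538) (nat_lit 23873) (nat_lit 2890) .nil)) (nat_lit
  540) (nat_lit 15056) (nat_lit 270) (.node (.node .nil (nat_lit 543) (nat_lit 25137) (nat_lit 1203) .nil)
  (nat_lit 547) (nat_lit 11617) (nat_lit 1935) .nil)) (nat_lit 549) (nat_lit 20305) (nat_lit 2061) (.node
  (.node (.node .nil (nat_lit 550) (nat_lit 18128) (nat_lit 275) .nil) (nat_lit 553) (nat_lit 6848) (nat_lit
  3886) .nil) (nat_lit 554) (nat_lit 9185) (nat_lit 2570) (.node (.node .nil (nat_lit 556) (nat_lit 8640)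
  (nat_lit 278) .nil) (nat_lit 559) (nat_lit 3473) (nat_lit 1523) .nil))))))
def tS_2 : T := (.node (.node (.node (.node (.node (.node (.node .nil (nat_lit 562) (nat_lit 11424) (nat_lit
  281) .nil) (nat_lit 564) (nat_lit 26593) (nat_lit 619) (.node .nil (nat_lit 568) (nat_lit 26177) (nat_lit
  23) .nil)) (nat_lit 571) (nat_lit 3153) (nat_lit 108) (.node (.node .nil (nat_lit 573) (nat_lit 3712)
  (nat_lit 3876) .nil) (nat_lit 574) (nat_lit 20608) (nat_lit 287) .nil)) (nat_lit 579) (nat_lit 353) (nat_lit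
  975) (.node (.node (.node .nil (nat_lit 581) (nat_lit 9793) (nat_lit 3149) .nil) (nat_lit 582) (nat_lit 257)
  (nat_lit 3126) (.node .nil (nat_lit 585) (nat_lit 4160) (nat_lit 3870) .nil)) (nat_lit 586) (nat_lit 26577)
  (nat_lit 3658) (.node (.node .nil (nat_lit 588) (nat_lit 11008) (nat_lit 294) .nil) (nat_lit 593) (nat_lit
  4033) (nat_lit 2514) .nil))) (nat_lit 594) (nat_lit 25201) (nat_lit 2473) (.node (.node (.node (.node .nil
  (nat_lit 596) (nat_lit 16656) (nat_lit 298) .nil) (nat_lit 599) (nat_lit 12017) (nat_lit 1616) (.node .nil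
  (nat_lit 600) (nat_lit 12448) (nat_lit 300) .nil)) (nat_lit 603) (nat_lit 1873) (nat_lit 1068) (.node (.node
  .nil (nat_lit 605) (nat_lit 11040) (nat_lit 3860) .nil) (nat_lit 606) (nat_lit 1104) (nat_lit 303) .nil))
  (nat_lit 609) (nat_lit 4752) (nat_lit 3850) (.node (.node (.node .nil (nat_lit 610) (nat_lit 2097) (nat_lit
  2281) .nil) (nat_lit 612) (nat_lit 19873) (nat_lit 1899) (.node .nil (nat_lit 615) (nat_lit 2497) (nat_lit
  1808) .nil)) (nat_lit 616) (nat_lit 23040) (nat_lit 308) (.node (.node .nil (nat_lit 619) (nat_lit 21648)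
  (nat_lit 3855) .nil) (nat_lit 621) (nat_lit 10880) (nat_lit 3852) .nil)))) (nat_lit 622) (nat_lit 19952)
  (nat_lit 311) (.node (.node (.node (.node (.node .nil (nat_lit 624) (nat_lit 28032) (nat_lit 312) .nil)
  (nat_lit 627) (nat_lit 4448) (nat_lit 3843) (.node .nil (nat_lit 629) (nat_lit 7921) (nat_lit 3341) .nil))
  (nat_lit 630) (nat_lit 22624) (nat_lit 315) (.node (.node .nil (nat_lit 633) (nat_lit 12417) (nat_lit 3953)
  .nil) (nat_lit 634) (nat_lit 4769) (nat_lit 3850) .nil)) (nat_lit 639) (nat_lit 5857) (nat_lit 243) (.node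
  (.node (.node .nil (nat_lit 643) (nat_lit 624) (nat_lit 3963) .nil) (nat_lit 645) (nat_lit 2529) (nat_lit
  1286) (.node .nil (nat_lit 646) (nat_lit 8240) (nat_lit 323) .nil)) (nat_lit 649) (nat_lit 23472) (nat_lit
  3966) (.node (.node .nil (nat_lit 650) (nat_lit 27632) (nat_lit 325) .nil) (nat_lit 652) (nat_lit 25648)
  (nat_lit 326) .nil))) (nat_lit 655) (nat_lit 5281) (nat_lit 2296) (.node (.node (.node (.node .nil (nat_lit
  657) (nat_lit 28129) (nat_lit 153) .nil) (nat_lit 658) (nat_lit 22561) (nat_lit 226) (.node .nil (nat_lit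
  660) (nat_lit 6161) (nat_lit 3936) .nil)) (nat_lit 663) (nat_lit 12400) (nat_lit 3953) (.node (.node .nil
  (nat_lit 664) (nat_lit 3216) (nat_lit 332) .nil) (nat_lit 667) (nat_lit 23776) (nat_lit 3959) .nil))
  (nat_lit 669) (nat_lit 20065) (nat_lit 741) (.node (.node (.node .nil (nat_lit 670) (nat_lit 27808) (nat_lit
  335) .nil) (nat_lit 673) (nat_lit 25345) (nat_lit 473) (.node .nil (nat_lit 674) (nat_lit 5216) (nat_lit
  337) .nil)) (nat_lit 676) (nat_lit 26097) (nat_lit 3616) (.node (.node .nil (nat_lit 679) (nat_lit 1136)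
  (nat_lit 3945) .nil) (nat_lit 680) (nat_lit 19632) (nat_lit 340) .nil))))) (nat_lit 683) (nat_lit 20016)
  (nat_lit 3951) (.node (.node (.node (.node (.node (.node .nil (nat_lit 685) (nat_lit 14064) (nat_lit 3948)
  .nil) (nat_lit 688) (nat_lit 3296) (nat_lit 344) (.node .nil (nat_lit 691) (nat_lit 3825) (nat_lit 3012)
  .nil)) (nat_lit 693) (nat_lit 6144) (nat_lit 3936) (.node (.node .nil (nat_lit 694) (nat_lit 15696) (nat_lit
  347) .nil) (nat_lit 698) (nat_lit 15921) (nat_lit 1601) .nil)) (nat_lit 700) (nat_lit 22849) (nat_lit 2499)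
  (.node (.node (.node .nil (nat_lit 703) (nat_lit 24320) (nat_lit 3941) .nil) (nat_lit 705) (nat_lit 8305)
  (nat_lit 1433) (.node .nil (nat_lit 706) (nat_lit 17280) (nat_lit 353) .nil)) (nat_lit 708) (nat_lit 16721)
  (nat_lit 2656) (.node (.node .nil (nat_lit 711) (nat_lit 129) (nat_lit 2587) .nil) (nat_lit 712) (nat_lit
  16848) (nat_lit 356) .nil))) (nat_lit 715) (nat_lit 3552) (nat_lit 3935) (.node (.node (.node (.node .nil
  (nat_lit 717) (nat_lit 26417) (nat_lit 2021) .nil) (nat_lit 718) (nat_lit 705) (nat_lit 1950) (.node .nil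
  (nat_lit 720) (nat_lit 16080) (nat_lit 360) .nil)) (nat_lit 723) (nat_lit 21457) (nat_lit 3972) (.node
  (.node .nil (nat_lit 726) (nat_lit 5120) (nat_lit 363) .nil) (nat_lit 729) (nat_lit 8833) (nat_lit 634)
  .nil)) (nat_lit 732) (nat_lit 3905) (nat_lit 3459) (.node (.node (.node .nil (nat_lit 735) (nat_lit 25521)
  (nat_lit 3576) .nil) (nat_lit 736) (nat_lit 12592) (nat_lit 368) (.node .nil (nat_lit 741) (nat_lit 13232)
  (nat_lit 3912) .nil)) (nat_lit 742) (nat_lit 8608) (nat_lit 371) (.node (.node .nil (nat_lit 745) (nat_lit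
  4320) (nat_lit 3918) .nil) (nat_lit 746) (nat_lit 13136) (nat_lit 373) .nil)))) (nat_lit 748) (nat_lit 1536)
  (nat_lit 374) (.node (.node (.node (.node (.node .nil (nat_lit 751) (nat_lit 5328) (nat_lit 3917) .nil)
  (nat_lit 753) (nat_lit 19856) (nat_lit 3906) (.node .nil (nat_lit 754) (nat_lit 8081) (nat_lit 1186) .nil))
  (nat_lit 756) (nat_lit 27409) (nat_lit 2848) (.node (.node .nil (nat_lit 759) (nat_lit 19617) (nat_lit 2907)
  .nil) (nat_lit 760) (nat_lit 9153) (nat_lit 2396) .nil)) (nat_lit 763) (nat_lit 14224) (nat_lit 3911) (.node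
  (.node (.node .nil (nat_lit 765) (nat_lit 17888) (nat_lit 3908) .nil) (nat_lit 766) (nat_lit 8337) (nat_lit
  1758) (.node .nil (nat_lit 771) (nat_lit 11793) (nat_lit 1998) .nil)) (nat_lit 773) (nat_lit 18049) (nat_lit
  2124) (.node (.node .nil (nat_lit 774) (nat_lit 7985) (nat_lit 2103) .nil) (nat_lit 777) (nat_lit 21169)
  (nat_lit 2608) .nil))) (nat_lit 778) (nat_lit 481) (nat_lit 2635) (.node (.node (.node (.node .nil (nat_lit
  780) (nat_lit 10497) (nat_lit 1481) .nil) (nat_lit 783) (nat_lit 8225) (nat_lit 1458) (.node .nil (nat_lit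
  785) (nat_lit 25232) (nat_lit 4018) .nil)) (nat_lit 786) (nat_lit 25297) (nat_lit 3496) (.node (.node .nil
  (nat_lit 788) (nat_lit 15473) (nat_lit 554) .nil) (nat_lit 791) (nat_lit 7601) (nat_lit 593) .nil)) (nat_lit
  792) (nat_lit 865) (nat_lit 86) (.node (.node (.node .nil (nat_lit 795) (nat_lit 21728) (nat_lit 4023) .nil)
  (nat_lit 798) (nat_lit 9840) (nat_lit 399) .nil) (nat_lit 801) (nat_lit 17185) (nat_lit 3219) (.node (.node
  .nil (nat_lit 802) (nat_lit 16993) (nat_lit 3304) .nil) (nat_lit 804) (nat_lit 12160) (nat_lit 402)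
  .nil))))))
def tS_3 : T := (.node (.node (.node (.node (.node (.node (.node .nil (nat_lit 808) (nat_lit 8657) (nat_lit
  278) .nil) (nat_lit 813) (nat_lit 24528) (nat_lit 4012) (.node .nil (nat_lit 814) (nat_lit 18976) (nat_lit
  407) .nil)) (nat_lit 816) (nat_lit 25569) (nat_lit 1781) (.node (.node .nil (nat_lit 819) (nat_lit 5296)
  (nat_lit 4003) .nil) (nat_lit 821) (nat_lit 18849) (nat_lit 2316) .nil)) (nat_lit 822) (nat_lit 16033)
  (nat_lit 2423) (.node (.node (.node .nil (nat_lit 825) (nat_lit 13185) (nat_lit 2928) .nil) (nat_lit 826)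
  (nat_lit 25169) (nat_lit 2827) (.node .nil (nat_lit 828) (nat_lit 18208) (nat_lit 414) .nil)) (nat_lit 831)
  (nat_lit 22256) (nat_lit 4005) (.node (.node .nil (nat_lit 833) (nat_lit 23648) (nat_lit 3994) .nil)
  (nat_lit 834) (nat_lit 24497) (nat_lit 2216) .nil))) (nat_lit 836) (nat_lit 18785) (nat_lit 1834) (.node
  (.node (.node (.node .nil (nat_lit 839) (nat_lit 21808) (nat_lit 3993) .nil) (nat_lit 840) (nat_lit 14609)
  (nat_lit 1366) (.node .nil (nat_lit 843) (nat_lit 7536) (nat_lit 3999) .nil)) (nat_lit 845) (nat_lit 26848)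
  (nat_lit 3996) (.node (.node .nil (nat_lit 846) (nat_lit 14000) (nat_lit 423) .nil) (nat_lit 848) (nat_lit
  11169) (nat_lit 693) .nil)) (nat_lit 851) (nat_lit 1425) (nat_lit 718) (.node (.node (.node .nil (nat_lit
  853) (nat_lit 6481) (nat_lit 3404) .nil) (nat_lit 854) (nat_lit 3744) (nat_lit 427) (.node .nil (nat_lit
  857) (nat_lit 27057) (nat_lit 3888) .nil)) (nat_lit 860) (nat_lit 15041) (nat_lit 201) (.node (.node .nil
  (nat_lit 863) (nat_lit 13617) (nat_lit 178) .nil) (nat_lit 864) (nat_lit 3969) (nat_lit 1013) .nil))))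
  (nat_lit 867) (nat_lit 18657) (nat_lit 910) (.node (.node (.node (.node (.node .nil (nat_lit 869) (nat_lit
  7184) (nat_lit 3976) .nil) (nat_lit 873) (nat_lit 5569) (nat_lit 3696) (.node .nil (nat_lit 874) (nat_lit
  23728) (nat_lit 437) .nil)) (nat_lit 876) (nat_lit 27713) (nat_lit 393) (.node (.node .nil (nat_lit 879)
  (nat_lit 2337) (nat_lit 498) .nil) (nat_lit 882) (nat_lit 16352) (nat_lit 441) .nil)) (nat_lit 884) (nat_lit
  16112) (nat_lit 442) (.node (.node (.node .nil (nat_lit 887) (nat_lit 10256) (nat_lit 3969) .nil) (nat_lit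
  888) (nat_lit 16832) (nat_lit 444) (.node .nil (nat_lit 891) (nat_lit 21248) (nat_lit 3975) .nil)) (nat_lit
  893) (nat_lit 17729) (nat_lit 3055) (.node (.node .nil (nat_lit 894) (nat_lit 23553) (nat_lit 2964) .nil)
  (nat_lit 897) (nat_lit 2352) (nat_lit 4090) .nil))) (nat_lit 898) (nat_lit 13344) (nat_lit 449) (.node
  (.node (.node (.node .nil (nat_lit 900) (nat_lit 15169) (nat_lit 3681) .nil) (nat_lit 904) (nat_lit 22144)
  (nat_lit 452) (.node .nil (nat_lit 907) (nat_lit 16529) (nat_lit 3174) .nil)) (nat_lit 909) (nat_lit 1296)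
  (nat_lit 4092) (.node (.node .nil (nat_lit 910) (nat_lit 11953) (nat_lit 927) .nil) (nat_lit 912) (nat_lit
  23377) (nat_lit 3070) .nil)) (nat_lit 915) (nat_lit 25105) (nat_lit 2949) (.node (.node (.node .nil (nat_lit
  917) (nat_lit 25857) (nat_lit 1031) .nil) (nat_lit 918) (nat_lit 16209) (nat_lit 1148) .nil) (nat_lit 921)
  (nat_lit 9024) (nat_lit 4086) (.node (.node .nil (nat_lit 924) (nat_lit 26144) (nat_lit 462) .nil) (nat_lit
  927) (nat_lit 6641) (nat_lit 2553) .nil))))) (nat_lit 928) (nat_lit 22736) (nat_lit 464) (.node (.node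
  (.node (.node (.node (.node .nil (nat_lit 931) (nat_lit 25312) (nat_lit 4075) .nil) (nat_lit 933) (nat_lit
  11856) (nat_lit 4072) (.node .nil (nat_lit 934) (nat_lit 26256) (nat_lit 467) .nil)) (nat_lit 937) (nat_lit
  19568) (nat_lit 4078) (.node (.node .nil (nat_lit 938) (nat_lit 5505) (nat_lit 1856) .nil) (nat_lit 940)
  (nat_lit 7232) (nat_lit 470) .nil)) (nat_lit 943) (nat_lit 16736) (nat_lit 4077) (.node (.node (.node .nil
  (nat_lit 945) (nat_lit 1360) (nat_lit 4066) .nil) (nat_lit 946) (nat_lit 25328) (nat_lit 473) (.node .nil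
  (nat_lit 951) (nat_lit 8576) (nat_lit 4065) .nil)) (nat_lit 952) (nat_lit 21073) (nat_lit 3421) (.node
  (.node .nil (nat_lit 955) (nat_lit 16960) (nat_lit 4071) .nil) (nat_lit 957) (nat_lit 18592) (nat_lit 4068)
  .nil))) (nat_lit 958) (nat_lit 27985) (nat_lit 735) (.node (.node (.node (.node .nil (nat_lit 960) (nat_lit
  19184) (nat_lit 480) .nil) (nat_lit 963) (nat_lit 13296) (nat_lit 4059) (.node .nil (nat_lit 965) (nat_lit
  13264) (nat_lit 4056) .nil)) (nat_lit 966) (nat_lit 25120) (nat_lit 483) (.node (.node .nil (nat_lit 969)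
  (nat_lit 24128) (nat_lit 4062) .nil) (nat_lit 972) (nat_lit 2641) (nat_lit 3202) .nil)) (nat_lit 975)
  (nat_lit 161) (nat_lit 3321) (.node (.node (.node .nil (nat_lit 977) (nat_lit 13968) (nat_lit 4050) .nil)
  (nat_lit 980) (nat_lit 13489) (nat_lit 2913) (.node .nil (nat_lit 983) (nat_lit 8000) (nat_lit 4049) .nil))
  (nat_lit 989) (nat_lit 19760) (nat_lit 4052) (.node (.node .nil (nat_lit 993) (nat_lit 5793) (nat_lit 1496)
  .nil) (nat_lit 994) (nat_lit 1568) (nat_lit 497) .nil)))) (nat_lit 996) (nat_lit 2320) (nat_lit 498) (.node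
  (.node (.node (.node (.node .nil (nat_lit 999) (nat_lit 23024) (nat_lit 4041) .nil) (nat_lit 1000) (nat_lit
  3793) (nat_lit 2141) (.node .nil (nat_lit 1003) (nat_lit 15249) (nat_lit 2086) .nil)) (nat_lit 1006)
  (nat_lit 22129) (nat_lit 2015) (.node (.node .nil (nat_lit 1008) (nat_lit 14032) (nat_lit 504) .nil)
  (nat_lit 1011) (nat_lit 10593) (nat_lit 4037) .nil)) (nat_lit 1013) (nat_lit 2048) (nat_lit 4032) (.node
  (.node (.node .nil (nat_lit 1014) (nat_lit 5248) (nat_lit 507) .nil) (nat_lit 1017) (nat_lit 6033) (nat_lit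
  571) (.node .nil (nat_lit 1020) (nat_lit 9472) (nat_lit 510) .nil)) (nat_lit 1023) (nat_lit 10576) (nat_lit
  4037) (.node (.node .nil (nat_lit 1031) (nat_lit 20209) (nat_lit 2600) .nil) (nat_lit 1035) (nat_lit 15872)
  (nat_lit 3135) .nil))) (nat_lit 1037) (nat_lit 11728) (nat_lit 3132) (.node (.node (.node (.node .nil
  (nat_lit 1038) (nat_lit 24192) (nat_lit 519) .nil) (nat_lit 1043) (nat_lit 21745) (nat_lit 4023) (.node .nil
  (nat_lit 1045) (nat_lit 17584) (nat_lit 3120) .nil)) (nat_lit 1046) (nat_lit 19248) (nat_lit 523) (.node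
  (.node .nil (nat_lit 1049) (nat_lit 240) (nat_lit 3126) .nil) (nat_lit 1050) (nat_lit 11536) (nat_lit 525)
  .nil)) (nat_lit 1052) (nat_lit 15537) (nat_lit 3504) (.node (.node (.node .nil (nat_lit 1059) (nat_lit
  12224) (nat_lit 3115) .nil) (nat_lit 1061) (nat_lit 13153) (nat_lit 373) .nil) (nat_lit 1062) (nat_lit
  15073) (nat_lit 270) (.node (.node .nil (nat_lit 1065) (nat_lit 26385) (nat_lit 777) .nil) (nat_lit 1066)
  (nat_lit 23105) (nat_lit 882) .nil))))))
def tS_4 : T := (.node (.node (.node (.node (.node (.node (.node .nil (nat_lit 1071) (nat_lit 3616) (nat_lit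
  3117) .nil) (nat_lit 1073) (nat_lit 8752) (nat_lit 3106) (.node .nil (nat_lit 1074) (nat_lit 17920) (nat_lit
  537) .nil)) (nat_lit 1076) (nat_lit 26673) (nat_lit 2835) (.node (.node .nil (nat_lit 1079) (nat_lit 13841)
  (nat_lit 2920) .nil) (nat_lit 1080) (nat_lit 21984) (nat_lit 540) .nil)) (nat_lit 1083) (nat_lit 13425)
  (nat_lit 2324) (.node (.node (.node .nil (nat_lit 1085) (nat_lit 10816) (nat_lit 3108) .nil) (nat_lit 1086)
  (nat_lit 11681) (nat_lit 1773) (.node .nil (nat_lit 1091) (nat_lit 8561) (nat_lit 2743) .nil)) (nat_lit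
  1093) (nat_lit 15328) (nat_lit 3096) (.node (.node .nil (nat_lit 1094) (nat_lit 4369) (nat_lit 1358) .nil)
  (nat_lit 1097) (nat_lit 15552) (nat_lit 3102) .nil))) (nat_lit 1098) (nat_lit 22161) (nat_lit 1842) (.node
  (.node (.node (.node .nil (nat_lit 1100) (nat_lit 24448) (nat_lit 550) .nil) (nat_lit 1103) (nat_lit 4609)
  (nat_lit 2251) (.node .nil (nat_lit 1105) (nat_lit 12833) (nat_lit 170) .nil)) (nat_lit 1106) (nat_lit
  12256) (nat_lit 553) (.node (.node .nil (nat_lit 1108) (nat_lit 15456) (nat_lit 554) .nil) (nat_lit 1111)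
  (nat_lit 21216) (nat_lit 3089) .nil)) (nat_lit 1112) (nat_lit 14720) (nat_lit 556) (.node (.node (.node .nil
  (nat_lit 1115) (nat_lit 21760) (nat_lit 3095) .nil) (nat_lit 1117) (nat_lit 9457) (nat_lit 726) (.node .nil
  (nat_lit 1118) (nat_lit 6560) (nat_lit 559) .nil)) (nat_lit 1121) (nat_lit 17057) (nat_lit 490) (.node
  (.node .nil (nat_lit 1122) (nat_lit 23632) (nat_lit 561) .nil) (nat_lit 1124) (nat_lit 17569) (nat_lit 3603)
  .nil)))) (nat_lit 1127) (nat_lit 11568) (nat_lit 3081) (.node (.node (.node (.node (.node .nil (nat_lit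
  1128) (nat_lit 23825) (nat_lit 3183) .nil) (nat_lit 1131) (nat_lit 15441) (nat_lit 3092) (.node .nil
  (nat_lit 1133) (nat_lit 22993) (nat_lit 918) .nil)) (nat_lit 1136) (nat_lit 27745) (nat_lit 2956) (.node
  (.node .nil (nat_lit 1139) (nat_lit 25872) (nat_lit 3075) .nil) (nat_lit 1142) (nat_lit 6016) (nat_lit 571)
  .nil)) (nat_lit 1145) (nat_lit 24368) (nat_lit 3078) (.node (.node (.node .nil (nat_lit 1146) (nat_lit 6992)
  (nat_lit 573) .nil) (nat_lit 1148) (nat_lit 9729) (nat_lit 2544) (.node .nil (nat_lit 1151) (nat_lit 26753)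
  (nat_lit 2443) .nil)) (nat_lit 1155) (nat_lit 15857) (nat_lit 1020) (.node (.node .nil (nat_lit 1157)
  (nat_lit 6656) (nat_lit 3192) .nil) (nat_lit 1158) (nat_lit 720) (nat_lit 579) .nil))) (nat_lit 1161)
  (nat_lit 15377) (nat_lit 3586) (.node (.node (.node (.node .nil (nat_lit 1162) (nat_lit 4849) (nat_lit 3705)
  .nil) (nat_lit 1164) (nat_lit 528) (nat_lit 582) (.node .nil (nat_lit 1169) (nat_lit 16384) (nat_lit 3186)
  .nil)) (nat_lit 1170) (nat_lit 7808) (nat_lit 585) (.node (.node .nil (nat_lit 1172) (nat_lit 8257) (nat_lit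
  1560) .nil) (nat_lit 1176) (nat_lit 17600) (nat_lit 588) .nil)) (nat_lit 1185) (nat_lit 12512) (nat_lit
  3178) (.node (.node (.node .nil (nat_lit 1186) (nat_lit 4305) (nat_lit 2266) .nil) (nat_lit 1188) (nat_lit
  19601) (nat_lit 1880) (.node .nil (nat_lit 1191) (nat_lit 20369) (nat_lit 1827) .nil)) (nat_lit 1192)
  (nat_lit 10865) (nat_lit 1316) (.node (.node .nil (nat_lit 1195) (nat_lit 22593) (nat_lit 1375) .nil)
  (nat_lit 1197) (nat_lit 18688) (nat_lit 3180) .nil))))) (nat_lit 1198) (nat_lit 11777) (nat_lit 2726) (.node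
  (.node (.node (.node (.node (.node .nil (nat_lit 1200) (nat_lit 289) (nat_lit 711) .nil) (nat_lit 1203)
  (nat_lit 19136) (nat_lit 3171) (.node .nil (nat_lit 1205) (nat_lit 26368) (nat_lit 3168) .nil)) (nat_lit
  1206) (nat_lit 3648) (nat_lit 603) (.node (.node .nil (nat_lit 1209) (nat_lit 16512) (nat_lit 3174) .nil)
  (nat_lit 1210) (nat_lit 17616) (nat_lit 605) .nil)) (nat_lit 1212) (nat_lit 2192) (nat_lit 606) (.node
  (.node (.node .nil (nat_lit 1217) (nat_lit 27585) (nat_lit 3297) .nil) (nat_lit 1218) (nat_lit 8784)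
  (nat_lit 609) (.node .nil (nat_lit 1220) (nat_lit 1745) (nat_lit 792) .nil)) (nat_lit 1223) (nat_lit 6688)
  (nat_lit 3161) (.node (.node .nil (nat_lit 1224) (nat_lit 16865) (nat_lit 356) .nil) (nat_lit 1227) (nat_lit
  20625) (nat_lit 287) .nil))) (nat_lit 1229) (nat_lit 27760) (nat_lit 3164) (.node (.node (.node (.node .nil
  (nat_lit 1230) (nat_lit 4816) (nat_lit 615) .nil) (nat_lit 1232) (nat_lit 5473) (nat_lit 1671) (.node .nil
  (nat_lit 1235) (nat_lit 20993) (nat_lit 1788) .nil)) (nat_lit 1237) (nat_lit 12865) (nat_lit 2430) (.node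
  (.node .nil (nat_lit 1238) (nat_lit 4977) (nat_lit 2309) .nil) (nat_lit 1241) (nat_lit 16129) (nat_lit 2818)
  .nil)) (nat_lit 1242) (nat_lit 17408) (nat_lit 621) (.node (.node (.node .nil (nat_lit 1244) (nat_lit 2033)
  (nat_lit 1275) .nil) (nat_lit 1248) (nat_lit 15505) (nat_lit 1991) (.node .nil (nat_lit 1253) (nat_lit
  13584) (nat_lit 3144) .nil)) (nat_lit 1254) (nat_lit 4113) (nat_lit 2117) (.node (.node .nil (nat_lit 1257)
  (nat_lit 7425) (nat_lit 2626) .nil) (nat_lit 1258) (nat_lit 13696) (nat_lit 629) .nil)))) (nat_lit 1260)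
  (nat_lit 18513) (nat_lit 1467) (.node (.node (.node (.node (.node .nil (nat_lit 1263) (nat_lit 9776)
  (nat_lit 3149) .nil) (nat_lit 1265) (nat_lit 33) (nat_lit 3489) (.node .nil (nat_lit 1266) (nat_lit 19216)
  (nat_lit 633) .nil)) (nat_lit 1268) (nat_lit 8816) (nat_lit 634) (.node (.node .nil (nat_lit 1271) (nat_lit
  18305) (nat_lit 547) .nil) (nat_lit 1275) (nat_lit 1008) (nat_lit 3143) .nil)) (nat_lit 1277) (nat_lit
  22785) (nat_lit 4061) (.node (.node (.node .nil (nat_lit 1278) (nat_lit 10720) (nat_lit 639) .nil) (nat_lit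
  1283) (nat_lit 6353) (nat_lit 3766) (.node .nil (nat_lit 1285) (nat_lit 23057) (nat_lit 308) .nil)) (nat_lit
  1286) (nat_lit 1264) (nat_lit 643) (.node (.node .nil (nat_lit 1289) (nat_lit 21280) (nat_lit 3262) .nil)
  (nat_lit 1290) (nat_lit 4864) (nat_lit 645) .nil))) (nat_lit 1292) (nat_lit 14160) (nat_lit 646) (.node
  (.node (.node (.node .nil (nat_lit 1295) (nat_lit 18881) (nat_lit 3274) .nil) (nat_lit 1297) (nat_lit 25824)
  (nat_lit 3250) (.node .nil (nat_lit 1298) (nat_lit 10049) (nat_lit 1232) .nil)) (nat_lit 1300) (nat_lit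
  27921) (nat_lit 2898) (.node (.node .nil (nat_lit 1303) (nat_lit 26081) (nat_lit 2857) .nil) (nat_lit 1304)
  (nat_lit 28016) (nat_lit 652) .nil)) (nat_lit 1307) (nat_lit 20352) (nat_lit 3255) (.node (.node (.node .nil
  (nat_lit 1309) (nat_lit 13329) (nat_lit 1751) .nil) (nat_lit 1310) (nat_lit 9744) (nat_lit 655) .nil)
  (nat_lit 1313) (nat_lit 8848) (nat_lit 3242) (.node (.node .nil (nat_lit 1314) (nat_lit 21041) (nat_lit
  1424) .nil) (nat_lit 1316) (nat_lit 5953) (nat_lit 2578) .nil))))))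
def tS_5 : T := (.node (.node (.node (.node (.node (.node (.node .nil (nat_lit 1323) (nat_lit 6385) (nat_lit
  2069) .nil) (nat_lit 1325) (nat_lit 12785) (nat_lit 1943) (.node .nil (nat_lit 1326) (nat_lit 16145)
  (nat_lit 2028) .nil)) (nat_lit 1328) (nat_lit 6128) (nat_lit 664) (.node (.node .nil (nat_lit 1331) (nat_lit
  9041) (nat_lit 4086) .nil) (nat_lit 1333) (nat_lit 26832) (nat_lit 3232) .nil)) (nat_lit 1334) (nat_lit
  23953) (nat_lit 15) (.node (.node (.node .nil (nat_lit 1338) (nat_lit 8273) (nat_lit 627) .nil) (nat_lit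
  1340) (nat_lit 21793) (nat_lit 3569) (.node .nil (nat_lit 1343) (nat_lit 16592) (nat_lit 3237) .nil))
  (nat_lit 1345) (nat_lit 3761) (nat_lit 427) (.node (.node .nil (nat_lit 1346) (nat_lit 22753) (nat_lit 464)
  .nil) (nat_lit 1348) (nat_lit 9632) (nat_lit 674) .nil))) (nat_lit 1351) (nat_lit 17536) (nat_lit 3225)
  (.node (.node (.node (.node .nil (nat_lit 1352) (nat_lit 27073) (nat_lit 3118) .nil) (nat_lit 1357) (nat_lit
  13809) (nat_lit 983) (.node .nil (nat_lit 1358) (nat_lit 2256) (nat_lit 679) .nil)) (nat_lit 1360) (nat_lit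
  17041) (nat_lit 3021) (.node (.node .nil (nat_lit 1363) (nat_lit 8193) (nat_lit 2998) .nil) (nat_lit 1365)
  (nat_lit 26048) (nat_lit 3216) .nil)) (nat_lit 1366) (nat_lit 8529) (nat_lit 1103) (.node (.node (.node .nil
  (nat_lit 1369) (nat_lit 944) (nat_lit 3222) .nil) (nat_lit 1370) (nat_lit 4913) (nat_lit 1587) (.node .nil
  (nat_lit 1375) (nat_lit 15664) (nat_lit 3221) .nil)) (nat_lit 1376) (nat_lit 6240) (nat_lit 688) (.node
  (.node .nil (nat_lit 1379) (nat_lit 16497) (nat_lit 2806) .nil) (nat_lit 1381) (nat_lit 26032) (nat_lit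
  3208) .nil)))) (nat_lit 1382) (nat_lit 7200) (nat_lit 691) (.node (.node (.node (.node (.node .nil (nat_lit
  1385) (nat_lit 26801) (nat_lit 1800) .nil) (nat_lit 1386) (nat_lit 7345) (nat_lit 1907) (.node .nil (nat_lit
  1388) (nat_lit 22608) (nat_lit 694) .nil)) (nat_lit 1391) (nat_lit 7713) (nat_lit 2186) (.node (.node .nil
  (nat_lit 1393) (nat_lit 2624) (nat_lit 3202) .nil) (nat_lit 1396) (nat_lit 20977) (nat_lit 3858) .nil))
  (nat_lit 1399) (nat_lit 1153) (nat_lit 3945) (.node (.node (.node .nil (nat_lit 1400) (nat_lit 14625)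
  (nat_lit 3438) .nil) (nat_lit 1403) (nat_lit 1217) (nat_lit 3349) (.node .nil (nat_lit 1405) (nat_lit 7680)
  (nat_lit 3204) .nil)) (nat_lit 1406) (nat_lit 3041) (nat_lit 748) (.node (.node .nil (nat_lit 1409) (nat_lit
  10689) (nat_lit 2272) .nil) (nat_lit 1410) (nat_lit 9969) (nat_lit 2203) .nil))) (nat_lit 1412) (nat_lit
  23840) (nat_lit 706) (.node (.node (.node (.node .nil (nat_lit 1415) (nat_lit 144) (nat_lit 3321) .nil)
  (nat_lit 1416) (nat_lit 23408) (nat_lit 708) (.node .nil (nat_lit 1419) (nat_lit 16241) (nat_lit 1310)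
  .nil)) (nat_lit 1421) (nat_lit 26465) (nat_lit 2716) (.node (.node .nil (nat_lit 1422) (nat_lit 272)
  (nat_lit 711) .nil) (nat_lit 1424) (nat_lit 14177) (nat_lit 646) .nil)) (nat_lit 1427) (nat_lit 21552)
  (nat_lit 3315) (.node (.node (.node .nil (nat_lit 1429) (nat_lit 912) (nat_lit 3312) .nil) (nat_lit 1430)
  (nat_lit 833) (nat_lit 3332) (.node .nil (nat_lit 1433) (nat_lit 4465) (nat_lit 3843) .nil)) (nat_lit 1434)
  (nat_lit 7793) (nat_lit 3960) (.node (.node .nil (nat_lit 1436) (nat_lit 1408) (nat_lit 718) .nil) (nat_lit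
  1440) (nat_lit 22864) (nat_lit 720) .nil))))) (nat_lit 1443) (nat_lit 14576) (nat_lit 3307) (.node (.node
  (.node (.node (.node (.node .nil (nat_lit 1445) (nat_lit 15889) (nat_lit 3135) .nil) (nat_lit 1446) (nat_lit
  26528) (nat_lit 723) (.node .nil (nat_lit 1449) (nat_lit 3073) (nat_lit 3651) .nil)) (nat_lit 1452) (nat_lit
  9440) (nat_lit 726) (.node (.node .nil (nat_lit 1455) (nat_lit 13361) (nat_lit 449) .nil) (nat_lit 1457)
  (nat_lit 21184) (nat_lit 3298) .nil)) (nat_lit 1458) (nat_lit 4401) (nat_lit 2523) (.node (.node (.node .nil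
  (nat_lit 1463) (nat_lit 27568) (nat_lit 3297) .nil) (nat_lit 1464) (nat_lit 7360) (nat_lit 732) (.node .nil
  (nat_lit 1467) (nat_lit 11825) (nat_lit 1118) .nil)) (nat_lit 1469) (nat_lit 9872) (nat_lit 3300) (.node
  (.node .nil (nat_lit 1470) (nat_lit 11841) (nat_lit 2983) .nil) (nat_lit 1472) (nat_lit 19376) (nat_lit 736)
  .nil))) (nat_lit 1475) (nat_lit 19296) (nat_lit 3291) (.node (.node (.node (.node .nil (nat_lit 1477)
  (nat_lit 18320) (nat_lit 3288) .nil) (nat_lit 1481) (nat_lit 5712) (nat_lit 3294) (.node .nil (nat_lit 1482)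
  (nat_lit 20048) (nat_lit 741) .nil)) (nat_lit 1484) (nat_lit 5601) (nat_lit 1530) (.node (.node .nil
  (nat_lit 1487) (nat_lit 12688) (nat_lit 3293) .nil) (nat_lit 1490) (nat_lit 8096) (nat_lit 745) .nil))
  (nat_lit 1492) (nat_lit 17937) (nat_lit 537) (.node (.node (.node .nil (nat_lit 1495) (nat_lit 4049)
  (nat_lit 610) .nil) (nat_lit 1496) (nat_lit 3024) (nat_lit 748) (.node .nil (nat_lit 1499) (nat_lit 7888)
  (nat_lit 3287) .nil)) (nat_lit 1501) (nat_lit 18992) (nat_lit 3284) (.node (.node .nil (nat_lit 1502)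
  (nat_lit 9808) (nat_lit 751) .nil) (nat_lit 1505) (nat_lit 18864) (nat_lit 3274) .nil)))) (nat_lit 1506)
  (nat_lit 19313) (nat_lit 3291) (.node (.node (.node (.node (.node .nil (nat_lit 1508) (nat_lit 13920)
  (nat_lit 754) .nil) (nat_lit 1511) (nat_lit 18496) (nat_lit 3273) (.node .nil (nat_lit 1512) (nat_lit 27857)
  (nat_lit 293) .nil)) (nat_lit 1515) (nat_lit 17472) (nat_lit 3279) (.node (.node .nil (nat_lit 1518)
  (nat_lit 25440) (nat_lit 759) .nil) (nat_lit 1520) (nat_lit 15408) (nat_lit 760) .nil)) (nat_lit 1523)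
  (nat_lit 1777) (nat_lit 1725) (.node (.node (.node .nil (nat_lit 1525) (nat_lit 18624) (nat_lit 3264) .nil)
  (nat_lit 1526) (nat_lit 14497) (nat_lit 2372) (.node .nil (nat_lit 1529) (nat_lit 8432) (nat_lit 3270)
  .nil)) (nat_lit 1530) (nat_lit 2913) (nat_lit 2872) (.node (.node .nil (nat_lit 1532) (nat_lit 14304)
  (nat_lit 766) .nil) (nat_lit 1535) (nat_lit 26624) (nat_lit 3269) .nil))) (nat_lit 1539) (nat_lit 17984)
  (nat_lit 3387) (.node (.node (.node (.node .nil (nat_lit 1541) (nat_lit 28080) (nat_lit 3384) .nil) (nat_lit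
  1542) (nat_lit 18464) (nat_lit 771) (.node .nil (nat_lit 1545) (nat_lit 26993) (nat_lit 1277) .nil))
  (nat_lit 1546) (nat_lit 1457) (nat_lit 1158) (.node (.node .nil (nat_lit 1548) (nat_lit 6737) (nat_lit 2820)
  .nil) (nat_lit 1551) (nat_lit 26720) (nat_lit 3389) .nil)) (nat_lit 1553) (nat_lit 16337) (nat_lit 798)
  (.node (.node (.node .nil (nat_lit 1554) (nat_lit 12705) (nat_lit 869) .nil) (nat_lit 1556) (nat_lit 976)
  (nat_lit 778) .nil) (nat_lit 1559) (nat_lit 13888) (nat_lit 3377) (.node (.node .nil (nat_lit 1560) (nat_lit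
  4433) (nat_lit 3739) .nil) (nat_lit 1563) (nat_lit 20001) (nat_lit 3808) .nil))))))
def tS_6 : T := (.node (.node (.node (.node (.node (.node (.node .nil (nat_lit 1566) (nat_lit 11441) (nat_lit
  281) .nil) (nat_lit 1569) (nat_lit 2209) (nat_lit 606) (.node .nil (nat_lit 1570) (nat_lit 25905) (nat_lit
  549) .nil)) (nat_lit 1572) (nat_lit 19809) (nat_lit 3495) (.node (.node .nil (nat_lit 1575) (nat_lit 6113)
  (nat_lit 3548) .nil) (nat_lit 1576) (nat_lit 13313) (nat_lit 4059) .nil)) (nat_lit 1579) (nat_lit 27872)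
  (nat_lit 3375) (.node (.node (.node .nil (nat_lit 1582) (nat_lit 7873) (nat_lit 89) .nil) (nat_lit 1584)
  (nat_lit 1728) (nat_lit 792) (.node .nil (nat_lit 1587) (nat_lit 2544) (nat_lit 3363) .nil)) (nat_lit 1589)
  (nat_lit 22432) (nat_lit 3360) (.node (.node .nil (nat_lit 1590) (nat_lit 17953) (nat_lit 1978) .nil)
  (nat_lit 1593) (nat_lit 16369) (nat_lit 1469) .nil))) (nat_lit 1596) (nat_lit 16320) (nat_lit 798) (.node
  (.node (.node (.node .nil (nat_lit 1599) (nat_lit 23568) (nat_lit 3365) .nil) (nat_lit 1601) (nat_lit 9504)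
  (nat_lit 3354) (.node .nil (nat_lit 1602) (nat_lit 21105) (nat_lit 1637) .nil)) (nat_lit 1604) (nat_lit
  23616) (nat_lit 802) (.node (.node .nil (nat_lit 1607) (nat_lit 1489) (nat_lit 2460) .nil) (nat_lit 1608)
  (nat_lit 6209) (nat_lit 2971) .nil)) (nat_lit 1611) (nat_lit 12065) (nat_lit 3040) (.node (.node (.node .nil
  (nat_lit 1613) (nat_lit 22528) (nat_lit 3356) .nil) (nat_lit 1614) (nat_lit 513) (nat_lit 1049) (.node .nil
  (nat_lit 1616) (nat_lit 6673) (nat_lit 3192) .nil)) (nat_lit 1619) (nat_lit 25776) (nat_lit 3347) (.node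
  (.node .nil (nat_lit 1621) (nat_lit 4545) (nat_lit 897) .nil) (nat_lit 1626) (nat_lit 27297) (nat_lit 390)
  .nil)))) (nat_lit 1628) (nat_lit 18961) (nat_lit 3588) (.node (.node (.node (.node (.node .nil (nat_lit
  1631) (nat_lit 1200) (nat_lit 3349) .nil) (nat_lit 1632) (nat_lit 28000) (nat_lit 816) (.node .nil (nat_lit
  1637) (nat_lit 14257) (nat_lit 705) .nil)) (nat_lit 1638) (nat_lit 9760) (nat_lit 819) (.node (.node .nil
  (nat_lit 1641) (nat_lit 10384) (nat_lit 3342) .nil) (nat_lit 1642) (nat_lit 24976) (nat_lit 821) .nil))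
  (nat_lit 1644) (nat_lit 17905) (nat_lit 3908) (.node (.node (.node .nil (nat_lit 1647) (nat_lit 7904)
  (nat_lit 3341) .nil) (nat_lit 1649) (nat_lit 23888) (nat_lit 3330) (.node .nil (nat_lit 1650) (nat_lit
  19937) (nat_lit 1829) .nil)) (nat_lit 1652) (nat_lit 20417) (nat_lit 2215) (.node (.node .nil (nat_lit 1655)
  (nat_lit 16912) (nat_lit 3329) .nil) (nat_lit 1656) (nat_lit 12145) (nat_lit 2779) .nil))) (nat_lit 1659)
  (nat_lit 19793) (nat_lit 2720) (.node (.node (.node (.node .nil (nat_lit 1661) (nat_lit 816) (nat_lit 3332)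
  .nil) (nat_lit 1662) (nat_lit 1905) (nat_lit 1369) (.node .nil (nat_lit 1665) (nat_lit 26305) (nat_lit 3925)
  .nil)) (nat_lit 1666) (nat_lit 6865) (nat_lit 3886) (.node (.node .nil (nat_lit 1668) (nat_lit 1713)
  (nat_lit 172) .nil) (nat_lit 1671) (nat_lit 2848) (nat_lit 3449) .nil)) (nat_lit 1672) (nat_lit 22881)
  (nat_lit 720) (.node (.node (.node .nil (nat_lit 1675) (nat_lit 18672) (nat_lit 3455) .nil) (nat_lit 1677)
  (nat_lit 24721) (nat_lit 3369) (.node .nil (nat_lit 1678) (nat_lit 23361) (nat_lit 3410) .nil)) (nat_lit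
  1680) (nat_lit 15233) (nat_lit 1331) (.node (.node .nil (nat_lit 1683) (nat_lit 27008) (nat_lit 3443) .nil)
  (nat_lit 1685) (nat_lit 22384) (nat_lit 3440) .nil))))) (nat_lit 1686) (nat_lit 9553) (nat_lit 2737) (.node
  (.node (.node (.node (.node (.node .nil (nat_lit 1689) (nat_lit 2609) (nat_lit 2230) .nil) (nat_lit 1690)
  (nat_lit 17377) (nat_lit 2253) (.node .nil (nat_lit 1692) (nat_lit 20864) (nat_lit 846) .nil)) (nat_lit
  1696) (nat_lit 17824) (nat_lit 848) (.node (.node .nil (nat_lit 1701) (nat_lit 22672) (nat_lit 3432) .nil)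
  (nat_lit 1702) (nat_lit 2816) (nat_lit 851) .nil)) (nat_lit 1705) (nat_lit 10337) (nat_lit 2550) (.node
  (.node (.node .nil (nat_lit 1706) (nat_lit 11696) (nat_lit 853) .nil) (nat_lit 1708) (nat_lit 7056) (nat_lit
  854) (.node .nil (nat_lit 1711) (nat_lit 2144) (nat_lit 3437) .nil)) (nat_lit 1713) (nat_lit 11905) (nat_lit
  3605) (.node (.node .nil (nat_lit 1714) (nat_lit 27537) (nat_lit 3694) .nil) (nat_lit 1719) (nat_lit 15120)
  (nat_lit 3425) .nil))) (nat_lit 1720) (nat_lit 21952) (nat_lit 860) (.node (.node (.node (.node .nil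
  (nat_lit 1723) (nat_lit 22225) (nat_lit 1003) .nil) (nat_lit 1725) (nat_lit 880) (nat_lit 3428) (.node .nil
  (nat_lit 1726) (nat_lit 18017) (nat_lit 3090) .nil)) (nat_lit 1728) (nat_lit 7472) (nat_lit 864) (.node
  (.node .nil (nat_lit 1733) (nat_lit 19152) (nat_lit 3416) .nil) (nat_lit 1734) (nat_lit 14897) (nat_lit
  4017) .nil)) (nat_lit 1737) (nat_lit 18913) (nat_lit 3510) (.node (.node (.node .nil (nat_lit 1738) (nat_lit
  7409) (nat_lit 3533) .nil) (nat_lit 1743) (nat_lit 21056) (nat_lit 3421) (.node .nil (nat_lit 1745) (nat_lit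
  4801) (nat_lit 2645) .nil)) (nat_lit 1746) (nat_lit 10224) (nat_lit 873) (.node (.node .nil (nat_lit 1748)
  (nat_lit 15825) (nat_lit 1452) .nil) (nat_lit 1751) (nat_lit 7633) (nat_lit 1495) .nil)))) (nat_lit 1752)
  (nat_lit 12673) (nat_lit 2000) (.node (.node (.node (.node (.node .nil (nat_lit 1755) (nat_lit 20753)
  (nat_lit 1963) .nil) (nat_lit 1757) (nat_lit 17521) (nat_lit 2089) (.node .nil (nat_lit 1758) (nat_lit 4496)
  (nat_lit 879) .nil)) (nat_lit 1764) (nat_lit 23088) (nat_lit 882) (.node (.node .nil (nat_lit 1768) (nat_lit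
  22193) (nat_lit 1680) .nil) (nat_lit 1773) (nat_lit 6464) (nat_lit 3404) .nil)) (nat_lit 1774) (nat_lit
  12369) (nat_lit 2322) (.node (.node (.node .nil (nat_lit 1776) (nat_lit 8625) (nat_lit 371) .nil) (nat_lit
  1781) (nat_lit 19729) (nat_lit 3722) (.node .nil (nat_lit 1782) (nat_lit 26432) (nat_lit 891) .nil))
  (nat_lit 1785) (nat_lit 17809) (nat_lit 3318) (.node (.node .nil (nat_lit 1786) (nat_lit 22977) (nat_lit
  3213) .nil) (nat_lit 1788) (nat_lit 14145) (nat_lit 783) .nil))) (nat_lit 1791) (nat_lit 22929) (nat_lit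
  884) (.node (.node (.node (.node .nil (nat_lit 1793) (nat_lit 27232) (nat_lit 3514) .nil) (nat_lit 1794)
  (nat_lit 4528) (nat_lit 897) (.node .nil (nat_lit 1796) (nat_lit 9585) (nat_lit 3558) .nil)) (nat_lit 1799)
  (nat_lit 13472) (nat_lit 3513) (.node (.node .nil (nat_lit 1800) (nat_lit 22080) (nat_lit 900) .nil)
  (nat_lit 1803) (nat_lit 8593) (nat_lit 4065) .nil)) (nat_lit 1805) (nat_lit 23984) (nat_lit 3516) (.node
  (.node (.node .nil (nat_lit 1808) (nat_lit 1249) (nat_lit 2169) .nil) (nat_lit 1813) (nat_lit 15520)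
  (nat_lit 3504) .nil) (nat_lit 1814) (nat_lit 13073) (nat_lit 2043) (.node (.node .nil (nat_lit 1817)
  (nat_lit 18896) (nat_lit 3510) .nil) (nat_lit 1818) (nat_lit 321) (nat_lit 1415) .nil))))))
def tS_7 : T := (.node (.node (.node (.node (.node (.node (.node .nil (nat_lit 1823) (nat_lit 26912) (nat_lit
  3509) .nil) (nat_lit 1824) (nat_lit 9937) (nat_lit 2361) (.node .nil (nat_lit 1827) (nat_lit 13536) (nat_lit
  3499) .nil)) (nat_lit 1829) (nat_lit 13089) (nat_lit 1728) (.node (.node .nil (nat_lit 1830) (nat_lit 26817)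
  (nat_lit 1723) .nil) (nat_lit 1833) (nat_lit 4241) (nat_lit 1212) .nil)) (nat_lit 1834) (nat_lit 12049)
  (nat_lit 1223) (.node (.node (.node .nil (nat_lit 1836) (nat_lit 15745) (nat_lit 2885) .nil) (nat_lit 1839)
  (nat_lit 17169) (nat_lit 2878) (.node .nil (nat_lit 1841) (nat_lit 20465) (nat_lit 863) .nil)) (nat_lit
  1842) (nat_lit 15216) (nat_lit 921) (.node (.node .nil (nat_lit 1847) (nat_lit 16) (nat_lit 3489) .nil)
  (nat_lit 1848) (nat_lit 7665) (nat_lit 3802) .nil))) (nat_lit 1851) (nat_lit 13121) (nat_lit 3745) (.node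
  (.node (.node (.node .nil (nat_lit 1853) (nat_lit 21424) (nat_lit 3492) .nil) (nat_lit 1854) (nat_lit 3313)
  (nat_lit 344) (.node .nil (nat_lit 1856) (nat_lit 2865) (nat_lit 3449) .nil)) (nat_lit 1859) (nat_lit 23905)
  (nat_lit 3330) (.node (.node .nil (nat_lit 1862) (nat_lit 21089) (nat_lit 763) .nil) (nat_lit 1865) (nat_lit
  28192) (nat_lit 3486) .nil)) (nat_lit 1866) (nat_lit 8945) (nat_lit 135) (.node (.node (.node .nil (nat_lit
  1868) (nat_lit 16561) (nat_lit 3845) .nil) (nat_lit 1871) (nat_lit 21824) (nat_lit 3485) (.node .nil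
  (nat_lit 1873) (nat_lit 28160) (nat_lit 3474) .nil)) (nat_lit 1874) (nat_lit 25408) (nat_lit 937) (.node
  (.node .nil (nat_lit 1876) (nat_lit 10096) (nat_lit 938) .nil) (nat_lit 1879) (nat_lit 3584) (nat_lit 3473)
  .nil)))) (nat_lit 1880) (nat_lit 12752) (nat_lit 940) (.node (.node (.node (.node (.node .nil (nat_lit 1883)
  (nat_lit 176) (nat_lit 3479) .nil) (nat_lit 1885) (nat_lit 18336) (nat_lit 3476) (.node .nil (nat_lit 1886)
  (nat_lit 23424) (nat_lit 943) .nil)) (nat_lit 1889) (nat_lit 2401) (nat_lit 1631) (.node (.node .nil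
  (nat_lit 1890) (nat_lit 2688) (nat_lit 945) .nil) (nat_lit 1892) (nat_lit 27025) (nat_lit 2470) .nil))
  (nat_lit 1895) (nat_lit 23808) (nat_lit 3465) (.node (.node (.node .nil (nat_lit 1899) (nat_lit 13041)
  (nat_lit 2977) .nil) (nat_lit 1901) (nat_lit 19025) (nat_lit 1059) (.node .nil (nat_lit 1902) (nat_lit
  14672) (nat_lit 951) .nil)) (nat_lit 1904) (nat_lit 26336) (nat_lit 952) (.node (.node .nil (nat_lit 1907)
  (nat_lit 3888) (nat_lit 3459) .nil) (nat_lit 1909) (nat_lit 25185) (nat_lit 960) .nil))) (nat_lit 1910)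
  (nat_lit 23600) (nat_lit 955) (.node (.node (.node (.node .nil (nat_lit 1913) (nat_lit 1504) (nat_lit 3462)
  .nil) (nat_lit 1914) (nat_lit 24832) (nat_lit 957) (.node .nil (nat_lit 1916) (nat_lit 28320) (nat_lit 958)
  .nil)) (nat_lit 1920) (nat_lit 24273) (nat_lit 1074) (.node (.node .nil (nat_lit 1923) (nat_lit 18752)
  (nat_lit 3579) .nil) (nat_lit 1925) (nat_lit 25504) (nat_lit 3576) .nil)) (nat_lit 1926) (nat_lit 19745)
  (nat_lit 2992) (.node (.node (.node .nil (nat_lit 1930) (nat_lit 20096) (nat_lit 965) .nil) (nat_lit 1932)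
  (nat_lit 1057) (nat_lit 1614) .nil) (nat_lit 1935) (nat_lit 6432) (nat_lit 3581) (.node (.node .nil (nat_lit
  1937) (nat_lit 7264) (nat_lit 3570) .nil) (nat_lit 1938) (nat_lit 22049) (nat_lit 3631) .nil))))) (nat_lit
  1943) (nat_lit 7249) (nat_lit 470) (.node (.node (.node (.node (.node (.node .nil (nat_lit 1944) (nat_lit
  5088) (nat_lit 972) .nil) (nat_lit 1947) (nat_lit 10113) (nat_lit 938) (.node .nil (nat_lit 1949) (nat_lit
  18080) (nat_lit 3572) .nil)) (nat_lit 1950) (nat_lit 336) (nat_lit 975) (.node (.node .nil (nat_lit 1953)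
  (nat_lit 11057) (nat_lit 3860) .nil) (nat_lit 1954) (nat_lit 20033) (nat_lit 3951) .nil)) (nat_lit 1959)
  (nat_lit 15024) (nat_lit 3561) (.node (.node (.node .nil (nat_lit 1960) (nat_lit 20336) (nat_lit 980) .nil)
  (nat_lit 1963) (nat_lit 13856) (nat_lit 3567) (.node .nil (nat_lit 1965) (nat_lit 22689) (nat_lit 3432)
  .nil)) (nat_lit 1966) (nat_lit 13792) (nat_lit 983) (.node (.node .nil (nat_lit 1971) (nat_lit 14800)
  (nat_lit 3555) .nil) (nat_lit 1977) (nat_lit 9568) (nat_lit 3558) .nil))) (nat_lit 1978) (nat_lit 11265)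
  (nat_lit 2188) (.node (.node (.node (.node .nil (nat_lit 1983) (nat_lit 27312) (nat_lit 3557) .nil) (nat_lit
  1985) (nat_lit 21329) (nat_lit 2900) (.node .nil (nat_lit 1986) (nat_lit 10608) (nat_lit 993) .nil))
  (nat_lit 1988) (nat_lit 3088) (nat_lit 994) (.node (.node .nil (nat_lit 1991) (nat_lit 9217) (nat_lit 1238)
  .nil) (nat_lit 1992) (nat_lit 4480) (nat_lit 996) .nil)) (nat_lit 1995) (nat_lit 18401) (nat_lit 1706)
  (.node (.node (.node .nil (nat_lit 1997) (nat_lit 6096) (nat_lit 3548) .nil) (nat_lit 1998) (nat_lit 6545)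
  (nat_lit 2387) (.node .nil (nat_lit 2000) (nat_lit 7152) (nat_lit 1000) .nil)) (nat_lit 2003) (nat_lit
  23201) (nat_lit 329) (.node (.node .nil (nat_lit 2005) (nat_lit 9600) (nat_lit 3536) .nil) (nat_lit 2006)
  (nat_lit 22208) (nat_lit 1003) .nil)))) (nat_lit 2009) (nat_lit 9360) (nat_lit 3542) (.node (.node (.node
  (.node (.node .nil (nat_lit 2012) (nat_lit 20881) (nat_lit 846) .nil) (nat_lit 2015) (nat_lit 15184)
  (nat_lit 3541) (.node .nil (nat_lit 2016) (nat_lit 20896) (nat_lit 1008) .nil)) (nat_lit 2021) (nat_lit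
  21232) (nat_lit 3528) (.node (.node .nil (nat_lit 2022) (nat_lit 17088) (nat_lit 1011) .nil) (nat_lit 2025)
  (nat_lit 25633) (nat_lit 3575) .nil)) (nat_lit 2026) (nat_lit 3952) (nat_lit 1013) (.node (.node (.node .nil
  (nat_lit 2028) (nat_lit 9696) (nat_lit 1014) .nil) (nat_lit 2031) (nat_lit 7392) (nat_lit 3533) (.node .nil
  (nat_lit 2033) (nat_lit 15601) (nat_lit 2580) .nil)) (nat_lit 2034) (nat_lit 3009) (nat_lit 2671) (.node
  (.node .nil (nat_lit 2039) (nat_lit 1681) (nat_lit 1430) .nil) (nat_lit 2040) (nat_lit 12801) (nat_lit 1937)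
  .nil))) (nat_lit 2043) (nat_lit 7457) (nat_lit 2026) (.node (.node (.node (.node .nil (nat_lit 2045)
  (nat_lit 20944) (nat_lit 3524) .nil) (nat_lit 2046) (nat_lit 9073) (nat_lit 2067) (.node .nil (nat_lit 2055)
  (nat_lit 23120) (nat_lit 1593) .nil)) (nat_lit 2059) (nat_lit 27217) (nat_lit 2797) (.node (.node .nil
  (nat_lit 2061) (nat_lit 13457) (nat_lit 1391) .nil) (nat_lit 2062) (nat_lit 27152) (nat_lit 2055) .nil))
  (nat_lit 2067) (nat_lit 4896) (nat_lit 1587) (.node (.node (.node .nil (nat_lit 2069) (nat_lit 3360)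
  (nat_lit 1584) .nil) (nat_lit 2070) (nat_lit 25457) (nat_lit 759) .nil) (nat_lit 2073) (nat_lit 24304)
  (nat_lit 1590) (.node (.node .nil (nat_lit 2074) (nat_lit 20288) (nat_lit 2061) .nil) (nat_lit 2076)
  (nat_lit 12385) (nat_lit 3849) .nil))))))
def tS_8 : T := (.node (.node (.node (.node (.node (.node (.node .nil (nat_lit 2083) (nat_lit 20113) (nat_lit
  3150) .nil) (nat_lit 2085) (nat_lit 5105) (nat_lit 972) (.node .nil (nat_lit 2086) (nat_lit 9056) (nat_lit
  2067) .nil)) (nat_lit 2089) (nat_lit 10945) (nat_lit 432) (.node (.node .nil (nat_lit 2090) (nat_lit 6368)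
  (nat_lit 2069) .nil) (nat_lit 2092) (nat_lit 23009) (nat_lit 3657) .nil)) (nat_lit 2097) (nat_lit 28065)
  (nat_lit 1619) (.node (.node (.node .nil (nat_lit 2098) (nat_lit 20145) (nat_lit 1576) .nil) (nat_lit 2100)
  (nat_lit 24913) (nat_lit 2474) (.node .nil (nat_lit 2103) (nat_lit 4256) (nat_lit 1569) .nil)) (nat_lit
  2104) (nat_lit 18273) (nat_lit 3030) (.node (.node .nil (nat_lit 2107) (nat_lit 11136) (nat_lit 1575) .nil)
  (nat_lit 2109) (nat_lit 6833) (nat_lit 1071) .nil))) (nat_lit 2110) (nat_lit 22481) (nat_lit 1108) (.node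
  (.node (.node (.node .nil (nat_lit 2115) (nat_lit 25712) (nat_lit 1563) .nil) (nat_lit 2117) (nat_lit 2129)
  (nat_lit 1932) (.node .nil (nat_lit 2118) (nat_lit 3281) (nat_lit 2039) .nil)) (nat_lit 2121) (nat_lit
  18144) (nat_lit 1566) (.node (.node .nil (nat_lit 2122) (nat_lit 9408) (nat_lit 2085) .nil) (nat_lit 2124)
  (nat_lit 11345) (nat_lit 2569) .nil)) (nat_lit 2127) (nat_lit 5377) (nat_lit 2674) (.node (.node (.node .nil
  (nat_lit 2129) (nat_lit 19504) (nat_lit 1554) .nil) (nat_lit 2130) (nat_lit 17504) (nat_lit 2089) (.node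
  .nil (nat_lit 2132) (nat_lit 11472) (nat_lit 2090) .nil)) (nat_lit 2135) (nat_lit 3601) (nat_lit 3473)
  (.node (.node .nil (nat_lit 2136) (nat_lit 27088) (nat_lit 2092) .nil) (nat_lit 2139) (nat_lit 16753)
  (nat_lit 4077) .nil)))) (nat_lit 2141) (nat_lit 1952) (nat_lit 1556) (.node (.node (.node (.node (.node .nil
  (nat_lit 2145) (nat_lit 2833) (nat_lit 851) .nil) (nat_lit 2146) (nat_lit 14737) (nat_lit 808) (.node .nil
  (nat_lit 2148) (nat_lit 8865) (nat_lit 3242) .nil)) (nat_lit 2151) (nat_lit 25089) (nat_lit 3281) (.node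
  (.node .nil (nat_lit 2152) (nat_lit 24561) (nat_lit 3798) .nil) (nat_lit 2155) (nat_lit 28176) (nat_lit
  1551) .nil)) (nat_lit 2157) (nat_lit 1121) (nat_lit 303) (.node (.node (.node .nil (nat_lit 2158) (nat_lit
  7968) (nat_lit 2103) .nil) (nat_lit 2160) (nat_lit 24544) (nat_lit 2104) (.node .nil (nat_lit 2163) (nat_lit
  24336) (nat_lit 1539) .nil)) (nat_lit 2166) (nat_lit 17776) (nat_lit 2107) (.node (.node .nil (nat_lit 2169)
  (nat_lit 609) (nat_lit 1200) .nil) (nat_lit 2170) (nat_lit 12240) (nat_lit 2109) .nil))) (nat_lit 2172)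
  (nat_lit 1393) (nat_lit 2889) (.node (.node (.node (.node .nil (nat_lit 2175) (nat_lit 28257) (nat_lit 2866)
  .nil) (nat_lit 2179) (nat_lit 25600) (nat_lit 1659) (.node .nil (nat_lit 2181) (nat_lit 3665) (nat_lit 3783)
  .nil)) (nat_lit 2182) (nat_lit 27553) (nat_lit 3772) (.node (.node .nil (nat_lit 2185) (nat_lit 3680)
  (nat_lit 1662) .nil) (nat_lit 2186) (nat_lit 4096) (nat_lit 2117) .nil)) (nat_lit 2188) (nat_lit 6224)
  (nat_lit 2118) (.node (.node (.node .nil (nat_lit 2191) (nat_lit 1632) (nat_lit 1661) .nil) (nat_lit 2193)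
  (nat_lit 25696) (nat_lit 1650) (.node .nil (nat_lit 2194) (nat_lit 24480) (nat_lit 2121) .nil)) (nat_lit
  2196) (nat_lit 15776) (nat_lit 2122) (.node (.node .nil (nat_lit 2199) (nat_lit 23969) (nat_lit 1242) .nil)
  (nat_lit 2200) (nat_lit 18032) (nat_lit 2124) .nil))))) (nat_lit 2203) (nat_lit 5409) (nat_lit 1702) (.node
  (.node (.node (.node (.node (.node .nil (nat_lit 2205) (nat_lit 25968) (nat_lit 1652) .nil) (nat_lit 2206)
  (nat_lit 9904) (nat_lit 2127) (.node .nil (nat_lit 2209) (nat_lit 14849) (nat_lit 2584) .nil)) (nat_lit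
  2210) (nat_lit 4577) (nat_lit 2659) (.node (.node .nil (nat_lit 2212) (nat_lit 24016) (nat_lit 2130) .nil)
  (nat_lit 2215) (nat_lit 13569) (nat_lit 1434) .nil)) (nat_lit 2216) (nat_lit 18176) (nat_lit 2132) (.node
  (.node (.node .nil (nat_lit 2219) (nat_lit 13664) (nat_lit 1647) .nil) (nat_lit 2221) (nat_lit 14977)
  (nat_lit 2148) (.node .nil (nat_lit 2222) (nat_lit 6784) (nat_lit 2135) .nil)) (nat_lit 2224) (nat_lit
  28208) (nat_lit 2136) (.node (.node .nil (nat_lit 2229) (nat_lit 21265) (nat_lit 3975) .nil) (nat_lit 2230)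
  (nat_lit 1313) (nat_lit 4092) .nil))) (nat_lit 2233) (nat_lit 16256) (nat_lit 1638) (.node (.node (.node
  (.node .nil (nat_lit 2234) (nat_lit 3776) (nat_lit 2141) .nil) (nat_lit 2239) (nat_lit 19233) (nat_lit 633)
  (.node .nil (nat_lit 2241) (nat_lit 21409) (nat_lit 3672) .nil)) (nat_lit 2242) (nat_lit 5424) (nat_lit
  2145) (.node (.node .nil (nat_lit 2244) (nat_lit 21696) (nat_lit 2146) .nil) (nat_lit 2248) (nat_lit 14960)
  (nat_lit 2148) .nil)) (nat_lit 2251) (nat_lit 2384) (nat_lit 1631) (.node (.node (.node .nil (nat_lit 2253)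
  (nat_lit 10833) (nat_lit 3108) .nil) (nat_lit 2254) (nat_lit 24769) (nat_lit 3167) (.node .nil (nat_lit
  2256) (nat_lit 18369) (nat_lit 1086) .nil)) (nat_lit 2259) (nat_lit 22337) (nat_lit 1093) (.node (.node .nil
  (nat_lit 2261) (nat_lit 12000) (nat_lit 1616) .nil) (nat_lit 2262) (nat_lit 16897) (nat_lit 3004) .nil))))
  (nat_lit 2266) (nat_lit 2224) (nat_lit 2157) (.node (.node (.node (.node (.node .nil (nat_lit 2268) (nat_lit
  13760) (nat_lit 2158) .nil) (nat_lit 2271) (nat_lit 8400) (nat_lit 1621) (.node .nil (nat_lit 2272) (nat_lit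
  5825) (nat_lit 1406) .nil)) (nat_lit 2275) (nat_lit 18800) (nat_lit 1611) (.node (.node .nil (nat_lit 2277)
  (nat_lit 5665) (nat_lit 2695) .nil) (nat_lit 2278) (nat_lit 19681) (nat_lit 2812) .nil)) (nat_lit 2281)
  (nat_lit 1040) (nat_lit 1614) (.node (.node (.node .nil (nat_lit 2284) (nat_lit 8385) (nat_lit 1794) .nil)
  (nat_lit 2287) (nat_lit 2977) (nat_lit 1913) (.node .nil (nat_lit 2289) (nat_lit 16305) (nat_lit 3864)
  .nil)) (nat_lit 2290) (nat_lit 1232) (nat_lit 2169) (.node (.node .nil (nat_lit 2292) (nat_lit 19040)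
  (nat_lit 2170) .nil) (nat_lit 2295) (nat_lit 15904) (nat_lit 1601) .nil))) (nat_lit 2296) (nat_lit 2752)
  (nat_lit 2172) (.node (.node (.node (.node .nil (nat_lit 2299) (nat_lit 2928) (nat_lit 1607) .nil) (nat_lit
  2301) (nat_lit 897) (nat_lit 3428) (.node .nil (nat_lit 2302) (nat_lit 28273) (nat_lit 3359) .nil)) (nat_lit
  2307) (nat_lit 23921) (nat_lit 3087) (.node (.node .nil (nat_lit 2309) (nat_lit 2577) (nat_lit 909) .nil)
  (nat_lit 2310) (nat_lit 9713) (nat_lit 1014) .nil)) (nat_lit 2313) (nat_lit 1585) (nat_lit 497) (.node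
  (.node (.node .nil (nat_lit 2314) (nat_lit 6912) (nat_lit 2181) .nil) (nat_lit 2316) (nat_lit 12097)
  (nat_lit 3592) .nil) (nat_lit 2319) (nat_lit 1760) (nat_lit 1725) (.node (.node .nil (nat_lit 2321) (nat_lit
  19521) (nat_lit 1554) .nil) (nat_lit 2322) (nat_lit 6928) (nat_lit 2185) .nil))))))
def tS_9 : T := (.node (.node (.node (.node (.node (.node (.node .nil (nat_lit 2327) (nat_lit 18560) (nat_lit
  1713) .nil) (nat_lit 2328) (nat_lit 8353) (nat_lit 2967) (.node .nil (nat_lit 2331) (nat_lit 16785) (nat_lit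
  3052) .nil)) (nat_lit 2334) (nat_lit 3184) (nat_lit 2191) (.node (.node .nil (nat_lit 2337) (nat_lit 18384)
  (nat_lit 1706) .nil) (nat_lit 2338) (nat_lit 7953) (nat_lit 1833) .nil)) (nat_lit 2340) (nat_lit 20545)
  (nat_lit 2219) (.node (.node (.node .nil (nat_lit 2343) (nat_lit 16800) (nat_lit 1705) .nil) (nat_lit 2344)
  (nat_lit 22704) (nat_lit 2196) (.node .nil (nat_lit 2347) (nat_lit 4128) (nat_lit 1711) .nil)) (nat_lit
  2349) (nat_lit 12544) (nat_lit 1708) (.node (.node .nil (nat_lit 2350) (nat_lit 27456) (nat_lit 2199) .nil)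
  (nat_lit 2352) (nat_lit 24384) (nat_lit 2200) .nil))) (nat_lit 2357) (nat_lit 24176) (nat_lit 1696) (.node
  (.node (.node (.node .nil (nat_lit 2358) (nat_lit 9952) (nat_lit 2203) .nil) (nat_lit 2361) (nat_lit 5392)
  (nat_lit 1702) (.node .nil (nat_lit 2362) (nat_lit 24961) (nat_lit 202) .nil)) (nat_lit 2364) (nat_lit
  13249) (nat_lit 3912) (.node (.node .nil (nat_lit 2367) (nat_lit 26129) (nat_lit 3891) .nil) (nat_lit 2369)
  (nat_lit 23936) (nat_lit 1690) .nil)) (nat_lit 2370) (nat_lit 10241) (nat_lit 873) (.node (.node (.node .nil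
  (nat_lit 2372) (nat_lit 8464) (nat_lit 2210) .nil) (nat_lit 2375) (nat_lit 5024) (nat_lit 1689) (.node .nil
  (nat_lit 2376) (nat_lit 9345) (nat_lit 3735) .nil)) (nat_lit 2381) (nat_lit 16945) (nat_lit 366) (.node
  (.node .nil (nat_lit 2382) (nat_lit 20400) (nat_lit 2215) .nil) (nat_lit 2384) (nat_lit 12625) (nat_lit
  2420) .nil)))) (nat_lit 2387) (nat_lit 3441) (nat_lit 2319) (.node (.node (.node (.node (.node .nil (nat_lit
  2389) (nat_lit 22176) (nat_lit 1680) .nil) (nat_lit 2390) (nat_lit 20528) (nat_lit 2219) (.node .nil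
  (nat_lit 2393) (nat_lit 97) (nat_lit 1265) .nil)) (nat_lit 2394) (nat_lit 8977) (nat_lit 1162) (.node (.node
  .nil (nat_lit 2396) (nat_lit 4945) (nat_lit 2824) .nil) (nat_lit 2399) (nat_lit 26864) (nat_lit 1685) .nil))
  (nat_lit 2400) (nat_lit 27889) (nat_lit 2100) (.node (.node (.node .nil (nat_lit 2403) (nat_lit 9921)
  (nat_lit 2127) .nil) (nat_lit 2405) (nat_lit 11121) (nat_lit 1997) (.node .nil (nat_lit 2409) (nat_lit
  26401) (nat_lit 1457) .nil)) (nat_lit 2410) (nat_lit 25761) (nat_lit 1482) (.node (.node .nil (nat_lit 2412)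
  (nat_lit 2592) (nat_lit 2230) .nil) (nat_lit 2415) (nat_lit 18113) (nat_lit 2611) .nil))) (nat_lit 2417)
  (nat_lit 12288) (nat_lit 1666) (.node (.node (.node (.node .nil (nat_lit 2418) (nat_lit 12273) (nat_lit 553)
  .nil) (nat_lit 2420) (nat_lit 7120) (nat_lit 2234) (.node .nil (nat_lit 2423) (nat_lit 9617) (nat_lit 3536)
  .nil)) (nat_lit 2427) (nat_lit 5456) (nat_lit 1671) (.node (.node .nil (nat_lit 2429) (nat_lit 3328)
  (nat_lit 1668) .nil) (nat_lit 2430) (nat_lit 7313) (nat_lit 85) .nil)) (nat_lit 2433) (nat_lit 25665)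
  (nat_lit 2649) (.node (.node (.node .nil (nat_lit 2434) (nat_lit 26496) (nat_lit 2241) .nil) (nat_lit 2436)
  (nat_lit 9984) (nat_lit 2242) (.node .nil (nat_lit 2439) (nat_lit 13649) (nat_lit 1499) .nil)) (nat_lit
  2440) (nat_lit 26193) (nat_lit 2012) (.node (.node .nil (nat_lit 2443) (nat_lit 21937) (nat_lit 1959) .nil)
  (nat_lit 2445) (nat_lit 9425) (nat_lit 2085) .nil))))) (nat_lit 2448) (nat_lit 21872) (nat_lit 2248) (.node
  (.node (.node (.node (.node (.node .nil (nat_lit 2453) (nat_lit 14704) (nat_lit 1776) .nil) (nat_lit 2454)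
  (nat_lit 4592) (nat_lit 2251) (.node .nil (nat_lit 2457) (nat_lit 27249) (nat_lit 3514) .nil)) (nat_lit
  2458) (nat_lit 16673) (nat_lit 3521) (.node (.node .nil (nat_lit 2460) (nat_lit 737) (nat_lit 579) .nil)
  (nat_lit 2463) (nat_lit 25552) (nat_lit 1781) .nil)) (nat_lit 2464) (nat_lit 24672) (nat_lit 2256) (.node
  (.node (.node .nil (nat_lit 2469) (nat_lit 10801) (nat_lit 3718) .nil) (nat_lit 2470) (nat_lit 22833)
  (nat_lit 3837) (.node .nil (nat_lit 2473) (nat_lit 19200) (nat_lit 1774) .nil)) (nat_lit 2474) (nat_lit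
  18704) (nat_lit 2261) (.node (.node .nil (nat_lit 2476) (nat_lit 18481) (nat_lit 771) .nil) (nat_lit 2479)
  (nat_lit 11664) (nat_lit 1773) .nil))) (nat_lit 2484) (nat_lit 4288) (nat_lit 2266) (.node (.node (.node
  (.node .nil (nat_lit 2488) (nat_lit 20592) (nat_lit 2268) .nil) (nat_lit 2493) (nat_lit 17761) (nat_lit
  2405) (.node .nil (nat_lit 2494) (nat_lit 6081) (nat_lit 2334) .nil)) (nat_lit 2496) (nat_lit 10672)
  (nat_lit 2272) (.node (.node .nil (nat_lit 2499) (nat_lit 16065) (nat_lit 1348) .nil) (nat_lit 2501)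
  (nat_lit 19440) (nat_lit 1752) .nil)) (nat_lit 2502) (nat_lit 24944) (nat_lit 2275) (.node (.node (.node
  .nil (nat_lit 2505) (nat_lit 7137) (nat_lit 2234) .nil) (nat_lit 2506) (nat_lit 10400) (nat_lit 2277) (.node
  .nil (nat_lit 2508) (nat_lit 25536) (nat_lit 2278) .nil)) (nat_lit 2511) (nat_lit 13393) (nat_lit 1848)
  (.node (.node .nil (nat_lit 2513) (nat_lit 3249) (nat_lit 3929) .nil) (nat_lit 2514) (nat_lit 2080) (nat_lit
  2281) .nil)))) (nat_lit 2519) (nat_lit 8880) (nat_lit 1745) (.node (.node (.node (.node (.node .nil (nat_lit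
  2520) (nat_lit 7377) (nat_lit 732) .nil) (nat_lit 2523) (nat_lit 2273) (nat_lit 679) (.node .nil (nat_lit
  2525) (nat_lit 22768) (nat_lit 1748) .nil)) (nat_lit 2526) (nat_lit 5680) (nat_lit 2287) (.node (.node .nil
  (nat_lit 2529) (nat_lit 12960) (nat_lit 1738) .nil) (nat_lit 2530) (nat_lit 23072) (nat_lit 2289) .nil))
  (nat_lit 2532) (nat_lit 2448) (nat_lit 2290) (.node (.node (.node .nil (nat_lit 2535) (nat_lit 19361)
  (nat_lit 411) .nil) (nat_lit 2536) (nat_lit 25072) (nat_lit 2292) (.node .nil (nat_lit 2539) (nat_lit 26320)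
  (nat_lit 1743) .nil)) (nat_lit 2542) (nat_lit 15569) (nat_lit 3102) (.node (.node .nil (nat_lit 2544)
  (nat_lit 5264) (nat_lit 2296) .nil) (nat_lit 2549) (nat_lit 5985) (nat_lit 2950) .nil))) (nat_lit 2550)
  (nat_lit 5616) (nat_lit 2299) (.node (.node (.node (.node .nil (nat_lit 2553) (nat_lit 3505) (nat_lit 2554)
  .nil) (nat_lit 2554) (nat_lit 1792) (nat_lit 2301) (.node .nil (nat_lit 2556) (nat_lit 24353) (nat_lit 1539)
  .nil)) (nat_lit 2559) (nat_lit 18929) (nat_lit 1656) (.node (.node .nil (nat_lit 2563) (nat_lit 19984)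
  (nat_lit 1851) .nil) (nat_lit 2565) (nat_lit 13376) (nat_lit 1848) .nil)) (nat_lit 2566) (nat_lit 14657)
  (nat_lit 1091) (.node (.node (.node .nil (nat_lit 2569) (nat_lit 6272) (nat_lit 1854) .nil) (nat_lit 2570)
  (nat_lit 4960) (nat_lit 2309) .nil) (nat_lit 2572) (nat_lit 16160) (nat_lit 2310) (.node (.node .nil
  (nat_lit 2575) (nat_lit 26512) (nat_lit 1853) .nil) (nat_lit 2577) (nat_lit 14017) (nat_lit 423) .nil))))))
def tS_10 : T := (.node (.node (.node (.node (.node (.node (.node .nil (nat_lit 2580) (nat_lit 9265) (nat_lit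
  3678) .nil) (nat_lit 2583) (nat_lit 24225) (nat_lit 3621) (.node .nil (nat_lit 2584) (nat_lit 8769) (nat_lit
  3106) .nil)) (nat_lit 2587) (nat_lit 48) (nat_lit 1847) (.node (.node .nil (nat_lit 2590) (nat_lit 3424)
  (nat_lit 2319) .nil) (nat_lit 2593) (nat_lit 18768) (nat_lit 1834) .nil)) (nat_lit 2594) (nat_lit 25376)
  (nat_lit 2321) (.node (.node (.node .nil (nat_lit 2596) (nat_lit 4177) (nat_lit 3870) .nil) (nat_lit 2599)
  (nat_lit 7936) (nat_lit 1833) (.node .nil (nat_lit 2600) (nat_lit 13408) (nat_lit 2324) .nil)) (nat_lit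
  2603) (nat_lit 12321) (nat_lit 3353) (.node (.node .nil (nat_lit 2605) (nat_lit 22640) (nat_lit 1836) .nil)
  (nat_lit 2606) (nat_lit 19393) (nat_lit 736) .nil))) (nat_lit 2608) (nat_lit 14336) (nat_lit 2328) (.node
  (.node (.node (.node .nil (nat_lit 2611) (nat_lit 11393) (nat_lit 2810) .nil) (nat_lit 2613) (nat_lit 16416)
  (nat_lit 1824) (.node .nil (nat_lit 2614) (nat_lit 11457) (nat_lit 1283) .nil)) (nat_lit 2617) (nat_lit
  15985) (nat_lit 1796) (.node (.node .nil (nat_lit 2620) (nat_lit 1809) (nat_lit 2301) .nil) (nat_lit 2623)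
  (nat_lit 19920) (nat_lit 1829) .nil)) (nat_lit 2625) (nat_lit 656) (nat_lit 1818) (.node (.node (.node .nil
  (nat_lit 2626) (nat_lit 3937) (nat_lit 1244) .nil) (nat_lit 2628) (nat_lit 13728) (nat_lit 2338) (.node .nil
  (nat_lit 2631) (nat_lit 24992) (nat_lit 1817) .nil)) (nat_lit 2632) (nat_lit 13745) (nat_lit 2338) (.node
  (.node .nil (nat_lit 2635) (nat_lit 225) (nat_lit 2393) .nil) (nat_lit 2637) (nat_lit 24880) (nat_lit 1820)
  .nil)))) (nat_lit 2638) (nat_lit 23504) (nat_lit 2343) (.node (.node (.node (.node (.node .nil (nat_lit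
  2640) (nat_lit 15313) (nat_lit 3777) .nil) (nat_lit 2645) (nat_lit 2480) (nat_lit 1808) (.node .nil (nat_lit
  2646) (nat_lit 7760) (nat_lit 2347) .nil)) (nat_lit 2649) (nat_lit 19904) (nat_lit 1814) (.node (.node .nil
  (nat_lit 2650) (nat_lit 19328) (nat_lit 2349) .nil) (nat_lit 2652) (nat_lit 27505) (nat_lit 3261) .nil))
  (nat_lit 2655) (nat_lit 8449) (nat_lit 3270) (.node (.node (.node .nil (nat_lit 2656) (nat_lit 10273)
  (nat_lit 3969) .nil) (nat_lit 2659) (nat_lit 2369) (nat_lit 4090) (.node .nil (nat_lit 2661) (nat_lit 23233)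
  (nat_lit 120) .nil)) (nat_lit 2666) (nat_lit 10737) (nat_lit 639) (.node (.node .nil (nat_lit 2668) (nat_lit
  6449) (nat_lit 3581) .nil) (nat_lit 2671) (nat_lit 1521) (nat_lit 3462) .nil))) (nat_lit 2673) (nat_lit
  8368) (nat_lit 1794) (.node (.node (.node (.node .nil (nat_lit 2674) (nat_lit 2801) (nat_lit 1436) .nil)
  (nat_lit 2676) (nat_lit 6513) (nat_lit 2590) (.node .nil (nat_lit 2679) (nat_lit 27185) (nat_lit 2661)
  .nil)) (nat_lit 2680) (nat_lit 20080) (nat_lit 2364) (.node (.node .nil (nat_lit 2683) (nat_lit 20320)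
  (nat_lit 1799) .nil) (nat_lit 2685) (nat_lit 15968) (nat_lit 1796) .nil)) (nat_lit 2686) (nat_lit 26209)
  (nat_lit 2016) (.node (.node (.node .nil (nat_lit 2689) (nat_lit 23249) (nat_lit 3564) .nil) (nat_lit 2690)
  (nat_lit 193) (nat_lit 3479) (.node .nil (nat_lit 2692) (nat_lit 16704) (nat_lit 2370) .nil)) (nat_lit 2695)
  (nat_lit 2960) (nat_lit 1913) (.node (.node .nil (nat_lit 2696) (nat_lit 14480) (nat_lit 2372) .nil)
  (nat_lit 2701) (nat_lit 14785) (nat_lit 3984) .nil))))) (nat_lit 2702) (nat_lit 9280) (nat_lit 2375) (.node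
  (.node (.node (.node (.node (.node .nil (nat_lit 2704) (nat_lit 15712) (nat_lit 2376) .nil) (nat_lit 2707)
  (nat_lit 7328) (nat_lit 1907) (.node .nil (nat_lit 2709) (nat_lit 27649) (nat_lit 2163) .nil)) (nat_lit
  2713) (nat_lit 27328) (nat_lit 1910) (.node (.node .nil (nat_lit 2714) (nat_lit 11761) (nat_lit 2676) .nil)
  (nat_lit 2716) (nat_lit 21377) (nat_lit 1526) .nil)) (nat_lit 2719) (nat_lit 27936) (nat_lit 1909) (.node
  (.node (.node .nil (nat_lit 2720) (nat_lit 12977) (nat_lit 1738) .nil) (nat_lit 2723) (nat_lit 18577)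
  (nat_lit 1713) (.node .nil (nat_lit 2726) (nat_lit 6528) (nat_lit 2387) .nil)) (nat_lit 2729) (nat_lit
  21616) (nat_lit 1902) (.node (.node .nil (nat_lit 2730) (nat_lit 10177) (nat_lit 2868) .nil) (nat_lit 2732)
  (nat_lit 6897) (nat_lit 1206) .nil))) (nat_lit 2735) (nat_lit 25056) (nat_lit 1901) (.node (.node (.node
  (.node .nil (nat_lit 2737) (nat_lit 5168) (nat_lit 1890) .nil) (nat_lit 2738) (nat_lit 208) (nat_lit 2393)
  (.node .nil (nat_lit 2740) (nat_lit 11713) (nat_lit 853) .nil)) (nat_lit 2743) (nat_lit 4624) (nat_lit 1889)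
  (.node (.node .nil (nat_lit 2744) (nat_lit 9136) (nat_lit 2396) .nil) (nat_lit 2747) (nat_lit 27424)
  (nat_lit 1895) .nil)) (nat_lit 2749) (nat_lit 20705) (nat_lit 3792) (.node (.node (.node .nil (nat_lit 2750)
  (nat_lit 20273) (nat_lit 3755) .nil) (nat_lit 2752) (nat_lit 28305) (nat_lit 650) (.node .nil (nat_lit 2755)
  (nat_lit 368) (nat_lit 1883) .nil)) (nat_lit 2757) (nat_lit 19584) (nat_lit 1880) (.node (.node .nil
  (nat_lit 2758) (nat_lit 16400) (nat_lit 2403) .nil) (nat_lit 2761) (nat_lit 21665) (nat_lit 3855) .nil))))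
  (nat_lit 2762) (nat_lit 17744) (nat_lit 2405) (.node (.node (.node (.node (.node .nil (nat_lit 2767)
  (nat_lit 24640) (nat_lit 1885) .nil) (nat_lit 2769) (nat_lit 14369) (nat_lit 2284) (.node .nil (nat_lit
  2770) (nat_lit 27473) (nat_lit 2199) .nil)) (nat_lit 2772) (nat_lit 22513) (nat_lit 1813) (.node (.node .nil
  (nat_lit 2775) (nat_lit 21633) (nat_lit 1902) .nil) (nat_lit 2776) (nat_lit 4992) (nat_lit 2412) .nil))
  (nat_lit 2779) (nat_lit 6752) (nat_lit 1879) (.node (.node (.node .nil (nat_lit 2781) (nat_lit 16576)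
  (nat_lit 1876) .nil) (nat_lit 2782) (nat_lit 24432) (nat_lit 2415) (.node .nil (nat_lit 2785) (nat_lit
  15088) (nat_lit 1866) .nil)) (nat_lit 2786) (nat_lit 15009) (nat_lit 2519) (.node (.node .nil (nat_lit 2788)
  (nat_lit 8417) (nat_lit 1621) .nil) (nat_lit 2791) (nat_lit 13633) (nat_lit 1582) .nil))) (nat_lit 2792)
  (nat_lit 12608) (nat_lit 2420) (.node (.node (.node (.node .nil (nat_lit 2795) (nat_lit 19089) (nat_lit
  1106) .nil) (nat_lit 2797) (nat_lit 23312) (nat_lit 1868) (.node .nil (nat_lit 2798) (nat_lit 8705) (nat_lit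
  2987) .nil)) (nat_lit 2803) (nat_lit 2705) (nat_lit 945) (.node (.node .nil (nat_lit 2805) (nat_lit 5488)
  (nat_lit 1856) .nil) (nat_lit 2806) (nat_lit 10016) (nat_lit 2427) .nil)) (nat_lit 2809) (nat_lit 2001)
  (nat_lit 3663) (.node (.node (.node .nil (nat_lit 2810) (nat_lit 6304) (nat_lit 2429) .nil) (nat_lit 2812)
  (nat_lit 12848) (nat_lit 2430) .nil) (nat_lit 2817) (nat_lit 8673) (nat_lit 166) (.node (.node .nil (nat_lit
  2818) (nat_lit 9681) (nat_lit 221) .nil) (nat_lit 2820) (nat_lit 3569) (nat_lit 3935) .nil))))))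
def tS_11 : T := (.node (.node (.node (.node (.node (.node (.node .nil (nat_lit 2824) (nat_lit 2561) (nat_lit
  3363) .nil) (nat_lit 2827) (nat_lit 19169) (nat_lit 3416) (.node .nil (nat_lit 2830) (nat_lit 20496)
  (nat_lit 2439) .nil)) (nat_lit 2832) (nat_lit 28144) (nat_lit 2440) (.node (.node .nil (nat_lit 2835)
  (nat_lit 21712) (nat_lit 1971) .nil) (nat_lit 2838) (nat_lit 26736) (nat_lit 2443) .nil)) (nat_lit 2842)
  (nat_lit 6289) (nat_lit 1854) (.node (.node (.node .nil (nat_lit 2848) (nat_lit 23761) (nat_lit 2944) .nil)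
  (nat_lit 2851) (nat_lit 20736) (nat_lit 1963) (.node .nil (nat_lit 2853) (nat_lit 25920) (nat_lit 1960)
  .nil)) (nat_lit 2857) (nat_lit 20640) (nat_lit 1966) (.node (.node .nil (nat_lit 2858) (nat_lit 3697)
  (nat_lit 1662) .nil) (nat_lit 2860) (nat_lit 8480) (nat_lit 2454) .nil))) (nat_lit 2863) (nat_lit 20513)
  (nat_lit 2439) (.node (.node (.node (.node .nil (nat_lit 2865) (nat_lit 10705) (nat_lit 486) .nil) (nat_lit
  2866) (nat_lit 27361) (nat_lit 413) (.node .nil (nat_lit 2868) (nat_lit 5537) (nat_lit 3615) .nil)) (nat_lit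
  2871) (nat_lit 17632) (nat_lit 1953) (.node (.node .nil (nat_lit 2872) (nat_lit 1472) (nat_lit 2460) .nil)
  (nat_lit 2875) (nat_lit 15345) (nat_lit 3096) .nil)) (nat_lit 2878) (nat_lit 10625) (nat_lit 993) (.node
  (.node (.node .nil (nat_lit 2880) (nat_lit 2065) (nat_lit 4032) .nil) (nat_lit 2883) (nat_lit 13217)
  (nat_lit 4027) (.node .nil (nat_lit 2885) (nat_lit 9376) (nat_lit 1944) .nil)) (nat_lit 2889) (nat_lit 688)
  (nat_lit 1950) (.node (.node .nil (nat_lit 2890) (nat_lit 17328) (nat_lit 2469) .nil) (nat_lit 2892)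
  (nat_lit 24001) (nat_lit 3516) .nil)))) (nat_lit 2895) (nat_lit 24416) (nat_lit 1949) (.node (.node (.node
  (.node (.node .nil (nat_lit 2897) (nat_lit 26768) (nat_lit 1938) .nil) (nat_lit 2898) (nat_lit 25041)
  (nat_lit 1501) (.node .nil (nat_lit 2900) (nat_lit 14465) (nat_lit 2655) .nil)) (nat_lit 2903) (nat_lit
  7841) (nat_lit 2596) (.node (.node .nil (nat_lit 2904) (nat_lit 24752) (nat_lit 2476) .nil) (nat_lit 2907)
  (nat_lit 12768) (nat_lit 1943) .nil)) (nat_lit 2910) (nat_lit 17649) (nat_lit 1953) (.node (.node (.node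
  .nil (nat_lit 2913) (nat_lit 7745) (nat_lit 1254) .nil) (nat_lit 2920) (nat_lit 8032) (nat_lit 2484) (.node
  .nil (nat_lit 2923) (nat_lit 11600) (nat_lit 1935) .nil)) (nat_lit 2925) (nat_lit 2112) (nat_lit 1932)
  (.node (.node .nil (nat_lit 2928) (nat_lit 7521) (nat_lit 3712) .nil) (nat_lit 2931) (nat_lit 24928)
  (nat_lit 1923) .nil))) (nat_lit 2933) (nat_lit 17313) (nat_lit 377) (.node (.node (.node (.node .nil
  (nat_lit 2937) (nat_lit 24401) (nat_lit 773) .nil) (nat_lit 2938) (nat_lit 24160) (nat_lit 2493) (.node .nil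
  (nat_lit 2940) (nat_lit 11072) (nat_lit 2494) .nil)) (nat_lit 2943) (nat_lit 27968) (nat_lit 1925) (.node
  (.node .nil (nat_lit 2944) (nat_lit 17200) (nat_lit 2496) .nil) (nat_lit 2947) (nat_lit 13056) (nat_lit
  2043) .nil)) (nat_lit 2949) (nat_lit 19105) (nat_lit 2418) (.node (.node (.node .nil (nat_lit 2950) (nat_lit
  3121) (nat_lit 2313) .nil) (nat_lit 2953) (nat_lit 15264) (nat_lit 2046) .nil) (nat_lit 2954) (nat_lit
  23857) (nat_lit 2933) (.node (.node .nil (nat_lit 2956) (nat_lit 24593) (nat_lit 1271) .nil) (nat_lit 2959)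
  (nat_lit 1089) (nat_lit 1164) .nil))))) (nat_lit 2961) (nat_lit 5744) (nat_lit 2034) (.node (.node (.node
  (.node (.node (.node .nil (nat_lit 2962) (nat_lit 961) (nat_lit 3222) .nil) (nat_lit 2964) (nat_lit 16880)
  (nat_lit 2506) (.node .nil (nat_lit 2967) (nat_lit 4513) (nat_lit 879) .nil)) (nat_lit 2968) (nat_lit 16097)
  (nat_lit 360) (.node (.node .nil (nat_lit 2971) (nat_lit 3264) (nat_lit 2039) .nil) (nat_lit 2974) (nat_lit
  20192) (nat_lit 2511) .nil)) (nat_lit 2977) (nat_lit 7440) (nat_lit 2026) (.node (.node (.node .nil (nat_lit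
  2978) (nat_lit 6176) (nat_lit 2513) .nil) (nat_lit 2980) (nat_lit 4016) (nat_lit 2514) (.node .nil (nat_lit
  2983) (nat_lit 6577) (nat_lit 559) .nil)) (nat_lit 2987) (nat_lit 4705) (nat_lit 83) (.node (.node .nil
  (nat_lit 2989) (nat_lit 8017) (nat_lit 4049) .nil) (nat_lit 2990) (nat_lit 14992) (nat_lit 2519) .nil)))
  (nat_lit 2992) (nat_lit 12928) (nat_lit 2520) (.node (.node (.node (.node .nil (nat_lit 2997) (nat_lit
  25793) (nat_lit 2098) .nil) (nat_lit 2998) (nat_lit 4384) (nat_lit 2523) (.node .nil (nat_lit 3001) (nat_lit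
  23712) (nat_lit 2022) .nil)) (nat_lit 3002) (nat_lit 23153) (nat_lit 2613) (.node (.node .nil (nat_lit 3004)
  (nat_lit 10432) (nat_lit 2526) .nil) (nat_lit 3007) (nat_lit 10305) (nat_lit 1484) .nil)) (nat_lit 3010)
  (nat_lit 8497) (nat_lit 2454) (.node (.node (.node .nil (nat_lit 3012) (nat_lit 1969) (nat_lit 1556) .nil)
  (nat_lit 3015) (nat_lit 13681) (nat_lit 1647) (.node .nil (nat_lit 3016) (nat_lit 4720) (nat_lit 2532)
  .nil)) (nat_lit 3019) (nat_lit 22112) (nat_lit 2015) (.node (.node .nil (nat_lit 3021) (nat_lit 10545)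
  (nat_lit 2961) .nil) (nat_lit 3022) (nat_lit 17457) (nat_lit 3050) .nil)))) (nat_lit 3024) (nat_lit 23281)
  (nat_lit 907) (.node (.node (.node (.node (.node .nil (nat_lit 3027) (nat_lit 20913) (nat_lit 1008) .nil)
  (nat_lit 3029) (nat_lit 12656) (nat_lit 2000) (.node .nil (nat_lit 3030) (nat_lit 11585) (nat_lit 3081)
  .nil)) (nat_lit 3033) (nat_lit 12497) (nat_lit 3598) (.node (.node .nil (nat_lit 3036) (nat_lit 22289)
  (nat_lit 503) .nil) (nat_lit 3039) (nat_lit 16000) (nat_lit 2005) .nil)) (nat_lit 3040) (nat_lit 6705)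
  (nat_lit 715) (.node (.node (.node .nil (nat_lit 3043) (nat_lit 6257) (nat_lit 688) .nil) (nat_lit 3045)
  (nat_lit 8320) (nat_lit 1992) (.node .nil (nat_lit 3049) (nat_lit 4337) (nat_lit 3918) .nil)) (nat_lit 3050)
  (nat_lit 10912) (nat_lit 2549) (.node (.node .nil (nat_lit 3052) (nat_lit 10320) (nat_lit 2550) .nil)
  (nat_lit 3055) (nat_lit 11104) (nat_lit 1997) .nil))) (nat_lit 3057) (nat_lit 17120) (nat_lit 1986) (.node
  (.node (.node (.node .nil (nat_lit 3058) (nat_lit 6624) (nat_lit 2553) .nil) (nat_lit 3060) (nat_lit 3488)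
  (nat_lit 2554) (.node .nil (nat_lit 3063) (nat_lit 23745) (nat_lit 1839) .nil)) (nat_lit 3064) (nat_lit
  17873) (nat_lit 1320) (.node (.node .nil (nat_lit 3067) (nat_lit 14113) (nat_lit 1363) .nil) (nat_lit 3069)
  (nat_lit 5904) (nat_lit 1988) .nil)) (nat_lit 3070) (nat_lit 16641) (nat_lit 2730) (.node (.node (.node .nil
  (nat_lit 3075) (nat_lit 20224) (nat_lit 1083) .nil) (nat_lit 3077) (nat_lit 25585) (nat_lit 3392) .nil)
  (nat_lit 3078) (nat_lit 18001) (nat_lit 3387) (.node (.node .nil (nat_lit 3081) (nat_lit 6417) (nat_lit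
  3900) .nil) (nat_lit 3082) (nat_lit 14241) (nat_lit 3911) .nil))))))
def tS_12 : T := (.node (.node (.node (.node (.node (.node (.node .nil (nat_lit 3087) (nat_lit 17360) (nat_lit
  1085) .nil) (nat_lit 3089) (nat_lit 14385) (nat_lit 2271) (.node .nil (nat_lit 3090) (nat_lit 11328)
  (nat_lit 2569) .nil)) (nat_lit 3092) (nat_lit 9168) (nat_lit 2570) (.node (.node .nil (nat_lit 3095)
  (nat_lit 14832) (nat_lit 1073) .nil) (nat_lit 3096) (nat_lit 9105) (nat_lit 1370) .nil)) (nat_lit 3099)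
  (nat_lit 14945) (nat_lit 1313) (.node (.node (.node .nil (nat_lit 3101) (nat_lit 24817) (nat_lit 2723) .nil)
  (nat_lit 3102) (nat_lit 9249) (nat_lit 2776) (.node .nil (nat_lit 3105) (nat_lit 27120) (nat_lit 1066)
  .nil)) (nat_lit 3106) (nat_lit 4737) (nat_lit 2532) (.node (.node .nil (nat_lit 3108) (nat_lit 5936)
  (nat_lit 2578) .nil) (nat_lit 3111) (nat_lit 27793) (nat_lit 1565) .nil))) (nat_lit 3112) (nat_lit 15584)
  (nat_lit 2580) (.node (.node (.node (.node .nil (nat_lit 3115) (nat_lit 6816) (nat_lit 1071) .nil) (nat_lit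
  3117) (nat_lit 1856) (nat_lit 1068) (.node .nil (nat_lit 3118) (nat_lit 22913) (nat_lit 2968) .nil))
  (nat_lit 3120) (nat_lit 10993) (nat_lit 1017) (.node (.node .nil (nat_lit 3123) (nat_lit 19008) (nat_lit
  1059) .nil) (nat_lit 3126) (nat_lit 112) (nat_lit 2587) .nil)) (nat_lit 3129) (nat_lit 22016) (nat_lit 1062)
  (.node (.node (.node .nil (nat_lit 3132) (nat_lit 6496) (nat_lit 2590) .nil) (nat_lit 3135) (nat_lit 9489)
  (nat_lit 510) (.node .nil (nat_lit 3137) (nat_lit 18224) (nat_lit 1050) .nil)) (nat_lit 3138) (nat_lit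
  21441) (nat_lit 3492) (.node (.node .nil (nat_lit 3140) (nat_lit 24465) (nat_lit 550) .nil) (nat_lit 3143)
  (nat_lit 496) (nat_lit 1049) .nil)))) (nat_lit 3144) (nat_lit 7824) (nat_lit 2596) (.node (.node (.node
  (.node (.node .nil (nat_lit 3149) (nat_lit 5313) (nat_lit 4003) .nil) (nat_lit 3150) (nat_lit 13281)
  (nat_lit 4056) (.node .nil (nat_lit 3152) (nat_lit 15953) (nat_lit 1977) .nil)) (nat_lit 3155) (nat_lit
  17137) (nat_lit 1986) (.node (.node .nil (nat_lit 3158) (nat_lit 17793) (nat_lit 2107) .nil) (nat_lit 3161)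
  (nat_lit 3537) (nat_lit 2620) .nil)) (nat_lit 3162) (nat_lit 26960) (nat_lit 2605) (.node (.node (.node .nil
  (nat_lit 3164) (nat_lit 24625) (nat_lit 1477) .nil) (nat_lit 3167) (nat_lit 18529) (nat_lit 1470) (.node
  .nil (nat_lit 3168) (nat_lit 21152) (nat_lit 2608) .nil)) (nat_lit 3171) (nat_lit 12305) (nat_lit 1666)
  (.node (.node .nil (nat_lit 3174) (nat_lit 10033) (nat_lit 2427) .nil) (nat_lit 3177) (nat_lit 17665)
  (nat_lit 2940) .nil))) (nat_lit 3178) (nat_lit 7041) (nat_lit 2823) (.node (.node (.node (.node .nil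
  (nat_lit 3180) (nat_lit 11985) (nat_lit 1157) .nil) (nat_lit 3183) (nat_lit 17265) (nat_lit 1278) (.node
  .nil (nat_lit 3186) (nat_lit 9889) (nat_lit 3300) .nil)) (nat_lit 3192) (nat_lit 3520) (nat_lit 2620) (.node
  (.node .nil (nat_lit 3195) (nat_lit 17297) (nat_lit 353) .nil) (nat_lit 3198) (nat_lit 25680) (nat_lit 2623)
  .nil)) (nat_lit 3201) (nat_lit 12432) (nat_lit 1146) (.node (.node (.node .nil (nat_lit 3202) (nat_lit 1328)
  (nat_lit 2625) .nil) (nat_lit 3204) (nat_lit 4081) (nat_lit 2925) (.node .nil (nat_lit 3207) (nat_lit 27664)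
  (nat_lit 1145) .nil)) (nat_lit 3208) (nat_lit 20560) (nat_lit 2628) (.node (.node .nil (nat_lit 3211)
  (nat_lit 28049) (nat_lit 2410) .nil) (nat_lit 3213) (nat_lit 16192) (nat_lit 1148) .nil))))) (nat_lit 3214)
  (nat_lit 27904) (nat_lit 2631) (.node (.node (.node (.node (.node (.node .nil (nat_lit 3216) (nat_lit 20576)
  (nat_lit 2632) .nil) (nat_lit 3219) (nat_lit 10657) (nat_lit 3721) (.node .nil (nat_lit 3221) (nat_lit 9313)
  (nat_lit 267) .nil)) (nat_lit 3222) (nat_lit 464) (nat_lit 2635) (.node (.node .nil (nat_lit 3225) (nat_lit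
  10960) (nat_lit 1142) .nil) (nat_lit 3226) (nat_lit 16977) (nat_lit 780) .nil)) (nat_lit 3228) (nat_lit
  27280) (nat_lit 2638) (.node (.node (.node .nil (nat_lit 3232) (nat_lit 22304) (nat_lit 2640) .nil) (nat_lit
  3235) (nat_lit 22448) (nat_lit 1131) (.node .nil (nat_lit 3237) (nat_lit 10145) (nat_lit 75) .nil)) (nat_lit
  3242) (nat_lit 4784) (nat_lit 2645) (.node (.node .nil (nat_lit 3244) (nat_lit 13504) (nat_lit 2646) .nil)
  (nat_lit 3247) (nat_lit 26929) (nat_lit 3509) .nil))) (nat_lit 3249) (nat_lit 24289) (nat_lit 1492) (.node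
  (.node (.node (.node .nil (nat_lit 3250) (nat_lit 20177) (nat_lit 1455) .nil) (nat_lit 3252) (nat_lit 25264)
  (nat_lit 2650) (.node .nil (nat_lit 3255) (nat_lit 13521) (nat_lit 2646) .nil)) (nat_lit 3256) (nat_lit
  25361) (nat_lit 2129) (.node (.node .nil (nat_lit 3259) (nat_lit 11489) (nat_lit 2090) .nil) (nat_lit 3261)
  (nat_lit 24048) (nat_lit 1124) .nil)) (nat_lit 3262) (nat_lit 14448) (nat_lit 2655) (.node (.node (.node
  .nil (nat_lit 3264) (nat_lit 11937) (nat_lit 3058) .nil) (nat_lit 3267) (nat_lit 22241) (nat_lit 2953)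
  (.node .nil (nat_lit 3269) (nat_lit 21680) (nat_lit 1112) .nil)) (nat_lit 3270) (nat_lit 4560) (nat_lit
  2659) (.node (.node .nil (nat_lit 3273) (nat_lit 11808) (nat_lit 1118) .nil) (nat_lit 3274) (nat_lit 12113)
  (nat_lit 1548) .nil)))) (nat_lit 3279) (nat_lit 10929) (nat_lit 2549) (.node (.node (.node (.node (.node
  .nil (nat_lit 3281) (nat_lit 19072) (nat_lit 1106) .nil) (nat_lit 3284) (nat_lit 12209) (nat_lit 3693)
  (.node .nil (nat_lit 3287) (nat_lit 4209) (nat_lit 3606) .nil)) (nat_lit 3288) (nat_lit 11632) (nat_lit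
  2668) (.node (.node .nil (nat_lit 3291) (nat_lit 12529) (nat_lit 3178) .nil) (nat_lit 3293) (nat_lit 7169)
  (nat_lit 1000) .nil)) (nat_lit 3294) (nat_lit 2992) (nat_lit 2671) (.node (.node (.node .nil (nat_lit 3297)
  (nat_lit 24113) (nat_lit 212) .nil) (nat_lit 3298) (nat_lit 14352) (nat_lit 2673) (.node .nil (nat_lit 3300)
  (nat_lit 5360) (nat_lit 2674) .nil)) (nat_lit 3303) (nat_lit 14769) (nat_lit 3926) (.node (.node .nil
  (nat_lit 3304) (nat_lit 10513) (nat_lit 3409) .nil) (nat_lit 3307) (nat_lit 8512) (nat_lit 1103) .nil)))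
  (nat_lit 3309) (nat_lit 25473) (nat_lit 680) (.node (.node (.node (.node .nil (nat_lit 3310) (nat_lit 26545)
  (nat_lit 723) .nil) (nat_lit 3312) (nat_lit 449) (nat_lit 2738) (.node .nil (nat_lit 3315) (nat_lit 14640)
  (nat_lit 1091) .nil)) (nat_lit 3318) (nat_lit 11153) (nat_lit 1328) (.node (.node .nil (nat_lit 3321)
  (nat_lit 65) (nat_lit 1847) .nil) (nat_lit 3322) (nat_lit 22816) (nat_lit 2685) .nil)) (nat_lit 3324)
  (nat_lit 27825) (nat_lit 2254) (.node (.node (.node .nil (nat_lit 3327) (nat_lit 22320) (nat_lit 1093) .nil)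
  (nat_lit 3329) (nat_lit 10449) (nat_lit 2526) .nil) (nat_lit 3330) (nat_lit 17345) (nat_lit 2469) (.node
  (.node .nil (nat_lit 3332) (nat_lit 400) (nat_lit 2690) .nil) (nat_lit 3335) (nat_lit 23264) (nat_lit 1209)
  .nil))))))
def tS_13 : T := (.node (.node (.node (.node (.node (.node (.node .nil (nat_lit 3341) (nat_lit 4224) (nat_lit
  1212) .nil) (nat_lit 3342) (nat_lit 5648) (nat_lit 2695) (.node .nil (nat_lit 3344) (nat_lit 21344) (nat_lit
  2696) .nil)) (nat_lit 3347) (nat_lit 20129) (nat_lit 963) (.node (.node .nil (nat_lit 3349) (nat_lit 592)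
  (nat_lit 1200) .nil) (nat_lit 3353) (nat_lit 6880) (nat_lit 1206) .nil)) (nat_lit 3354) (nat_lit 5153)
  (nat_lit 3654) (.node (.node (.node .nil (nat_lit 3356) (nat_lit 15616) (nat_lit 2702) .nil) (nat_lit 3359)
  (nat_lit 27377) (nat_lit 447) (.node .nil (nat_lit 3360) (nat_lit 15425) (nat_lit 760) .nil)) (nat_lit 3363)
  (nat_lit 1281) (nat_lit 643) (.node (.node .nil (nat_lit 3365) (nat_lit 16929) (nat_lit 3329) .nil) (nat_lit
  3366) (nat_lit 12880) (nat_lit 2707) .nil))) (nat_lit 3369) (nat_lit 18432) (nat_lit 1198) (.node (.node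
  (.node (.node .nil (nat_lit 3370) (nat_lit 22545) (nat_lit 3846) .nil) (nat_lit 3375) (nat_lit 24896)
  (nat_lit 1197) (.node .nil (nat_lit 3377) (nat_lit 8064) (nat_lit 1186) .nil)) (nat_lit 3378) (nat_lit
  10417) (nat_lit 2277) (.node (.node .nil (nat_lit 3380) (nat_lit 18416) (nat_lit 2714) .nil) (nat_lit 3383)
  (nat_lit 19280) (nat_lit 1185) .nil)) (nat_lit 3384) (nat_lit 25937) (nat_lit 1307) (.node (.node (.node
  .nil (nat_lit 3387) (nat_lit 11297) (nat_lit 1376) .nil) (nat_lit 3389) (nat_lit 21921) (nat_lit 2786)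
  (.node .nil (nat_lit 3390) (nat_lit 28241) (nat_lit 2713) .nil)) (nat_lit 3392) (nat_lit 19776) (nat_lit
  2720) (.node (.node .nil (nat_lit 3397) (nat_lit 24064) (nat_lit 1176) .nil) (nat_lit 3398) (nat_lit 24800)
  (nat_lit 2723) .nil)))) (nat_lit 3404) (nat_lit 3409) (nat_lit 1220) (.node (.node (.node (.node (.node .nil
  (nat_lit 3409) (nat_lit 5729) (nat_lit 3294) .nil) (nat_lit 3410) (nat_lit 16609) (nat_lit 3237) (.node .nil
  (nat_lit 3412) (nat_lit 16624) (nat_lit 2730) .nil)) (nat_lit 3415) (nat_lit 21969) (nat_lit 860) (.node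
  (.node .nil (nat_lit 3416) (nat_lit 12336) (nat_lit 2732) .nil) (nat_lit 3421) (nat_lit 14192) (nat_lit
  1172) .nil)) (nat_lit 3422) (nat_lit 21521) (nat_lit 3801) (.node (.node (.node .nil (nat_lit 3425) (nat_lit
  8960) (nat_lit 1162) .nil) (nat_lit 3426) (nat_lit 9536) (nat_lit 2737) (.node .nil (nat_lit 3428) (nat_lit
  432) (nat_lit 2738) .nil)) (nat_lit 3431) (nat_lit 22001) (nat_lit 540) (.node (.node .nil (nat_lit 3432)
  (nat_lit 15761) (nat_lit 27) .nil) (nat_lit 3437) (nat_lit 1072) (nat_lit 1164) .nil))) (nat_lit 3438)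
  (nat_lit 8544) (nat_lit 2743) (.node (.node (.node (.node .nil (nat_lit 3440) (nat_lit 15392) (nat_lit 2744)
  .nil) (nat_lit 3443) (nat_lit 22800) (nat_lit 1155) (.node .nil (nat_lit 3446) (nat_lit 19057) (nat_lit
  2170) .nil)) (nat_lit 3449) (nat_lit 1440) (nat_lit 1158) (.node (.node .nil (nat_lit 3450) (nat_lit 21601)
  (nat_lit 2566) .nil) (nat_lit 3452) (nat_lit 25888) (nat_lit 2750) .nil)) (nat_lit 3455) (nat_lit 11968)
  (nat_lit 1157) (.node (.node (.node .nil (nat_lit 3456) (nat_lit 27953) (nat_lit 4083) .nil) (nat_lit 3459)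
  (nat_lit 2016) (nat_lit 1275) (.node .nil (nat_lit 3462) (nat_lit 752) (nat_lit 2755) .nil)) (nat_lit 3465)
  (nat_lit 17248) (nat_lit 1278) (.node (.node .nil (nat_lit 3466) (nat_lit 11553) (nat_lit 525) .nil)
  (nat_lit 3468) (nat_lit 23136) (nat_lit 2758) .nil))))) (nat_lit 3471) (nat_lit 18097) (nat_lit 3572) (.node
  (.node (.node (.node (.node (.node .nil (nat_lit 3473) (nat_lit 1841) (nat_lit 1429) .nil) (nat_lit 3474)
  (nat_lit 26608) (nat_lit 2761) (.node .nil (nat_lit 3476) (nat_lit 11649) (nat_lit 2668) .nil)) (nat_lit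
  3479) (nat_lit 80) (nat_lit 1265) (.node (.node .nil (nat_lit 3483) (nat_lit 24576) (nat_lit 1271) .nil)
  (nat_lit 3485) (nat_lit 14912) (nat_lit 1268) .nil)) (nat_lit 3486) (nat_lit 26785) (nat_lit 1938) (.node
  (.node (.node .nil (nat_lit 3489) (nat_lit 0) (nat_lit 3489) .nil) (nat_lit 3490) (nat_lit 18449) (nat_lit
  1198) (.node .nil (nat_lit 3492) (nat_lit 14529) (nat_lit 2860) .nil)) (nat_lit 3495) (nat_lit 12992)
  (nat_lit 1257) (.node (.node .nil (nat_lit 3496) (nat_lit 19425) (nat_lit 2384) .nil) (nat_lit 3499)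
  (nat_lit 7777) (nat_lit 2347) .nil))) (nat_lit 3501) (nat_lit 16817) (nat_lit 1705) (.node (.node (.node
  (.node .nil (nat_lit 3502) (nat_lit 16689) (nat_lit 1746) .nil) (nat_lit 3504) (nat_lit 9232) (nat_lit 2776)
  (.node .nil (nat_lit 3509) (nat_lit 22496) (nat_lit 1248) .nil)) (nat_lit 3510) (nat_lit 12128) (nat_lit
  2779) (.node (.node .nil (nat_lit 3513) (nat_lit 7728) (nat_lit 1254) .nil) (nat_lit 3514) (nat_lit 23328)
  (nat_lit 2781) .nil)) (nat_lit 3516) (nat_lit 17489) (nat_lit 3279) (.node (.node (.node .nil (nat_lit 3519)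
  (nat_lit 20432) (nat_lit 1253) .nil) (nat_lit 3521) (nat_lit 10209) (nat_lit 149) (.node .nil (nat_lit 3522)
  (nat_lit 22032) (nat_lit 2785) .nil)) (nat_lit 3524) (nat_lit 14081) (nat_lit 3948) (.node (.node .nil
  (nat_lit 3527) (nat_lit 22944) (nat_lit 1241) .nil) (nat_lit 3528) (nat_lit 14400) (nat_lit 2788) .nil))))
  (nat_lit 3533) (nat_lit 3920) (nat_lit 1244) (.node (.node (.node (.node (.node .nil (nat_lit 3534) (nat_lit
  20480) (nat_lit 2791) .nil) (nat_lit 3536) (nat_lit 5201) (nat_lit 2803) (.node .nil (nat_lit 3539) (nat_lit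
  21361) (nat_lit 2696) .nil)) (nat_lit 3541) (nat_lit 9009) (nat_lit 1290) (.node (.node .nil (nat_lit 3542)
  (nat_lit 5073) (nat_lit 1393) .nil) (nat_lit 3545) (nat_lit 9200) (nat_lit 1238) .nil)) (nat_lit 3546)
  (nat_lit 27200) (nat_lit 2797) (.node (.node (.node .nil (nat_lit 3548) (nat_lit 3201) (nat_lit 2191) .nil)
  (nat_lit 3551) (nat_lit 19696) (nat_lit 1237) (.node .nil (nat_lit 3555) (nat_lit 8737) (nat_lit 3016)
  .nil)) (nat_lit 3557) (nat_lit 23536) (nat_lit 1224) (.node (.node .nil (nat_lit 3558) (nat_lit 5184)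
  (nat_lit 2803) .nil) (nat_lit 3561) (nat_lit 8896) (nat_lit 1230) .nil))) (nat_lit 3562) (nat_lit 10064)
  (nat_lit 2805) (.node (.node (.node (.node .nil (nat_lit 3564) (nat_lit 16480) (nat_lit 2806) .nil) (nat_lit
  3567) (nat_lit 8049) (nat_lit 2484) (.node .nil (nat_lit 3569) (nat_lit 14864) (nat_lit 1218) .nil))
  (nat_lit 3570) (nat_lit 3856) (nat_lit 2809) (.node (.node .nil (nat_lit 3572) (nat_lit 11376) (nat_lit
  2810) .nil) (nat_lit 3575) (nat_lit 19841) (nat_lit 3671) .nil)) (nat_lit 3576) (nat_lit 19664) (nat_lit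
  2812) (.node (.node (.node .nil (nat_lit 3579) (nat_lit 12032) (nat_lit 1223) .nil) (nat_lit 3581) (nat_lit
  3392) (nat_lit 1220) .nil) (nat_lit 3585) (nat_lit 14208) (nat_lit 1338) (.node (.node .nil (nat_lit 3586)
  (nat_lit 9121) (nat_lit 3600) .nil) (nat_lit 3588) (nat_lit 12177) (nat_lit 402) .nil))))))
def tS_14 : T := (.node (.node (.node (.node (.node (.node (.node .nil (nat_lit 3595) (nat_lit 23344) (nat_lit
  1343) .nil) (nat_lit 3597) (nat_lit 21777) (nat_lit 3095) (.node .nil (nat_lit 3598) (nat_lit 7024) (nat_lit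
  2823) .nil)) (nat_lit 3600) (nat_lit 4928) (nat_lit 2824) (.node (.node .nil (nat_lit 3603) (nat_lit 10977)
  (nat_lit 1142) .nil) (nat_lit 3605) (nat_lit 6609) (nat_lit 3060) .nil)) (nat_lit 3606) (nat_lit 2177)
  (nat_lit 2959) (.node (.node (.node .nil (nat_lit 3609) (nat_lit 27440) (nat_lit 1334) .nil) (nat_lit 3612)
  (nat_lit 26000) (nat_lit 2830) (.node .nil (nat_lit 3615) (nat_lit 2881) (nat_lit 1546) .nil)) (nat_lit
  3616) (nat_lit 20673) (nat_lit 1357) (.node (.node .nil (nat_lit 3619) (nat_lit 11504) (nat_lit 1323) .nil)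
  (nat_lit 3621) (nat_lit 17856) (nat_lit 1320) .nil))) (nat_lit 3622) (nat_lit 26656) (nat_lit 2835) (.node
  (.node (.node (.node .nil (nat_lit 3625) (nat_lit 21889) (nat_lit 2248) .nil) (nat_lit 3628) (nat_lit 25985)
  (nat_lit 1841) (.node .nil (nat_lit 3631) (nat_lit 15105) (nat_lit 1866) .nil)) (nat_lit 3633) (nat_lit
  25809) (nat_lit 3883) (.node (.node .nil (nat_lit 3636) (nat_lit 11360) (nat_lit 2842) .nil) (nat_lit 3639)
  (nat_lit 14928) (nat_lit 1313) .nil)) (nat_lit 3645) (nat_lit 10848) (nat_lit 1316) (.node (.node (.node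
  .nil (nat_lit 3648) (nat_lit 27265) (nat_lit 269) .nil) (nat_lit 3651) (nat_lit 1553) (nat_lit 374) (.node
  .nil (nat_lit 3653) (nat_lit 28289) (nat_lit 3828) .nil)) (nat_lit 3654) (nat_lit 2673) (nat_lit 3727)
  (.node (.node .nil (nat_lit 3657) (nat_lit 16224) (nat_lit 1310) .nil) (nat_lit 3658) (nat_lit 21569)
  (nat_lit 3315) .nil)))) (nat_lit 3663) (nat_lit 993) (nat_lit 778) (.node (.node (.node (.node (.node .nil
  (nat_lit 3665) (nat_lit 16544) (nat_lit 1298) .nil) (nat_lit 3666) (nat_lit 26064) (nat_lit 2857) (.node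
  .nil (nat_lit 3668) (nat_lit 6960) (nat_lit 2858) .nil)) (nat_lit 3671) (nat_lit 13009) (nat_lit 1257)
  (.node (.node .nil (nat_lit 3672) (nat_lit 14512) (nat_lit 2860) .nil) (nat_lit 3675) (nat_lit 26881)
  (nat_lit 1685) .nil)) (nat_lit 3677) (nat_lit 24785) (nat_lit 2327) (.node (.node (.node .nil (nat_lit 3678)
  (nat_lit 5009) (nat_lit 2412) .nil) (nat_lit 3681) (nat_lit 8992) (nat_lit 1290) (.node .nil (nat_lit 3682)
  (nat_lit 17232) (nat_lit 2865) .nil)) (nat_lit 3684) (nat_lit 13953) (nat_lit 1490) (.node (.node .nil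
  (nat_lit 3687) (nat_lit 5889) (nat_lit 1449) .nil) (nat_lit 3688) (nat_lit 10160) (nat_lit 2868) .nil)))
  (nat_lit 3691) (nat_lit 16017) (nat_lit 2005) (.node (.node (.node (.node .nil (nat_lit 3693) (nat_lit 6801)
  (nat_lit 2135) .nil) (nat_lit 3694) (nat_lit 24080) (nat_lit 2871) (.node .nil (nat_lit 3696) (nat_lit 2896)
  (nat_lit 2872) .nil)) (nat_lit 3699) (nat_lit 1617) (nat_lit 54) (.node (.node .nil (nat_lit 3702) (nat_lit
  22352) (nat_lit 2875) .nil) (nat_lit 3705) (nat_lit 2512) (nat_lit 1286) .nil)) (nat_lit 3708) (nat_lit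
  17152) (nat_lit 2878) (.node (.node (.node .nil (nat_lit 3711) (nat_lit 27104) (nat_lit 1285) .nil) (nat_lit
  3712) (nat_lit 3984) (nat_lit 2880) (.node .nil (nat_lit 3715) (nat_lit 2416) (nat_lit 1403) .nil)) (nat_lit
  3717) (nat_lit 21536) (nat_lit 1400) (.node (.node .nil (nat_lit 3718) (nat_lit 5921) (nat_lit 1988) .nil)
  (nat_lit 3721) (nat_lit 5808) (nat_lit 1406) .nil))))) (nat_lit 3722) (nat_lit 12913) (nat_lit 1464) (.node
  (.node (.node (.node (.node (.node .nil (nat_lit 3727) (nat_lit 1345) (nat_lit 2625) .nil) (nat_lit 3730)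
  (nat_lit 1376) (nat_lit 2889) (.node .nil (nat_lit 3732) (nat_lit 15489) (nat_lit 3545) .nil)) (nat_lit
  3735) (nat_lit 5056) (nat_lit 1393) (.node (.node .nil (nat_lit 3736) (nat_lit 22273) (nat_lit 4005) .nil)
  (nat_lit 3739) (nat_lit 2288) (nat_lit 1399) .nil)) (nat_lit 3741) (nat_lit 26272) (nat_lit 1396) (.node
  (.node (.node .nil (nat_lit 3742) (nat_lit 27696) (nat_lit 2895) .nil) (nat_lit 3745) (nat_lit 7489)
  (nat_lit 864) (.node .nil (nat_lit 3746) (nat_lit 26689) (nat_lit 795) .nil)) (nat_lit 3748) (nat_lit 17553)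
  (nat_lit 3225) (.node (.node .nil (nat_lit 3751) (nat_lit 21201) (nat_lit 3298) .nil) (nat_lit 3752)
  (nat_lit 21312) (nat_lit 2900) .nil))) (nat_lit 3755) (nat_lit 13440) (nat_lit 1391) (.node (.node (.node
  (.node .nil (nat_lit 3757) (nat_lit 26944) (nat_lit 1388) .nil) (nat_lit 3758) (nat_lit 13600) (nat_lit
  2903) (.node .nil (nat_lit 3760) (nat_lit 16177) (nat_lit 2310) .nil)) (nat_lit 3763) (nat_lit 6321)
  (nat_lit 2429) (.node (.node .nil (nat_lit 3765) (nat_lit 11280) (nat_lit 1376) .nil) (nat_lit 3766)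
  (nat_lit 3345) (nat_lit 1668) .nil)) (nat_lit 3769) (nat_lit 12720) (nat_lit 1382) (.node (.node (.node .nil
  (nat_lit 3772) (nat_lit 24096) (nat_lit 2910) .nil) (nat_lit 3775) (nat_lit 14753) (nat_lit 2817) (.node
  .nil (nat_lit 3777) (nat_lit 9088) (nat_lit 1370) .nil)) (nat_lit 3778) (nat_lit 385) (nat_lit 1883) (.node
  (.node .nil (nat_lit 3783) (nat_lit 1888) (nat_lit 1369) .nil) (nat_lit 3787) (nat_lit 22576) (nat_lit 1375)
  .nil)))) (nat_lit 3792) (nat_lit 13824) (nat_lit 2920) (.node (.node (.node (.node (.node .nil (nat_lit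
  3795) (nat_lit 14096) (nat_lit 1363) .nil) (nat_lit 3797) (nat_lit 23664) (nat_lit 1360) (.node .nil
  (nat_lit 3798) (nat_lit 18288) (nat_lit 2923) .nil)) (nat_lit 3801) (nat_lit 14592) (nat_lit 1366) (.node
  (.node .nil (nat_lit 3802) (nat_lit 4064) (nat_lit 2925) .nil) (nat_lit 3807) (nat_lit 20385) (nat_lit 3905)
  .nil)) (nat_lit 3808) (nat_lit 13168) (nat_lit 2928) (.node (.node (.node .nil (nat_lit 3813) (nat_lit
  17073) (nat_lit 1023) .nil) (nat_lit 3814) (nat_lit 22097) (nat_lit 900) (.node .nil (nat_lit 3817) (nat_lit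
  4352) (nat_lit 1358) .nil)) (nat_lit 3818) (nat_lit 14049) (nat_lit 504) (.node (.node .nil (nat_lit 3823)
  (nat_lit 20656) (nat_lit 1357) .nil) (nat_lit 3825) (nat_lit 26976) (nat_lit 1346) .nil))) (nat_lit 3826)
  (nat_lit 25729) (nat_lit 1563) (.node (.node (.node (.node .nil (nat_lit 3828) (nat_lit 27600) (nat_lit
  2938) .nil) (nat_lit 3831) (nat_lit 7088) (nat_lit 1345) (.node .nil (nat_lit 3832) (nat_lit 14289) (nat_lit
  3045) .nil)) (nat_lit 3835) (nat_lit 24032) (nat_lit 1351) (.node (.node .nil (nat_lit 3837) (nat_lit 16048)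
  (nat_lit 1348) .nil) (nat_lit 3838) (nat_lit 18241) (nat_lit 1127) .nil)) (nat_lit 3840) (nat_lit 21009)
  (nat_lit 1292) (.node (.node (.node .nil (nat_lit 3843) (nat_lit 2305) (nat_lit 1399) .nil) (nat_lit 3845)
  (nat_lit 10081) (nat_lit 2805) .nil) (nat_lit 3846) (nat_lit 15633) (nat_lit 2702) (.node (.node .nil
  (nat_lit 3849) (nat_lit 6945) (nat_lit 2185) .nil) (nat_lit 3850) (nat_lit 2465) (nat_lit 2290) .nil))))))
def tS_15 : T := (.node (.node (.node (.node (.node (.node (.node .nil (nat_lit 3855) (nat_lit 14689) (nat_lit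
  1803) .nil) (nat_lit 3857) (nat_lit 8208) (nat_lit 1458) (.node .nil (nat_lit 3858) (nat_lit 14129) (nat_lit
  3857) .nil)) (nat_lit 3860) (nat_lit 6065) (nat_lit 147) (.node (.node .nil (nat_lit 3863) (nat_lit 18545)
  (nat_lit 232) .nil) (nat_lit 3864) (nat_lit 9825) (nat_lit 751) .nil)) (nat_lit 3867) (nat_lit 11201)
  (nat_lit 660) (.node (.node (.node .nil (nat_lit 3870) (nat_lit 2161) (nat_lit 3437) .nil) (nat_lit 3874)
  (nat_lit 10528) (nat_lit 2961) (.node .nil (nat_lit 3876) (nat_lit 1920) (nat_lit 2962) .nil)) (nat_lit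
  3879) (nat_lit 5872) (nat_lit 1449) (.node (.node .nil (nat_lit 3880) (nat_lit 23441) (nat_lit 943) .nil)
  (nat_lit 3883) (nat_lit 20160) (nat_lit 1455) .nil))) (nat_lit 3885) (nat_lit 15808) (nat_lit 1452) (.node
  (.node (.node (.node .nil (nat_lit 3886) (nat_lit 3633) (nat_lit 3117) .nil) (nat_lit 3888) (nat_lit 22896)
  (nat_lit 2968) (.node .nil (nat_lit 3891) (nat_lit 20721) (nat_lit 1079) .nil)) (nat_lit 3893) (nat_lit
  27040) (nat_lit 1440) (.node (.node .nil (nat_lit 3894) (nat_lit 6192) (nat_lit 2971) .nil) (nat_lit 3897)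
  (nat_lit 12641) (nat_lit 2505) .nil)) (nat_lit 3900) (nat_lit 3377) (nat_lit 1584) (.node (.node (.node .nil
  (nat_lit 3903) (nat_lit 18817) (nat_lit 1611) .nil) (nat_lit 3905) (nat_lit 13552) (nat_lit 1434) (.node
  .nil (nat_lit 3906) (nat_lit 13024) (nat_lit 2977) .nil)) (nat_lit 3908) (nat_lit 11216) (nat_lit 2978)
  (.node (.node .nil (nat_lit 3911) (nat_lit 8288) (nat_lit 1433) .nil) (nat_lit 3912) (nat_lit 7568) (nat_lit
  2980) .nil)))) (nat_lit 3917) (nat_lit 2784) (nat_lit 1436) (.node (.node (.node (.node (.node .nil (nat_lit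
  3918) (nat_lit 2241) (nat_lit 2157) .nil) (nat_lit 3923) (nat_lit 25281) (nat_lit 119) (.node .nil (nat_lit
  3925) (nat_lit 21024) (nat_lit 1424) .nil)) (nat_lit 3926) (nat_lit 8688) (nat_lit 2987) (.node (.node .nil
  (nat_lit 3929) (nat_lit 1664) (nat_lit 1430) .nil) (nat_lit 3930) (nat_lit 7281) (nat_lit 3570) .nil))
  (nat_lit 3932) (nat_lit 21904) (nat_lit 2990) (.node (.node (.node .nil (nat_lit 3935) (nat_lit 1824)
  (nat_lit 1429) .nil) (nat_lit 3936) (nat_lit 3233) (nat_lit 332) (.node .nil (nat_lit 3939) (nat_lit 19969)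
  (nat_lit 311) .nil)) (nat_lit 3941) (nat_lit 17969) (nat_lit 3765) (.node (.node .nil (nat_lit 3945)
  (nat_lit 560) (nat_lit 1422) .nil) (nat_lit 3946) (nat_lit 25841) (nat_lit 3250) .nil))) (nat_lit 3948)
  (nat_lit 8176) (nat_lit 2998) (.node (.node (.node (.node .nil (nat_lit 3951) (nat_lit 13201) (nat_lit 843)
  .nil) (nat_lit 3953) (nat_lit 6977) (nat_lit 2858) (.node .nil (nat_lit 3954) (nat_lit 27392) (nat_lit 3001)
  .nil)) (nat_lit 3956) (nat_lit 26289) (nat_lit 1235) (.node (.node .nil (nat_lit 3959) (nat_lit 17216)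
  (nat_lit 1409) .nil) (nat_lit 3960) (nat_lit 4145) (nat_lit 1711) .nil)) (nat_lit 3963) (nat_lit 304)
  (nat_lit 1415) (.node (.node (.node .nil (nat_lit 3965) (nat_lit 26017) (nat_lit 2390) .nil) (nat_lit 3966)
  (nat_lit 16768) (nat_lit 3007) .nil) (nat_lit 3969) (nat_lit 5584) (nat_lit 1530) (.node (.node .nil
  (nat_lit 3972) (nat_lit 14544) (nat_lit 3010) .nil) (nat_lit 3975) (nat_lit 14416) (nat_lit 1529) .nil)))))
  (nat_lit 3976) (nat_lit 3808) (nat_lit 3012) (.node (.node (.node (.node (.node (.node .nil (nat_lit 3979)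
  (nat_lit 25953) (nat_lit 3807) .nil) (nat_lit 3981) (nat_lit 21136) (nat_lit 1532) (.node .nil (nat_lit
  3982) (nat_lit 11025) (nat_lit 294) .nil)) (nat_lit 3984) (nat_lit 8720) (nat_lit 3016) (.node (.node .nil
  (nat_lit 3987) (nat_lit 3456) (nat_lit 1523) .nil) (nat_lit 3989) (nat_lit 22416) (nat_lit 1520) .nil))
  (nat_lit 3990) (nat_lit 25153) (nat_lit 1733) (.node (.node (.node .nil (nat_lit 3993) (nat_lit 14881)
  (nat_lit 1218) .nil) (nat_lit 3994) (nat_lit 17024) (nat_lit 3021) (.node .nil (nat_lit 3996) (nat_lit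
  22369) (nat_lit 2875) .nil)) (nat_lit 3999) (nat_lit 4001) (nat_lit 2880) (.node (.node .nil (nat_lit 4000)
  (nat_lit 27169) (nat_lit 2055) .nil) (nat_lit 4003) (nat_lit 2769) (nat_lit 2172) .nil))) (nat_lit 4005)
  (nat_lit 15281) (nat_lit 2046) (.node (.node (.node (.node .nil (nat_lit 4006) (nat_lit 26224) (nat_lit
  3027) .nil) (nat_lit 4009) (nat_lit 16433) (nat_lit 1410) (.node .nil (nat_lit 4010) (nat_lit 14433)
  (nat_lit 1529) .nil)) (nat_lit 4012) (nat_lit 18256) (nat_lit 3030) (.node (.node .nil (nat_lit 4017)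
  (nat_lit 8801) (nat_lit 609) .nil) (nat_lit 4018) (nat_lit 19264) (nat_lit 3033) .nil)) (nat_lit 4023)
  (nat_lit 14817) (nat_lit 3555) (.node (.node (.node .nil (nat_lit 4024) (nat_lit 18609) (nat_lit 4068) .nil)
  (nat_lit 4027) (nat_lit 7553) (nat_lit 3999) (.node .nil (nat_lit 4029) (nat_lit 20800) (nat_lit 1508)
  .nil)) (nat_lit 4030) (nat_lit 21489) (nat_lit 102) (.node (.node .nil (nat_lit 4032) (nat_lit 1025)
  (nat_lit 3143) .nil) (nat_lit 4035) (nat_lit 11745) (nat_lit 3132) .nil)))) (nat_lit 4037) (nat_lit 5776)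
  (nat_lit 1496) (.node (.node (.node (.node (.node .nil (nat_lit 4038) (nat_lit 11312) (nat_lit 3043) .nil)
  (nat_lit 4041) (nat_lit 16272) (nat_lit 1502) (.node .nil (nat_lit 4042) (nat_lit 14272) (nat_lit 3045)
  .nil)) (nat_lit 4047) (nat_lit 25024) (nat_lit 1501) (.node (.node .nil (nat_lit 4049) (nat_lit 4273)
  (nat_lit 1569) .nil) (nat_lit 4050) (nat_lit 8112) (nat_lit 3049) .nil)) (nat_lit 4052) (nat_lit 12945)
  (nat_lit 2520) (.node (.node (.node .nil (nat_lit 4056) (nat_lit 7585) (nat_lit 2980) .nil) (nat_lit 4059)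
  (nat_lit 7616) (nat_lit 1495) (.node .nil (nat_lit 4061) (nat_lit 15841) (nat_lit 1117) .nil)) (nat_lit
  4062) (nat_lit 17712) (nat_lit 3055) (.node (.node .nil (nat_lit 4065) (nat_lit 4641) (nat_lit 1889) .nil)
  (nat_lit 4066) (nat_lit 673) (nat_lit 1818) .nil))) (nat_lit 4068) (nat_lit 11920) (nat_lit 3058) (.node
  (.node (.node (.node .nil (nat_lit 4071) (nat_lit 10480) (nat_lit 1481) .nil) (nat_lit 4072) (nat_lit 6592)
  (nat_lit 3060) (.node .nil (nat_lit 4075) (nat_lit 19472) (nat_lit 1487) .nil)) (nat_lit 4077) (nat_lit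
  10288) (nat_lit 1484) (.node (.node .nil (nat_lit 4078) (nat_lit 12737) (nat_lit 1382) .nil) (nat_lit 4080)
  (nat_lit 24240) (nat_lit 3064) .nil)) (nat_lit 4083) (nat_lit 25248) (nat_lit 1475) (.node (.node (.node
  .nil (nat_lit 4085) (nat_lit 14321) (nat_lit 766) .nil) (nat_lit 4086) (nat_lit 4881) (nat_lit 645) .nil)
  (nat_lit 4090) (nat_lit 1185) (nat_lit 249) (.node (.node .nil (nat_lit 4092) (nat_lit 641) (nat_lit 3963)
  .nil) (nat_lit 4095) (nat_lit 24608) (nat_lit 1477) .nil))))))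
def tS : T := (.node (.node (.node (.node tS_0 (nat_lit 298) (nat_lit 10192) (nat_lit 149) tS_1) (nat_lit 561)
  (nat_lit 17008) (nat_lit 3874) (.node tS_2 (nat_lit 807) (nat_lit 23168) (nat_lit 4009) tS_3)) (nat_lit
  1068) (nat_lit 929) (nat_lit 3312) (.node (.node tS_4 (nat_lit 1320) (nat_lit 11184) (nat_lit 660) tS_5)
  (nat_lit 1565) (nat_lit 24704) (nat_lit 3380) (.node tS_6 (nat_lit 1820) (nat_lit 18640) (nat_lit 910)
  tS_7))) (nat_lit 2079) (nat_lit 26896) (nat_lit 1589) (.node (.node (.node tS_8 (nat_lit 2324) (nat_lit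
  7696) (nat_lit 2186) tS_9) (nat_lit 2578) (nat_lit 3104) (nat_lit 2313) (.node tS_10 (nat_lit 2823) (nat_lit
  3729) (nat_lit 3876) tS_11)) (nat_lit 3084) (nat_lit 21584) (nat_lit 2566) (.node (.node tS_12 (nat_lit
  3336) (nat_lit 23392) (nat_lit 2692) tS_13) (nat_lit 3592) (nat_lit 6720) (nat_lit 2820) (.node tS_14
  (nat_lit 3852) (nat_lit 5968) (nat_lit 2950) tS_15))))

/-- The standard sextet. -/
noncomputable def S0 : Finset (Finset GolayPt) := sext (unmask 8388615)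

theorem S0_mem : S0 ∈ sextets := sext_mem (by decide +kernel)
theorem skey_S0 : skey S0 = 3489 := by
  rw [S0, skey_sext (by decide +kernel), mask_unmask (by norm_num)]; decide +kernel

theorem tS_chk : orbChk apS gM 3489 4096 tS = true := by decide +kernel

theorem tS_sound : orbit M24 S0 = {x | x ∈ sextets ∧ skey x ∈ tS.keys} ∧
    (orbit M24 S0).ncard = tS.size ∧ (∀ k ∈ tS.keys, ∃ x ∈ sextets, skey x = k) ∧
      tS.srt 0 4096 = true := by
  have := acX.orb_sound valid_gM S0_mem (skey_S0 ▸ tS_chk)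
  rwa [gen_gM, orbit_top] at this

theorem orbit_S0 : orbit M24 S0 = sextets := by
  refine Set.Subset.antisymm (by rintro _ ⟨g, rfl⟩; exact sextet_smul S0_mem g.2) fun S hS => ?_
  obtain ⟨g, hg, e⟩ := trans_sextets S0_mem hS
  exact ⟨⟨g, hg⟩, e⟩

theorem ncard_sextets : sextets.ncard = 1771 := by
  rw [← orbit_S0, tS_sound.2.1]; decide +kernel

theorem exists_smul_S0 {S : Finset (Finset GolayPt)} (hS : S ∈ sextets) : ∃ g : M24, g • S0 = S := by
  rwa [← orbit_S0] at hS

theorem ncard_sextets_filter {P : Finset (Finset GolayPt) → Prop} {f : ℕ → Bool}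
    (hf : ∀ x ∈ sextets, P x ↔ f (skey x) = true) : {x | x ∈ sextets ∧ P x}.ncard = tS.count f :=
  acX.ncard_filter (orbit_S0.symm.trans tS_sound.1) tS_sound.2.2.1 (T.srt_nodup tS_sound.2.2.2) hf

theorem forall_sextets {f : ℕ → Bool} (h : (tS.all fun k _ _ => f k) = true) :
    ∀ x ∈ sextets, f (skey x) = true := by
  intro x hx
  rw [← orbit_S0, tS_sound.1] at hx
  obtain ⟨a, b, hm⟩ := T.mem_keys.1 hx.2
  exact (T.all_iff _ _).1 h _ _ _ hm

end Cfsg.Agent.M24
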