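import Cfsg.Agent.M24.TrioTree
import Cfsg.Agent.M24.SextTree
import Cfsg.Agent.M24.DodTree

/-! # Stabilisers of the standard octad, dodecad, sextet, trio, 3-set and dodecad pair -/

set_option autoImplicit false

namespace Cfsg.Agent.M24

open Finset MulAction
open scoped Pointwise symmDiff


theorem stab_of_chk {X : Type*} [MulAction M24 X] {D : Set X} {ix : X → ℕ} {ap' : ℕ → ℕ → ℕ}
    (A : AC mcode D ix ap') {x : X} (hx : x ∈ D) {Ls : List Lvl} (h1 : chkM Ls = true) {k n : ℕ}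
    (hk : ix x = k) (hn : (orbit M24 x).ncard = n)
    (h2 : band (lall (gensOf Ls) fun s => Nat.beq (ap' s k) k)
      (Nat.beq (chainSize Ls * n) 244823040) = true) :
    stabilizer M24 x = gen mcode (gensOf Ls) := by
  rw [band_eq, Bool.and_eq_true, Nat.beq_eq] at h2
  refine stab_eq (A.gen_le_stab hx (hk ▸ h2.1)) ?_
  rw [(chkM_sound h1).2.2.1, hn, card_M24, h2.2]

theorem inf_stab_of_chk {X : Type*} [MulAction M24 X] {D : Set X} {ix : X → ℕ}
    {ap' : ℕ → ℕ → ℕ} (A : AC mcode D ix ap') {x : X} (hx : x ∈ D) {Ls Ls' : List Lvl}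
    (h0 : chkM Ls = true) (h1 : chkM Ls' = true) {k hi : ℕ} {t : T} (hk : ix x = k)
    (ho : orbChk ap' (gensOf Ls) k hi t = true)
    (h2 : band (band (lall (gensOf Ls') fun s => Nat.beq (ap' s k) k)
      (lall (gensOf Ls') (sift mul one ap Ls)))
      (Nat.beq (chainSize Ls' * t.size) (chainSize Ls)) = true) :
    gen mcode (gensOf Ls) ⊓ stabilizer M24 x = gen mcode (gensOf Ls') := by
  simp only [band_eq, Bool.and_eq_true, Nat.beq_eq] at h2
  subst hk
  refine inf_stab_eq (gen_le fun g hg => ?_) (A.gen_le_stab hx h2.1.1) ?_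
  · exact ((chkM_sound h0).2.2.2 g).2 ((lall_iff _ _).1 h2.1.2 _ hg)
  · rw [(chkM_sound h1).2.2.1, (chkM_sound h0).2.2.1, (A.orb_sound (chkM_sound h0).1 hx ho).2.1,
      h2.2]

theorem orbit_ncard_of_chk {X Y : Type*} [MulAction M24 X] [MulAction M24 Y] {D : Set X}
    {ix : X → ℕ} {ap' : ℕ → ℕ → ℕ} (A : AC mcode D ix ap') {x : X} (hx : x ∈ D) {y : Y}
    {Ls : List Lvl} (h0 : chkM Ls = true) (hy : stabilizer M24 y = gen mcode (gensOf Ls))
    {k hi n : ℕ} {t : T} (hk : ix x = k)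
    (ho : band (orbChk ap' (gensOf Ls) k hi t) (Nat.beq t.size n) = true) :
    (orbit (stabilizer M24 y) x).ncard = n := by
  simp only [band_eq, Bool.and_eq_true, Nat.beq_eq] at ho
  subst hk
  rw [hy, (A.orb_sound (chkM_sound h0).1 hx ho.1).2.1, ho.2]

theorem card_of_chk {Ls : List Lvl} (h : chkM Ls = true) {n : ℕ} (hn : chainSize Ls = n) :
    Nat.card (gen mcode (gensOf Ls)) = n := (chkM_sound h).2.2.1.trans hn

theorem orbit_O0 : orbit M24 O0 = octads := by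
  refine Set.Subset.antisymm (by rintro _ ⟨g, rfl⟩; exact octad_smul O0_mem g.2) fun o ho => ?_
  obtain ⟨g, hg, e⟩ := trans_octads O0_mem ho
  exact ⟨⟨g, hg⟩, e⟩

theorem exists_smul_O0 {o : Finset GolayPt} (ho : o ∈ octads) : ∃ g : M24, g • O0 = o := by
  rwa [← orbit_O0] at ho

def cO_t0 : T := (.node (.node (.node (.node .nil (nat_lit 0) (nat_lit 1089) (nat_lit
  0x14cd23c0094454b612cd7d035195d7) .nil) (nat_lit 1) (nat_lit 1569) (nat_lit
  0x2c8c9229d6604f36d60ba200f10ef1) .nil) (nat_lit 2) (nat_lit 2) (nat_lit 0x2d90d4ac753849461a0f5485375c11)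
  (.node .nil (nat_lit 3) (nat_lit 1) (nat_lit 0x29ac764c08485ab24a147d46ab89d1) .nil)) (nat_lit 5) (nat_lit
  16) (nat_lit 0x1d4c892809385b3611f0a5aeb289d1) (.node (.node .nil (nat_lit 14) (nat_lit 49) (nat_lit
  0x1190b55630a5ce49bd964c8ad00c2e) .nil) (nat_lit 17) (nat_lit 34) (nat_lit 0x19a8d812f67b9475d50994c4c09620)
  (.node .nil (nat_lit 23) (nat_lit 0) (nat_lit 0xbdab49ca307b9ac5a928398a418820) .nil)))
def cO_l0 : Lvl := ⟨nat_lit 23, [nat_lit 0x1d4c892809385b3611f0a5aeb289d1, nat_lit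
  0x15a0c2180940e8b91e757aaed895c1], [nat_lit 0, nat_lit 0], cO_t0⟩
def cO_t1 : T := (.node (.node (.node .nil (nat_lit 0) (nat_lit 0) (nat_lit 0xbdab49ca307b9ac5a928398a418820)
  .nil) (nat_lit 1) (nat_lit 1) (nat_lit 0xbc9ec320756955349e9682c448b801) (.node .nil (nat_lit 2) (nat_lit
  49) (nat_lit 0xb9d10a1029ab98b549e66cc76880a2) .nil)) (nat_lit 3) (nat_lit 545) (nat_lit
  0xb920664c72a46c9abcea5b428008ae) (.node (.node .nil (nat_lit 5) (nat_lit 2) (nat_lit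
  0xba92d454af3856685a64a30121b851) .nil) (nat_lit 14) (nat_lit 34) (nat_lit 0xb9e8ab3c4d8012bac8c464c28895c3)
  (.node .nil (nat_lit 17) (nat_lit 17) (nat_lit 0xbaa474900b80a866dab37b228185c5) .nil)))
def cO_l1 : Lvl := ⟨nat_lit 0, [nat_lit 0xba20965867a89f43357254dc489401, nat_lit
  0xbaa474900b80a866dab37b228185c5], [nat_lit 2097, nat_lit 0x1104318844280831], cO_t1⟩
def cO_t2 : T := (.node (.node (.node .nil (nat_lit 1) (nat_lit 0) (nat_lit 0xbdab49ca307b9ac5a928398a418820)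
  .nil) (nat_lit 2) (nat_lit 2) (nat_lit 0xbaccf25056938f584da84b0aa18620) (.node .nil (nat_lit 3) (nat_lit 1)
  (nat_lit 0xbc92a6cdcb816a743c8ca58460c460) .nil)) (nat_lit 5) (nat_lit 65) (nat_lit
  0xbd1b3391d0b14c9449557ac2c88860) (.node (.node .nil (nat_lit 14) (nat_lit 560) (nat_lit
  0xbd52d7c234205485c99634dc711460) .nil) (nat_lit 17) (nat_lit 17) (nat_lit 0xbc19253c2ba3926b10e86d4b31c440)
  .nil))
def cO_l2 : Lvl := ⟨nat_lit 1, [nat_lit 0xb99a79584f54668852ab611c909460, nat_lit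
  0xbc19253c2ba3926b10e86d4b31c440], [nat_lit 0x20c6110844110450, nat_lit 558114], cO_t2⟩
def cO_t3 : T := (.node (.node (.node .nil (nat_lit 2) (nat_lit 0) (nat_lit 0xbdab49ca307b9ac5a928398a418820)
  .nil) (nat_lit 3) (nat_lit 2) (nat_lit 0xbaa93ab06b7bac933644440a714420) .nil) (nat_lit 5) (nat_lit 65)
  (nat_lit 0xbd2c95bdc830e126b0933a8552c420) (.node (.node .nil (nat_lit 14) (nat_lit 545) (nat_lit
  0xbcd5233dc48096cb24f54363428c20) .nil) (nat_lit 17) (nat_lit 17) (nat_lit 0xbb675a24467b9528598722ca888c20)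
  .nil))
def cO_l3 : Lvl := ⟨nat_lit 2, [nat_lit 0xb9ac8229d3946b47ad898346728820, nat_lit
  0xbb675a24467b9528598722ca888c20], [nat_lit 0x8c0411082108821, nat_lit 0x11404110a11], cO_t3⟩
def cO_t4 : T := (.node (.node (.node .nil (nat_lit 3) (nat_lit 0) (nat_lit 0xbdab49ca307b9ac5a928398a418820)
  .nil) (nat_lit 5) (nat_lit 17) (nat_lit 0xba26d3aa32b1569a408fa986c70820) .nil) (nat_lit 14) (nat_lit 1)
  (nat_lit 0xb9994459c748e6483d4d5c8b588820) (.node .nil (nat_lit 17) (nat_lit 16) (nat_lit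
  0xbc8946986b545153a5f3858ac70820) .nil))
def cO_l4 : Lvl := ⟨nat_lit 3, [nat_lit 0xbc8946986b545153a5f3858ac70820, nat_lit
  0xba26d3aa32b1569a408fa986c70820, nat_lit 0xbae703bcac245144b6caa99d218820], [nat_lit 0x3108a02, nat_lit
  0x2208a1188422, nat_lit 0x208a11], cO_t4⟩
def cO_t5 : T := (.node (.node .nil (nat_lit 5) (nat_lit 0) (nat_lit 0xbdab49ca307b9ac5a928398a418820) .nil)
  (nat_lit 14) (nat_lit 3) (nat_lit 0xbd987929cda948f4ccd442e3018820) (.node .nil (nat_lit 17) (nat_lit 1)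
  (nat_lit 0xb92924d4b65c5b33a1867a9d018820) .nil))
def cO_l5 : Lvl := ⟨nat_lit 5, [nat_lit 0xbc255651c4395a979a6a5a23618820, nat_lit
  0xb9944a31d5694e85c2d27a63318820, nat_lit 0xbd9e854ca46461534967a25cd18820], [nat_lit 17442, nat_lit 114753,
  nat_lit 16449], cO_t5⟩
def cO_t6 : T := (.node (.node (.node (.node (.node .nil (nat_lit 4) (nat_lit 0) (nat_lit
  0xbdab49ca307b9ac5a928398a418820) .nil) (nat_lit 6) (nat_lit 35) (nat_lit 0xb9e086be3593a6952d94b10a618820)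
  .nil) (nat_lit 7) (nat_lit 1) (nat_lit 0xb99b28523343aaa4b16f258a718820) (.node .nil (nat_lit 8) (nat_lit
  68) (nat_lit 0xbc92655a2c3b9706cea47d0a818820) .nil)) (nat_lit 9) (nat_lit 36) (nat_lit
  0xba91094e346b9e63d8955b0a918820) (.node (.node .nil (nat_lit 10) (nat_lit 1124) (nat_lit
  0xba64d4562f83a87312d362caa18820) .nil) (nat_lit 11) (nat_lit 4) (nat_lit 0xbb1f3a4232ab916218ed4a8ab18820)
  (.node .nil (nat_lit 12) (nat_lit 100) (nat_lit 0xbae957b6289ba44b1cd0524ac18820) .nil))) (nat_lit 13)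
  (nat_lit 2) (nat_lit 0xbc0ea332364b892451ebaccad18820) (.node (.node (.node .nil (nat_lit 15) (nat_lit 1092)
  (nat_lit 0xbd17661a2a23933ac1a7448af18820) .nil) (nat_lit 16) (nat_lit 67) (nat_lit
  0xbb4c93ae2453ac893e8c9d4b018820) (.node .nil (nat_lit 18) (nat_lit 2148) (nat_lit
  0xba1474922b3398d85676a3cb218820) .nil)) (nat_lit 19) (nat_lit 1091) (nat_lit
  0xbd6cb22627638cfa224a834b318820) (.node (.node .nil (nat_lit 20) (nat_lit 34916) (nat_lit
  0xbbd8459e29b39559b606920b418820) .nil) (nat_lit 21) (nat_lit 34) (nat_lit 0xbcc8cb2a265b8f47c9096c0b518820)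
  (.node .nil (nat_lit 22) (nat_lit 3) (nat_lit 0xb926faa22da3a0b6255231cb618820) .nil))))
def cO_l6 : Lvl := ⟨nat_lit 4, [nat_lit 0xb99b28523343aaa4b16f258a718820, nat_lit
  0xbc0ea332364b892451ebaccad18820, nat_lit 0xb926faa22da3a0b6255231cb618820, nat_lit
  0xbb1f3a4232ab916218ed4a8ab18820], [nat_lit 98, nat_lit 1074, nat_lit 3184, nat_lit 1106], cO_t6⟩
def cO : List Lvl := [cO_l0, cO_l1, cO_l2, cO_l3, cO_l4, cO_l5, cO_l6]
theorem cO_chk : chkM cO = true := by decide +kernel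

theorem stab_O0 : stabilizer M24 O0 = gen mcode (gensOf cO) :=
  stab_of_chk acSM trivial cO_chk mask_O0 (by rw [orbit_O0, ncard_octads]) (by decide +kernel)

def cD_t0 : T := (.node (.node (.node (.node .nil (nat_lit 0) (nat_lit 0) (nat_lit
  0xbdab49ca307b9ac5a928398a418820) .nil) (nat_lit 1) (nat_lit 80) (nat_lit 0x2aeee9b6ac54644b1c2878e9012406)
  (.node .nil (nat_lit 2) (nat_lit 1) (nat_lit 0x5bec55368c99c90ac42274ae348106) .nil)) (nat_lit 3) (nat_lit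
  17) (nat_lit 0x5dd547c8ed744ccad901988b001069) (.node (.node .nil (nat_lit 4) (nat_lit 34) (nat_lit
  0x7c6a5734e354d905d8c1a12e044849) .nil) (nat_lit 6) (nat_lit 16) (nat_lit 0x2d5717994cb1e50bcc617028d22122)
  .nil)) (nat_lit 8) (nat_lit 33) (nat_lit 0xacdf7890b05386cb51003b56909852) (.node (.node (.node .nil
  (nat_lit 9) (nat_lit 2) (nat_lit 0xb29743c9c49be0cbd4098b4a209903) .nil) (nat_lit 12) (nat_lit 34881)
  (nat_lit 0x7bad7a8cb0a1e405cc24536224a0cc) .nil) (nat_lit 13) (nat_lit 529) (nat_lit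
  0xb9671b19d23a8105d4297a28c13483) (.node (.node .nil (nat_lit 16) (nat_lit 1090) (nat_lit
  0x8d965a3660728707d5263b2f211028) .nil) (nat_lit 18) (nat_lit 528) (nat_lit
  0xa2eeab0270ab8cc2bc8938a3268468) .nil)))
def cD_l0 : Lvl := ⟨nat_lit 0, [nat_lit 0x2d5717994cb1e50bcc617028d22122, nat_lit
  0x5dd547c8ed744ccad901988b001069], [nat_lit 0, nat_lit 0], cD_t0⟩
def cD_t1 : T := (.node (.node (.node (.node .nil (nat_lit 1) (nat_lit 0) (nat_lit
  0xbdab49ca307b9ac5a928398a418820) .nil) (nat_lit 2) (nat_lit 1) (nat_lit 0x59ef19a5cdad8d053c48a0cb260480)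
  .nil) (nat_lit 3) (nat_lit 17) (nat_lit 0x75a6f540edbac498d246292ac08d00) (.node (.node .nil (nat_lit 4)
  (nat_lit 16) (nat_lit 0xab9e79928c54603bae48b34a132440) .nil) (nat_lit 6) (nat_lit 66) (nat_lit
  0xa58f32b1c953e46bd483586286c040) .nil)) (nat_lit 8) (nat_lit 2) (nat_lit 0x7d8aaaa572a5e0474d818a0e613460)
  (.node (.node (.node .nil (nat_lit 9) (nat_lit 33) (nat_lit 0x5516e98ac6b9c6d7d4288b0a981240) .nil) (nat_lit
  12) (nat_lit 514) (nat_lit 0x538ab7cae43d5818cc62a22cd4c0c0) .nil) (nat_lit 13) (nat_lit 49) (nat_lit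
  0xb1e757b6865a822745232caf023100) (.node (.node .nil (nat_lit 16) (nat_lit 1569) (nat_lit
  0x716d47a54199e468ad83a92ed12200) .nil) (nat_lit 18) (nat_lit 528) (nat_lit
  0x7c556984e35d186adc88740a26c920) .nil)))
def cD_l1 : Lvl := ⟨nat_lit 1, [nat_lit 0xab9e79928c54603bae48b34a132440, nat_lit
  0x75a6f540edbac498d246292ac08d00], [nat_lit 558640, nat_lit 0x5010a0280822], cD_t1⟩
def cD_t2 : T := (.node (.node (.node (.node .nil (nat_lit 2) (nat_lit 0) (nat_lit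
  0xbdab49ca307b9ac5a928398a418820) .nil) (nat_lit 3) (nat_lit 1104) (nat_lit
  0x8adf3a22edaba04b2932398ac10c20) .nil) (nat_lit 4) (nat_lit 1058) (nat_lit
  0x3c67429948755245dd92b0de283420) (.node (.node .nil (nat_lit 6) (nat_lit 514) (nat_lit
  0x7d2ca3a6645c588a946670af06c820) .nil) (nat_lit 8) (nat_lit 33826) (nat_lit
  0x7ba2b3c2a4559a899642a1ae960c20) .nil)) (nat_lit 9) (nat_lit 16) (nat_lit 0x7d5565b2663c530a384428ee86c820)
  (.node (.node (.node .nil (nat_lit 12) (nat_lit 33) (nat_lit 0x3ae93725522d4c28d868bb1e483420) .nil)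
  (nat_lit 13) (nat_lit 34) (nat_lit 0x2cd76b8dc48a848a3e0cab4f232420) .nil) (nat_lit 16) (nat_lit 1057)
  (nat_lit 0x7cd71536a23da09750c42cae860c20) (.node .nil (nat_lit 18) (nat_lit 1) (nat_lit
  0x2d2cb889ccba8729d5a47c0e832420) .nil)))
def cD_l2 : Lvl := ⟨nat_lit 2, [nat_lit 0x7d5565b2663c530a384428ee86c820, nat_lit
  0xbae957b6289ba44b1cd0524ac18820], [nat_lit 0x21104211083108621, nat_lit 0x110a101405010841], cD_t2⟩
def cD_t3 : T := (.node (.node (.node (.node .nil (nat_lit 3) (nat_lit 0) (nat_lit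
  0xbdab49ca307b9ac5a928398a418820) .nil) (nat_lit 4) (nat_lit 16) (nat_lit 0xa56f6510b28ada874d867a4e380820)
  .nil) (nat_lit 6) (nat_lit 80) (nat_lit 0x2be2abca8db1cc99d50470d6c80820) (.node .nil (nat_lit 8) (nat_lit
  66) (nat_lit 0xb5dd4799509d4895c5833c8ad40820) .nil)) (nat_lit 9) (nat_lit 2) (nat_lit
  0x8a9e5ab6d074cc83dc695929260820) (.node (.node (.node .nil (nat_lit 12) (nat_lit 17) (nat_lit
  0x54665712f0abe433d90c5b68648820) .nil) (nat_lit 13) (nat_lit 1073) (nat_lit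
  0x51e6f742c4a14728dd265b6ac40820) .nil) (nat_lit 16) (nat_lit 1) (nat_lit 0xad2d7541e33ada974ccc2a23220820)
  (.node .nil (nat_lit 18) (nat_lit 33) (nat_lit 0xb5e9598ce42b9a65a9098b1f090820) .nil)))
def cD_l3 : Lvl := ⟨nat_lit 3, [nat_lit 0xa56f6510b28ada874d867a4e380820, nat_lit
  0x54665712f0abe433d90c5b68648820], [nat_lit 34849, nat_lit 0x84220c61080821884220c610], cD_t3⟩
def cD_t4 : T := (.node (.node (.node (.node .nil (nat_lit 4) (nat_lit 0) (nat_lit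
  0xbdab49ca307b9ac5a928398a418820) .nil) (nat_lit 6) (nat_lit 17) (nat_lit 0x89df3ac2eda150655992591c918820)
  .nil) (nat_lit 8) (nat_lit 34) (nat_lit 0x75576518ac3dd28a3e449b63018820) (.node .nil (nat_lit 9) (nat_lit
  2) (nat_lit 0x8aa6fa22f2a96093ac8db31c618820) .nil)) (nat_lit 12) (nat_lit 33) (nat_lit
  0xbae957b6289ba44b1cd0524ac18820) (.node (.node .nil (nat_lit 13) (nat_lit 1) (nat_lit
  0x2ccea5b1c9b448d7d506a42f218820) .nil) (nat_lit 16) (nat_lit 49) (nat_lit 0x752cb3a4a455cd0acdac7ca2818820)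
  (.node .nil (nat_lit 18) (nat_lit 16) (nat_lit 0x2bd47b11c65c5929d209aa2ed18820) .nil)))
def cD_l4 : Lvl := ⟨nat_lit 4, [nat_lit 0x2bd47b11c65c5929d209aa2ed18820, nat_lit
  0x89df3ac2eda150655992591c918820], [nat_lit 558641, nat_lit 0x42208822], cD_t4⟩
def cD : List Lvl := [cD_l0, cD_l1, cD_l2, cD_l3, cD_l4]
theorem cD_chk : chkM cD = true := by decide +kernel

theorem stab_D0 : stabilizer M24 D0 = gen mcode (gensOf cD) :=
  stab_of_chk acSM trivial cD_chk mask_D0 (by rw [orbit_D0, ncard_dodecads]) (by decide +kernel)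

def cS_t0 : T := (.node (.node (.node (.node (.node .nil (nat_lit 0) (nat_lit 0) (nat_lit
  0xbdab49ca307b9ac5a928398a418820) .nil) (nat_lit 1) (nat_lit 16450) (nat_lit
  0x14d2d79646832b11d88e5510758417) (.node .nil (nat_lit 2) (nat_lit 65) (nat_lit
  0x148878152b351038d66eb354c78037) .nil)) (nat_lit 3) (nat_lit 33) (nat_lit 0x8392851823588a79b2557d2f1012cd)
  (.node (.node .nil (nat_lit 4) (nat_lit 80) (nat_lit 0x505cd8cd82b4af534087195005d12f) .nil) (nat_lit 5)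
  (nat_lit 2097) (nat_lit 0x82d45a4ee88858730dd54bc121588d) .nil)) (nat_lit 6) (nat_lit 2) (nat_lit
  0x1902cbd0f65ce0a7a249102ad315d1) (.node (.node (.node .nil (nat_lit 7) (nat_lit 561) (nat_lit
  0x734490a0c47d6d25d14c05cf09c4a3) .nil) (nat_lit 8) (nat_lit 560) (nat_lit 0xa16b6306516a1c2b920099d835a54f)
  .nil) (nat_lit 9) (nat_lit 16449) (nat_lit 0x938d73aac31122fa0409acda582d0c) (.node (.node .nil (nat_lit 10)
  (nat_lit 16912) (nat_lit 0x522221d8ccbd56d800242ba723a68f) .nil) (nat_lit 11) (nat_lit 1) (nat_lit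
  0x3a6d16890f1c957015c18119459ab3) .nil))) (nat_lit 12) (nat_lit 16929) (nat_lit
  0xa44eb35da3658a0149019d48e83d49) (.node (.node (.node (.node .nil (nat_lit 13) (nat_lit 528) (nat_lit
  0x285065a4973d80a7ceb4649a283a23) .nil) (nat_lit 14) (nat_lit 514) (nat_lit
  0x79905612f5180ed845d692c3312934) .nil) (nat_lit 15) (nat_lit 34) (nat_lit 0x5d2b73c609035e51844e34eca23248)
  (.node (.node .nil (nat_lit 16) (nat_lit 1089) (nat_lit 0x30a907b1c02442b459b24a8b71cea7) .nil) (nat_lit 17)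
  (nat_lit 17) (nat_lit 0x9c0b27240d584947b10a88c56b9ea6) .nil)) (nat_lit 18) (nat_lit 2081) (nat_lit
  0xb4e49401c6796a2baa815b0678b490) (.node (.node (.node .nil (nat_lit 19) (nat_lit 16) (nat_lit
  0x6542403a87826651b6d1b89467c90b) .nil) (nat_lit 20) (nat_lit 545) (nat_lit
  0x8a20021d4bba593308356da9278cae) .nil) (nat_lit 21) (nat_lit 67121) (nat_lit
  0xa20130b9ac3124589ea3b8acb8254f) (.node (.node .nil (nat_lit 22) (nat_lit 2562) (nat_lit
  0x581355346134450b1e64a3dd72a24c) .nil) (nat_lit 23) (nat_lit 529) (nat_lit 0x1d4e4d9731a0c48162da3e5565c22)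
  .nil))))
def cS_l0 : Lvl := ⟨nat_lit 0, [nat_lit 0x6542403a87826651b6d1b89467c90b, nat_lit
  0x9c0b27240d584947b10a88c56b9ea6], [nat_lit 0, nat_lit 0], cS_t0⟩
def cS_t1 : T := (.node (.node (.node (.node (.node .nil (nat_lit 3) (nat_lit 0) (nat_lit
  0xbdab49ca307b9ac5a928398a418820) .nil) (nat_lit 4) (nat_lit 66) (nat_lit 0xbba6cad205412297ae4a31da3b0820)
  .nil) (nat_lit 5) (nat_lit 16450) (nat_lit 0xd48f830a7546725a6886d86670ae0) (.node (.node .nil (nat_lit 6)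
  (nat_lit 1) (nat_lit 0x9dd28a495658d47a16a28e1368ae0) .nil) (nat_lit 7) (nat_lit 1090) (nat_lit
  0xda3474ab054c8b63d28194cd38ae0) .nil)) (nat_lit 8) (nat_lit 2) (nat_lit 0xbacd03c68c23e45759a3acd2850440)
  (.node (.node (.node .nil (nat_lit 9) (nat_lit 514) (nat_lit 0xa5a5b4d8f8ae87ab8668124a45c40) .nil) (nat_lit
  10) (nat_lit 17) (nat_lit 0xba8f13365472d30b0ca49d58f40440) .nil) (nat_lit 11) (nat_lit 16464) (nat_lit
  0x12de7516d2ab51119a6e4d20c25c20) (.node .nil (nat_lit 12) (nat_lit 34865) (nat_lit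
  0x1356a444c47cec372685932b0386e0) .nil))) (nat_lit 13) (nat_lit 16) (nat_lit
  0xba0c252655d46f4a24ab34f130ae0) (.node (.node (.node (.node .nil (nat_lit 14) (nat_lit 1104) (nat_lit
  0x13290554abb0d13334877a5d28dc20) .nil) (nat_lit 15) (nat_lit 2114) (nat_lit
  0xbbce5341891a28d23a369d64a58440) .nil) (nat_lit 16) (nat_lit 1089) (nat_lit
  0x139849194383e359b6c75a2854dc20) (.node .nil (nat_lit 17) (nat_lit 1584) (nat_lit
  0x13e55610743955684ccd42e2975c20) .nil)) (nat_lit 18) (nat_lit 529) (nat_lit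
  0xa2d368e8caa645718f1241eb55c40) (.node (.node (.node .nil (nat_lit 19) (nat_lit 49) (nat_lit
  0xa0a419932b3d753b6138ba8c55c40) .nil) (nat_lit 20) (nat_lit 16929) (nat_lit
  0x11123a1d762a213ac5c67a98d95c20) .nil) (nat_lit 21) (nat_lit 34) (nat_lit 0xbc75292549b130b1ccd7456a45c40)
  (.node .nil (nat_lit 22) (nat_lit 561) (nat_lit 0xb8e72aa5b15d8b45218f31e0e20820) .nil))))
def cS_l1 : Lvl := ⟨nat_lit 3, [nat_lit 0xba0c252655d46f4a24ab34f130ae0, nat_lit
  0xba8f13365472d30b0ca49d58f40440], [nat_lit 0x108630, nat_lit 0x2808508c20208822], cS_t1⟩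
def cS_t2 : T := (.node (.node (.node (.node (.node .nil (nat_lit 4) (nat_lit 0) (nat_lit
  0xbdab49ca307b9ac5a928398a418820) .nil) (nat_lit 6) (nat_lit 2640) (nat_lit
  0xbb213b3e2b31514554e9691d218440) .nil) (nat_lit 7) (nat_lit 65) (nat_lit 0x11acf831c74c6ab45152234b31dc20)
  (.node .nil (nat_lit 8) (nat_lit 1) (nat_lit 0x996f436354b8f682a84930b31dc40) .nil)) (nat_lit 9) (nat_lit
  515) (nat_lit 0xd6907b0a76c4d24588b525d31dc40) (.node (.node .nil (nat_lit 10) (nat_lit 2098) (nat_lit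
  0xb1ed51e32b1575312134d1c818ae0) .nil) (nat_lit 11) (nat_lit 3) (nat_lit 0x12df54d8b23c58d21a70551c8186e0)
  (.node .nil (nat_lit 12) (nat_lit 2562) (nat_lit 0x9d9494233538c46a5f642cb51dc40) .nil))) (nat_lit 13)
  (nat_lit 80) (nat_lit 0xb509955d6544863d1f362cb018ae0) (.node (.node (.node .nil (nat_lit 15) (nat_lit 2083)
  (nat_lit 0xba136518ac239759b607a3e3218440) .nil) (nat_lit 16) (nat_lit 34) (nat_lit
  0xc24a44dc44c6c733e955b0ad18ae0) (.node .nil (nat_lit 18) (nat_lit 2) (nat_lit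
  0xbacea991c87c58db5130a98b218440) .nil)) (nat_lit 19) (nat_lit 16) (nat_lit
  0x1320921e2ba3a46aa9f36d8a8186e0) (.node (.node .nil (nat_lit 20) (nat_lit 3107) (nat_lit
  0x14a64ad1ccb156a4b60f31e28186e0) .nil) (nat_lit 21) (nat_lit 97) (nat_lit 0xbd087830af9c54b91aa8b35c918820)
  (.node .nil (nat_lit 22) (nat_lit 82) (nat_lit 0x111464a230395ac5d6727d1d61dc20) .nil))))
def cS_l2 : Lvl := ⟨nat_lit 4, [nat_lit 0x1320921e2ba3a46aa9f36d8a8186e0, nat_lit
  0xbacea991c87c58db5130a98b218440, nat_lit 0xca864c1c8a958db1e647aa2b1dc40], [nat_lit 0x8a0208441, nat_lit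
  0x1010441, nat_lit 0x104411043180842], cS_t2⟩
def cS_t3 : T := (.node (.node (.node (.node .nil (nat_lit 7) (nat_lit 0) (nat_lit
  0xbdab49ca307b9ac5a928398a418820) .nil) (nat_lit 8) (nat_lit 1) (nat_lit 0xd994599cd7c6159a547448a418ae0)
  .nil) (nat_lit 9) (nat_lit 98) (nat_lit 0xb553a48b033ac85d4ec4be2418ae0) (.node .nil (nat_lit 10) (nat_lit
  67) (nat_lit 0xbc2954c9d6345ac41e6b53ca418440) .nil)) (nat_lit 11) (nat_lit 49) (nat_lit
  0x1410a618b67b9b33d1355ca241dc20) (.node (.node (.node .nil (nat_lit 12) (nat_lit 34) (nat_lit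
  0xbb56941a30796c7aaa93649c418440) .nil) (nat_lit 19) (nat_lit 2) (nat_lit 0xc26a3c9cd796c86268ba9a241dc40)
  .nil) (nat_lit 20) (nat_lit 3) (nat_lit 0x1592754a2d3160b64ea8a3dc41dc20) (.node .nil (nat_lit 21) (nat_lit
  17) (nat_lit 0x134e9ac8b67c60b4514c999c4186e0) .nil)))
def cS_l3 : Lvl := ⟨nat_lit 7, [nat_lit 0xd994599cd7c6159a547448a418ae0, nat_lit
  0x134e9ac8b67c60b4514c999c4186e0, nat_lit 0x1592754a2d3160b64ea8a3dc41dc20], [nat_lit 16449, nat_lit
  0x184610ca101c431, nat_lit 0x41186509083208e11], cS_t3⟩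
def cS_t4 : T := (.node (.node .nil (nat_lit 1) (nat_lit 0) (nat_lit 0xbdab49ca307b9ac5a928398a418820) .nil)
  (nat_lit 2) (nat_lit 1) (nat_lit 0xbda68abcad93a0a4b17439a2418440) .nil)
def cS_l4 : Lvl := ⟨nat_lit 1, [nat_lit 0xbda68abcad93a0a4b17439a2418440], [nat_lit 3122], cS_t4⟩
def cS : List Lvl := [cS_l0, cS_l1, cS_l2, cS_l3, cS_l4]
theorem cS_chk : chkM cS = true := by decide +kernel

theorem stab_S0 : stabilizer M24 S0 = gen mcode (gensOf cS) :=
  stab_of_chk acX S0_mem cS_chk skey_S0 (by rw [orbit_S0, ncard_sextets]) (by decide +kernel)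

def cT_t0 : T := (.node (.node (.node (.node (.node .nil (nat_lit 0) (nat_lit 0) (nat_lit
  0xbdab49ca307b9ac5a928398a418820) .nil) (nat_lit 1) (nat_lit 16912) (nat_lit
  0xbd1509546f30973b34e44a02c71411) (.node .nil (nat_lit 2) (nat_lit 528) (nat_lit
  0xbd48a3204d5866f931343da302806e) .nil)) (nat_lit 3) (nat_lit 16) (nat_lit 0xba2845d82c9c5ed340f54c9ca00c45)
  (.node (.node .nil (nat_lit 4) (nat_lit 560) (nat_lit 0xb05cf8c8c254ee86512b196a03c08d) .nil) (nat_lit 5)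
  (nat_lit 1) (nat_lit 0xbc915799ca69590990f64ac1410623) .nil)) (nat_lit 6) (nat_lit 1584) (nat_lit
  0x944ad7196123ef6854f3101034aa8c) (.node (.node (.node .nil (nat_lit 7) (nat_lit 2) (nat_lit
  0x7ddd08d963250a6acced006424b10a) .nil) (nat_lit 8) (nat_lit 1090) (nat_lit
  0xa36a29dd070a8d12b86025a504ad8f) .nil) (nat_lit 9) (nat_lit 65) (nat_lit 0x7d9ae206932c8c3888173d55062169)
  (.node (.node .nil (nat_lit 10) (nat_lit 17) (nat_lit 0xb496e51674bd502880614b1af810c7) .nil) (nat_lit 11)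
  (nat_lit 17953) (nat_lit 0x934d1b09670a08e05c6584d357b154) .nil))) (nat_lit 12) (nat_lit 1104) (nat_lit
  0x6b14145ecb74e80888654caaf21e06) (.node (.node (.node (.node .nil (nat_lit 13) (nat_lit 34) (nat_lit
  0x6dcaa74a62a540b43d2c1c4c13c2c4) .nil) (nat_lit 14) (nat_lit 33) (nat_lit 0xb9ac86aca46020a7d1323cc750c5c2)
  .nil) (nat_lit 15) (nat_lit 1089) (nat_lit 0x6c985a46af01962704774a08a85a67) (.node (.node .nil (nat_lit 16)
  (nat_lit 514) (nat_lit 0x9de2c0a0c0511d2a2d2f28ac33b6b0) .nil) (nat_lit 17) (nat_lit 1057) (nat_lit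
  0xbae5664c1480d446d4e64bc488b8a1) .nil)) (nat_lit 18) (nat_lit 49) (nat_lit
  0x91a65201f5ba2c170c513c18d55169) (.node (.node (.node .nil (nat_lit 19) (nat_lit 561) (nat_lit
  0x916350354eb2c2499e0618917a3d89) .nil) (nat_lit 20) (nat_lit 1073) (nat_lit
  0x32de0a0da8bda512882e4aa0c25667) .nil) (nat_lit 21) (nat_lit 1058) (nat_lit
  0x65c04299e1aa073b34f0139714aa54) (.node (.node .nil (nat_lit 22) (nat_lit 1569) (nat_lit
  0x90233bc103b3035234e613925a2dea) .nil) (nat_lit 23) (nat_lit 34850) (nat_lit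
  0x34cfac9d0514886512b3ce3618ae1) .nil))))
def cT_l0 : Lvl := ⟨nat_lit 0, [nat_lit 0xba2845d82c9c5ed340f54c9ca00c45, nat_lit
  0xb496e51674bd502880614b1af810c7], [nat_lit 0, nat_lit 0], cT_t0⟩
def cT_t1 : T := (.node (.node (.node (.node (.node .nil (nat_lit 4) (nat_lit 0) (nat_lit
  0xbdab49ca307b9ac5a928398a418820) .nil) (nat_lit 6) (nat_lit 528) (nat_lit 0x8d5af32dd0614ea4493499036b8c40)
  .nil) (nat_lit 7) (nat_lit 1) (nat_lit 0x29e6ab5030908cb7a12c2546d746e0) (.node .nil (nat_lit 8) (nat_lit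
  1089) (nat_lit 0x8a12794cab806866d6c47b2ea70860) .nil)) (nat_lit 9) (nat_lit 33826) (nat_lit
  0x129e74c032ac5869b4965a2f4195c0) (.node (.node .nil (nat_lit 10) (nat_lit 49) (nat_lit
  0xba1464d634385f0692d35b0b210dc0) .nil) (nat_lit 11) (nat_lit 17) (nat_lit 0xaa8d49852b457021e75622ef71460)
  (.node .nil (nat_lit 12) (nat_lit 34) (nat_lit 0x1c9934c04b6b94431ed54522fb84a0) .nil))) (nat_lit 13)
  (nat_lit 16) (nat_lit 0xccd2abc5058c886512ab36e72ba20) (.node (.node (.node .nil (nat_lit 15) (nat_lit 2)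
  (nat_lit 0x2bd154c1cc20e876da665484b0c6e0) .nil) (nat_lit 16) (nat_lit 1090) (nat_lit
  0x8b6acb2dc47de68549343c02628860) (.node .nil (nat_lit 18) (nat_lit 80) (nat_lit
  0xba6504122c685663d6767d0aa10dc0) .nil)) (nat_lit 19) (nat_lit 1057) (nat_lit
  0x734ec220b050672a2d2f358558dc60) (.node (.node .nil (nat_lit 20) (nat_lit 529) (nat_lit
  0x8d2444b5cf989903daa64282b1dca0) .nil) (nat_lit 21) (nat_lit 16912) (nat_lit
  0x1188b6b07045ed453d32a9e33095c0) (.node .nil (nat_lit 22) (nat_lit 33) (nat_lit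
  0x192c83aaf0a46af9312b6cdc6104a0) .nil))))
def cT_l1 : Lvl := ⟨nat_lit 4, [nat_lit 0xccd2abc5058c886512ab36e72ba20, nat_lit
  0xaa8d49852b457021e75622ef71460], [nat_lit 558625, nat_lit 68113], cT_t1⟩
def cT_t2 : T := (.node (.node (.node (.node .nil (nat_lit 8) (nat_lit 0) (nat_lit
  0xbdab49ca307b9ac5a928398a418820) .nil) (nat_lit 9) (nat_lit 2) (nat_lit 0xc0d2aa4b65c5af5311499c6470ae0)
  .nil) (nat_lit 10) (nat_lit 16) (nat_lit 0x2d6123307350acb7a13469c2475e20) (.node .nil (nat_lit 11) (nat_lit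
  514) (nat_lit 0x8ccec8243578eca42e92335c415ca0) .nil)) (nat_lit 12) (nat_lit 529) (nat_lit
  0x8ccd46c8555bac853d893c0640dca0) (.node (.node .nil (nat_lit 15) (nat_lit 528) (nat_lit
  0xc26c3adc645eaf55132b362411460) .nil) (nat_lit 18) (nat_lit 33) (nat_lit 0x71daaaa0b6644d492d2f9c04408ee0)
  (.node .nil (nat_lit 20) (nat_lit 1) (nat_lit 0x136c88503558cf263d2a34ee48b8a0) .nil)))
def cT_l2 : Lvl := ⟨nat_lit 8, [nat_lit 0x2d6123307350acb7a13469c2475e20, nat_lit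
  0xc2683d1d660daa7ae493562428ae0], [nat_lit 0x4420c630, nat_lit 0x1088431], cT_t2⟩
def cT_t3 : T := (.node (.node (.node .nil (nat_lit 1) (nat_lit 0) (nat_lit 0xbdab49ca307b9ac5a928398a418820)
  .nil) (nat_lit 2) (nat_lit 16) (nat_lit 0x134cf9ae364961262a88a9c64706e0) (.node .nil (nat_lit 3) (nat_lit
  80) (nat_lit 0x71cccb3ef5545a95ca889c064088a0) .nil)) (nat_lit 5) (nat_lit 49) (nat_lit
  0x8ce093a9c695db45bd88b542428860) (.node (.node .nil (nat_lit 14) (nat_lit 2) (nat_lit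
  0x2d674b26ed604eb7c94881a241b840) .nil) (nat_lit 17) (nat_lit 34) (nat_lit 0x71e6983c36588d2a31486d62428ee0)
  (.node .nil (nat_lit 23) (nat_lit 1) (nat_lit 0xc0e99b22da0ecb929e8355c42dc40) .nil)))
def cT_l3 : Lvl := ⟨nat_lit 1, [nat_lit 0x134cf9ae364961262a88a9c64706e0, nat_lit
  0x8ced4aa8a758a0f6264869ae4185c0], [nat_lit 33872, nat_lit 0x101082110a10], cT_t3⟩
def cT_t4 : T := (.node (.node .nil (nat_lit 2) (nat_lit 0) (nat_lit 0xbdab49ca307b9ac5a928398a418820) .nil)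
  (nat_lit 5) (nat_lit 1) (nat_lit 0x71db2abcb0a0e6c5256835844bc420) (.node .nil (nat_lit 17) (nat_lit 16)
  (nat_lit 0x19a6f6d05095eac4ad48b1e2471420) .nil))
def cT_l4 : Lvl := ⟨nat_lit 2, [nat_lit 0x19a6f6d05095eac4ad48b1e2471420], [nat_lit 0x4108831], cT_t4⟩
def cT : List Lvl := [cT_l0, cT_l1, cT_l2, cT_l3, cT_l4]
theorem cT_chk : chkM cT = true := by decide +kernel

theorem stab_T0 : stabilizer M24 T0 = gen mcode (gensOf cT) :=
  stab_of_chk acT T0_mem cT_chk tkey_T0 (by rw [orbit_T0, ncard_trios]) (by decide +kernel)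

/-- The standard 3-set. -/
def Y0 : Finset GolayPt := unmask 8388611
theorem mask_Y0 : mask Y0 = 8388611 := mask_unmask (by norm_num)
theorem card_Y0 : Y0.card = 3 := by decide +kernel

theorem ncard_orbit_small {F : Finset GolayPt} (hF : F.card ≤ 5) :
    (orbit M24 F).ncard = Nat.choose 24 F.card := by
  rw [← golayFam.card_filter_card, ← Set.ncard_coe_finset]
  congr 1
  ext s
  simp only [coe_filter, mem_univ, true_and, Set.mem_ofPred_eq]
  constructor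
  · rintro ⟨g, rfl⟩; exact card_smul_finset _ _
  · intro h
    obtain ⟨g, hg, e⟩ := trans_sets h.symm hF
    exact ⟨⟨g, hg⟩, e⟩

def cY_t0 : T := (.node (.node (.node (.node (.node .nil (nat_lit 2) (nat_lit 0) (nat_lit
  0xbdab49ca307b9ac5a928398a418820) .nil) (nat_lit 3) (nat_lit 1) (nat_lit 0xcb683cd471d716a132532a414ee1)
  .nil) (nat_lit 4) (nat_lit 49) (nat_lit 0xb4c97d5841cec8a1e5172ca2542e0) (.node (.node .nil (nat_lit 5)
  (nat_lit 2114) (nat_lit 0xe7153a4f222b43a4cd814565b037) .nil) (nat_lit 6) (nat_lit 575009) (nat_lit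
  0xbd8c43c12c92c7443951989af2d401) .nil)) (nat_lit 7) (nat_lit 34) (nat_lit 0xbaab9c0ad521921c6c9119f421ee0)
  (.node (.node (.node .nil (nat_lit 8) (nat_lit 2113) (nat_lit 0x4267b0ea6611e58d1a24264b53ae1) .nil)
  (nat_lit 9) (nat_lit 33826) (nat_lit 0x2aaba58ad93cce9b049844e322037) .nil) (nat_lit 10) (nat_lit 561)
  (nat_lit 0xbc0c82d5a35cd2e2098ab52277c820) (.node .nil (nat_lit 11) (nat_lit 1058) (nat_lit
  0xb9cad852ab44a2f118699b1d622801) .nil))) (nat_lit 12) (nat_lit 17969) (nat_lit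
  0x11acac687849021cd4e5a4cfb1437) (.node (.node (.node (.node .nil (nat_lit 13) (nat_lit 33841) (nat_lit
  0x36293d4c49d04f1a1cc52cb095837) .nil) (nat_lit 14) (nat_lit 17) (nat_lit 0x2e29914c4b0a8a8390c7b6a33cc37)
  .nil) (nat_lit 15) (nat_lit 545) (nat_lit 0xb9eab259a913e06a310572a239c801) (.node (.node .nil (nat_lit 16)
  (nat_lit 80) (nat_lit 0xb64b7250299ed130e8c554b0792e0) .nil) (nat_lit 17) (nat_lit 575024) (nat_lit
  0xb0c72b8558c06942d53951af25ae0) .nil)) (nat_lit 18) (nat_lit 66) (nat_lit 0xb9e46708b61b2297a1b42566b82820)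
  (.node (.node (.node .nil (nat_lit 19) (nat_lit 2) (nat_lit 0x3cad14eab3a8c8b32891c65023837) .nil) (nat_lit
  20) (nat_lit 1057) (nat_lit 0xbcca2b1e235216c6bd2e91aa485020) .nil) (nat_lit 21) (nat_lit 67649) (nat_lit
  0xbac43790b1440f2ab4ce4d27662801) (.node .nil (nat_lit 22) (nat_lit 33) (nat_lit
  0x8aa3a39963a9a65c92f444a49c017) .nil))))
def cY_l0 : Lvl := ⟨nat_lit 2, [nat_lit 0xd0b01219393d6669d2a746a4b0c17, nat_lit
  0x2e29914c4b0a8a8390c7b6a33cc37], [nat_lit 0, nat_lit 0], cY_t0⟩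
def cY_t1 : T := (.node (.node (.node (.node (.node .nil (nat_lit 3) (nat_lit 0) (nat_lit
  0xbdab49ca307b9ac5a928398a418820) .nil) (nat_lit 4) (nat_lit 49) (nat_lit 0x96cb2555193dc69b10783523a0817)
  .nil) (nat_lit 5) (nat_lit 2097) (nat_lit 0xda6c3bcb044489a496a3546d70ae0) (.node (.node .nil (nat_lit 6)
  (nat_lit 66) (nat_lit 0xbd22472cc981de8959ac28e6aa8820) .nil) (nat_lit 7) (nat_lit 1585) (nat_lit
  0xba5c429a4ab2e933c1b51c58f40801) .nil)) (nat_lit 8) (nat_lit 2128) (nat_lit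
  0xbbd0d644ca25525742c35ca7438801) (.node (.node (.node .nil (nat_lit 9) (nat_lit 2) (nat_lit
  0x4deea2206892b26146b526c768837) .nil) (nat_lit 10) (nat_lit 65) (nat_lit 0x1d1162a152b66f48dd492ec620ae1)
  .nil) (nat_lit 11) (nat_lit 2113) (nat_lit 0xba970914cfb56911b48e4326938801) (.node .nil (nat_lit 12)
  (nat_lit 17953) (nat_lit 0xbd16d93aa9219438c2c5430ef98801) .nil))) (nat_lit 13) (nat_lit 17) (nat_lit
  0x15b3b31f1ad06b41cd22414e48837) (.node (.node (.node (.node .nil (nat_lit 14) (nat_lit 1) (nat_lit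
  0xb924f59e2d50ed532693620b070801) .nil) (nat_lit 15) (nat_lit 1104) (nat_lit
  0xc8ee329ac1d9097c4b49d48b80ae0) .nil) (nat_lit 16) (nat_lit 545) (nat_lit 0x3995411e33a4ad81a765c951a0ae1)
  (.node .nil (nat_lit 17) (nat_lit 17442) (nat_lit 0xa0e9ad8727c5846aa9034dcb28ae0) .nil)) (nat_lit 18)
  (nat_lit 17968) (nat_lit 0xba51060eb4b19ee2b4915c8ea98801) (.node (.node (.node .nil (nat_lit 19) (nat_lit
  1090) (nat_lit 0xbbe30199146b153392d52b96990801) .nil) (nat_lit 20) (nat_lit 34) (nat_lit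
  0xad437cda88c247a95c64d08cb0817) .nil) (nat_lit 21) (nat_lit 561) (nat_lit 0xba8762aeaf6cd289120c744f430820)
  (.node .nil (nat_lit 22) (nat_lit 560) (nat_lit 0xd66935ee9a624b54f062145a0ae1) .nil))))
def cY_l1 : Lvl := ⟨nat_lit 3, [nat_lit 0xbb58945624a0e079bd4692cb670801, nat_lit
  0x15b3b31f1ad06b41cd22414e48837], [nat_lit 65, nat_lit 0x110a02], cY_t1⟩
def cY_t2 : T := (.node (.node (.node (.node (.node .nil (nat_lit 4) (nat_lit 0) (nat_lit
  0xbdab49ca307b9ac5a928398a418820) .nil) (nat_lit 6) (nat_lit 35) (nat_lit 0x4a15b2a28395697ccd4691cc18837)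
  .nil) (nat_lit 7) (nat_lit 113) (nat_lit 0x1e0a6acb34bab243e8c25a2618837) (.node .nil (nat_lit 8) (nat_lit
  50) (nat_lit 0xc8efab4a84b970b514434e2c18ae0) .nil)) (nat_lit 9) (nat_lit 1137) (nat_lit
  0xa65664cb484547ab4865a1cf18817) (.node (.node .nil (nat_lit 10) (nat_lit 67) (nat_lit
  0xb991093e356966a492d462dc718801) .nil) (nat_lit 11) (nat_lit 2) (nat_lit 0xd5eba35c6644f624910524b318ae0)
  (.node .nil (nat_lit 12) (nat_lit 112) (nat_lit 0xae6a358aca3a446a5f0a9e2818ae0) .nil))) (nat_lit 13)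
  (nat_lit 3) (nat_lit 0xc128555d69148732d937d22d18817) (.node (.node (.node .nil (nat_lit 15) (nat_lit 97)
  (nat_lit 0xcd6d43cb5238f4542c964a2618ae0) .nil) (nat_lit 16) (nat_lit 1122) (nat_lit
  0xc0efaaca44c5b262a88999d618817) (.node .nil (nat_lit 18) (nat_lit 98) (nat_lit
  0x2646410b43b9f06d6765b22a18837) .nil)) (nat_lit 19) (nat_lit 17) (nat_lit 0xb2d3229c8ac64fa1cc96c0ab18ae0)
  (.node (.node .nil (nat_lit 20) (nat_lit 1) (nat_lit 0xba144a1dd26c5869da154bcab18801) .nil) (nat_lit 21)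
  (nat_lit 1616) (nat_lit 0xd095b21ca9952b61cd26c22f18817) (.node .nil (nat_lit 22) (nat_lit 1601) (nat_lit
  0x928c799cd59613ac9075263618817) .nil))))
def cY_l2 : Lvl := ⟨nat_lit 4, [nat_lit 0xba9135c1c9345ed254f6930b418801, nat_lit
  0xb2d3229c8ac64fa1cc96c0ab18ae0, nat_lit 0x424643cb63c48954eb462dcd18ae1], [nat_lit 0x8428084110850, nat_lit
  0x462114231, nat_lit 0x4110850], cY_t2⟩
def cY_t3 : T := (.node (.node (.node (.node .nil (nat_lit 6) (nat_lit 0) (nat_lit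
  0xbdab49ca307b9ac5a928398a418820) .nil) (nat_lit 7) (nat_lit 562) (nat_lit 0x40f49a1cd496d25bd4c3562418ae1)
  .nil) (nat_lit 8) (nat_lit 34) (nat_lit 0xbc2545d4b64b9a79a9e66222418801) (.node .nil (nat_lit 9) (nat_lit
  3) (nat_lit 0xc2535aa2d3bac9a54cf430a418817) .nil)) (nat_lit 10) (nat_lit 35) (nat_lit
  0x4133a31d63c5b259aa87a8a418837) (.node (.node (.node .nil (nat_lit 12) (nat_lit 18) (nat_lit
  0x354ba563643a069c9877a4a418ae1) .nil) (nat_lit 15) (nat_lit 17) (nat_lit 0xbb5135bdd63160aa1ea964a2418820)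
  .nil) (nat_lit 18) (nat_lit 2) (nat_lit 0xbc12ba18ad946c79b11553dc418820) (.node .nil (nat_lit 21) (nat_lit
  1) (nat_lit 0xbb4cb9a5d0446caa324f3d4a418801) .nil)))
def cY_l3 : Lvl := ⟨nat_lit 6, [nat_lit 0xbb4cb9a5d0446caa324f3d4a418801, nat_lit
  0xbb5135bdd63160aa1ea964a2418820, nat_lit 0x354ba563643a069c9877a4a418ae1], [nat_lit 0x701884114a0388632,
  nat_lit 0x8e211482310870, nat_lit 0x6411c650], cY_t3⟩
def cY_t4 : T := (.node (.node .nil (nat_lit 1) (nat_lit 0) (nat_lit 0xbdab49ca307b9ac5a928398a418820) .nil)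
  (nat_lit 23) (nat_lit 1) (nat_lit 0xc0eb9be36915a9a218aa99c418ae0) .nil)
def cY_l4 : Lvl := ⟨nat_lit 1, [nat_lit 0xc0eb9be36915a9a218aa99c418ae0], [nat_lit 0x8328c82310870], cY_t4⟩
def cY : List Lvl := [cY_l0, cY_l1, cY_l2, cY_l3, cY_l4]
theorem cY_chk : chkM cY = true := by decide +kernel

theorem stab_Y0 : stabilizer M24 Y0 = gen mcode (gensOf cY) :=
  stab_of_chk acSM trivial cY_chk mask_Y0 (n := 2024)
    (by rw [ncard_orbit_small (by rw [card_Y0]; norm_num), card_Y0]; decide +kernel)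
    (by decide +kernel)

def cDD_t0 : T := (.node (.node (.node (.node (.node .nil (nat_lit 0) (nat_lit 0) (nat_lit
  0xbdab49ca307b9ac5a928398a418820) .nil) (nat_lit 1) (nat_lit 561) (nat_lit 0xb5633b8cf272881596097a28c68806)
  (.node .nil (nat_lit 2) (nat_lit 1089) (nat_lit 0xb1e2598aa6bb989a2c72535e120208) .nil)) (nat_lit 3)
  (nat_lit 2) (nat_lit 0x7b951384ac9dcc95d88da0ea800a12) (.node (.node .nil (nat_lit 4) (nat_lit 66640)
  (nat_lit 0xa3ae7ab6c1894897ce035496061902) .nil) (nat_lit 5) (nat_lit 514) (nat_lit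
  0x64a0119d0b21ad368a8f4c40a75cb5) .nil)) (nat_lit 6) (nat_lit 66) (nat_lit 0x9dec5a42a93bc645b9068814d90981)
  (.node (.node (.node .nil (nat_lit 7) (nat_lit 80) (nat_lit 0x18a4442a154866b330f6039b12be97) .nil) (nat_lit
  8) (nat_lit 16449) (nat_lit 0xbc4eaa19c2b55a49bc202b1634c910) .nil) (nat_lit 9) (nat_lit 66625) (nat_lit
  0x750b5389437dd248ac01b1a704498d) (.node (.node .nil (nat_lit 10) (nat_lit 529) (nat_lit
  0x9410363927309456817423c33b5eb1) .nil) (nat_lit 11) (nat_lit 67664) (nat_lit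
  0x90a0d339364328b012370bc7551cb3) .nil))) (nat_lit 12) (nat_lit 50721) (nat_lit
  0xb14ef521709dd808d124a99c26c823) (.node (.node (.node (.node .nil (nat_lit 13) (nat_lit 2114) (nat_lit
  0x3bdd58b144a4c085dda32cac608930) .nil) (nat_lit 14) (nat_lit 1) (nat_lit 0x11a444b86a6816f622850de133da35)
  .nil) (nat_lit 15) (nat_lit 1585) (nat_lit 0x3486911c2e02271641546948f5dab7) (.node (.node .nil (nat_lit 16)
  (nat_lit 16464) (nat_lit 0x8deb4540a099c8db2c62749e143126) .nil) (nat_lit 17) (nat_lit 65) (nat_lit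
  0x10c2825c16349734b63583d87a38aa) .nil)) (nat_lit 18) (nat_lit 17) (nat_lit
  0x728a778281bd9105d5849b62930a43) (.node (.node (.node .nil (nat_lit 19) (nat_lit 2562) (nat_lit
  0x48590051ab40dc730a3321656bbeaa) .nil) (nat_lit 20) (nat_lit 2082) (nat_lit
  0x349a081593209f148ceb4503553ad7) .nil) (nat_lit 21) (nat_lit 16) (nat_lit 0x3080925425649eb6c26a1d9148dcee)
  (.node (.node .nil (nat_lit 22) (nat_lit 34) (nat_lit 0x681030c60f48af461a6b21e45ad94e) .nil) (nat_lit 23)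
  (nat_lit 49) (nat_lit 0x22016d491118aa649f34ac74bd9c7) .nil))))
def cDD_l0 : Lvl := ⟨nat_lit 0, [nat_lit 0x3080925425649eb6c26a1d9148dcee, nat_lit
  0x728a778281bd9105d5849b62930a43], [nat_lit 0, nat_lit 0], cDD_t0⟩
def cDD_t1 : T := (.node (.node (.node (.node .nil (nat_lit 5) (nat_lit 0) (nat_lit
  0xbdab49ca307b9ac5a928398a418820) .nil) (nat_lit 7) (nat_lit 17) (nat_lit 0x751513c9e8b5c439d5ac2a56481820)
  (.node .nil (nat_lit 10) (nat_lit 1104) (nat_lit 0xac6877a2c972e0c99441b99521b480) .nil)) (nat_lit 11)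
  (nat_lit 2) (nat_lit 0x73d565ca838dd282d4d0988e463420) (.node (.node .nil (nat_lit 14) (nat_lit 34) (nat_lit
  0x53acf38e6459608bc521a0aac934c0) .nil) (nat_lit 15) (nat_lit 1089) (nat_lit
  0xaae677cae62c603a3881b254863440) .nil)) (nat_lit 17) (nat_lit 65) (nat_lit
  0x3c68bb30a1bd5329bc70519c823440) (.node (.node (.node .nil (nat_lit 19) (nat_lit 66) (nat_lit
  0xbc6af2cacca38d03a8435b66442420) .nil) (nat_lit 20) (nat_lit 2097) (nat_lit
  0xaade5532f089da4b513270e6809840) .nil) (nat_lit 21) (nat_lit 560) (nat_lit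
  0x5d4a788d4da58447dd2c985d091900) (.node (.node .nil (nat_lit 22) (nat_lit 34849) (nat_lit
  0x516ef3b2828ba12b2cc1992a343520) .nil) (nat_lit 23) (nat_lit 1) (nat_lit 0x2be33a0d61729b23da08aa6ec208c0)
  .nil)))
def cDD_l1 : Lvl := ⟨nat_lit 5, [nat_lit 0x2a8f3a32a9b3da48b8c8586e390a00, nat_lit
  0x751513c9e8b5c439d5ac2a56481820], [nat_lit 0x4110831, nat_lit 0x84208850], cDD_t1⟩
def cDD_t2 : T := (.node (.node (.node (.node .nil (nat_lit 1) (nat_lit 0) (nat_lit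
  0xbdab49ca307b9ac5a928398a418820) .nil) (nat_lit 2) (nat_lit 1) (nat_lit 0x89ed7742897a84c5ce43a98a8205a0)
  .nil) (nat_lit 3) (nat_lit 2) (nat_lit 0xa9e93542ecb2cc48bc52720a30b520) (.node (.node .nil (nat_lit 4)
  (nat_lit 66) (nat_lit 0xa3a6a7b2a43c503bd9b05c8a149840) .nil) (nat_lit 6) (nat_lit 529) (nat_lit
  0xbbe8789169759b29a846a84ac1c100) .nil)) (nat_lit 8) (nat_lit 65) (nat_lit 0xbb8f55b262b3da48aa01a20b21a4c0)
  (.node (.node (.node .nil (nat_lit 9) (nat_lit 17) (nat_lit 0x8bef5a217251c5074c26b34ac22460) .nil) (nat_lit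
  12) (nat_lit 2114) (nat_lit 0x9ad4fb128375e41a9ccc8c0a9121a0) .nil) (nat_lit 13) (nat_lit 16) (nat_lit
  0xa54f1526f27cc2c5ba04b18a343440) (.node (.node .nil (nat_lit 16) (nat_lit 545) (nat_lit
  0x5d9f13caa154d3075104bb4a660c40) .nil) (nat_lit 18) (nat_lit 560) (nat_lit
  0xadecb986285507071e4c7b4a430920) .nil)))
def cDD_l2 : Lvl := ⟨nat_lit 1, [nat_lit 0xa54f1526f27cc2c5ba04b18a343440, nat_lit
  0x8bef5a217251c5074c26b34ac22460], [nat_lit 0x23010630, nat_lit 17457], cDD_t2⟩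
def cDD_t3 : T := (.node (.node (.node (.node .nil (nat_lit 2) (nat_lit 0) (nat_lit
  0xbdab49ca307b9ac5a928398a418820) .nil) (nat_lit 3) (nat_lit 1) (nat_lit 0x3de6f72169ad066b29ac890b214020)
  .nil) (nat_lit 4) (nat_lit 34) (nat_lit 0x89e757b149751105d8c3bc8a223420) (.node (.node .nil (nat_lit 6)
  (nat_lit 49) (nat_lit 0xbc66ea8ec97d18d52e08388a491820) .nil) (nat_lit 8) (nat_lit 65) (nat_lit
  0xb1e937362cabcc4bae4250ca84c020) .nil)) (nat_lit 9) (nat_lit 17) (nat_lit 0xb1eb37b570a390954452b8ca623020)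
  (.node (.node (.node .nil (nat_lit 12) (nat_lit 2) (nat_lit 0x3deafa21509ba428ad8db10a332420) .nil) (nat_lit
  13) (nat_lit 33) (nat_lit 0x89dd5a32cd9bc44ba8665c8a882420) .nil) (nat_lit 16) (nat_lit 16) (nat_lit
  0xb2deea90e2a4d288aa12bb0a668c20) (.node .nil (nat_lit 18) (nat_lit 1073) (nat_lit
  0x3add498aedabcc35592c8c0b241020) .nil)))
def cDD_l3 : Lvl := ⟨nat_lit 2, [nat_lit 0xb2deea90e2a4d288aa12bb0a668c20, nat_lit
  0xb1eb37b570a390954452b8ca623020], [nat_lit 0x420c6301423108822, nat_lit 0x8420c631], cDD_t3⟩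
def cDD_t4 : T := (.node (.node (.node .nil (nat_lit 4) (nat_lit 0) (nat_lit 0xbdab49ca307b9ac5a928398a418820)
  .nil) (nat_lit 6) (nat_lit 2) (nat_lit 0x5daae7b0e39d132ba9a8890a680820) (.node .nil (nat_lit 9) (nat_lit
  16) (nat_lit 0x5ddd59a4e87d186b4483534b280820) .nil)) (nat_lit 12) (nat_lit 34) (nat_lit
  0xbae957b6289ba44b1cd0524ac18820) (.node (.node .nil (nat_lit 13) (nat_lit 65) (nat_lit
  0xb5dd4799509d4895c5833c8ad40820) .nil) (nat_lit 18) (nat_lit 1) (nat_lit 0xb2e8e991437d4cdb9e508b0a940820)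
  .nil))
def cDD_l4 : Lvl := ⟨nat_lit 4, [nat_lit 0x5ddd59a4e87d186b4483534b280820, nat_lit
  0x5daae7b0e39d132ba9a8890a680820], [nat_lit 0x108a11, nat_lit 0x104428404108a10], cDD_t4⟩
def cDD : List Lvl := [cDD_l0, cDD_l1, cDD_l2, cDD_l3, cDD_l4]
theorem cDD_chk : chkM cDD = true := by decide +kernel

theorem smul_pair (g : M24) (d : Finset GolayPt) :
    g • ({d, univ \ d} : Finset (Finset GolayPt)) = {g • d, univ \ (g • d)} := by
  simp only [M24_smul_fam, M24_smul_def, smul_finset_insert, smul_finset_singleton,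
    smul_finset_sdiff, smul_finset_univ]

theorem stab_DD : stabilizer M24 ({D0, univ \ D0} : Finset (Finset GolayPt)) =
    gen mcode (gensOf cDD) := by
  set H := stabilizer M24 ({D0, univ \ D0} : Finset (Finset GolayPt)) with hH
  have h1 : gen mcode (gensOf cDD) ≤ H := gen_le fun g hg => by
    have : (lall (gensOf cDD) fun s => bor (Nat.beq (act s 340831) 340831)
      (Nat.beq (act s 340831) 16436384)) = true := by decide +kernel
    have h := (lall_iff _ _).1 this _ hg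
    have e : 16436384 = mask (univ \ D0) := by rw [mask_compl, mask_D0]; rfl
    rw [bor_eq, Bool.or_eq_true, Nat.beq_eq, Nat.beq_eq, e, ← mask_D0, acSM.ap_code g trivial,
      mask_inj.eq_iff, mask_inj.eq_iff] at h
    rw [mem_stabilizer_iff, smul_pair]
    rcases h with h | h
    · rw [h]
    · rw [h, sdiff_sdiff_right_self, pair_comm]; simp
  have h2 : H ⊓ stabilizer M24 D0 = stabilizer M24 D0 := inf_eq_right.2 fun g hg => by
    rw [mem_stabilizer_iff] at hg ⊢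
    rw [smul_pair, hg]
  have h3 : (orbit H D0).ncard ≤ 2 := by
    refine le_trans (Set.ncard_le_ncard (t := {D0, univ \ D0}) ?_) (Set.ncard_insert_le _ _ |>.trans
      (by simp))
    rintro _ ⟨⟨g, hg⟩, rfl⟩
    have : g • D0 ∈ g • ({D0, univ \ D0} : Finset (Finset GolayPt)) :=
      smul_mem_smul_finset (mem_insert_self _ _)
    rw [mem_stabilizer_iff.1 hg] at this
    simpa using this
  have h4 := card_inf_stab H D0
  rw [h2, stab_D0, card_of_chk cD_chk (n := 95040) (by decide +kernel)] at h4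
  refine (Subgroup.eq_of_le_of_card_ge h1 ?_).symm
  rw [card_of_chk cDD_chk (n := 190080) (by decide +kernel)]
  omega

end Cfsg.Agent.M24
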