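import Cfsg.Agent.M24.Six

/-!
# Sextets and trios: structure and codes
-/

set_option autoImplicit false

namespace Cfsg.Agent.M24

open Finset MulAction
open scoped Pointwise symmDiff

theorem M24_smul_fam (g : M24) (S : Finset (Finset GolayPt)) :
    g • S = (g : Equiv.Perm GolayPt) • S := rfl

/-! ### Counting through a tree -/

theorem AC.ncard_filter {G X : Type*} [Group G] [MulAction G X] {code : G → ℕ} {D : Set X}
    {ix : X → ℕ} {ap' : ℕ → ℕ → ℕ} (A : AC code D ix ap') {t : T} {O : Set X}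
    (hO : O = {x | x ∈ D ∧ ix x ∈ t.keys}) (hr : ∀ k ∈ t.keys, ∃ x ∈ D, ix x = k)
    (hn : t.keys.Nodup) {P : X → Prop} {f : ℕ → Bool} (hf : ∀ x ∈ O, P x ↔ f (ix x) = true) :
    {x | x ∈ O ∧ P x}.ncard = t.count f := by
  rw [T.count_eq, ← A.ncard_keys (hn.filter f) fun k hk => hr k (List.mem_of_mem_filter hk)]
  congr 1
  ext x
  simp only [Set.mem_ofPred_eq, List.mem_filter]
  constructor
  · rintro ⟨h1, h2⟩
    have h3 := h1
    rw [hO] at h3
    exact ⟨h3.1, h3.2, (hf x h1).1 h2⟩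
  · rintro ⟨h1, h2, h3⟩
    have h4 : x ∈ O := by rw [hO]; exact ⟨h1, h2⟩
    exact ⟨h4, (hf x h4).2 h3⟩

theorem AC.smul_eq_iff {G X : Type*} [Group G] [MulAction G X] {code : G → ℕ} {D : Set X}
    {ix : X → ℕ} {ap' : ℕ → ℕ → ℕ} (A : AC code D ix ap') (g : G) {x y : X} (hx : x ∈ D)
    (hy : y ∈ D) : g • x = y ↔ Nat.beq (ap' (code g) (ix x)) (ix y) = true := by
  rw [A.ap_code g hx, Nat.beq_eq]
  exact ⟨fun h => by rw [h], fun h => A.inj (A.smul_mem g hx) hy h⟩

/-! ### Sextets -/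

/-- The sextet of a tetrad. -/
noncomputable def sext (t : Finset GolayPt) : Finset (Finset GolayPt) :=
  GolayFam.tets (famOf golayCode) t

theorem mem_sext {t u : Finset GolayPt} : u ∈ sext t ↔ u.card = 4 ∧ IsCw (t ∆ u) := by
  rw [sext, GolayFam.mem_tets, mem_famOf_golay]

theorem self_mem_sext {t : Finset GolayPt} (ht : t.card = 4) : t ∈ sext t :=
  mem_sext.2 ⟨ht, by simpa using isCw_empty⟩

theorem disjoint_of_isCw {t u : Finset GolayPt} (ht : t.card = 4) (hu : u.card = 4)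
    (h : IsCw (t ∆ u)) (hne : t ≠ u) : Disjoint t u :=
  golayFam.disjoint_of_four (mem_famOf_golay.2 h) ht hu hne

theorem sext_mem {t : Finset GolayPt} (ht : t.card = 4) : sext t ∈ sextets := by
  refine ⟨golayFam.card_tets ht, fun u hu => (mem_sext.1 hu).1, fun u hu v hv hne => ?_⟩
  rw [mem_sext] at hu hv
  have h1 : IsCw (u ∆ v) :=
    mem_famOf_golay.1 (golayFam.coset_symm (mem_famOf_golay.2 hu.2) (mem_famOf_golay.2 hv.2))
  have h2 := disjoint_of_isCw hu.1 hv.1 h1 hne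
  refine ⟨?_, by rw [card_union_of_disjoint h2, hu.1, hv.1]⟩
  have : u ∆ v = u ∪ v := h2.symmDiff_eq_sup
  exact this ▸ h1

theorem sextet_disjoint {S : Finset (Finset GolayPt)} (hS : S ∈ sextets) {t u : Finset GolayPt}
    (ht : t ∈ S) (hu : u ∈ S) (hne : t ≠ u) : Disjoint t u := by
  have h1 := (hS.2.2 t ht u hu hne).2
  have h2 := card_union_add_card_inter t u
  rw [h1, hS.2.1 t ht, hS.2.1 u hu] at h2
  rw [disjoint_iff_inter_eq_empty, ← card_eq_zero]; omega

theorem sextet_isCw {S : Finset (Finset GolayPt)} (hS : S ∈ sextets) {t u : Finset GolayPt}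
    (ht : t ∈ S) (hu : u ∈ S) : IsCw (t ∆ u) := by
  by_cases hne : t = u
  · subst hne; simpa using isCw_empty
  · have : t ∆ u = t ∪ u := (sextet_disjoint hS ht hu hne).symmDiff_eq_sup
    rw [this]; exact (hS.2.2 t ht u hu hne).1

theorem eq_sext {S : Finset (Finset GolayPt)} (hS : S ∈ sextets) {t : Finset GolayPt} (ht : t ∈ S) :
    S = sext t :=
  eq_of_subset_of_card_le (fun u hu => mem_sext.2 ⟨hS.2.1 u hu, sextet_isCw hS ht hu⟩)
    (by rw [(sext_mem (hS.2.1 t ht)).1, hS.1])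

theorem sextet_nonempty {S : Finset (Finset GolayPt)} (hS : S ∈ sextets) : ∃ t, t ∈ S :=
  card_pos.1 (by rw [hS.1]; norm_num)

theorem sextet_cover {S : Finset (Finset GolayPt)} (hS : S ∈ sextets) (a : GolayPt) :
    ∃ t ∈ S, a ∈ t := by
  obtain ⟨t, ht⟩ := sextet_nonempty hS
  rw [eq_sext hS ht]
  exact golayFam.tets_cover (golayFam.card_tets (hS.2.1 t ht)) a

theorem sextet_smul {S : Finset (Finset GolayPt)} (hS : S ∈ sextets) {g : Equiv.Perm GolayPt}
    (hg : g ∈ M24) : g • S ∈ sextets := by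
  refine ⟨by rw [card_smul_finset]; exact hS.1, fun t ht => ?_, fun t ht u hu hne => ?_⟩
  · obtain ⟨t', ht', rfl⟩ := mem_smul_finset.1 ht
    rw [card_smul_finset]; exact hS.2.1 t' ht'
  · obtain ⟨t', ht', rfl⟩ := mem_smul_finset.1 ht
    obtain ⟨u', hu', rfl⟩ := mem_smul_finset.1 hu
    rw [← smul_finset_union]
    exact octad_smul (hS.2.2 t' ht' u' hu' fun e => hne (by rw [e])) hg

theorem smul_sext {t : Finset GolayPt} (ht : t.card = 4) {g : Equiv.Perm GolayPt} (hg : g ∈ M24) :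
    g • sext t = sext (g • t) :=
  eq_sext (sextet_smul (sext_mem ht) hg) (smul_mem_smul_finset (self_mem_sext ht))

theorem trans_sextets {S S' : Finset (Finset GolayPt)} (hS : S ∈ sextets) (hS' : S' ∈ sextets) :
    ∃ g ∈ M24, g • S = S' := by
  obtain ⟨t, ht⟩ := sextet_nonempty hS
  obtain ⟨t', ht'⟩ := sextet_nonempty hS'
  obtain ⟨g, hg, e⟩ := trans_sets ((hS.2.1 t ht).trans (hS'.2.1 t' ht').symm)
    (by rw [hS.2.1 t ht]; norm_num)
  exact ⟨g, hg, by rw [eq_sext hS ht, smul_sext (hS.2.1 t ht) hg, e, ← eq_sext hS' ht']⟩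

/-- Key of a sextet: the common syndrome of its tetrads. -/
noncomputable def skey (S : Finset (Finset GolayPt)) : ℕ := S.sup fun t => syn (mask t)

theorem skey_eq {S : Finset (Finset GolayPt)} (hS : S ∈ sextets) {t : Finset GolayPt} (ht : t ∈ S) :
    skey S = syn (mask t) :=
  le_antisymm (Finset.sup_le fun _ hu => (syn_eq_iff.2 (sextet_isCw hS hu ht)).le)
    (le_sup (f := fun t => syn (mask t)) ht)

theorem skey_sext {t : Finset GolayPt} (ht : t.card = 4) : skey (sext t) = syn (mask t) :=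
  skey_eq (sext_mem ht) (self_mem_sext ht)

theorem mem_sextet_iff {S : Finset (Finset GolayPt)} (hS : S ∈ sextets) {u : Finset GolayPt} :
    u ∈ S ↔ u.card = 4 ∧ syn (mask u) = skey S := by
  obtain ⟨t, ht⟩ := sextet_nonempty hS
  rw [skey_eq hS ht, eq_comm (a := syn _), syn_eq_iff]
  conv_lhs => rw [eq_sext hS ht, mem_sext]

/-- Action on syndromes. -/
noncomputable def apS (p k : ℕ) : ℕ :=
  force (Nat.shiftLeft k (nat_lit 12)) fun m => force (act p m) syn

theorem apS_syn {g : Equiv.Perm GolayPt} (hg : g ∈ M24) (s : Finset GolayPt) :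
    apS (pcode g) (syn (mask s)) = syn (mask (g • s)) := by
  have h1 := syn_lt (mask_lt s)
  have h2 : syn (mask s) <<< 12 < 2 ^ 24 := by rw [Nat.shiftLeft_eq]; omega
  simp only [apS, force_eq]
  change syn (act (pcode g) (syn (mask s) <<< 12)) = _
  rw [← mask_unmask h2, act_mask, syn_eq_iff, ← smul_symmDiff, isCw_smul_iff hg, ← syn_eq_iff,
    mask_unmask h2, (cw_facts h1).2.2.1]

theorem acX : AC mcode sextets skey apS where
  smul_mem g _ hS := sextet_smul hS g.2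
  inj S hS S' hS' e := by
    obtain ⟨t, ht⟩ := sextet_nonempty hS
    have : t ∈ S' := (mem_sextet_iff hS').2 ⟨hS.2.1 t ht, by rw [← e, skey_eq hS ht]⟩
    rw [eq_sext hS ht, eq_sext hS' this]
  ap_code g S hS := by
    obtain ⟨t, ht⟩ := sextet_nonempty hS
    rw [skey_eq hS ht, M24_smul_fam, skey_eq (sextet_smul hS g.2) (smul_mem_smul_finset ht)]
    exact apS_syn g.2 t

/-! ### Trios -/

theorem compl_octad {a b : Finset GolayPt} (ha : a ∈ octads) (hb : b ∈ octads) (h : Disjoint a b) :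
    univ \ (a ∪ b) ∈ octads := by
  refine ⟨IsCw.compl ?_, ?_⟩
  · have : a ∆ b = a ∪ b := h.symmDiff_eq_sup
    exact this ▸ IsCw.symmDiff ha.1 hb.1
  · rw [card_univ_sdiff, card_golayPt, card_union_of_disjoint h, ha.2, hb.2]

theorem ne_of_disjoint_octad {a b : Finset GolayPt} (ha : a ∈ octads) (h : Disjoint a b) : a ≠ b := by
  rintro rfl
  have := ha.2
  rw [disjoint_self, bot_eq_empty] at h
  simp [h] at this

/-- The trio determined by two disjoint octads. -/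
def trio (a b : Finset GolayPt) : Finset (Finset GolayPt) := {a, b, univ \ (a ∪ b)}

theorem trio_mem {a b : Finset GolayPt} (ha : a ∈ octads) (hb : b ∈ octads) (h : Disjoint a b) :
    trio a b ∈ trios := by
  have hc := compl_octad ha hb h
  have d1 : Disjoint a (univ \ (a ∪ b)) := disjoint_sdiff_self_right.mono_left subset_union_left
  have d2 : Disjoint b (univ \ (a ∪ b)) := disjoint_sdiff_self_right.mono_left subset_union_right
  refine ⟨card_eq_three.2 ⟨_, _, _, ne_of_disjoint_octad ha h, ne_of_disjoint_octad ha d1,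
    ne_of_disjoint_octad hb d2, rfl⟩, ?_, ?_⟩
  · simp only [trio, mem_insert, mem_singleton]
    rintro o (rfl | rfl | rfl) <;> assumption
  · simp only [trio, mem_insert, mem_singleton]
    rintro o (rfl | rfl | rfl) o' (rfl | rfl | rfl) hne
    all_goals first | exact absurd rfl hne | assumption | (symm; assumption)

theorem eq_trio {T : Finset (Finset GolayPt)} (hT : T ∈ trios) {a b : Finset GolayPt} (ha : a ∈ T)
    (hb : b ∈ T) (hne : a ≠ b) : T = trio a b := by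
  have h := trio_mem (hT.2.1 a ha) (hT.2.1 b hb) (hT.2.2 a ha b hb hne)
  refine eq_of_subset_of_card_le (fun c hc => ?_) (by rw [h.1, hT.1])
  simp only [trio, mem_insert, mem_singleton]
  by_cases h1 : c = a
  · exact Or.inl h1
  by_cases h2 : c = b
  · exact Or.inr (Or.inl h2)
  refine Or.inr (Or.inr (eq_of_subset_of_card_le (fun x hx => ?_) ?_))
  · rw [mem_sdiff, mem_union, not_or]
    exact ⟨mem_univ x, disjoint_left.1 (hT.2.2 c hc a ha h1) hx,
      disjoint_left.1 (hT.2.2 c hc b hb h2) hx⟩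
  · rw [(compl_octad (hT.2.1 a ha) (hT.2.1 b hb) (hT.2.2 a ha b hb hne)).2, (hT.2.1 c hc).2]

theorem exists_ne_mem_trio {T : Finset (Finset GolayPt)} (hT : T ∈ trios) (a : Finset GolayPt) :
    ∃ b ∈ T, b ≠ a := exists_mem_ne (by rw [hT.1]; norm_num) a

theorem smul_trio (g : Equiv.Perm GolayPt) (a b : Finset GolayPt) :
    g • trio a b = trio (g • a) (g • b) := by
  simp only [trio, smul_finset_insert, smul_finset_singleton, smul_finset_sdiff, smul_finset_union,
    smul_finset_univ]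

theorem disjoint_smul_perm {g : Equiv.Perm GolayPt} {a b : Finset GolayPt} (h : Disjoint a b) :
    Disjoint (g • a) (g • b) := by
  rw [disjoint_iff_inter_eq_empty] at h ⊢
  rw [← smul_finset_inter, h, smul_finset_empty]

theorem trio_smul {T : Finset (Finset GolayPt)} (hT : T ∈ trios) {g : Equiv.Perm GolayPt}
    (hg : g ∈ M24) : g • T ∈ trios := by
  obtain ⟨a, ha, -⟩ := exists_ne_mem_trio hT ∅
  obtain ⟨b, hb, hne⟩ := exists_ne_mem_trio hT a
  rw [eq_trio hT ha hb hne.symm, smul_trio]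
  exact trio_mem (octad_smul (hT.2.1 a ha) hg) (octad_smul (hT.2.1 b hb) hg)
    (disjoint_smul_perm (hT.2.2 a ha b hb hne.symm))

/-- Key of a trio: smallest and largest mask. -/
noncomputable def tkey (T : Finset (Finset GolayPt)) : ℕ :=
  sInf (mask '' (T : Set (Finset GolayPt))) + 16777216 * T.sup mask

/-- Minimum on numerals. -/
noncomputable def nmin (a b : ℕ) : ℕ := bif' (Nat.ble a b) a b
/-- Maximum on numerals. -/
noncomputable def nmax (a b : ℕ) : ℕ := bif' (Nat.ble a b) b a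

theorem nmin_eq (a b : ℕ) : nmin a b = min a b := by
  simp only [nmin, bif'_eq, Nat.ble_eq]; split_ifs <;> omega
theorem nmax_eq (a b : ℕ) : nmax a b = max a b := by
  simp only [nmax, bif'_eq, Nat.ble_eq]; split_ifs <;> omega

/-- Key of the trio through the octads with masks `a`, `b`. -/
noncomputable def tk (a b : ℕ) : ℕ :=
  force (Nat.xor (Nat.lor a b) (nat_lit 16777215)) fun c =>
    Nat.add (force (nmin a b) fun x => nmin x c)
      (Nat.mul (nat_lit 16777216) (force (nmax a b) fun x => nmax x c))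

theorem tkey_trio (a b : Finset GolayPt) : tkey (trio a b) = tk (mask a) (mask b) := by
  simp only [tk, force_eq, nmin_eq, nmax_eq]
  rw [← mask_union]
  have := mask_compl (a ∪ b)
  change mask _ = Nat.xor _ (nat_lit 16777215) at this
  rw [← this, tkey, trio]
  simp only [coe_insert, coe_singleton, Set.image_insert_eq, Set.image_singleton, sup_insert,
    sup_singleton]
  rw [csInf_insert (OrderBot.bddBelow _) (Set.insert_nonempty _ _), csInf_pair]
  simp only [min_assoc, max_assoc]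
  rfl

theorem trio_repr {T : Finset (Finset GolayPt)} (hT : T ∈ trios) :
    ∃ a ∈ T, ∃ c ∈ T, a ≠ c ∧ tkey T = mask a + 16777216 * mask c := by
  have hne : T.Nonempty := card_pos.1 (by rw [hT.1]; norm_num)
  obtain ⟨a, ha, ea⟩ : sInf (mask '' (T : Set (Finset GolayPt))) ∈ mask '' (T : Set _) :=
    Nat.sInf_mem (hne.to_set.image _)
  obtain ⟨c, hc, ec⟩ := exists_mem_eq_sup T hne mask
  refine ⟨a, ha, c, hc, ?_, by rw [tkey, ea, ec]⟩
  rintro rfl
  obtain ⟨b, hb, hba⟩ := exists_ne_mem_trio hT a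
  have h1 : mask a ≤ mask b := ea ▸ Nat.sInf_le ⟨b, hb, rfl⟩
  have h2 : mask b ≤ mask a := ec ▸ le_sup (f := mask) hb
  exact hba (mask_inj (le_antisymm h2 h1))

/-- First octad of a trio key. -/
def tfst (k : ℕ) : ℕ := Nat.land k (nat_lit 16777215)
/-- Last octad of a trio key. -/
def tsnd (k : ℕ) : ℕ := Nat.shiftRight k (nat_lit 24)

theorem trio_key {T : Finset (Finset GolayPt)} (hT : T ∈ trios) :
    ∃ a ∈ T, ∃ c ∈ T, a ≠ c ∧ T = trio a c ∧ tfst (tkey T) = mask a ∧ tsnd (tkey T) = mask c := by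
  obtain ⟨a, ha, c, hc, hne, e⟩ := trio_repr hT
  have := mask_lt a
  refine ⟨a, ha, c, hc, hne, eq_trio hT ha hc hne, ?_, ?_⟩
  · change tkey T &&& (2 ^ 24 - 1) = _
    rw [Nat.and_two_pow_sub_one_eq_mod, e]; omega
  · change tkey T >>> 24 = _
    rw [Nat.shiftRight_eq_div_pow, e]; omega

/-- Action on trio keys. -/
noncomputable def apT (p k : ℕ) : ℕ :=
  force (force (tfst k) (act p)) fun a => force (force (tsnd k) (act p)) fun c => tk a c

theorem acT : AC mcode trios tkey apT where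
  smul_mem g _ hT := trio_smul hT g.2
  inj T hT T' hT' e := by
    obtain ⟨a, -, c, -, -, e1, e2, e3⟩ := trio_key hT
    obtain ⟨a', -, c', -, -, e1', e2', e3'⟩ := trio_key hT'
    rw [e1, e1', mask_inj (e2.symm.trans (e ▸ e2')), mask_inj (e3.symm.trans (e ▸ e3'))]
  ap_code g T hT := by
    obtain ⟨a, -, c, -, -, e1, e2, e3⟩ := trio_key hT
    simp only [apT, force_eq, e2, e3, mcode, act_mask]
    rw [M24_smul_fam]
    conv_rhs => rw [e1, smul_trio, tkey_trio]

theorem mem_trio_iff {T : Finset (Finset GolayPt)} (hT : T ∈ trios) {o : Finset GolayPt} :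
    o ∈ T ↔ mask o = tfst (tkey T) ∨ mask o = tsnd (tkey T) ∨
      mask o = Nat.xor (Nat.lor (tfst (tkey T)) (tsnd (tkey T))) 16777215 := by
  obtain ⟨a, -, c, -, -, e1, e2, e3⟩ := trio_key hT
  rw [e2, e3, ← mask_union, ← mask_compl, mask_inj.eq_iff, mask_inj.eq_iff, mask_inj.eq_iff]
  conv_lhs => rw [e1]
  simp [trio]

/-! ### Transport of orbit decompositions -/

section transport
variable {G X Y : Type*} [Group G] [MulAction G X] [MulAction G Y]

theorem three_orbits {D : Set Y} (hD : ∀ (g : G) y, y ∈ D → g • y ∈ D) (hfin : D.Finite) {x₀ : X}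
    {y₁ y₂ y₃ : Y} {n₁ n₂ n₃ : ℕ} (h₁ : y₁ ∈ D) (h₂ : y₂ ∈ D) (h₃ : y₃ ∈ D)
    (c₁ : (orbit (stabilizer G x₀) y₁).ncard = n₁) (c₂ : (orbit (stabilizer G x₀) y₂).ncard = n₂)
    (c₃ : (orbit (stabilizer G x₀) y₃).ncard = n₃) (hn : n₁ ≠ n₂ ∧ n₁ ≠ n₃ ∧ n₂ ≠ n₃)
    (hc : D.ncard = n₁ + n₂ + n₃) (g : G) :
    ∃ X₁ ∈ D, ∃ X₂ ∈ D, ∃ X₃ ∈ D, (orbit (stabilizer G (g • x₀)) X₁).ncard = n₁ ∧
      (orbit (stabilizer G (g • x₀)) X₂).ncard = n₂ ∧ (orbit (stabilizer G (g • x₀)) X₃).ncard = n₃ ∧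
      D = orbit (stabilizer G (g • x₀)) X₁ ∪ orbit (stabilizer G (g • x₀)) X₂ ∪
        orbit (stabilizer G (g • x₀)) X₃ := by
  have sub : ∀ y ∈ D, orbit (stabilizer G (g • x₀)) y ⊆ D := by
    rintro y hy _ ⟨h, rfl⟩; exact hD h y hy
  have e₁ : (orbit (stabilizer G (g • x₀)) (g • y₁)).ncard = n₁ := by
    rw [orbit_stab_smul, Set.ncard_smul_set, c₁]
  have e₂ : (orbit (stabilizer G (g • x₀)) (g • y₂)).ncard = n₂ := by
    rw [orbit_stab_smul, Set.ncard_smul_set, c₂]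
  have e₃ : (orbit (stabilizer G (g • x₀)) (g • y₃)).ncard = n₃ := by
    rw [orbit_stab_smul, Set.ncard_smul_set, c₃]
  have s₁ := sub _ (hD g _ h₁)
  have s₂ := sub _ (hD g _ h₂)
  have s₃ := sub _ (hD g _ h₃)
  refine ⟨_, hD g _ h₁, _, hD g _ h₂, _, hD g _ h₃, e₁, e₂, e₃, ?_⟩
  symm
  refine Set.eq_of_subset_of_ncard_le (Set.union_subset (Set.union_subset s₁ s₂) s₃) ?_ hfin
  rw [Set.ncard_union_eq (Set.disjoint_union_left.2
      ⟨orbit_disjoint_of_ncard (by rw [e₁, e₃]; exact hn.2.1),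
       orbit_disjoint_of_ncard (by rw [e₂, e₃]; exact hn.2.2)⟩)
      (hfin.subset (Set.union_subset s₁ s₂)) (hfin.subset s₃),
    Set.ncard_union_eq (orbit_disjoint_of_ncard (by rw [e₁, e₂]; exact hn.1)) (hfin.subset s₁)
      (hfin.subset s₂), e₁, e₂, e₃, hc]

theorem four_orbits {D : Set Y} (hD : ∀ (g : G) y, y ∈ D → g • y ∈ D) (hfin : D.Finite) {x₀ : X}
    {y₁ y₂ y₃ y₄ : Y} {n₁ n₂ n₃ n₄ : ℕ} (h₁ : y₁ ∈ D) (h₂ : y₂ ∈ D) (h₃ : y₃ ∈ D) (h₄ : y₄ ∈ D)
    (c₁ : (orbit (stabilizer G x₀) y₁).ncard = n₁) (c₂ : (orbit (stabilizer G x₀) y₂).ncard = n₂)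
    (c₃ : (orbit (stabilizer G x₀) y₃).ncard = n₃) (c₄ : (orbit (stabilizer G x₀) y₄).ncard = n₄)
    (hn : n₁ ≠ n₂ ∧ n₁ ≠ n₃ ∧ n₂ ≠ n₃ ∧ n₁ ≠ n₄ ∧ n₂ ≠ n₄ ∧ n₃ ≠ n₄)
    (hc : D.ncard = n₁ + n₂ + n₃ + n₄) (g : G) :
    ∃ X₁ ∈ D, ∃ X₂ ∈ D, ∃ X₃ ∈ D, ∃ X₄ ∈ D, (orbit (stabilizer G (g • x₀)) X₁).ncard = n₁ ∧
      (orbit (stabilizer G (g • x₀)) X₂).ncard = n₂ ∧ (orbit (stabilizer G (g • x₀)) X₃).ncard = n₃ ∧
      (orbit (stabilizer G (g • x₀)) X₄).ncard = n₄ ∧
      D = orbit (stabilizer G (g • x₀)) X₁ ∪ orbit (stabilizer G (g • x₀)) X₂ ∪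
        orbit (stabilizer G (g • x₀)) X₃ ∪ orbit (stabilizer G (g • x₀)) X₄ := by
  have sub : ∀ y ∈ D, orbit (stabilizer G (g • x₀)) y ⊆ D := by
    rintro y hy _ ⟨h, rfl⟩; exact hD h y hy
  have e₁ : (orbit (stabilizer G (g • x₀)) (g • y₁)).ncard = n₁ := by
    rw [orbit_stab_smul, Set.ncard_smul_set, c₁]
  have e₂ : (orbit (stabilizer G (g • x₀)) (g • y₂)).ncard = n₂ := by
    rw [orbit_stab_smul, Set.ncard_smul_set, c₂]
  have e₃ : (orbit (stabilizer G (g • x₀)) (g • y₃)).ncard = n₃ := by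
    rw [orbit_stab_smul, Set.ncard_smul_set, c₃]
  have e₄ : (orbit (stabilizer G (g • x₀)) (g • y₄)).ncard = n₄ := by
    rw [orbit_stab_smul, Set.ncard_smul_set, c₄]
  have s₁ := sub _ (hD g _ h₁)
  have s₂ := sub _ (hD g _ h₂)
  have s₃ := sub _ (hD g _ h₃)
  have s₄ := sub _ (hD g _ h₄)
  refine ⟨_, hD g _ h₁, _, hD g _ h₂, _, hD g _ h₃, _, hD g _ h₄, e₁, e₂, e₃, e₄, ?_⟩
  symm
  refine Set.eq_of_subset_of_ncard_le
    (Set.union_subset (Set.union_subset (Set.union_subset s₁ s₂) s₃) s₄) ?_ hfin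
  rw [Set.ncard_union_eq (Set.disjoint_union_left.2 ⟨Set.disjoint_union_left.2
      ⟨orbit_disjoint_of_ncard (by rw [e₁, e₄]; exact hn.2.2.2.1),
       orbit_disjoint_of_ncard (by rw [e₂, e₄]; exact hn.2.2.2.2.1)⟩,
       orbit_disjoint_of_ncard (by rw [e₃, e₄]; exact hn.2.2.2.2.2)⟩)
      (hfin.subset (Set.union_subset (Set.union_subset s₁ s₂) s₃)) (hfin.subset s₄),
    Set.ncard_union_eq (Set.disjoint_union_left.2
      ⟨orbit_disjoint_of_ncard (by rw [e₁, e₃]; exact hn.2.1),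
       orbit_disjoint_of_ncard (by rw [e₂, e₃]; exact hn.2.2.1)⟩)
      (hfin.subset (Set.union_subset s₁ s₂)) (hfin.subset s₃),
    Set.ncard_union_eq (orbit_disjoint_of_ncard (by rw [e₁, e₂]; exact hn.1)) (hfin.subset s₁)
      (hfin.subset s₂), e₁, e₂, e₃, e₄, hc]

end transport

end Cfsg.Agent.M24
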