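import Cfsg.Agent.M24.Struct

/-! # The 3795 trios form one orbit of `M24` -/

set_option autoImplicit false

namespace Cfsg.Agent.M24

open Finset MulAction
open scoped Pointwise symmDiff

def tT_0 : T := (.node (.node (.node (.node (.node (.node (.node .nil (nat_lit 0x800c7504b18a) (nat_lit 21872)
  (nat_lit 0xc0063a0258c5) .nil) (nat_lit 0x800c750ba288) (nat_lit 35233) (nat_lit 0x82691115848c) (.node .nil
  (nat_lit 0x800c750f1302) (nat_lit 28288) (nat_lit 0xc0063a078981) .nil)) (nat_lit 0x800c7511c382) (nat_lit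
  42272) (nat_lit 0xc0063a08e1c1) (.node (.node .nil (nat_lit 0x800c75157208) (nat_lit 17504) (nat_lit
  0xc0063a0ab904) .nil) (nat_lit 0x800c751a610a) (nat_lit 13856) (nat_lit 0xc0063a0d3085) (.node .nil (nat_lit
  0x800c751ed080) (nat_lit 34384) (nat_lit 0xc0063a0f6840) .nil))) (nat_lit 0x800c75237180) (nat_lit 44384)
  (nat_lit 0xc0063a11b8c0) (.node (.node (.node .nil (nat_lit 0x800c7527c00a) (nat_lit 23569) (nat_lit
  0x8269112114e4) .nil) (nat_lit 0x800c7528d308) (nat_lit 36353) (nat_lit 0x8269112082ae) (.node .nil (nat_lit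
  0x800c752c6282) (nat_lit 21024) (nat_lit 0xc0063a163141) .nil)) (nat_lit 0x800c7532b202) (nat_lit 58129)
  (nat_lit 0x8269110c16a8) (.node (.node .nil (nat_lit 0x800c75360388) (nat_lit 18497) (nat_lit
  0x82691118046e) .nil) (nat_lit 0x800c7539108a) (nat_lit 30992) (nat_lit 0xc0063a1c8845) .nil))) (nat_lit
  0x800c753da100) (nat_lit 53056) (nat_lit 0xc0063a1ed080) (.node (.node (.node (.node .nil (nat_lit
  0x8018ea04a515) (nat_lit 33297) (nat_lit 0xe2450809a831) .nil) (nat_lit 0x8018ea096314) (nat_lit 6785)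
  (nat_lit 0xc4134809a831) (.node .nil (nat_lit 0x8018ea0dc601) (nat_lit 45872) (nat_lit 0x800c7539108a)
  .nil)) (nat_lit 0x8018ea13e005) (nat_lit 31168) (nat_lit 0x800c75360388) (.node (.node .nil (nat_lit
  0x8018ea174510) (nat_lit 19377) (nat_lit 0x8206cc09a831) .nil) (nat_lit 0x8018ea1a8311) (nat_lit 4369)
  (nat_lit 0xa4508c09a831) (.node .nil (nat_lit 0x8018ea1e2604) (nat_lit 43216) (nat_lit 0x800c750f1302)
  .nil))) (nat_lit 0x8018ea238704) (nat_lit 23217) (nat_lit 0xc0544609a831) (.node (.node (.node .nil (nat_lit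
  0x8018ea272211) (nat_lit 34720) (nat_lit 0x800c752c6282) .nil) (nat_lit 0x8018ea2ae410) (nat_lit 29712)
  (nat_lit 0x800c75157208) (.node .nil (nat_lit 0x8018ea2e4105) (nat_lit 23921) (nat_lit 0xe6020609a831)
  .nil)) (nat_lit 0x8018ea306701) (nat_lit 38000) (nat_lit 0x800c7527c00a) (.node (.node .nil (nat_lit
  0x8018ea34c214) (nat_lit 24289) (nat_lit 0xb4054409a831) .nil) (nat_lit 0x8018ea390415) (nat_lit 45969)
  (nat_lit 0x92530409a831) .nil)))) (nat_lit 0x8018ea3da100) (nat_lit 49024) (nat_lit 0x800c751ed080) (.node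
  (.node (.node (.node (.node .nil (nat_lit 0x80254b03da10) (nat_lit 40896) (nat_lit 0xc012a501ed08) .nil)
  (nat_lit 0x80254b0498b4) (nat_lit 38704) (nat_lit 0xc012a5024c5a) (.node .nil (nat_lit 0x80254b0742a4)
  (nat_lit 49232) (nat_lit 0xc012a503a152) .nil)) (nat_lit 0x80254b199224) (nat_lit 34433) (nat_lit
  0xa88d011230ac) (.node (.node .nil (nat_lit 0x80254b1a4834) (nat_lit 31041) (nat_lit 0xa88d01067016) .nil)
  (nat_lit 0x80254b1d0a90) (nat_lit 31632) (nat_lit 0xc012a50e8548) (.node .nil (nat_lit 0x80254b1ed080)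
  (nat_lit 17553) (nat_lit 0xa88d011262d0) .nil))) (nat_lit 0x80254b29c884) (nat_lit 51281) (nat_lit
  0xa88d0113021e) (.node (.node (.node .nil (nat_lit 0x80254b2a1294) (nat_lit 52112) (nat_lit 0xc012a515094a)
  .nil) (nat_lit 0x80254b2d5030) (nat_lit 59489) (nat_lit 0xa88d010710d8) (.node .nil (nat_lit 0x80254b2e8a20)
  (nat_lit 28321) (nat_lit 0xa88d01135062) .nil)) (nat_lit 0x80254b305aa0) (nat_lit 48080) (nat_lit
  0xc012a5182d50) (.node (.node .nil (nat_lit 0x80254b3380b0) (nat_lit 32000) (nat_lit 0xc012a519c058) .nil)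
  (nat_lit 0x80254b34c214) (nat_lit 35712) (nat_lit 0xc012a51a610a) .nil))) (nat_lit 0x80254b371804) (nat_lit
  25248) (nat_lit 0xc012a51b8c02) (.node (.node (.node (.node .nil (nat_lit 0x8031d4048c2b) (nat_lit 24897)
  (nat_lit 0xc8a1181412c6) .nil) (nat_lit 0x8031d4094a2a) (nat_lit 38433) (nat_lit 0xc4134818a096) (.node .nil
  (nat_lit 0x8031d40dc601) (nat_lit 56848) (nat_lit 0x8018ea390415) .nil)) (nat_lit 0x8031d412c628) (nat_lit
  12896) (nat_lit 0x8018ea096314) (.node (.node .nil (nat_lit 0x8031d4164a03) (nat_lit 36977) (nat_lit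
  0xcc109210a34c) .nil) (nat_lit 0x8031d41b8c02) (nat_lit 50705) (nat_lit 0xc0a2c21c111c) (.node .nil (nat_lit
  0x8031d41f0029) (nat_lit 40881) (nat_lit 0xd4b0040803da) .nil))) (nat_lit 0x8031d4234c21) (nat_lit 38512)
  (nat_lit 0x8018ea2e4105) (.node (.node (.node .nil (nat_lit 0x8031d427c00a) (nat_lit 46000) (nat_lit
  0x8018ea13e005) .nil) (nat_lit 0x8031d42a060b) (nat_lit 44688) (nat_lit 0x8018ea2ae410) (.node .nil (nat_lit
  0x8031d42e8a20) (nat_lit 32368) (nat_lit 0x8018ea174510) .nil)) (nat_lit 0x8031d4318a09) (nat_lit 33089)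
  (nat_lit 0x909298234c21) (.node (.node .nil (nat_lit 0x8031d4350622) (nat_lit 5825) (nat_lit 0x84805e234c21)
  .nil) (nat_lit 0x8031d438c023) (nat_lit 18081) (nat_lit 0x88320e234c21) .nil))))) (nat_lit 0x8031d43c4c08)
  (nat_lit 55360) (nat_lit 0x8018ea1e2604) (.node (.node (.node (.node (.node (.node .nil (nat_lit
  0x804a9607b420) (nat_lit 54064) (nat_lit 0x80254b03da10) .nil) (nat_lit 0x804a96093168) (nat_lit 7009)
  (nat_lit 0xc413480b4093) (.node .nil (nat_lit 0x804a960e8548) (nat_lit 53745) (nat_lit 0x9036600b4093)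
  .nil)) (nat_lit 0x804a96118561) (nat_lit 40064) (nat_lit 0x80254b371804) (.node (.node .nil (nat_lit
  0x804a96163141) (nat_lit 33665) (nat_lit 0xe41c200b4093) .nil) (nat_lit 0x804a9618b409) (nat_lit 46832)
  (nat_lit 0x80254b3380b0) (.node .nil (nat_lit 0x804a961f0029) (nat_lit 53953) (nat_lit 0xd4b0040b4093)
  .nil))) (nat_lit 0x804a9622a129) (nat_lit 43248) (nat_lit 0x80254b2e8a20) (.node (.node (.node .nil (nat_lit
  0x804a96251509) (nat_lit 22017) (nat_lit 0xf08320043c4c) .nil) (nat_lit 0x804a962b9041) (nat_lit 43793)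
  (nat_lit 0x940a2c0b4093) (.node .nil (nat_lit 0x804a962c2461) (nat_lit 51025) (nat_lit 0xc02f040b4093)
  .nil)) (nat_lit 0x804a96332448) (nat_lit 49072) (nat_lit 0x80254b199224) (.node (.node .nil (nat_lit
  0x804a96349068) (nat_lit 34529) (nat_lit 0xb405440b4093) .nil) (nat_lit 0x804a963a1520) (nat_lit 28433)
  (nat_lit 0xd08c480b4093) .nil))) (nat_lit 0x804a963da100) (nat_lit 29792) (nat_lit 0x80254b1ed080) (.node
  (.node (.node (.node .nil (nat_lit 0x805e0903a152) (nat_lit 37025) (nat_lit 0x8081b33c4c08) .nil) (nat_lit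
  0x805e090d80e2) (nat_lit 52608) (nat_lit 0xc02f0406c071) (.node .nil (nat_lit 0x805e090e21b0) (nat_lit 1921)
  (nat_lit 0x8081b31a1a48) .nil)) (nat_lit 0x805e09152074) (nat_lit 56784) (nat_lit 0xc02f040a903a) (.node
  (.node .nil (nat_lit 0x805e09168126) (nat_lit 51008) (nat_lit 0xc02f040b4093) .nil) (nat_lit 0x805e0918a096)
  (nat_lit 15072) (nat_lit 0xc02f040c504b) (.node .nil (nat_lit 0x805e091b01c4) (nat_lit 42752) (nat_lit
  0xc02f040d80e2) .nil))) (nat_lit 0x805e09250196) (nat_lit 8496) (nat_lit 0xc02f041280cb) (.node (.node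
  (.node .nil (nat_lit 0x805e0926a0c4) (nat_lit 16048) (nat_lit 0xc02f04135062) .nil) (nat_lit 0x805e09288174)
  (nat_lit 5473) (nat_lit 0x8081b3226a0c) (.node .nil (nat_lit 0x805e092b2026) (nat_lit 23168) (nat_lit
  0xc02f04159013) .nil)) (nat_lit 0x805e093021e2) (nat_lit 29569) (nat_lit 0x8081b3293e00) (.node (.node .nil
  (nat_lit 0x805e093380b0) (nat_lit 14640) (nat_lit 0xc02f0419c058) .nil) (nat_lit 0x805e093da100) (nat_lit
  43313) (nat_lit 0x8081b30f6840) .nil)))) (nat_lit 0x805e093e0052) (nat_lit 7552) (nat_lit 0xc02f041f0029)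
  (.node (.node (.node (.node (.node .nil (nat_lit 0x8063a8070447) (nat_lit 59633) (nat_lit 0xde090000527c)
  .nil) (nat_lit 0x8063a8091856) (nat_lit 39616) (nat_lit 0x8031d4048c2b) (.node .nil (nat_lit 0x8063a80e1c11)
  (nat_lit 30576) (nat_lit 0x8031d438c023) .nil)) (nat_lit 0x8063a8129454) (nat_lit 52304) (nat_lit
  0x8031d4094a2a) (.node (.node .nil (nat_lit 0x8063a8159013) (nat_lit 11216) (nat_lit 0x8031d4350622) .nil)
  (nat_lit 0x8063a81b8c02) (nat_lit 54369) (nat_lit 0xc24a601c111c) (.node .nil (nat_lit 0x8063a81c8845)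
  (nat_lit 27313) (nat_lit 0xc2181c1c4360) .nil))) (nat_lit 0x8063a8228817) (nat_lit 30049) (nat_lit
  0x8e421821a483) (.node (.node (.node .nil (nat_lit 0x8063a8258c50) (nat_lit 23072) (nat_lit 0x8031d412c628)
  .nil) (nat_lit 0x8063a82b9041) (nat_lit 56224) (nat_lit 0x8031d42a060b) (.node .nil (nat_lit 0x8063a82c9406)
  (nat_lit 51040) (nat_lit 0x8031d4164a03) .nil)) (nat_lit 0x8063a8301c43) (nat_lit 5601) (nat_lit
  0x881b3021a483) (.node (.node .nil (nat_lit 0x8063a8371804) (nat_lit 58976) (nat_lit 0x8031d41b8c02) .nil)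
  (nat_lit 0x8063a8390415) (nat_lit 52368) (nat_lit 0x8031d4234c21) .nil))) (nat_lit 0x8063a83e0052) (nat_lit
  54048) (nat_lit 0x8031d41f0029) (.node (.node (.node (.node .nil (nat_lit 0x8081b3043c4c) (nat_lit 46449)
  (nat_lit 0xa960091412c6) .nil) (nat_lit 0x8081b30b540c) (nat_lit 34480) (nat_lit 0xc040d905aa06) (.node .nil
  (nat_lit 0x8081b30f6840) (nat_lit 28352) (nat_lit 0xc040d907b420) .nil)) (nat_lit 0x8081b3114e44) (nat_lit
  55905) (nat_lit 0xa96009121992) (.node (.node .nil (nat_lit 0x8081b3157208) (nat_lit 18145) (nat_lit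
  0xa96009060b54) .nil) (nat_lit 0x8081b31a1a48) (nat_lit 960) (nat_lit 0xc040d90d0d24) .nil)) (nat_lit
  0x8081b31e2604) (nat_lit 19792) (nat_lit 0xc040d90f1302) (.node (.node (.node .nil (nat_lit 0x8081b3226a0c)
  (nat_lit 2784) (nat_lit 0xc040d9113506) .nil) (nat_lit 0x8081b3265640) (nat_lit 50929) (nat_lit
  0xa96009129454) (.node .nil (nat_lit 0x8081b3293e00) (nat_lit 17408) (nat_lit 0xc040d9149f00) .nil))
  (nat_lit 0x8081b32d024c) (nat_lit 46049) (nat_lit 0xa96009041572) (.node (.node .nil (nat_lit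
  0x8081b3332448) (nat_lit 50016) (nat_lit 0xc040d9199224) .nil) (nat_lit 0x8081b3371804) (nat_lit 43825)
  (nat_lit 0xa96009008dc6) .nil))))))
def tT_1 : T := (.node (.node (.node (.node (.node (.node (.node .nil (nat_lit 0x8081b33c4c08) (nat_lit 22801)
  (nat_lit 0xa96009160ce0) .nil) (nat_lit 0x80952c0428d3) (nat_lit 31073) (nat_lit 0xc94c101412c6) (.node .nil
  (nat_lit 0x80952c0b4093) (nat_lit 39153) (nat_lit 0x9d400622a129) .nil)) (nat_lit 0x80952c0f6840) (nat_lit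
  57857) (nat_lit 0x8952c022a129) (.node (.node .nil (nat_lit 0x80952c1262d0) (nat_lit 13296) (nat_lit
  0x804a96093168) .nil) (nat_lit 0x80952c164a03) (nat_lit 43633) (nat_lit 0xcc1092114e44) (.node .nil (nat_lit
  0x80952c192243) (nat_lit 26577) (nat_lit 0x981c8422a129) .nil))) (nat_lit 0x80952c1d0a90) (nat_lit 25329)
  (nat_lit 0x8c0e4222a129) (.node (.node (.node .nil (nat_lit 0x80952c230ac2) (nat_lit 31089) (nat_lit
  0xc054461d0a90) .nil) (nat_lit 0x80952c272211) (nat_lit 23025) (nat_lit 0xd44680091856) (.node .nil (nat_lit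
  0x80952c284a51) (nat_lit 55393) (nat_lit 0x804a9622a129) .nil)) (nat_lit 0x80952c2c6282) (nat_lit 46593)
  (nat_lit 0x94585022a129) (.node (.node .nil (nat_lit 0x80952c316812) (nat_lit 2577) (nat_lit 0xc508c4185612)
  .nil) (nat_lit 0x80952c3540c1) (nat_lit 36032) (nat_lit 0x804a96251509) .nil))) (nat_lit 0x80952c3a2881)
  (nat_lit 42593) (nat_lit 0x85161422a129) (.node (.node (.node (.node .nil (nat_lit 0x80952c3e0052) (nat_lit
  55505) (nat_lit 0x9104d222a129) .nil) (nat_lit 0x80a88d041572) (nat_lit 25920) (nat_lit 0xc05446020ab9)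
  (.node .nil (nat_lit 0x80a88d0b0670) (nat_lit 17568) (nat_lit 0xc05446058338) .nil)) (nat_lit
  0x80a88d0f1302) (nat_lit 57088) (nat_lit 0xc05446078981) (.node (.node .nil (nat_lit 0x80a88d135062)
  (nat_lit 18481) (nat_lit 0x8384191c3822) .nil) (nat_lit 0x80a88d174510) (nat_lit 44048) (nat_lit
  0xc054460ba288) (.node .nil (nat_lit 0x80a88d185612) (nat_lit 48736) (nat_lit 0xc054460c2b09) .nil)))
  (nat_lit 0x80a88d1c4360) (nat_lit 60160) (nat_lit 0xc054460e21b0) (.node (.node (.node .nil (nat_lit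
  0x80a88d224332) (nat_lit 6112) (nat_lit 0xc05446112199) .nil) (nat_lit 0x80a88d265640) (nat_lit 16033)
  (nat_lit 0x838419387044) (.node .nil (nat_lit 0x80a88d294542) (nat_lit 6385) (nat_lit 0x838419380b06) .nil))
  (nat_lit 0x80a88d2d5030) (nat_lit 38176) (nat_lit 0xc0544616a818) (.node (.node .nil (nat_lit
  0x80a88d311350) (nat_lit 40752) (nat_lit 0xc054461889a8) .nil) (nat_lit 0x80a88d350622) (nat_lit 24912)
  (nat_lit 0xc054461a8311) .nil)))) (nat_lit 0x80a88d3a1520) (nat_lit 27393) (nat_lit 0x838419243324) (.node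
  (.node (.node (.node (.node .nil (nat_lit 0x80a88d3e0052) (nat_lit 46464) (nat_lit 0xc054461f0029) .nil)
  (nat_lit 0x80bc12034349) (nat_lit 14288) (nat_lit 0x805e093e0052) (.node .nil (nat_lit 0x80bc120401ed)
  (nat_lit 6097) (nat_lit 0xe3a800084539) .nil)) (nat_lit 0x80bc120742a4) (nat_lit 47409) (nat_lit
  0xa09a44084539) (.node (.node .nil (nat_lit 0x80bc1218428d) (nat_lit 25616) (nat_lit 0x805e093380b0) .nil)
  (nat_lit 0x80bc121b01c4) (nat_lit 56417) (nat_lit 0xc0a2c2084539) (.node .nil (nat_lit 0x80bc121c4360)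
  (nat_lit 3776) (nat_lit 0x805e090e21b0) .nil))) (nat_lit 0x80bc121f0029) (nat_lit 44528) (nat_lit
  0x805e093021e2) (.node (.node (.node .nil (nat_lit 0x80bc122903a1) (nat_lit 37520) (nat_lit 0x805e092b2026)
  .nil) (nat_lit 0x80bc122a40e8) (nat_lit 24017) (nat_lit 0xf210c005aa06) (.node .nil (nat_lit 0x80bc122d024c)
  (nat_lit 58929) (nat_lit 0xa53042084539) .nil)) (nat_lit 0x80bc122e4105) (nat_lit 10608) (nat_lit
  0x805e09288174) (.node (.node .nil (nat_lit 0x80bc1231412c) (nat_lit 26272) (nat_lit 0x805e0918a096) .nil)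
  (nat_lit 0x80bc12320265) (nat_lit 27536) (nat_lit 0x805e0926a0c4) .nil))) (nat_lit 0x80bc123540c1) (nat_lit
  15888) (nat_lit 0x805e09250196) (.node (.node (.node (.node .nil (nat_lit 0x80bc12360388) (nat_lit 8609)
  (nat_lit 0x922846084539) .nil) (nat_lit 0x80c75003380b) (nat_lit 55921) (nat_lit 0x9c843020498b) (.node .nil
  (nat_lit 0x80c7500d3085) (nat_lit 44113) (nat_lit 0xd304240cb250) .nil)) (nat_lit 0x80c7500e088e) (nat_lit
  32737) (nat_lit 0x90366020498b) (.node (.node .nil (nat_lit 0x80c7501108a7) (nat_lit 53361) (nat_lit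
  0x9b301020498b) .nil) (nat_lit 0x80c7501230ac) (nat_lit 12129) (nat_lit 0xd8025407b420) (.node .nil (nat_lit
  0x80c7501c3822) (nat_lit 33153) (nat_lit 0x97824020498b) .nil))) (nat_lit 0x80c7501f0029) (nat_lit 10784)
  (nat_lit 0x8063a8301c43) (.node (.node (.node .nil (nat_lit 0x80c7502528a8) (nat_lit 51729) (nat_lit
  0x8e106420498b) .nil) (nat_lit 0x80c7502610a3) (nat_lit 58465) (nat_lit 0xcd2220129454) (.node .nil (nat_lit
  0x80c75028182d) (nat_lit 45857) (nat_lit 0x82a23420498b) .nil)) (nat_lit 0x80c7502b2026) (nat_lit 20416)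
  (nat_lit 0x8063a8159013) (.node (.node .nil (nat_lit 0x80c75034200f) (nat_lit 37424) (nat_lit
  0x8063a8258c50) .nil) (nat_lit 0x80c750371804) (nat_lit 7345) (nat_lit 0x89a44420498b) .nil))))) (nat_lit
  0x80c75039108a) (nat_lit 42320) (nat_lit 0x8063a81c8845) (.node (.node (.node (.node (.node (.node .nil
  (nat_lit 0x80c7503a2881) (nat_lit 30385) (nat_lit 0x85161420498b) .nil) (nat_lit 0x810366066489) (nat_lit
  37008) (nat_lit 0x8081b33c4c08) (.node .nil (nat_lit 0x810366087898) (nat_lit 34209) (nat_lit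
  0xc4134801c436) .nil)) (nat_lit 0x8103660e1c11) (nat_lit 47168) (nat_lit 0x8081b3387044) (.node (.node .nil
  (nat_lit 0x81036610cc91) (nat_lit 21217) (nat_lit 0x81511a3a2881) .nil) (nat_lit 0x81036616a818) (nat_lit
  10593) (nat_lit 0x8103663a2881) (.node .nil (nat_lit 0x81036618b409) (nat_lit 55057) (nat_lit
  0x80952c3a2881) .nil))) (nat_lit 0x8103661ed080) (nat_lit 43296) (nat_lit 0x8081b30f6840) (.node (.node
  (.node .nil (nat_lit 0x810366229c88) (nat_lit 17585) (nat_lit 0xc05446058338) .nil) (nat_lit 0x81036624f801)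
  (nat_lit 56880) (nat_lit 0x8081b32d024c) (.node .nil (nat_lit 0x8103662ae410) (nat_lit 30672) (nat_lit
  0x8081b3157208) .nil)) (nat_lit 0x8103662c8099) (nat_lit 29552) (nat_lit 0x8081b3293e00) (.node (.node .nil
  (nat_lit 0x810366325019) (nat_lit 18577) (nat_lit 0x84d2223a2881) .nil) (nat_lit 0x810366343490) (nat_lit
  353) (nat_lit 0x84805e3a2881) .nil))) (nat_lit 0x8103663a2881) (nat_lit 5456) (nat_lit 0x8081b3226a0c)
  (.node (.node (.node (.node .nil (nat_lit 0x8103663c4c08) (nat_lit 32960) (nat_lit 0x8081b31e2604) .nil)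
  (nat_lit 0x812a5802d503) (nat_lit 45105) (nat_lit 0xac012a10cc91) (.node .nil (nat_lit 0x812a580851a6)
  (nat_lit 45936) (nat_lit 0x80952c0428d3) .nil)) (nat_lit 0x812a580a84a5) (nat_lit 35137) (nat_lit
  0x87210c10cc91) (.node (.node .nil (nat_lit 0x812a58145425) (nat_lit 35889) (nat_lit 0xc2312210cc91) .nil)
  (nat_lit 0x812a58168126) (nat_lit 34977) (nat_lit 0x81036610cc91) (.node .nil (nat_lit 0x812a581c0583)
  (nat_lit 5072) (nat_lit 0x80952c316812) .nil))) (nat_lit 0x812a581ed080) (nat_lit 41761) (nat_lit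
  0xaa234010cc91) (.node (.node (.node .nil (nat_lit 0x812a5824c5a0) (nat_lit 23712) (nat_lit 0x80952c1262d0)
  .nil) (nat_lit 0x812a582610a3) (nat_lit 49505) (nat_lit 0xcd222010cc91) (.node .nil (nat_lit 0x812a582c9406)
  (nat_lit 55616) (nat_lit 0x80952c164a03) .nil)) (nat_lit 0x812a582e4105) (nat_lit 60016) (nat_lit
  0x80952c284a51) (.node (.node .nil (nat_lit 0x812a58309185) (nat_lit 37360) (nat_lit 0x80952c272211) .nil)
  (nat_lit 0x812a58324486) (nat_lit 38897) (nat_lit 0xe0206c0f1302) .nil)))) (nat_lit 0x812a5838c023) (nat_lit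
  41601) (nat_lit 0x88320e10cc91) (.node (.node (.node (.node (.node .nil (nat_lit 0x812a583a1520) (nat_lit
  36305) (nat_lit 0xcb004a10cc91) .nil) (nat_lit 0x81458506226a) (nat_lit 36465) (nat_lit 0xb3010300527c)
  (.node .nil (nat_lit 0x8145850a903a) (nat_lit 20480) (nat_lit 0xc0a2c205481d) .nil)) (nat_lit
  0x8145850cb250) (nat_lit 28656) (nat_lit 0xc0a2c2065928) (.node (.node .nil (nat_lit 0x814585108a72)
  (nat_lit 50465) (nat_lit 0xb30103087898) .nil) (nat_lit 0x81458516a818) (nat_lit 25489) (nat_lit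
  0xb30103082ae4) (.node .nil (nat_lit 0x8145851a1a48) (nat_lit 50432) (nat_lit 0xc0a2c20d0d24) .nil)))
  (nat_lit 0x8145851c3822) (nat_lit 52064) (nat_lit 0xc0a2c20e1c11) (.node (.node (.node .nil (nat_lit
  0x814585223870) (nat_lit 59313) (nat_lit 0xb30103046e30) .nil) (nat_lit 0x814585241a1a) (nat_lit 33728)
  (nat_lit 0xc0a2c2120d0d) (.node .nil (nat_lit 0x81458528a84a) (nat_lit 42016) (nat_lit 0xc0a2c2145425)
  .nil)) (nat_lit 0x8145852e8a20) (nat_lit 49424) (nat_lit 0xc0a2c2174510) (.node (.node .nil (nat_lit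
  0x81458532b202) (nat_lit 25761) (nat_lit 0xb301030c16a8) .nil) (nat_lit 0x814585349068) (nat_lit 8240)
  (nat_lit 0xc0a2c21a4834) .nil))) (nat_lit 0x814585382238) (nat_lit 50688) (nat_lit 0xc0a2c21c111c) (.node
  (.node (.node (.node .nil (nat_lit 0x8145853e0052) (nat_lit 31536) (nat_lit 0xc0a2c21f0029) .nil) (nat_lit
  0x81511a02ae41) (nat_lit 40129) (nat_lit 0x840d9838c023) (.node .nil (nat_lit 0x81511a082ae4) (nat_lit
  40832) (nat_lit 0x80a88d041572) .nil)) (nat_lit 0x81511a0a84a5) (nat_lit 42448) (nat_lit 0x80a88d3a1520)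
  (.node (.node .nil (nat_lit 0x81511a14a2a1) (nat_lit 39632) (nat_lit 0x80a88d350622) .nil) (nat_lit
  0x81511a160ce0) (nat_lit 29824) (nat_lit 0x80a88d0b0670) .nil)) (nat_lit 0x81511a1c8845) (nat_lit 13681)
  (nat_lit 0xc2181c0527c0) (.node (.node (.node .nil (nat_lit 0x81511a1e2604) (nat_lit 54449) (nat_lit
  0x812a5838c023) .nil) (nat_lit 0x81511a240e85) (nat_lit 15537) (nat_lit 0xc30390043c4c) (.node .nil (nat_lit
  0x81511a26a0c4) (nat_lit 30593) (nat_lit 0x8031d438c023) .nil)) (nat_lit 0x81511a2c2461) (nat_lit 12176)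
  (nat_lit 0x80a88d294542) (.node (.node .nil (nat_lit 0x81511a2e8a20) (nat_lit 21265) (nat_lit
  0x831d4038c023) .nil) (nat_lit 0x81511a30ac24) (nat_lit 47873) (nat_lit 0xc508c4023718) .nil))))))
def tT_2 : T := (.node (.node (.node (.node (.node (.node (.node .nil (nat_lit 0x81511a3886c0) (nat_lit 43681)
  (nat_lit 0xc62450011b8c) .nil) (nat_lit 0x81511a3a2881) (nat_lit 11696) (nat_lit 0x80a88d224332) (.node .nil
  (nat_lit 0x817824068692) (nat_lit 25136) (nat_lit 0x80bc12034349) .nil)) (nat_lit 0x8178240803da) (nat_lit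
  11664) (nat_lit 0x80bc120401ed) (.node (.node .nil (nat_lit 0x8178240e8548) (nat_lit 57552) (nat_lit
  0x80bc120742a4) .nil) (nat_lit 0x8178241280cb) (nat_lit 16096) (nat_lit 0x80bc12360388) (.node .nil (nat_lit
  0x817824140659) (nat_lit 15601) (nat_lit 0xc0d980122433) .nil))) (nat_lit 0x8178241a8311) (nat_lit 42576)
  (nat_lit 0x80bc12320265) (.node (.node (.node .nil (nat_lit 0x8178241c0583) (nat_lit 29905) (nat_lit
  0xe9110404cac8) .nil) (nat_lit 0x8178242205d1) (nat_lit 19424) (nat_lit 0x80bc122e4105) (.node .nil (nat_lit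
  0x817824248343) (nat_lit 8161) (nat_lit 0xe80a8805d144) .nil)) (nat_lit 0x8178242a060b) (nat_lit 32177)
  (nat_lit 0x8c8384122433) (.node (.node .nil (nat_lit 0x8178242c8099) (nat_lit 24993) (nat_lit
  0xc1c20c122433) .nil) (nat_lit 0x81782430851a) (nat_lit 40512) (nat_lit 0x80bc1218428d) .nil))) (nat_lit
  0x817824360388) (nat_lit 40593) (nat_lit 0x88494c122433) (.node (.node (.node (.node .nil (nat_lit
  0x8178243886c0) (nat_lit 7360) (nat_lit 0x80bc121c4360) .nil) (nat_lit 0x8178243e0052) (nat_lit 40289)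
  (nat_lit 0xa181c8122433) (.node .nil (nat_lit 0x818ea0067016) (nat_lit 54529) (nat_lit 0xa09a44112199)
  .nil)) (nat_lit 0x818ea00a205d) (nat_lit 45328) (nat_lit 0x80c7503a2881) (.node (.node .nil (nat_lit
  0x818ea00c504b) (nat_lit 23537) (nat_lit 0xc88826112199) .nil) (nat_lit 0x818ea0104157) (nat_lit 13920)
  (nat_lit 0x80c750371804) (.node .nil (nat_lit 0x818ea0163141) (nat_lit 9649) (nat_lit 0xe41c200ac246)
  .nil))) (nat_lit 0x818ea01a610a) (nat_lit 27441) (nat_lit 0xc24a60112199) (.node (.node (.node .nil (nat_lit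
  0x818ea01c111c) (nat_lit 28113) (nat_lit 0x8c0e42112199) .nil) (nat_lit 0x818ea022114e) (nat_lit 6129)
  (nat_lit 0xc05446112199) (.node .nil (nat_lit 0x818ea0246158) (nat_lit 21824) (nat_lit 0x80c7501230ac)
  .nil)) (nat_lit 0x818ea0283113) (nat_lit 33904) (nat_lit 0x80c7502b2026) (.node (.node .nil (nat_lit
  0x818ea02e4105) (nat_lit 56768) (nat_lit 0x80c75028182d) .nil) (nat_lit 0x818ea0325019) (nat_lit 59857)
  (nat_lit 0x84d222112199) .nil)))) (nat_lit 0x818ea034200f) (nat_lit 55265) (nat_lit 0xca9600112199) (.node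
  (.node (.node (.node (.node .nil (nat_lit 0x818ea0387044) (nat_lit 48032) (nat_lit 0x80c7501c3822) .nil)
  (nat_lit 0x818ea03e0052) (nat_lit 19712) (nat_lit 0x80c7501f0029) (.node .nil (nat_lit 0x81b301024c5a)
  (nat_lit 47184) (nat_lit 0xc0d98001262d) .nil)) (nat_lit 0x81b3010c44d4) (nat_lit 17697) (nat_lit
  0xb004a90cb250) (.node (.node .nil (nat_lit 0x81b3010e088e) (nat_lit 22416) (nat_lit 0xc0d980070447) .nil)
  (nat_lit 0x81b3011440ba) (nat_lit 19953) (nat_lit 0xb004a9060b54) (.node .nil (nat_lit 0x81b301160ce0)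
  (nat_lit 29392) (nat_lit 0xc0d9800b0670) .nil))) (nat_lit 0x81b30118046e) (nat_lit 22512) (nat_lit
  0xc0d9800c0237) (.node (.node (.node .nil (nat_lit 0x81b3011a4834) (nat_lit 10481) (nat_lit 0xb004a9067016)
  .nil) (nat_lit 0x81b301244866) (nat_lit 15584) (nat_lit 0xc0d980122433) (.node .nil (nat_lit 0x81b30126043c)
  (nat_lit 32081) (nat_lit 0xb004a9091856) .nil)) (nat_lit 0x81b301280cb2) (nat_lit 49281) (nat_lit
  0xb004a9096314) (.node (.node .nil (nat_lit 0x81b3012a40e8) (nat_lit 37280) (nat_lit 0xc0d980152074) .nil)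
  (nat_lit 0x81b3013008dc) (nat_lit 13777) (nat_lit 0xb004a903da10) .nil))) (nat_lit 0x81b301324486) (nat_lit
  20977) (nat_lit 0xb004a90f1302) (.node (.node (.node (.node .nil (nat_lit 0x81b3013c4c08) (nat_lit 21809)
  (nat_lit 0xb004a90f6840) .nil) (nat_lit 0x81b3013e0052) (nat_lit 4928) (nat_lit 0xc0d9801f0029) (.node .nil
  (nat_lit 0x81c843023718) (nat_lit 21312) (nat_lit 0xc0e421011b8c) .nil)) (nat_lit 0x81c8430c16a8) (nat_lit
  225) (nat_lit 0x98081b265640) (.node (.node .nil (nat_lit 0x81c8430e21b0) (nat_lit 28833) (nat_lit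
  0x98081b0293e0) .nil) (nat_lit 0x81c8431007b4) (nat_lit 30176) (nat_lit 0xc0e4210803da) (.node .nil (nat_lit
  0x81c8431230ac) (nat_lit 21665) (nat_lit 0x98081b07b420) .nil))) (nat_lit 0x81c8431c111c) (nat_lit 30753)
  (nat_lit 0x98081b0527c0) (.node (.node (.node .nil (nat_lit 0x81c8431e2604) (nat_lit 55745) (nat_lit
  0x98081b21e260) .nil) (nat_lit 0x81c843243324) (nat_lit 11489) (nat_lit 0x98081b05d144) (.node .nil (nat_lit
  0x81c84326043c) (nat_lit 44784) (nat_lit 0xc0e42113021e) .nil)) (nat_lit 0x81c84328258c) (nat_lit 44016)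
  (nat_lit 0xc0e4211412c6) (.node (.node .nil (nat_lit 0x81c8432a1294) (nat_lit 8881) (nat_lit 0x98081b0742a4)
  .nil) (nat_lit 0x81c843343490) (nat_lit 52353) (nat_lit 0x98081b26a0c4) .nil))))) (nat_lit 0x81c843360388)
  (nat_lit 53424) (nat_lit 0xc0e4211b01c4) (.node (.node (.node (.node (.node (.node .nil (nat_lit
  0x81c843382238) (nat_lit 21376) (nat_lit 0xc0e4211c111c) .nil) (nat_lit 0x81c8433a1520) (nat_lit 13633)
  (nat_lit 0x98081b243324) (.node .nil (nat_lit 0x8206cc056123) (nat_lit 47888) (nat_lit 0x8103663c4c08)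
  .nil)) (nat_lit 0x8206cc09a831) (nat_lit 10576) (nat_lit 0x8103663a2881) (.node (.node .nil (nat_lit
  0x8206cc0cc912) (nat_lit 51072) (nat_lit 0x810366066489) .nil) (nat_lit 0x8206cc10f130) (nat_lit 11569)
  (nat_lit 0xd80254078981) (.node .nil (nat_lit 0x8206cc159013) (nat_lit 720) (nat_lit 0x810366343490) .nil)))
  (nat_lit 0x8206cc195901) (nat_lit 24257) (nat_lit 0xb01036078981) (.node (.node (.node .nil (nat_lit
  0x8206cc1c3822) (nat_lit 55441) (nat_lit 0xb0424a078981) .nil) (nat_lit 0x8206cc219922) (nat_lit 34960)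
  (nat_lit 0x81036610cc91) (.node .nil (nat_lit 0x8206cc24f801) (nat_lit 28305) (nat_lit 0xc0063a078981)
  .nil)) (nat_lit 0x8206cc283113) (nat_lit 45536) (nat_lit 0x8103662ae410) (.node (.node .nil (nat_lit
  0x8206cc2d5030) (nat_lit 19392) (nat_lit 0x81036616a818) .nil) (nat_lit 0x8206cc316812) (nat_lit 10849)
  (nat_lit 0xe0206c078981) .nil))) (nat_lit 0x8206cc340931) (nat_lit 57729) (nat_lit 0xe07210078981) (.node
  (.node (.node (.node .nil (nat_lit 0x8206cc38c023) (nat_lit 29856) (nat_lit 0x810366229c88) .nil) (nat_lit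
  0x8206cc3da100) (nat_lit 55424) (nat_lit 0x8103661ed080) (.node .nil (nat_lit 0x82125301ed08) (nat_lit 5232)
  (nat_lit 0xc1092900f684) .nil)) (nat_lit 0x8212530ce02c) (nat_lit 6321) (nat_lit 0x8c48a1311350) (.node
  (.node .nil (nat_lit 0x8212530d0d24) (nat_lit 14048) (nat_lit 0xc10929068692) .nil) (nat_lit 0x821253146984)
  (nat_lit 18321) (nat_lit 0x8c48a110a34c) (.node .nil (nat_lit 0x82125315848c) (nat_lit 33552) (nat_lit
  0xc109290ac246) .nil))) (nat_lit 0x8212531889a8) (nat_lit 1792) (nat_lit 0xc109290c44d4) (.node (.node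
  (.node .nil (nat_lit 0x8212531964a0) (nat_lit 10672) (nat_lit 0xc109290cb250) .nil) (nat_lit 0x82125324c5a0)
  (nat_lit 17376) (nat_lit 0xc109291262d0) (.node .nil (nat_lit 0x8212532528a8) (nat_lit 2336) (nat_lit
  0xc10929129454) .nil)) (nat_lit 0x82125328258c) (nat_lit 58817) (nat_lit 0x8c48a1238704) (.node (.node .nil
  (nat_lit 0x82125329c884) (nat_lit 32496) (nat_lit 0xc1092914e442) .nil) (nat_lit 0x82125330ac24) (nat_lit
  49856) (nat_lit 0xc10929185612) .nil)))) (nat_lit 0x82125331412c) (nat_lit 37504) (nat_lit 0xc1092918a096)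
  (.node (.node (.node (.node (.node .nil (nat_lit 0x8212533c4c08) (nat_lit 53296) (nat_lit 0xc109291e2604)
  .nil) (nat_lit 0x8212533da100) (nat_lit 38881) (nat_lit 0x8c48a103a152) (.node .nil (nat_lit 0x82402f0527c0)
  (nat_lit 11521) (nat_lit 0x8ea00300527c) .nil)) (nat_lit 0x82402f099590) (nat_lit 28849) (nat_lit
  0x8ea00331412c) (.node (.node .nil (nat_lit 0x82402f0cb250) (nat_lit 8913) (nat_lit 0x8ea003311350) .nil)
  (nat_lit 0x82402f11b8c0) (nat_lit 50304) (nat_lit 0xc1201708dc60) (.node .nil (nat_lit 0x82402f149f00)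
  (nat_lit 0) (nat_lit 0x82402f149f00) .nil))) (nat_lit 0x82402f182d50) (nat_lit 35440) (nat_lit
  0xc120170c16a8) (.node (.node (.node .nil (nat_lit 0x82402f1d0a90) (nat_lit 3200) (nat_lit 0xc120170e8548)
  .nil) (nat_lit 0x82402f20ab90) (nat_lit 49201) (nat_lit 0x8ea003214698) (.node .nil (nat_lit 0x82402f258c50)
  (nat_lit 13728) (nat_lit 0xc1201712c628) .nil)) (nat_lit 0x82402f293e00) (nat_lit 50064) (nat_lit
  0xc12017149f00) (.node (.node .nil (nat_lit 0x82402f2c19c0) (nat_lit 45041) (nat_lit 0x8ea0031055c8) .nil)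
  (nat_lit 0x82402f311350) (nat_lit 20592) (nat_lit 0xc120171889a8) .nil))) (nat_lit 0x82402f343490) (nat_lit
  47825) (nat_lit 0x8ea0033008dc) (.node (.node (.node (.node .nil (nat_lit 0x82402f3886c0) (nat_lit 9920)
  (nat_lit 0xc120171c4360) .nil) (nat_lit 0x82402f3da100) (nat_lit 30785) (nat_lit 0x8ea0030149f0) (.node .nil
  (nat_lit 0x8254b005aa06) (nat_lit 38129) (nat_lit 0xa09a44056123) .nil)) (nat_lit 0x8254b009810f) (nat_lit
  23841) (nat_lit 0xba800c056123) (.node (.node .nil (nat_lit 0x8254b00c2b09) (nat_lit 20209) (nat_lit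
  0xe08494056123) .nil) (nat_lit 0x8254b010a34c) (nat_lit 49345) (nat_lit 0xd80254056123) .nil)) (nat_lit
  0x8254b015094a) (nat_lit 49584) (nat_lit 0x812a580a84a5) (.node (.node (.node .nil (nat_lit 0x8254b0192243)
  (nat_lit 52688) (nat_lit 0x812a58324486) .nil) (nat_lit 0x8254b01c8845) (nat_lit 51440) (nat_lit
  0x812a58309185) (.node .nil (nat_lit 0x8254b0212945) (nat_lit 23137) (nat_lit 0xb20e10056123) .nil))
  (nat_lit 0x8254b0248343) (nat_lit 60096) (nat_lit 0x812a582c9406) (.node (.node .nil (nat_lit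
  0x8254b028a84a) (nat_lit 50272) (nat_lit 0x812a58145425) .nil) (nat_lit 0x8254b02d024c) (nat_lit 49456)
  (nat_lit 0x812a58168126) .nil))))))
def tT_3 : T := (.node (.node (.node (.node (.node (.node (.node .nil (nat_lit 0x8254b034200f) (nat_lit 38208)
  (nat_lit 0x812a5824c5a0) .nil) (nat_lit 0x8254b0380b06) (nat_lit 9824) (nat_lit 0x812a581c0583) (.node .nil
  (nat_lit 0x8254b03da100) (nat_lit 54576) (nat_lit 0x812a581ed080) .nil)) (nat_lit 0x82691101964a) (nat_lit
  31473) (nat_lit 0xa444131889a8) (.node (.node .nil (nat_lit 0x8269110c16a8) (nat_lit 48496) (nat_lit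
  0xc13488060b54) .nil) (nat_lit 0x8269110d80e2) (nat_lit 41553) (nat_lit 0xa444130293e0) (.node .nil (nat_lit
  0x8269111412c6) (nat_lit 27984) (nat_lit 0xc134880a0963) .nil))) (nat_lit 0x82691115848c) (nat_lit 21408)
  (nat_lit 0xc134880ac246) (.node (.node (.node .nil (nat_lit 0x82691118046e) (nat_lit 10048) (nat_lit
  0xc134880c0237) .nil) (nat_lit 0x826911199224) (nat_lit 44064) (nat_lit 0xc134880cc912) (.node .nil (nat_lit
  0x8269112082ae) (nat_lit 22288) (nat_lit 0xc13488104157) .nil)) (nat_lit 0x8269112114e4) (nat_lit 13217)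
  (nat_lit 0xa44413132b20) (.node (.node .nil (nat_lit 0x8269112c9406) (nat_lit 25313) (nat_lit
  0xa4441311b8c0) .nil) (nat_lit 0x8269112d024c) (nat_lit 59744) (nat_lit 0xc13488168126) .nil))) (nat_lit
  0x826911349068) (nat_lit 16833) (nat_lit 0xa444131b01c4) (.node (.node (.node (.node .nil (nat_lit
  0x826911350622) (nat_lit 45713) (nat_lit 0xa4441303886c) .nil) (nat_lit 0x8269113886c0) (nat_lit 22241)
  (nat_lit 0xa44413011b8c) (.node .nil (nat_lit 0x82691139108a) (nat_lit 44609) (nat_lit 0xa44413199224)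
  .nil)) (nat_lit 0x828b0a017451) (nat_lit 46384) (nat_lit 0x8145853e0052) (.node (.node .nil (nat_lit
  0x828b0a0c44d4) (nat_lit 10769) (nat_lit 0x9036602c8099) .nil) (nat_lit 0x828b0a0d3085) (nat_lit 58944)
  (nat_lit 0x814585382238) (.node .nil (nat_lit 0x828b0a145425) (nat_lit 15488) (nat_lit 0x814585349068)
  .nil))) (nat_lit 0x828b0a152074) (nat_lit 33984) (nat_lit 0x8145850a903a) (.node (.node (.node .nil (nat_lit
  0x828b0a1810f1) (nat_lit 39713) (nat_lit 0x8178242c8099) .nil) (nat_lit 0x828b0a1964a0) (nat_lit 33873)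
  (nat_lit 0xc24a60113506) (.node .nil (nat_lit 0x828b0a2060b5) (nat_lit 58432) (nat_lit 0x8145852e8a20)
  .nil)) (nat_lit 0x828b0a2114e4) (nat_lit 18753) (nat_lit 0xc05446132b20) (.node (.node .nil (nat_lit
  0x828b0a2c2461) (nat_lit 16065) (nat_lit 0xc02f04135062) .nil) (nat_lit 0x828b0a2d5030) (nat_lit 40320)
  (nat_lit 0x81458516a818) .nil)))) (nat_lit 0x828b0a343490) (nat_lit 55201) (nat_lit 0x9228462c8099) (.node
  (.node (.node (.node (.node .nil (nat_lit 0x828b0a3540c1) (nat_lit 48448) (nat_lit 0x814585241a1a) .nil)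
  (nat_lit 0x828b0a387044) (nat_lit 2481) (nat_lit 0xd16140021e26) (.node .nil (nat_lit 0x828b0a390415)
  (nat_lit 60688) (nat_lit 0x814585223870) .nil)) (nat_lit 0x82a234055c82) (nat_lit 53456) (nat_lit
  0x81511a02ae41) (.node (.node .nil (nat_lit 0x82a234090cc9) (nat_lit 21200) (nat_lit 0x81511a3a2881) .nil)
  (nat_lit 0x82a2340c504b) (nat_lit 46321) (nat_lit 0xc88826066489) (.node .nil (nat_lit 0x82a2341055c8)
  (nat_lit 43985) (nat_lit 0xd80254066489) .nil))) (nat_lit 0x82a23415094a) (nat_lit 51089) (nat_lit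
  0x810366066489) (.node (.node (.node .nil (nat_lit 0x82a234195901) (nat_lit 36064) (nat_lit 0x81511a320265)
  .nil) (nat_lit 0x82a2341c0583) (nat_lit 17489) (nat_lit 0xe91104066489) (.node .nil (nat_lit 0x82a23420498b)
  (nat_lit 30977) (nat_lit 0xa98212066489) .nil)) (nat_lit 0x82a234251509) (nat_lit 21888) (nat_lit
  0x81511a2c2461) (.node (.node .nil (nat_lit 0x82a234294542) (nat_lit 28273) (nat_lit 0xc19070066489) .nil)
  (nat_lit 0x82a2342c19c0) (nat_lit 44816) (nat_lit 0x81511a160ce0) .nil))) (nat_lit 0x82a234301c43) (nat_lit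
  45472) (nat_lit 0x81511a26a0c4) (.node (.node (.node (.node .nil (nat_lit 0x82a2343540c1) (nat_lit 26880)
  (nat_lit 0x81511a240e85) .nil) (nat_lit 0x82a23439108a) (nat_lit 24320) (nat_lit 0x81511a1c8845) (.node .nil
  (nat_lit 0x82a2343c4c08) (nat_lit 59761) (nat_lit 0xb90860066489) .nil)) (nat_lit 0x82f048010f13) (nat_lit
  53393) (nat_lit 0xb84190048c2b) (.node (.node .nil (nat_lit 0x82f0480c0237) (nat_lit 13952) (nat_lit
  0x8178243886c0) .nil) (nat_lit 0x82f0480d0d24) (nat_lit 39872) (nat_lit 0x817824068692) .nil)) (nat_lit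
  0x82f0481007b4) (nat_lit 21136) (nat_lit 0x8178240803da) (.node (.node (.node .nil (nat_lit 0x82f0481108a7)
  (nat_lit 52977) (nat_lit 0x9b3010048c2b) .nil) (nat_lit 0x82f0481c0583) (nat_lit 29953) (nat_lit
  0xe91104048c2b) (.node .nil (nat_lit 0x82f0481d0a90) (nat_lit 15841) (nat_lit 0xaa2340048c2b) .nil))
  (nat_lit 0x82f048240e85) (nat_lit 39696) (nat_lit 0x8178242c8099) (.node (.node .nil (nat_lit
  0x82f048250196) (nat_lit 27600) (nat_lit 0x8178241280cb) .nil) (nat_lit 0x82f048280cb2) (nat_lit 26992)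
  (nat_lit 0x817824140659) .nil))))) (nat_lit 0x82f0482903a1) (nat_lit 47056) (nat_lit 0x8178242a060b) (.node
  (.node (.node (.node (.node (.node .nil (nat_lit 0x82f048340931) (nat_lit 15344) (nat_lit 0x817824248343)
  .nil) (nat_lit 0x82f048350622) (nat_lit 25089) (nat_lit 0xa34054048c2b) (.node .nil (nat_lit 0x82f048380b06)
  (nat_lit 44896) (nat_lit 0x8178241c0583) .nil)) (nat_lit 0x82f048390415) (nat_lit 17185) (nat_lit
  0x925304048c2b) (.node (.node .nil (nat_lit 0x831d4000e21b) (nat_lit 32848) (nat_lit 0x818ea03e0052) .nil)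
  (nat_lit 0x831d400c0237) (nat_lit 53713) (nat_lit 0xca608401964a) (.node .nil (nat_lit 0x831d400ce02c)
  (nat_lit 37905) (nat_lit 0x8952c0340931) .nil))) (nat_lit 0x831d401440ba) (nat_lit 56528) (nat_lit
  0x818ea00a205d) (.node (.node (.node .nil (nat_lit 0x831d4014a2a1) (nat_lit 21425) (nat_lit 0xc134880ac246)
  .nil) (nat_lit 0x831d4018428d) (nat_lit 21361) (nat_lit 0x839086340931) (.node .nil (nat_lit 0x831d4018a096)
  (nat_lit 37952) (nat_lit 0x818ea00c504b) .nil)) (nat_lit 0x831d402060b5) (nat_lit 41857) (nat_lit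
  0x836602340931) (.node (.node .nil (nat_lit 0x831d402082ae) (nat_lit 24672) (nat_lit 0x818ea0104157) .nil)
  (nat_lit 0x831d402c6282) (nat_lit 17856) (nat_lit 0x818ea0163141) .nil))) (nat_lit 0x831d402c8099) (nat_lit
  48608) (nat_lit 0x818ea0283113) (.node (.node (.node (.node .nil (nat_lit 0x831d4034200f) (nat_lit 30225)
  (nat_lit 0xca96000160ce) .nil) (nat_lit 0x831d4034c214) (nat_lit 42512) (nat_lit 0x818ea01a610a) (.node .nil
  (nat_lit 0x831d40382238) (nat_lit 43024) (nat_lit 0x818ea01c111c) .nil)) (nat_lit 0x831d4038c023) (nat_lit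
  11728) (nat_lit 0x818ea022114e) (.node (.node .nil (nat_lit 0x8320e104470e) (nat_lit 57872) (nat_lit
  0xc19070022387) .nil) (nat_lit 0x8320e1088e1c) (nat_lit 45169) (nat_lit 0x952c0102c19c) (.node .nil (nat_lit
  0x8320e10cc912) (nat_lit 28256) (nat_lit 0xc19070066489) .nil))) (nat_lit 0x8320e110d80e) (nat_lit 34065)
  (nat_lit 0x952c010a903a) (.node (.node (.node .nil (nat_lit 0x8320e1149f00) (nat_lit 34912) (nat_lit
  0xc190700a4f80) .nil) (nat_lit 0x8320e1185612) (nat_lit 10257) (nat_lit 0x952c010851a6) (.node .nil (nat_lit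
  0x8320e11c111c) (nat_lit 7584) (nat_lit 0xc190700e088e) .nil)) (nat_lit 0x8320e1205d14) (nat_lit 48880)
  (nat_lit 0xc19070102e8a) (.node (.node .nil (nat_lit 0x8320e1241a1a) (nat_lit 18880) (nat_lit
  0xc19070120d0d) .nil) (nat_lit 0x8320e128d308) (nat_lit 24784) (nat_lit 0xc19070146984) .nil)))) (nat_lit
  0x8320e12c9406) (nat_lit 34897) (nat_lit 0x952c0120d0d2) (.node (.node (.node (.node (.node .nil (nat_lit
  0x8320e130851a) (nat_lit 14881) (nat_lit 0x952c0128d308) .nil) (nat_lit 0x8320e134c214) (nat_lit 52529)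
  (nat_lit 0x952c01288174) (.node .nil (nat_lit 0x8320e1380b06) (nat_lit 58672) (nat_lit 0xc190701c0583)
  .nil)) (nat_lit 0x8320e13c4c08) (nat_lit 31136) (nat_lit 0xc190701e2604) (.node (.node .nil (nat_lit
  0x836602009959) (nat_lit 9536) (nat_lit 0x81b3013e0052) .nil) (nat_lit 0x8366020401ed) (nat_lit 35744)
  (nat_lit 0x81b3013c4c08) (.node .nil (nat_lit 0x8366020498b4) (nat_lit 57440) (nat_lit 0x81b301024c5a)
  .nil))) (nat_lit 0x8366021810f1) (nat_lit 34624) (nat_lit 0x81b301324486) (.node (.node (.node .nil (nat_lit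
  0x8366021889a8) (nat_lit 30000) (nat_lit 0x81b3010c44d4) .nil) (nat_lit 0x8366021c111c) (nat_lit 9841)
  (nat_lit 0x812a581c0583) (.node .nil (nat_lit 0x8366021c8845) (nat_lit 24480) (nat_lit 0x81b3013008dc)
  .nil)) (nat_lit 0x83660228182d) (nat_lit 29697) (nat_lit 0x82a2341c0583) (.node (.node .nil (nat_lit
  0x836602288174) (nat_lit 33232) (nat_lit 0x81b3011440ba) .nil) (nat_lit 0x8366022c19c0) (nat_lit 44400)
  (nat_lit 0x81b301160ce0) .nil))) (nat_lit 0x8366022c8099) (nat_lit 58368) (nat_lit 0x81b301280cb2) (.node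
  (.node (.node (.node .nil (nat_lit 0x8366023008dc) (nat_lit 36672) (nat_lit 0x81b30118046e) .nil) (nat_lit
  0x836602309185) (nat_lit 46960) (nat_lit 0x81b30126043c) (.node .nil (nat_lit 0x836602340931) (nat_lit
  26960) (nat_lit 0x81b301244866) .nil)) (nat_lit 0x836602349068) (nat_lit 19184) (nat_lit 0x81b3011a4834)
  (.node (.node .nil (nat_lit 0x838419007b42) (nat_lit 50753) (nat_lit 0x94c109280cb2) .nil) (nat_lit
  0x838419082ae4) (nat_lit 47392) (nat_lit 0xc1c20c041572) .nil)) (nat_lit 0x8384190851a6) (nat_lit 46257)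
  (nat_lit 0x94c1092b2026) (.node (.node (.node .nil (nat_lit 0x8384191412c6) (nat_lit 17089) (nat_lit
  0x94c109202656) .nil) (nat_lit 0x838419146984) (nat_lit 23409) (nat_lit 0x94c109082ae4) (.node .nil (nat_lit
  0x8384191c3822) (nat_lit 10033) (nat_lit 0x94c109230ac2) .nil)) (nat_lit 0x8384191c4360) (nat_lit 58624)
  (nat_lit 0xc1c20c0e21b0) (.node (.node .nil (nat_lit 0x838419243324) (nat_lit 15920) (nat_lit
  0xc1c20c121992) .nil) (nat_lit 0x838419244866) (nat_lit 24976) (nat_lit 0xc1c20c122433) .nil))))))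
def tT_4 : T := (.node (.node (.node (.node (.node (.node (.node .nil (nat_lit 0x8384192c6282) (nat_lit 50337)
  (nat_lit 0x94c109223870) .nil) (nat_lit 0x8384193021e2) (nat_lit 42656) (nat_lit 0xc1c20c1810f1) (.node .nil
  (nat_lit 0x838419305aa0) (nat_lit 35473) (nat_lit 0x94c1090132b2) .nil)) (nat_lit 0x838419380b06) (nat_lit
  3249) (nat_lit 0x94c1092a1294) (.node (.node .nil (nat_lit 0x838419387044) (nat_lit 8560) (nat_lit
  0xc1c20c1c3822) .nil) (nat_lit 0x839086046e30) (nat_lit 35088) (nat_lit 0x81c843023718) (.node .nil (nat_lit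
  0x839086084539) (nat_lit 24272) (nat_lit 0x81c8433a1520) .nil))) (nat_lit 0x8390860c2b09) (nat_lit 35168)
  (nat_lit 0x81c843382238) (.node (.node (.node .nil (nat_lit 0x839086106869) (nat_lit 56145) (nat_lit
  0x80bc121f0029) .nil) (nat_lit 0x839086140659) (nat_lit 4945) (nat_lit 0xc0d9801f0029) (.node .nil (nat_lit
  0x839086182d50) (nat_lit 464) (nat_lit 0x81c8430c16a8) .nil)) (nat_lit 0x8390861c4360) (nat_lit 19729)
  (nat_lit 0x80c7501f0029) (.node (.node .nil (nat_lit 0x839086200f68) (nat_lit 45120) (nat_lit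
  0x81c8431007b4) .nil) (nat_lit 0x839086246158) (nat_lit 35632) (nat_lit 0x81c8431230ac) .nil))) (nat_lit
  0x839086284a51) (nat_lit 16544) (nat_lit 0x81c8432a1294) (.node (.node (.node (.node .nil (nat_lit
  0x8390862c2461) (nat_lit 7569) (nat_lit 0xc02f041f0029) .nil) (nat_lit 0x839086306701) (nat_lit 37585)
  (nat_lit 0xa017821f0029) (.node .nil (nat_lit 0x839086340931) (nat_lit 11777) (nat_lit 0xe07210008dc6)
  .nil)) (nat_lit 0x839086382238) (nat_lit 45632) (nat_lit 0x81c8431c111c) (.node (.node .nil (nat_lit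
  0x8390863c4c08) (nat_lit 32305) (nat_lit 0xa06cc01f0029) .nil) (nat_lit 0x840d9800b067) (nat_lit 1233)
  (nat_lit 0x8a2c281412c6) (.node .nil (nat_lit 0x840d980a7221) (nat_lit 16225) (nat_lit 0x8424a61a1a48)
  .nil))) (nat_lit 0x840d980ac246) (nat_lit 48593) (nat_lit 0x9036600e088e) (.node (.node (.node .nil (nat_lit
  0x840d98135062) (nat_lit 19360) (nat_lit 0x8206cc09a831) .nil) (nat_lit 0x840d9813e005) (nat_lit 5569)
  (nat_lit 0x96140a082ae4) (.node .nil (nat_lit 0x840d98192243) (nat_lit 14625) (nat_lit 0x981c8406226a)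
  .nil)) (nat_lit 0x840d98199224) (nat_lit 52641) (nat_lit 0x8c0e421230ac) (.node (.node .nil (nat_lit
  0x840d98215207) (nat_lit 23441) (nat_lit 0x9a02a2043c4c) .nil) (nat_lit 0x840d9821e260) (nat_lit 20992)
  (nat_lit 0x8206cc10f130) .nil)))) (nat_lit 0x840d982b2026) (nat_lit 1440) (nat_lit 0x8206cc159013) (.node
  (.node (.node (.node (.node .nil (nat_lit 0x840d982b9041) (nat_lit 20241) (nat_lit 0x940a2c0a34c2) .nil)
  (nat_lit 0x840d98320265) (nat_lit 43232) (nat_lit 0x8206cc24f801) (.node .nil (nat_lit 0x840d9832b202)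
  (nat_lit 21601) (nat_lit 0x9228460c16a8) .nil)) (nat_lit 0x840d98387044) (nat_lit 41793) (nat_lit
  0x9c20c8021e26) (.node (.node .nil (nat_lit 0x840d9838c023) (nat_lit 25281) (nat_lit 0x88320e160ce0) .nil)
  (nat_lit 0x84190700a4f8) (nat_lit 28608) (nat_lit 0xc20c8300527c) (.node .nil (nat_lit 0x8419070b0670)
  (nat_lit 7600) (nat_lit 0xc20c83058338) .nil))) (nat_lit 0x8419070ba288) (nat_lit 11393) (nat_lit
  0xea0031007b42) (.node (.node (.node .nil (nat_lit 0x8419071262d0) (nat_lit 10817) (nat_lit 0xea0031055c82)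
  .nil) (nat_lit 0x84190712c628) (nat_lit 2992) (nat_lit 0xc20c83096314) (.node .nil (nat_lit 0x8419071964a0)
  (nat_lit 3296) (nat_lit 0xc20c830cb250) .nil)) (nat_lit 0x84190719c058) (nat_lit 48256) (nat_lit
  0xc20c830ce02c) (.node (.node .nil (nat_lit 0x841907214698) (nat_lit 42353) (nat_lit 0xea0031043c4c) .nil)
  (nat_lit 0x84190721e260) (nat_lit 12353) (nat_lit 0xea003105d144) .nil))) (nat_lit 0x8419072a40e8) (nat_lit
  15136) (nat_lit 0xc20c83152074) (.node (.node (.node (.node .nil (nat_lit 0x8419072ae410) (nat_lit 58560)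
  (nat_lit 0xc20c83157208) .nil) (nat_lit 0x841907332448) (nat_lit 52177) (nat_lit 0xea00310160ce) (.node .nil
  (nat_lit 0x8419073380b0) (nat_lit 15440) (nat_lit 0xc20c8319c058) .nil)) (nat_lit 0x841907382238) (nat_lit
  23792) (nat_lit 0xc20c831c111c) (.node (.node .nil (nat_lit 0x8419073886c0) (nat_lit 57025) (nat_lit
  0xea0031011b8c) .nil) (nat_lit 0x8424a6009959) (nat_lit 23201) (nat_lit 0xa0c8381412c6) (.node .nil (nat_lit
  0x8424a6034349) (nat_lit 8193) (nat_lit 0xb4888200527c) .nil))) (nat_lit 0x8424a603da10) (nat_lit 10144)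
  (nat_lit 0x82125301ed08) (.node (.node (.node .nil (nat_lit 0x8424a6195901) (nat_lit 40257) (nat_lit
  0xb0103604cac8) .nil) (nat_lit 0x8424a619c058) (nat_lit 7681) (nat_lit 0xa402f010d80e) (.node .nil (nat_lit
  0x8424a61a1a48) (nat_lit 8689) (nat_lit 0xb0424a0498b4) .nil)) (nat_lit 0x8424a61a8311) (nat_lit 16081)
  (nat_lit 0xa4508c108a72) (.node (.node .nil (nat_lit 0x8424a6284a51) (nat_lit 47344) (nat_lit
  0x82125329c884) .nil) (nat_lit 0x8424a628d308) (nat_lit 30944) (nat_lit 0x821253146984) .nil))))) (nat_lit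
  0x8424a62b0918) (nat_lit 38945) (nat_lit 0x8018ea34c214) (.node (.node (.node (.node (.node (.node .nil
  (nat_lit 0x8424a62b9041) (nat_lit 47313) (nat_lit 0x940a2c20d0d2) .nil) (nat_lit 0x8424a6311350) (nat_lit
  3520) (nat_lit 0x8212531889a8) (.node .nil (nat_lit 0x8424a6318a09) (nat_lit 4608) (nat_lit 0x8212532528a8)
  .nil)) (nat_lit 0x8424a6325019) (nat_lit 4113) (nat_lit 0x84d2223008dc) (.node (.node .nil (nat_lit
  0x8424a632c940) (nat_lit 14673) (nat_lit 0x90c0e4241a1a) .nil) (nat_lit 0x843039008dc6) (nat_lit 44033)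
  (nat_lit 0xc0e4211412c6) (.node .nil (nat_lit 0x8430390a4f80) (nat_lit 13664) (nat_lit 0xc2181c0527c0)
  .nil))) (nat_lit 0x8430390ac246) (nat_lit 53681) (nat_lit 0xc0e4210e088e) (.node (.node (.node .nil (nat_lit
  0x843039114e44) (nat_lit 39536) (nat_lit 0xc2181c08a722) .nil) (nat_lit 0x84303911c382) (nat_lit 27248)
  (nat_lit 0xc2181c08e1c1) (.node .nil (nat_lit 0x8430391b01c4) (nat_lit 30193) (nat_lit 0xc0e4210803da)
  .nil)) (nat_lit 0x8430391b8c02) (nat_lit 21393) (nat_lit 0xc0e4211c111c) (.node (.node .nil (nat_lit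
  0x843039230ac2) (nat_lit 37873) (nat_lit 0xc0e4211d0a90) .nil) (nat_lit 0x843039238704) (nat_lit 42256)
  (nat_lit 0xc2181c11c382) .nil))) (nat_lit 0x843039294542) (nat_lit 43841) (nat_lit 0xc0e4210710d8) (.node
  (.node (.node (.node .nil (nat_lit 0x84303929c884) (nat_lit 44801) (nat_lit 0xc0e42113021e) .nil) (nat_lit
  0x843039324486) (nat_lit 30608) (nat_lit 0xc2181c192243) (.node .nil (nat_lit 0x84303932c940) (nat_lit
  51648) (nat_lit 0xc2181c1964a0) .nil)) (nat_lit 0x843039380b06) (nat_lit 29344) (nat_lit 0xc2181c1c0583)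
  (.node (.node .nil (nat_lit 0x8430393886c0) (nat_lit 21329) (nat_lit 0xc0e421011b8c) .nil) (nat_lit
  0x8462450305aa) (nat_lit 24640) (nat_lit 0xc231220182d5) (.node .nil (nat_lit 0x846245099590) (nat_lit 3313)
  (nat_lit 0xc20c830cb250) .nil))) (nat_lit 0x8462450a903a) (nat_lit 21968) (nat_lit 0xc2312205481d) (.node
  (.node (.node .nil (nat_lit 0x846245111c38) (nat_lit 50369) (nat_lit 0xc20c8310f130) .nil) (nat_lit
  0x846245121992) (nat_lit 34784) (nat_lit 0xc23122090cc9) (.node .nil (nat_lit 0x8462451889a8) (nat_lit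
  57568) (nat_lit 0xc231220c44d4) .nil)) (nat_lit 0x8462451b8c02) (nat_lit 23809) (nat_lit 0xc20c831c111c)
  (.node (.node .nil (nat_lit 0x846245219922) (nat_lit 27041) (nat_lit 0xc20c8305d144) .nil) (nat_lit
  0x846245229c88) (nat_lit 7617) (nat_lit 0xc20c83058338) .nil)))) (nat_lit 0x846245280cb2) (nat_lit 3009)
  (nat_lit 0xc20c83096314) (.node (.node (.node (.node (.node .nil (nat_lit 0x8462452b0918) (nat_lit 42160)
  (nat_lit 0xc2312215848c) .nil) (nat_lit 0x84624530851a) (nat_lit 15153) (nat_lit 0xc20c83152074) (.node .nil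
  (nat_lit 0x8462453380b0) (nat_lit 58577) (nat_lit 0xc20c83157208) .nil)) (nat_lit 0x84624539108a) (nat_lit
  44224) (nat_lit 0xc231221c8845) (.node (.node .nil (nat_lit 0x8462453a1520) (nat_lit 15457) (nat_lit
  0xc20c8319c058) .nil) (nat_lit 0x84805e003da1) (nat_lit 45664) (nat_lit 0x82402f3da100) (.node .nil (nat_lit
  0x84805e0a4f80) (nat_lit 20912) (nat_lit 0x82402f0527c0) .nil))) (nat_lit 0x84805e0a7221) (nat_lit 6897)
  (nat_lit 0x8424a6311350) (.node (.node (.node .nil (nat_lit 0x84805e131681) (nat_lit 49169) (nat_lit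
  0x9511a0202656) .nil) (nat_lit 0x84805e132b20) (nat_lit 737) (nat_lit 0x810366343490) (.node .nil (nat_lit
  0x84805e195901) (nat_lit 23361) (nat_lit 0xb010360527c0) .nil)) (nat_lit 0x84805e1964a0) (nat_lit 16608)
  (nat_lit 0x82402f0cb250) (.node (.node .nil (nat_lit 0x84805e234c21) (nat_lit 2961) (nat_lit 0x9423122114e4)
  .nil) (nat_lit 0x84805e237180) (nat_lit 11233) (nat_lit 0x8031d4350622) .nil))) (nat_lit 0x84805e2903a1)
  (nat_lit 58688) (nat_lit 0x82402f293e00) (.node (.node (.node (.node .nil (nat_lit 0x84805e293e00) (nat_lit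
  16) (nat_lit 0x82402f149f00) .nil) (nat_lit 0x84805e305aa0) (nat_lit 6401) (nat_lit 0xb405440132b2) (.node
  .nil (nat_lit 0x84805e306701) (nat_lit 24400) (nat_lit 0x82402f258c50) .nil)) (nat_lit 0x84805e3a1520)
  (nat_lit 6272) (nat_lit 0x82402f1d0a90) (.node (.node .nil (nat_lit 0x84805e3a2881) (nat_lit 161) (nat_lit
  0x8516143021e2) .nil) (nat_lit 0x8494c100293e) (nat_lit 52560) (nat_lit 0xc24a6000149f) .nil)) (nat_lit
  0x8494c1094a2a) (nat_lit 26048) (nat_lit 0xc24a6004a515) (.node (.node (.node .nil (nat_lit 0x8494c1096314)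
  (nat_lit 9728) (nat_lit 0xc24a6004b18a) .nil) (nat_lit 0x8494c113021e) (nat_lit 42401) (nat_lit
  0xc109291ed080) (.node .nil (nat_lit 0x8494c1132b20) (nat_lit 33569) (nat_lit 0xc109290ac246) .nil))
  (nat_lit 0x8494c11a4834) (nat_lit 45745) (nat_lit 0xc10929067016) (.node (.node .nil (nat_lit
  0x8494c11a610a) (nat_lit 17393) (nat_lit 0xc109291262d0) .nil) (nat_lit 0x8494c1224332) (nat_lit 2353)
  (nat_lit 0xc10929129454) .nil))))))
def tT_5 : T := (.node (.node (.node (.node (.node (.node (.node .nil (nat_lit 0x8494c12b0918) (nat_lit 3328)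
  (nat_lit 0xc24a6015848c) .nil) (nat_lit 0x8494c12b2026) (nat_lit 53313) (nat_lit 0xc109291e2604) (.node .nil
  (nat_lit 0x8494c131412c) (nat_lit 1809) (nat_lit 0xc109290c44d4) .nil)) (nat_lit 0x8494c1316812) (nat_lit
  49873) (nat_lit 0xc10929185612) (.node (.node .nil (nat_lit 0x8494c1380b06) (nat_lit 32513) (nat_lit
  0xc1092914e442) .nil) (nat_lit 0x8494c1382238) (nat_lit 5249) (nat_lit 0xc1092900f684) (.node .nil (nat_lit
  0x84a96000149f) (nat_lit 59233) (nat_lit 0x8bc1201412c6) .nil))) (nat_lit 0x84a9600b4093) (nat_lit 18160)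
  (nat_lit 0x8254b0380b06) (.node (.node (.node .nil (nat_lit 0x84a9600b540c) (nat_lit 45585) (nat_lit
  0x8952c0168126) .nil) (nat_lit 0x84a96013021e) (nat_lit 38352) (nat_lit 0x8254b009810f) (.node .nil (nat_lit
  0x84a960131681) (nat_lit 52080) (nat_lit 0x8254b034200f) .nil)) (nat_lit 0x84a96018428d) (nat_lit 1728)
  (nat_lit 0x8254b0318a09) (.node (.node .nil (nat_lit 0x84a960185612) (nat_lit 33584) (nat_lit
  0x8254b00c2b09) .nil) (nat_lit 0x84a960214698) (nat_lit 21857) (nat_lit 0x8e106411c382) .nil))) (nat_lit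
  0x84a960215207) (nat_lit 28593) (nat_lit 0x9a02a205d144) (.node (.node (.node (.node .nil (nat_lit
  0x84a9602a060b) (nat_lit 57921) (nat_lit 0x8c8384135062) .nil) (nat_lit 0x84a9602a1294) (nat_lit 52657)
  (nat_lit 0x9891420742a4) (.node .nil (nat_lit 0x84a960324486) (nat_lit 59600) (nat_lit 0x8254b0192243)
  .nil)) (nat_lit 0x84a960325019) (nat_lit 24705) (nat_lit 0x84d2221b01c4) (.node (.node .nil (nat_lit
  0x84a960390415) (nat_lit 37488) (nat_lit 0x8254b0212945) .nil) (nat_lit 0x84a96039108a) (nat_lit 35793)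
  (nat_lit 0x8641c2199224) (.node .nil (nat_lit 0x84d222032c94) (nat_lit 12449) (nat_lit 0xa09a44174510)
  .nil))) (nat_lit 0x84d222090cc9) (nat_lit 22081) (nat_lit 0x918914265640) (.node (.node (.node .nil (nat_lit
  0x84d2220a205d) (nat_lit 36288) (nat_lit 0x8269113886c0) .nil) (nat_lit 0x84d222112199) (nat_lit 54145)
  (nat_lit 0xb1d400060b54) (.node .nil (nat_lit 0x84d222120d0d) (nat_lit 28768) (nat_lit 0x826911349068)
  .nil)) (nat_lit 0x84d222182d50) (nat_lit 46529) (nat_lit 0x978240205d14) (.node (.node .nil (nat_lit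
  0x84d2221b01c4) (nat_lit 13937) (nat_lit 0x80c750371804) .nil) (nat_lit 0x84d222212945) (nat_lit 59361)
  (nat_lit 0xb20e1005d144) .nil)))) (nat_lit 0x84d2222205d1) (nat_lit 40176) (nat_lit 0x8269112c9406) (.node
  (.node (.node (.node (.node .nil (nat_lit 0x84d22228258c) (nat_lit 25729) (nat_lit 0x945850238704) .nil)
  (nat_lit 0x84d2222b0918) (nat_lit 35216) (nat_lit 0x82691115848c) (.node .nil (nat_lit 0x84d2223008dc)
  (nat_lit 2081) (nat_lit 0xb4054403da10) .nil)) (nat_lit 0x84d222332448) (nat_lit 14993) (nat_lit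
  0xa34054149f00) (.node (.node .nil (nat_lit 0x84d222390415) (nat_lit 23552) (nat_lit 0x8269112114e4) .nil)
  (nat_lit 0x84d2223a2881) (nat_lit 10097) (nat_lit 0x85161432c940) (.node .nil (nat_lit 0x85028b026564)
  (nat_lit 2304) (nat_lit 0xc281450132b2) .nil))) (nat_lit 0x85028b08dc60) (nat_lit 56464) (nat_lit
  0xc28145046e30) (.node (.node (.node .nil (nat_lit 0x85028b0ab904) (nat_lit 46544) (nat_lit 0xc28145055c82)
  .nil) (nat_lit 0x85028b10f130) (nat_lit 14721) (nat_lit 0xd98081060b54) (.node .nil (nat_lit 0x85028b129454)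
  (nat_lit 53984) (nat_lit 0xc28145094a2a) .nil)) (nat_lit 0x85028b182d50) (nat_lit 9072) (nat_lit
  0xc281450c16a8) (.node (.node .nil (nat_lit 0x85028b1a4834) (nat_lit 3024) (nat_lit 0xc281450d241a) .nil)
  (nat_lit 0x85028b205d14) (nat_lit 7520) (nat_lit 0xc28145102e8a) .nil))) (nat_lit 0x85028b223870) (nat_lit
  21440) (nat_lit 0xc28145111c38) (.node (.node (.node (.node .nil (nat_lit 0x85028b288174) (nat_lit 14577)
  (nat_lit 0xd98081041572) .nil) (nat_lit 0x85028b2ae410) (nat_lit 29488) (nat_lit 0xc28145157208) (.node .nil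
  (nat_lit 0x85028b30ac24) (nat_lit 19552) (nat_lit 0xc28145185612) .nil)) (nat_lit 0x85028b32c940) (nat_lit
  48385) (nat_lit 0xd98081026564) (.node (.node .nil (nat_lit 0x85028b387044) (nat_lit 24576) (nat_lit
  0xc281451c3822) .nil) (nat_lit 0x85028b3a1520) (nat_lit 47328) (nat_lit 0xc281451d0a90) .nil)) (nat_lit
  0x85161402e8a2) (nat_lit 56929) (nat_lit 0xa09a440d241a) (.node (.node (.node .nil (nat_lit 0x85161408e1c1)
  (nat_lit 55185) (nat_lit 0xa10c0e0cb250) .nil) (nat_lit 0x8516140a0963) (nat_lit 4896) (nat_lit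
  0x828b0a387044) (.node .nil (nat_lit 0x851614106869) (nat_lit 58096) (nat_lit 0x828b0a3540c1) .nil))
  (nat_lit 0x8516141280cb) (nat_lit 57281) (nat_lit 0x8d9808202656) (.node (.node .nil (nat_lit
  0x8516141889a8) (nat_lit 19680) (nat_lit 0x828b0a0c44d4) .nil) (nat_lit 0x8516141a610a) (nat_lit 60113)
  (nat_lit 0x812a582c9406) .nil))))) (nat_lit 0x85161420498b) (nat_lit 17921) (nat_lit 0xa98212043c4c) (.node
  (.node (.node (.node (.node (.node .nil (nat_lit 0x85161422a129) (nat_lit 27552) (nat_lit 0x828b0a2c2461)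
  .nil) (nat_lit 0x85161428a84a) (nat_lit 26784) (nat_lit 0x828b0a145425) (.node .nil (nat_lit 0x8516142a40e8)
  (nat_lit 34289) (nat_lit 0xa8145805aa06) .nil)) (nat_lit 0x8516143021e2) (nat_lit 65) (nat_lit
  0x84805e293e00) (.node (.node .nil (nat_lit 0x85161432c940) (nat_lit 5201) (nat_lit 0x89a444241a1a) .nil)
  (nat_lit 0x85161438c023) (nat_lit 11297) (nat_lit 0x88320e258c50) (.node .nil (nat_lit 0x8516143a2881)
  (nat_lit 41649) (nat_lit 0x85161428a84a) .nil))) (nat_lit 0x854468022387) (nat_lit 59425) (nat_lit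
  0xaf048000527c) (.node (.node (.node .nil (nat_lit 0x854468089a83) (nat_lit 2929) (nat_lit 0x8900bc265640)
  .nil) (nat_lit 0x8544680ab904) (nat_lit 59473) (nat_lit 0x8952c026043c) (.node .nil (nat_lit 0x854468103a15)
  (nat_lit 41744) (nat_lit 0x82a2343540c1) .nil)) (nat_lit 0x854468121992) (nat_lit 32401) (nat_lit
  0x8206cc2d5030) (.node (.node .nil (nat_lit 0x85446818a096) (nat_lit 49937) (nat_lit 0xa402f00b540c) .nil)
  (nat_lit 0x8544681a8311) (nat_lit 48417) (nat_lit 0xa4508c0b0670) .nil))) (nat_lit 0x85446820ab90) (nat_lit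
  55808) (nat_lit 0x82a2341055c8) (.node (.node (.node (.node .nil (nat_lit 0x854468228817) (nat_lit 43073)
  (nat_lit 0x8e42182114e4) .nil) (nat_lit 0x854468283113) (nat_lit 43184) (nat_lit 0x82a234294542) (.node .nil
  (nat_lit 0x8544682a1294) (nat_lit 56705) (nat_lit 0xa814580742a4) .nil)) (nat_lit 0x854468309185) (nat_lit
  35856) (nat_lit 0x82a234251509) (.node (.node .nil (nat_lit 0x85446832b202) (nat_lit 50400) (nat_lit
  0x82a234195901) .nil) (nat_lit 0x854468380b06) (nat_lit 29680) (nat_lit 0x82a2341c0583) (.node .nil (nat_lit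
  0x8544683a2881) (nat_lit 45840) (nat_lit 0x82a23420498b) .nil))) (nat_lit 0x85e090021e26) (nat_lit 59728)
  (nat_lit 0x82f048010f13) (.node (.node (.node .nil (nat_lit 0x85e090081745) (nat_lit 29264) (nat_lit
  0x82f048390415) .nil) (nat_lit 0x85e0900a0963) (nat_lit 47937) (nat_lit 0xac28140293e0) (.node .nil (nat_lit
  0x85e09010132b) (nat_lit 39824) (nat_lit 0x82f048350622) .nil)) (nat_lit 0x85e090120d0d) (nat_lit 5665)
  (nat_lit 0xa69110082ae4) (.node (.node .nil (nat_lit 0x85e09018046e) (nat_lit 2737) (nat_lit 0xa402f00ab904)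
  .nil) (nat_lit 0x85e0901a1a48) (nat_lit 52785) (nat_lit 0xaa23400498b4) .nil)))) (nat_lit 0x85e090200f68)
  (nat_lit 34864) (nat_lit 0x82f0481007b4) (.node (.node (.node (.node (.node .nil (nat_lit 0x85e09022114e)
  (nat_lit 47249) (nat_lit 0x8031d42e8a20) .nil) (nat_lit 0x85e09028182d) (nat_lit 56305) (nat_lit
  0x82a2342c19c0) (.node .nil (nat_lit 0x85e0902a060b) (nat_lit 41888) (nat_lit 0x82f048280cb2) .nil))
  (nat_lit 0x85e090301c43) (nat_lit 42624) (nat_lit 0x82f048250196) (.node (.node .nil (nat_lit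
  0x85e090320265) (nat_lit 53152) (nat_lit 0x82f048240e85) .nil) (nat_lit 0x85e090380b06) (nat_lit 44944)
  (nat_lit 0x82f0481c0583) (.node .nil (nat_lit 0x85e0903a1520) (nat_lit 21713) (nat_lit 0x8a88d0243324)
  .nil))) (nat_lit 0x8607210160ce) (nat_lit 27073) (nat_lit 0xe4218100527c) (.node (.node (.node .nil (nat_lit
  0x860721087898) (nat_lit 15520) (nat_lit 0xc30390043c4c) .nil) (nat_lit 0x860721091856) (nat_lit 48273)
  (nat_lit 0xe4218101964a) (.node .nil (nat_lit 0x86072110d80e) (nat_lit 8080) (nat_lit 0xc30390086c07) .nil))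
  (nat_lit 0x86072111b8c0) (nat_lit 32096) (nat_lit 0xc3039008dc60) (.node (.node .nil (nat_lit
  0x86072118a096) (nat_lit 38641) (nat_lit 0xe421810b540c) .nil) (nat_lit 0x86072119c058) (nat_lit 15185)
  (nat_lit 0xe421810b0670) .nil))) (nat_lit 0x86072120d0d2) (nat_lit 40528) (nat_lit 0xc30390106869) (.node
  (.node (.node (.node .nil (nat_lit 0x86072121b01c) (nat_lit 58449) (nat_lit 0xe42181091856) .nil) (nat_lit
  0x86072128a84a) (nat_lit 7649) (nat_lit 0xe42181088e1c) (.node .nil (nat_lit 0x86072129c884) (nat_lit 28512)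
  (nat_lit 0xc3039014e442) .nil)) (nat_lit 0x8607213008dc) (nat_lit 29744) (nat_lit 0xc3039018046e) (.node
  (.node .nil (nat_lit 0x860721316812) (nat_lit 47121) (nat_lit 0xe4218103886c) .nil) (nat_lit 0x860721387044)
  (nat_lit 22961) (nat_lit 0xe42181021e26) .nil)) (nat_lit 0x86072139108a) (nat_lit 6704) (nat_lit
  0xc303901c8845) (.node (.node (.node .nil (nat_lit 0x863a8001c436) (nat_lit 16337) (nat_lit 0xa09a441a610a)
  .nil) (nat_lit 0x863a80084539) (nat_lit 21248) (nat_lit 0x831d4038c023) (.node .nil (nat_lit 0x863a8009810f)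
  (nat_lit 54225) (nat_lit 0xba800c007b42) .nil)) (nat_lit 0x863a80104157) (nat_lit 18817) (nat_lit
  0xaa580210a34c) (.node (.node .nil (nat_lit 0x863a80118561) (nat_lit 17057) (nat_lit 0xb039080ac246) .nil)
  (nat_lit 0x863a8018046e) (nat_lit 58209) (nat_lit 0xb0424a0ab904) .nil))))))
def tT_6 : T := (.node (.node (.node (.node (.node (.node (.node .nil (nat_lit 0x863a8020c44d) (nat_lit 4913)
  (nat_lit 0x828b0a387044) .nil) (nat_lit 0x863a8021007b) (nat_lit 30256) (nat_lit 0x831d402c6282) (.node .nil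
  (nat_lit 0x863a80288174) (nat_lit 60368) (nat_lit 0x831d401440ba) .nil)) (nat_lit 0x863a80294542) (nat_lit
  35248) (nat_lit 0x831d4014a2a1) (.node (.node .nil (nat_lit 0x863a8030851a) (nat_lit 7441) (nat_lit
  0x92284628d308) .nil) (nat_lit 0x863a8031412c) (nat_lit 51856) (nat_lit 0x831d4018a096) (.node .nil (nat_lit
  0x863a8038c023) (nat_lit 12273) (nat_lit 0x88320e32c940) .nil))) (nat_lit 0x863a80390415) (nat_lit 10001)
  (nat_lit 0x92530428a84a) (.node (.node (.node .nil (nat_lit 0x8641c201262d) (nat_lit 45984) (nat_lit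
  0x8320e13c4c08) .nil) (nat_lit 0x8641c2088e1c) (nat_lit 9313) (nat_lit 0x90366002c19c) (.node .nil (nat_lit
  0x8641c209a831) (nat_lit 60081) (nat_lit 0x90641c0293e0) .nil)) (nat_lit 0x8641c2103a15) (nat_lit 58401)
  (nat_lit 0x8254b010a34c) (.node (.node .nil (nat_lit 0x8641c2111c38) (nat_lit 21009) (nat_lit
  0x8206cc10f130) .nil) (nat_lit 0x8641c218b409) (nat_lit 23729) (nat_lit 0x80952c1262d0) .nil))) (nat_lit
  0x8641c2199224) (nat_lit 21841) (nat_lit 0x80c7501230ac) (.node (.node (.node (.node .nil (nat_lit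
  0x8641c2209631) (nat_lit 49392) (nat_lit 0x8320e12c9406) .nil) (nat_lit 0x8641c221b01c) (nat_lit 23089)
  (nat_lit 0x8031d412c628) (.node .nil (nat_lit 0x8641c228182d) (nat_lit 39472) (nat_lit 0x8320e128d308)
  .nil)) (nat_lit 0x8641c2293e00) (nat_lit 34881) (nat_lit 0x82f0481007b4) (.node (.node .nil (nat_lit
  0x8641c230ac24) (nat_lit 10513) (nat_lit 0x90c0e4023718) .nil) (nat_lit 0x8641c2318a09) (nat_lit 31664)
  (nat_lit 0x8320e1241a1a) (.node .nil (nat_lit 0x8641c2382238) (nat_lit 14352) (nat_lit 0x8320e11c111c)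
  .nil))) (nat_lit 0x8641c2390415) (nat_lit 13809) (nat_lit 0x92530400a4f8) (.node (.node (.node .nil (nat_lit
  0x86cc040132b2) (nat_lit 14593) (nat_lit 0xa09a441964a0) .nil) (nat_lit 0x86cc040803da) (nat_lit 50112)
  (nat_lit 0x8366020401ed) (.node .nil (nat_lit 0x86cc04093168) (nat_lit 46689) (nat_lit 0x8952c030ac24)
  .nil)) (nat_lit 0x86cc0410132b) (nat_lit 32032) (nat_lit 0x836602349068) (.node (.node .nil (nat_lit
  0x86cc04112199) (nat_lit 41840) (nat_lit 0x836602340931) .nil) (nat_lit 0x86cc041810f1) (nat_lit 13969)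
  (nat_lit 0x8178243886c0) .nil)))) (nat_lit 0x86cc04192243) (nat_lit 50816) (nat_lit 0x8366023008dc) (.node
  (.node (.node (.node (.node .nil (nat_lit 0x86cc042032c9) (nat_lit 57889) (nat_lit 0x818ea0387044) .nil)
  (nat_lit 0x86cc0421007b) (nat_lit 56016) (nat_lit 0x8366022c19c0) (.node .nil (nat_lit 0x86cc04283113)
  (nat_lit 48144) (nat_lit 0x836602288174) .nil)) (nat_lit 0x86cc042903a1) (nat_lit 44656) (nat_lit
  0x83660228182d) (.node (.node .nil (nat_lit 0x86cc043021e2) (nat_lit 46769) (nat_lit 0x90c0e4293e00) .nil)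
  (nat_lit 0x86cc04311350) (nat_lit 44960) (nat_lit 0x8366021889a8) (.node .nil (nat_lit 0x86cc04382238)
  (nat_lit 14753) (nat_lit 0xb9086000f684) .nil))) (nat_lit 0x86cc0439108a) (nat_lit 12577) (nat_lit
  0xa06cc0199224) (.node (.node (.node .nil (nat_lit 0x87083200f684) (nat_lit 33777) (nat_lit 0xa09a440305aa)
  .nil) (nat_lit 0x870832081745) (nat_lit 16016) (nat_lit 0x838419387044) (.node .nil (nat_lit 0x87083208e1c1)
  (nat_lit 6368) (nat_lit 0x838419380b06) .nil)) (nat_lit 0x8708321055c8) (nat_lit 49441) (nat_lit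
  0x8206cc219922) (.node (.node .nil (nat_lit 0x87083210a34c) (nat_lit 29873) (nat_lit 0x810366229c88) .nil)
  (nat_lit 0x87083218428d) (nat_lit 49840) (nat_lit 0x838419305aa0) .nil))) (nat_lit 0x87083218b409) (nat_lit
  45953) (nat_lit 0x80952c230ac2) (.node (.node (.node (.node .nil (nat_lit 0x8708322032c9) (nat_lit 11745)
  (nat_lit 0x818ea022114e) .nil) (nat_lit 0x87083220c44d) (nat_lit 31521) (nat_lit 0x828b0a2114e4) (.node .nil
  (nat_lit 0x87083228258c) (nat_lit 29136) (nat_lit 0x8384191412c6) .nil)) (nat_lit 0x87083228d308) (nat_lit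
  37792) (nat_lit 0x838419146984) (.node (.node .nil (nat_lit 0x870832306701) (nat_lit 38561) (nat_lit
  0xa0178203886c) .nil) (nat_lit 0x870832309185) (nat_lit 27376) (nat_lit 0x838419243324) (.node .nil (nat_lit
  0x870832387044) (nat_lit 8289) (nat_lit 0xa181c8021e26) .nil))) (nat_lit 0x8708323886c0) (nat_lit 50529)
  (nat_lit 0xa28462011b8c) (.node (.node (.node .nil (nat_lit 0x87210c0046e3) (nat_lit 47216) (nat_lit
  0x8390863c4c08) .nil) (nat_lit 0x87210c089a83) (nat_lit 56656) (nat_lit 0x839086382238) (.node .nil (nat_lit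
  0x87210c08dc60) (nat_lit 49568) (nat_lit 0x839086046e30) .nil)) (nat_lit 0x87210c108a72) (nat_lit 38928)
  (nat_lit 0x839086084539) (.node (.node .nil (nat_lit 0x87210c10cc91) (nat_lit 21344) (nat_lit
  0x839086340931) .nil) (nat_lit 0x87210c1810f1) (nat_lit 21153) (nat_lit 0x8178240803da) .nil))))) (nat_lit
  0x87210c185612) (nat_lit 49616) (nat_lit 0x8390860c2b09) (.node (.node (.node (.node (.node (.node .nil
  (nat_lit 0x87210c209631) (nat_lit 14320) (nat_lit 0x8390862c2461) .nil) (nat_lit 0x87210c20d0d2) (nat_lit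
  52321) (nat_lit 0x8031d4094a2a) (.node .nil (nat_lit 0x87210c280cb2) (nat_lit 9568) (nat_lit 0x839086140659)
  .nil)) (nat_lit 0x87210c284a51) (nat_lit 13313) (nat_lit 0x804a96093168) (.node (.node .nil (nat_lit
  0x87210c301c43) (nat_lit 4817) (nat_lit 0x881b300160ce) .nil) (nat_lit 0x87210c305aa0) (nat_lit 928)
  (nat_lit 0x839086182d50) (.node .nil (nat_lit 0x87210c3886c0) (nat_lit 32864) (nat_lit 0x8390861c4360)
  .nil))) (nat_lit 0x87210c38c023) (nat_lit 55585) (nat_lit 0x88320e0149f0) (.node (.node (.node .nil (nat_lit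
  0x881b300160ce) (nat_lit 2432) (nat_lit 0x840d9800b067) .nil) (nat_lit 0x881b30066489) (nat_lit 40112)
  (nat_lit 0x840d9838c023) (.node .nil (nat_lit 0x881b30070447) (nat_lit 54640) (nat_lit 0x840d98387044)
  .nil)) (nat_lit 0x881b301280cb) (nat_lit 35520) (nat_lit 0x840d9832b202) (.node (.node .nil (nat_lit
  0x881b3013e005) (nat_lit 55376) (nat_lit 0x840d98320265) .nil) (nat_lit 0x881b3014e442) (nat_lit 27824)
  (nat_lit 0x840d980a7221) .nil))) (nat_lit 0x881b3015848c) (nat_lit 46929) (nat_lit 0x8c0e422060b5) (.node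
  (.node (.node (.node .nil (nat_lit 0x881b3020c44d) (nat_lit 33616) (nat_lit 0x840d982b9041) .nil) (nat_lit
  0x881b3021a483) (nat_lit 2848) (nat_lit 0x840d982b2026) (.node .nil (nat_lit 0x881b3026a0c4) (nat_lit 32336)
  (nat_lit 0x840d98135062) .nil)) (nat_lit 0x881b3027c00a) (nat_lit 10736) (nat_lit 0x840d9813e005) (.node
  (.node .nil (nat_lit 0x881b30324486) (nat_lit 25584) (nat_lit 0x840d98192243) .nil) (nat_lit 0x881b30332448)
  (nat_lit 52817) (nat_lit 0xcb004a149f00) (.node .nil (nat_lit 0x881b3034200f) (nat_lit 34656) (nat_lit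
  0x840d9821e260) .nil))) (nat_lit 0x881b303540c1) (nat_lit 37824) (nat_lit 0x840d98215207) (.node (.node
  (.node .nil (nat_lit 0x88269103886c) (nat_lit 34192) (nat_lit 0xc4134801c436) .nil) (nat_lit 0x88269105d144)
  (nat_lit 43649) (nat_lit 0x8145850cb250) (.node .nil (nat_lit 0x882691065928) (nat_lit 48896) (nat_lit
  0xc41348032c94) .nil)) (nat_lit 0x88269110d80e) (nat_lit 34001) (nat_lit 0x8145850a903a) (.node (.node .nil
  (nat_lit 0x882691135062) (nat_lit 6768) (nat_lit 0xc4134809a831) .nil) (nat_lit 0x88269115094a) (nat_lit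
  50673) (nat_lit 0x81458506226a) .nil)))) (nat_lit 0x882691168126) (nat_lit 6992) (nat_lit 0xc413480b4093)
  (.node (.node (.node (.node (.node .nil (nat_lit 0x882691219922) (nat_lit 58961) (nat_lit 0x814585382238)
  .nil) (nat_lit 0x88269122114e) (nat_lit 36624) (nat_lit 0xc413481108a7) (.node .nil (nat_lit 0x882691244866)
  (nat_lit 15505) (nat_lit 0x814585349068) .nil)) (nat_lit 0x88269127c00a) (nat_lit 54784) (nat_lit
  0xc4134813e005) (.node (.node .nil (nat_lit 0x88269131412c) (nat_lit 38416) (nat_lit 0xc4134818a096) .nil)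
  (nat_lit 0x88269132c940) (nat_lit 48465) (nat_lit 0x814585241a1a) (.node .nil (nat_lit 0x882691349068)
  (nat_lit 46401) (nat_lit 0x8145853e0052) .nil))) (nat_lit 0x882691371804) (nat_lit 30720) (nat_lit
  0xc413481b8c02) (.node (.node (.node .nil (nat_lit 0x88320e0149f0) (nat_lit 43552) (nat_lit 0x84190700a4f8)
  .nil) (nat_lit 0x88320e06c071) (nat_lit 3697) (nat_lit 0xc4680a0a84a5) (.node .nil (nat_lit 0x88320e078981)
  (nat_lit 30081) (nat_lit 0xf50018007b42) .nil)) (nat_lit 0x88320e10cc91) (nat_lit 26704) (nat_lit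
  0x8419073380b0) (.node (.node .nil (nat_lit 0x88320e118561) (nat_lit 39985) (nat_lit 0xb039080a84a5) .nil)
  (nat_lit 0x88320e160ce0) (nat_lit 14384) (nat_lit 0x8419070b0670) .nil))) (nat_lit 0x88320e174510) (nat_lit
  20688) (nat_lit 0x8419070ba288) (.node (.node (.node (.node .nil (nat_lit 0x88320e2205d1) (nat_lit 58785)
  (nat_lit 0xa54b000a84a5) .nil) (nat_lit 0x88320e234c21) (nat_lit 9777) (nat_lit 0x9423120a84a5) (.node .nil
  (nat_lit 0x88320e24c5a0) (nat_lit 19776) (nat_lit 0x8419071262d0) .nil)) (nat_lit 0x88320e258c50) (nat_lit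
  5872) (nat_lit 0x84190712c628) (.node (.node .nil (nat_lit 0x88320e32c940) (nat_lit 6448) (nat_lit
  0x8419071964a0) .nil) (nat_lit 0x88320e3380b0) (nat_lit 38257) (nat_lit 0xe009520a84a5) .nil)) (nat_lit
  0x88320e340931) (nat_lit 22144) (nat_lit 0x84190721e260) (.node (.node (.node .nil (nat_lit 0x88320e3540c1)
  (nat_lit 49057) (nat_lit 0xd11a020a84a5) .nil) (nat_lit 0x88494c0132b2) (nat_lit 37552) (nat_lit
  0x8424a6009959) (.node .nil (nat_lit 0x88494c068692) (nat_lit 15408) (nat_lit 0x8424a6034349) .nil))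
  (nat_lit 0x88494c07b420) (nat_lit 7153) (nat_lit 0x8952c0228817) (.node (.node .nil (nat_lit 0x88494c122433)
  (nat_lit 25680) (nat_lit 0x8424a632c940) .nil) (nat_lit 0x88494c131681) (nat_lit 7984) (nat_lit
  0x8424a6325019) .nil))))))
def tT_7 : T := (.node (.node (.node (.node (.node (.node (.node .nil (nat_lit 0x88494c159013) (nat_lit 6880)
  (nat_lit 0x8424a6311350) .nil) (nat_lit 0x88494c209631) (nat_lit 44993) (nat_lit 0x8063a8228817) (.node .nil
  (nat_lit 0x88494c21a483) (nat_lit 52720) (nat_lit 0x8424a62b0918) .nil)) (nat_lit 0x88494c2610a3) (nat_lit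
  10881) (nat_lit 0xcd22201055c8) (.node (.node .nil (nat_lit 0x88494c272211) (nat_lit 57520) (nat_lit
  0x8424a6284a51) .nil) (nat_lit 0x88494c32b202) (nat_lit 53552) (nat_lit 0x8424a6195901) (.node .nil (nat_lit
  0x88494c3380b0) (nat_lit 5345) (nat_lit 0xc805e0157208) .nil))) (nat_lit 0x88494c343490) (nat_lit 16208)
  (nat_lit 0x8424a61a1a48) (.node (.node (.node .nil (nat_lit 0x88494c350622) (nat_lit 27584) (nat_lit
  0x8424a61a8311) .nil) (nat_lit 0x886072011b8c) (nat_lit 48241) (nat_lit 0xc41348086c07) (.node .nil (nat_lit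
  0x88607206920d) (nat_lit 35104) (nat_lit 0x8430393886c0) .nil)) (nat_lit 0x886072078981) (nat_lit 44352)
  (nat_lit 0x843039380b06) (.node (.node .nil (nat_lit 0x886072120d0d) (nat_lit 4017) (nat_lit 0xa69110086c07)
  .nil) (nat_lit 0x886072131681) (nat_lit 16449) (nat_lit 0x9511a0086c07) .nil))) (nat_lit 0x886072149f00)
  (nat_lit 19105) (nat_lit 0x978240086c07) (.node (.node (.node (.node .nil (nat_lit 0x88607215848c) (nat_lit
  20769) (nat_lit 0xa402f0086c07) .nil) (nat_lit 0x886072229c88) (nat_lit 37617) (nat_lit 0xf210c0058338)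
  (.node .nil (nat_lit 0x886072238704) (nat_lit 38577) (nat_lit 0xc19070086c07) .nil)) (nat_lit
  0x886072240e85) (nat_lit 8097) (nat_lit 0xc30390086c07) (.node (.node .nil (nat_lit 0x886072251509) (nat_lit
  55728) (nat_lit 0x843039294542) .nil) (nat_lit 0x886072309185) (nat_lit 49777) (nat_lit 0xa31228086c07)
  (.node .nil (nat_lit 0x886072318a09) (nat_lit 19041) (nat_lit 0x909298086c07) .nil))) (nat_lit
  0x886072360388) (nat_lit 3953) (nat_lit 0x920178086c07) (.node (.node (.node .nil (nat_lit 0x886072371804)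
  (nat_lit 35200) (nat_lit 0x8430391b8c02) .nil) (nat_lit 0x888269032c94) (nat_lit 47712) (nat_lit
  0xc4413401964a) (.node .nil (nat_lit 0x888269055c82) (nat_lit 27521) (nat_lit 0x80a88d265640) .nil))
  (nat_lit 0x888269067016) (nat_lit 53921) (nat_lit 0x80a88d311350) (.node (.node .nil (nat_lit
  0x888269113506) (nat_lit 6240) (nat_lit 0xc44134089a83) .nil) (nat_lit 0x888269121992) (nat_lit 52049)
  (nat_lit 0x80a88d2d5030) .nil)))) (nat_lit 0x888269146984) (nat_lit 51152) (nat_lit 0xc441340a34c2) (.node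
  (.node (.node (.node (.node .nil (nat_lit 0x888269174510) (nat_lit 29841) (nat_lit 0x80a88d0b0670) .nil)
  (nat_lit 0x888269205d14) (nat_lit 11713) (nat_lit 0x80a88d224332) (.node .nil (nat_lit 0x888269237180)
  (nat_lit 39649) (nat_lit 0x80a88d350622) .nil)) (nat_lit 0x888269250196) (nat_lit 40849) (nat_lit
  0x80a88d041572) (.node (.node .nil (nat_lit 0x888269262d02) (nat_lit 31153) (nat_lit 0x80a88d135062) .nil)
  (nat_lit 0x888269316812) (nat_lit 53488) (nat_lit 0xc4413418b409) (.node .nil (nat_lit 0x888269324486)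
  (nat_lit 59872) (nat_lit 0xc44134192243) .nil))) (nat_lit 0x888269343490) (nat_lit 36752) (nat_lit
  0xc441341a1a48) (.node (.node (.node .nil (nat_lit 0x888269371804) (nat_lit 12193) (nat_lit 0x80a88d294542)
  .nil) (nat_lit 0x88c48a031135) (nat_lit 26736) (nat_lit 0x8462453a1520) (.node .nil (nat_lit 0x88c48a051a61)
  (nat_lit 43057) (nat_lit 0xd028b009810f) .nil)) (nat_lit 0x88c48a060b54) (nat_lit 39312) (nat_lit
  0x8462450305aa) (.node (.node .nil (nat_lit 0x88c48a103a15) (nat_lit 38369) (nat_lit 0x8254b009810f) .nil)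
  (nat_lit 0x88c48a132b20) (nat_lit 6480) (nat_lit 0x846245099590) .nil))) (nat_lit 0x88c48a152074) (nat_lit
  11873) (nat_lit 0xa402f009810f) (.node (.node (.node (.node .nil (nat_lit 0x88c48a163141) (nat_lit 26384)
  (nat_lit 0x84624530851a) .nil) (nat_lit 0x88c48a212945) (nat_lit 6049) (nat_lit 0xb20e1009810f) (.node .nil
  (nat_lit 0x88c48a223870) (nat_lit 58832) (nat_lit 0x846245111c38) .nil)) (nat_lit 0x88c48a243324) (nat_lit
  49328) (nat_lit 0x846245121992) (.node (.node .nil (nat_lit 0x88c48a272211) (nat_lit 5904) (nat_lit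
  0x846245280cb2) .nil) (nat_lit 0x88c48a311350) (nat_lit 43345) (nat_lit 0xc6245009810f) .nil)) (nat_lit
  0x88c48a320265) (nat_lit 14400) (nat_lit 0x846245229c88) (.node (.node (.node .nil (nat_lit 0x88c48a340931)
  (nat_lit 41936) (nat_lit 0x846245219922) .nil) (nat_lit 0x88c48a371804) (nat_lit 38304) (nat_lit
  0x8462451b8c02) (.node .nil (nat_lit 0x88d0150305aa) (nat_lit 37712) (nat_lit 0xc4680a0182d5) .nil))
  (nat_lit 0x88d0150527c0) (nat_lit 16625) (nat_lit 0x82402f0cb250) (.node (.node .nil (nat_lit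
  0x88d01506226a) (nat_lit 31856) (nat_lit 0xc4680a031135) .nil) (nat_lit 0x88d015102e8a) (nat_lit 41392)
  (nat_lit 0xc4680a081745) .nil))))) (nat_lit 0x88d015132b20) (nat_lit 57793) (nat_lit 0x82402f343490) (.node
  (.node (.node (.node (.node (.node .nil (nat_lit 0x88d01515094a) (nat_lit 3680) (nat_lit 0xc4680a0a84a5)
  .nil) (nat_lit 0x88d015160ce0) (nat_lit 18289) (nat_lit 0x82402f3886c0) (.node .nil (nat_lit 0x88d015200f68)
  (nat_lit 58337) (nat_lit 0x82402f20ab90) .nil)) (nat_lit 0x88d015230ac2) (nat_lit 6289) (nat_lit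
  0x82402f1d0a90) (.node (.node .nil (nat_lit 0x88d0152528a8) (nat_lit 41136) (nat_lit 0xc4680a129454) .nil)
  (nat_lit 0x88d015262d02) (nat_lit 33488) (nat_lit 0xc4680a131681) (.node .nil (nat_lit 0x88d0153021e2)
  (nat_lit 37088) (nat_lit 0xc4680a1810f1) .nil))) (nat_lit 0x88d015332448) (nat_lit 33) (nat_lit
  0x82402f149f00) (.node (.node (.node .nil (nat_lit 0x88d015350622) (nat_lit 24417) (nat_lit 0x82402f258c50)
  .nil) (nat_lit 0x88d015360388) (nat_lit 49809) (nat_lit 0x82402f182d50) (.node .nil (nat_lit 0x8900bc007b42)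
  (nat_lit 54801) (nat_lit 0xc4134813e005) .nil)) (nat_lit 0x8900bc02ae41) (nat_lit 336) (nat_lit
  0x84805e3a2881) (.node (.node .nil (nat_lit 0x8900bc02d503) (nat_lit 11968) (nat_lit 0x84805e3a1520) .nil)
  (nat_lit 0x8900bc149f00) (nat_lit 1617) (nat_lit 0x8c0e4213e005) .nil))) (nat_lit 0x8900bc14e442) (nat_lit
  6865) (nat_lit 0xa402f013e005) (.node (.node (.node (.node .nil (nat_lit 0x8900bc163141) (nat_lit 39008)
  (nat_lit 0x84805e306701) .nil) (nat_lit 0x8900bc164a03) (nat_lit 12208) (nat_lit 0x84805e305aa0) (.node .nil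
  (nat_lit 0x8900bc248343) (nat_lit 48) (nat_lit 0x84805e293e00) .nil)) (nat_lit 0x8900bc24f801) (nat_lit
  45521) (nat_lit 0xc0063a13e005) (.node (.node .nil (nat_lit 0x8900bc262d02) (nat_lit 46017) (nat_lit
  0x8018ea13e005) .nil) (nat_lit 0x8900bc265640) (nat_lit 1472) (nat_lit 0x84805e132b20) (.node .nil (nat_lit
  0x8900bc301c43) (nat_lit 20448) (nat_lit 0x84805e237180) .nil))) (nat_lit 0x8900bc306701) (nat_lit 5808)
  (nat_lit 0x84805e234c21) (.node (.node (.node .nil (nat_lit 0x8900bc32b202) (nat_lit 33217) (nat_lit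
  0xe009520c16a8) .nil) (nat_lit 0x8900bc32c940) (nat_lit 1009) (nat_lit 0xc805e013e005) (.node .nil (nat_lit
  0x89142302c19c) (nat_lit 57184) (nat_lit 0xc48a110160ce) .nil)) (nat_lit 0x89142304cac8) (nat_lit 14193)
  (nat_lit 0x982125265640) (.node (.node .nil (nat_lit 0x891423060b54) (nat_lit 18912) (nat_lit
  0xc48a110305aa) .nil) (nat_lit 0x89142310a34c) (nat_lit 26032) (nat_lit 0xc48a110851a6) .nil)))) (nat_lit
  0x8914231262d0) (nat_lit 32976) (nat_lit 0xc48a11093168) (.node (.node (.node (.node (.node .nil (nat_lit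
  0x891423146984) (nat_lit 1936) (nat_lit 0xc48a110a34c2) .nil) (nat_lit 0x89142316a818) (nat_lit 40209)
  (nat_lit 0x982125230ac2) (.node .nil (nat_lit 0x89142320ab90) (nat_lit 37137) (nat_lit 0x982125214698)
  .nil)) (nat_lit 0x891423226a0c) (nat_lit 560) (nat_lit 0xc48a11113506) (.node (.node .nil (nat_lit
  0x891423246158) (nat_lit 15969) (nat_lit 0x9821250710d8) .nil) (nat_lit 0x89142326a0c4) (nat_lit 39217)
  (nat_lit 0x98212520d0d2) (.node .nil (nat_lit 0x8914233008dc) (nat_lit 39681) (nat_lit 0x98212503da10)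
  .nil))) (nat_lit 0x89142332c940) (nat_lit 5488) (nat_lit 0xc48a111964a0) (.node (.node (.node .nil (nat_lit
  0x89142334c214) (nat_lit 50097) (nat_lit 0x982125258c50) .nil) (nat_lit 0x891423360388) (nat_lit 4497)
  (nat_lit 0x982125024c5a) (.node .nil (nat_lit 0x89298200527c) (nat_lit 46273) (nat_lit 0xc4134802e8a2)
  .nil)) (nat_lit 0x89298206920d) (nat_lit 10176) (nat_lit 0x8494c1382238) (.node (.node .nil (nat_lit
  0x89298206c071) (nat_lit 47360) (nat_lit 0x8494c1380b06) .nil) (nat_lit 0x892982129454) (nat_lit 28673)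
  (nat_lit 0xc0a2c2065928) .nil))) (nat_lit 0x89298212c628) (nat_lit 9745) (nat_lit 0xc24a6004b18a) (.node
  (.node (.node (.node .nil (nat_lit 0x892982140659) (nat_lit 58608) (nat_lit 0x8494c1316812) .nil) (nat_lit
  0x892982145425) (nat_lit 3552) (nat_lit 0x8494c131412c) (.node .nil (nat_lit 0x892982209631) (nat_lit 59521)
  (nat_lit 0x8063a8390415) .nil)) (nat_lit 0x89298220c44d) (nat_lit 6512) (nat_lit 0x8494c12b0918) (.node
  (.node .nil (nat_lit 0x89298226043c) (nat_lit 54992) (nat_lit 0x8494c113021e) .nil) (nat_lit 0x892982265640)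
  (nat_lit 29281) (nat_lit 0x82f048390415) .nil)) (nat_lit 0x892982320265) (nat_lit 18449) (nat_lit
  0x863a80390415) (.node (.node (.node .nil (nat_lit 0x892982325019) (nat_lit 4640) (nat_lit 0x8494c1224332)
  .nil) (nat_lit 0x892982349068) (nat_lit 24545) (nat_lit 0x8641c2390415) (.node .nil (nat_lit 0x89298234c214)
  (nat_lit 29536) (nat_lit 0x8494c11a610a) .nil)) (nat_lit 0x8952c000293e) (nat_lit 36641) (nat_lit
  0xc413481108a7) (.node (.node .nil (nat_lit 0x8952c0048c2b) (nat_lit 50176) (nat_lit 0x84a96039108a) .nil)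
  (nat_lit 0x8952c004a515) (nat_lit 41121) (nat_lit 0xe245080cb250) .nil))))))
def tT_8 : T := (.node (.node (.node (.node (.node (.node (.node .nil (nat_lit 0x8952c0122433) (nat_lit 59793)
  (nat_lit 0x8c75001108a7) .nil) (nat_lit 0x8952c0168126) (nat_lit 30688) (nat_lit 0x84a9600b4093) (.node .nil
  (nat_lit 0x8952c016a818) (nat_lit 33473) (nat_lit 0xaa23401108a7) .nil)) (nat_lit 0x8952c0228817) (nat_lit
  3665) (nat_lit 0x8e42181108a7) (.node (.node .nil (nat_lit 0x8952c022a129) (nat_lit 48001) (nat_lit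
  0xa4a6081108a7) .nil) (nat_lit 0x8952c026043c) (nat_lit 52208) (nat_lit 0x84a96013021e) (.node .nil (nat_lit
  0x8952c0262d02) (nat_lit 59440) (nat_lit 0x84a960131681) .nil))) (nat_lit 0x8952c030851a) (nat_lit 3392)
  (nat_lit 0x84a96018428d) (.node (.node (.node .nil (nat_lit 0x8952c030ac24) (nat_lit 31841) (nat_lit
  0xecc040023718) .nil) (nat_lit 0x8952c0340931) (nat_lit 23505) (nat_lit 0xe072100e8548) (.node .nil (nat_lit
  0x8952c034200f) (nat_lit 35808) (nat_lit 0x84a960214698) .nil)) (nat_lit 0x89a444020ab9) (nat_lit 10913)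
  (nat_lit 0x85e090120d0d) (.node (.node .nil (nat_lit 0x89a444045391) (nat_lit 37984) (nat_lit
  0x84d222390415) .nil) (nat_lit 0x89a444065928) (nat_lit 22320) (nat_lit 0x84d222032c94) .nil))) (nat_lit
  0x89a44410132b) (nat_lit 26144) (nat_lit 0x84d222332448) (.node (.node (.node (.node .nil (nat_lit
  0x89a444121992) (nat_lit 33745) (nat_lit 0xc0a2c2120d0d) .nil) (nat_lit 0x89a4441440ba) (nat_lit 513)
  (nat_lit 0xa402f0120d0d) (.node .nil (nat_lit 0x89a444164a03) (nat_lit 4096) (nat_lit 0x84d2223008dc) .nil))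
  (nat_lit 0x89a44420498b) (nat_lit 3761) (nat_lit 0xa98212120d0d) (.node (.node .nil (nat_lit 0x89a444224332)
  (nat_lit 18897) (nat_lit 0xc19070120d0d) .nil) (nat_lit 0x89a444241a1a) (nat_lit 2641) (nat_lit
  0xa53042120d0d) (.node .nil (nat_lit 0x89a4442610a3) (nat_lit 18865) (nat_lit 0xcd2220120d0d) .nil)))
  (nat_lit 0x89a444305aa0) (nat_lit 33537) (nat_lit 0xecc0400132b2) (.node (.node (.node .nil (nat_lit
  0x89a444325019) (nat_lit 43729) (nat_lit 0x84d222120d0d) .nil) (nat_lit 0x89a444340931) (nat_lit 40785)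
  (nat_lit 0xe072100d80e2) (.node .nil (nat_lit 0x89a444360388) (nat_lit 7809) (nat_lit 0x886072120d0d) .nil))
  (nat_lit 0x8a051601d0a9) (nat_lit 18241) (nat_lit 0x91a02a2e4105) (.node (.node .nil (nat_lit
  0x8a051604cac8) (nat_lit 4544) (nat_lit 0x85028b026564) .nil) (nat_lit 0x8a0516051a61) (nat_lit 39232)
  (nat_lit 0x85028b387044) .nil)))) (nat_lit 0x8a0516106869) (nat_lit 19441) (nat_lit 0x80bc122e4105) (.node
  (.node (.node (.node (.node .nil (nat_lit 0x8a051611b8c0) (nat_lit 60320) (nat_lit 0x85028b08dc60) .nil)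
  (nat_lit 0x8a051614a2a1) (nat_lit 32640) (nat_lit 0x85028b30ac24) (.node .nil (nat_lit 0x8a0516157208)
  (nat_lit 57136) (nat_lit 0x85028b0ab904) .nil)) (nat_lit 0x8a05162032c9) (nat_lit 44480) (nat_lit
  0x85028b2ae410) (.node (.node .nil (nat_lit 0x8a051621e260) (nat_lit 25776) (nat_lit 0x85028b10f130) .nil)
  (nat_lit 0x8a051624f801) (nat_lit 25504) (nat_lit 0x85028b288174) (.node .nil (nat_lit 0x8a05162528a8)
  (nat_lit 38529) (nat_lit 0x8018ea2e4105) .nil))) (nat_lit 0x8a0516305aa0) (nat_lit 16864) (nat_lit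
  0x85028b182d50) (.node (.node (.node .nil (nat_lit 0x8a0516318a09) (nat_lit 35280) (nat_lit 0x85028b223870)
  .nil) (nat_lit 0x8a0516349068) (nat_lit 5936) (nat_lit 0x85028b1a4834) (.node .nil (nat_lit 0x8a05163540c1)
  (nat_lit 14240) (nat_lit 0x85028b205d14) .nil)) (nat_lit 0x8a118901c436) (nat_lit 39728) (nat_lit
  0xc508c400e21b) (.node (.node .nil (nat_lit 0x8a1189046e30) (nat_lit 47856) (nat_lit 0xc508c4023718) .nil)
  (nat_lit 0x8a118905aa06) (nat_lit 7056) (nat_lit 0xc508c402d503) .nil))) (nat_lit 0x8a1189108a72) (nat_lit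
  45729) (nat_lit 0xa58025087898) (.node (.node (.node (.node .nil (nat_lit 0x8a1189114e44) (nat_lit 22273)
  (nat_lit 0xa58025121992) .nil) (nat_lit 0x8a118914e442) (nat_lit 44176) (nat_lit 0xc508c40a7221) (.node .nil
  (nat_lit 0x8a1189152074) (nat_lit 60224) (nat_lit 0xc508c40a903a) .nil)) (nat_lit 0x8a1189202656) (nat_lit
  55136) (nat_lit 0xc508c410132b) (.node (.node .nil (nat_lit 0x8a118921e260) (nat_lit 13249) (nat_lit
  0xa58025102e8a) .nil) (nat_lit 0x8a1189244866) (nat_lit 31505) (nat_lit 0xa580251055c8) (.node .nil (nat_lit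
  0x8a1189258c50) (nat_lit 54896) (nat_lit 0xc508c412c628) .nil))) (nat_lit 0x8a118930ac24) (nat_lit 2560)
  (nat_lit 0xc508c4185612) (.node (.node (.node .nil (nat_lit 0x8a1189316812) (nat_lit 52753) (nat_lit
  0xa58025185612) .nil) (nat_lit 0x8a118934c214) (nat_lit 9104) (nat_lit 0xc508c41a610a) (.node .nil (nat_lit
  0x8a1189350622) (nat_lit 9264) (nat_lit 0xc508c41a8311) .nil)) (nat_lit 0x8a2c280182d5) (nat_lit 54512)
  (nat_lit 0x8516143a2881) (.node (.node .nil (nat_lit 0x8a2c28045391) (nat_lit 20544) (nat_lit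
  0x85161438c023) .nil) (nat_lit 0x8a2c2805d144) (nat_lit 54161) (nat_lit 0x8952c004a515) .nil))))) (nat_lit
  0x8a2c28104157) (nat_lit 10080) (nat_lit 0x85161432c940) (.node (.node (.node (.node (.node (.node .nil
  (nat_lit 0x8a2c2811c382) (nat_lit 26065) (nat_lit 0xc24a6004a515) .nil) (nat_lit 0x8a2c281412c6) (nat_lit
  609) (nat_lit 0xb0424a04a515) (.node .nil (nat_lit 0x8a2c28159013) (nat_lit 144) (nat_lit 0x8516143021e2)
  .nil)) (nat_lit 0x8a2c2820d0d2) (nat_lit 60417) (nat_lit 0xf210c004a515) (.node (.node .nil (nat_lit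
  0x8a2c28215207) (nat_lit 48928) (nat_lit 0x8516142a40e8) .nil) (nat_lit 0x8a2c28248343) (nat_lit 18961)
  (nat_lit 0xe80a8804a515) (.node .nil (nat_lit 0x8a2c28250196) (nat_lit 48177) (nat_lit 0x8018ea04a515)
  .nil))) (nat_lit 0x8a2c28309185) (nat_lit 34769) (nat_lit 0xa3122804a515) (.node (.node (.node .nil (nat_lit
  0x8a2c28311350) (nat_lit 28801) (nat_lit 0xcb004a04a515) .nil) (nat_lit 0x8a2c2834c214) (nat_lit 57713)
  (nat_lit 0xb9086004a515) (.node .nil (nat_lit 0x8a2c283540c1) (nat_lit 30368) (nat_lit 0x85161420498b)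
  .nil)) (nat_lit 0x8a88d001262d) (nat_lit 51809) (nat_lit 0x92a58005481d) (.node (.node .nil (nat_lit
  0x8a88d004470e) (nat_lit 59281) (nat_lit 0x90366005481d) .nil) (nat_lit 0x8a88d0056123) (nat_lit 44624)
  (nat_lit 0x854468380b06) .nil))) (nat_lit 0x8a88d010132b) (nat_lit 36849) (nat_lit 0xa8b0a005481d) (.node
  (.node (.node (.node .nil (nat_lit 0x8a88d0113506) (nat_lit 5744) (nat_lit 0x854468089a83) .nil) (nat_lit
  0x8a88d0145425) (nat_lit 21985) (nat_lit 0xc2312205481d) (.node .nil (nat_lit 0x8a88d0157208) (nat_lit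
  60657) (nat_lit 0xaa234005481d) .nil)) (nat_lit 0x8a88d020742a) (nat_lit 43921) (nat_lit 0xf210c005481d)
  (.node (.node .nil (nat_lit 0x8a88d0215207) (nat_lit 57633) (nat_lit 0x9a02a205481d) .nil) (nat_lit
  0x8a88d0243324) (nat_lit 12049) (nat_lit 0x98914205481d) (.node .nil (nat_lit 0x8a88d0251509) (nat_lit
  20529) (nat_lit 0xf0832005481d) .nil))) (nat_lit 0x8a88d0306701) (nat_lit 55280) (nat_lit 0x854468228817)
  (.node (.node (.node .nil (nat_lit 0x8a88d031412c) (nat_lit 20049) (nat_lit 0xc805e005481d) .nil) (nat_lit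
  0x8a88d034200f) (nat_lit 60192) (nat_lit 0x85446820ab90) (.node .nil (nat_lit 0x8a88d0350622) (nat_lit
  58048) (nat_lit 0x8544681a8311) .nil)) (nat_lit 0x8b0a0500a4f8) (nat_lit 45073) (nat_lit 0x96009501ed08)
  (.node (.node .nil (nat_lit 0x8b0a05041572) (nat_lit 45361) (nat_lit 0x96009501964a) .nil) (nat_lit
  0x8b0a0504b18a) (nat_lit 29008) (nat_lit 0xc585020258c5) .nil)))) (nat_lit 0x8b0a051055c8) (nat_lit 27920)
  (nat_lit 0xc58502082ae4) (.node (.node (.node (.node (.node .nil (nat_lit 0x8b0a0510f130) (nat_lit 9424)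
  (nat_lit 0xc58502087898) .nil) (nat_lit 0x8b0a051440ba) (nat_lit 39856) (nat_lit 0xc585020a205d) (.node .nil
  (nat_lit 0x8b0a0514e442) (nat_lit 22897) (nat_lit 0x96009521e260) .nil)) (nat_lit 0x8b0a0520742a) (nat_lit
  21121) (nat_lit 0x96009508a722) (.node (.node .nil (nat_lit 0x8b0a0520d0d2) (nat_lit 16464) (nat_lit
  0xc58502106869) .nil) (nat_lit 0x8b0a05246158) (nat_lit 20784) (nat_lit 0xc585021230ac) (.node .nil (nat_lit
  0x8b0a0524c5a0) (nat_lit 57648) (nat_lit 0xc585021262d0) .nil))) (nat_lit 0x8b0a053021e2) (nat_lit 53264)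
  (nat_lit 0xc585021810f1) (.node (.node (.node .nil (nat_lit 0x8b0a0530851a) (nat_lit 18336) (nat_lit
  0xc5850218428d) .nil) (nat_lit 0x8b0a05343490) (nat_lit 57073) (nat_lit 0x96009528a84a) (.node .nil (nat_lit
  0x8b0a05349068) (nat_lit 38049) (nat_lit 0x960095294542) .nil)) (nat_lit 0x8bc12000149f) (nat_lit 35664)
  (nat_lit 0x85e0903a1520) (.node (.node .nil (nat_lit 0x8bc1200428d3) (nat_lit 39121) (nat_lit
  0xc94c100293e0) .nil) (nat_lit 0x8bc120043c4c) (nat_lit 50193) (nat_lit 0x8952c034200f) .nil))) (nat_lit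
  0x8bc120102e8a) (nat_lit 41249) (nat_lit 0xc24a60099590) (.node (.node (.node (.node .nil (nat_lit
  0x8bc120103a15) (nat_lit 52097) (nat_lit 0x8254b034200f) .nil) (nat_lit 0x8bc120140659) (nat_lit 29409)
  (nat_lit 0xc0d9800b0670) (.node .nil (nat_lit 0x8bc1201412c6) (nat_lit 51489) (nat_lit 0x80c75034200f)
  .nil)) (nat_lit 0x8bc120202656) (nat_lit 34929) (nat_lit 0xc190700a4f80) (.node (.node .nil (nat_lit
  0x8bc1202032c9) (nat_lit 54720) (nat_lit 0x85e0902a060b) .nil) (nat_lit 0x8bc120240e85) (nat_lit 32113)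
  (nat_lit 0xc3039008dc60) .nil)) (nat_lit 0x8bc120241a1a) (nat_lit 10896) (nat_lit 0x85e090120d0d) (.node
  (.node (.node .nil (nat_lit 0x8bc1203008dc) (nat_lit 5360) (nat_lit 0x85e09018046e) .nil) (nat_lit
  0x8bc120301c43) (nat_lit 49297) (nat_lit 0x881b3034200f) (.node .nil (nat_lit 0x8bc12034200f) (nat_lit
  36929) (nat_lit 0xca96000149f0) .nil)) (nat_lit 0x8bc120343490) (nat_lit 59616) (nat_lit 0x85e0901a1a48)
  (.node (.node .nil (nat_lit 0x8c0e4201d0a9) (nat_lit 12736) (nat_lit 0x86072139108a) .nil) (nat_lit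
  0x8c0e4202c19c) (nat_lit 41984) (nat_lit 0x8607210160ce) .nil))))))
def tT_9 : T := (.node (.node (.node (.node (.node (.node (.node .nil (nat_lit 0x8c0e4210f130) (nat_lit 26848)
  (nat_lit 0x860721087898) .nil) (nat_lit 0x8c0e42112199) (nat_lit 16385) (nat_lit 0xb1d40006226a) (.node .nil
  (nat_lit 0x8c0e421230ac) (nat_lit 38849) (nat_lit 0xb0424a07b420) .nil)) (nat_lit 0x8c0e4213e005) (nat_lit
  801) (nat_lit 0x96140a21e260) (.node (.node .nil (nat_lit 0x8c0e422060b5) (nat_lit 32049) (nat_lit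
  0x836602349068) .nil) (nat_lit 0x8c0e4221b01c) (nat_lit 15200) (nat_lit 0x86072110d80e) (.node .nil (nat_lit
  0x8c0e4222a129) (nat_lit 14448) (nat_lit 0x86072128a84a) .nil))) (nat_lit 0x8c0e42237180) (nat_lit 39841)
  (nat_lit 0x82f048350622) (.node (.node (.node .nil (nat_lit 0x8c0e42309185) (nat_lit 26241) (nat_lit
  0xa3122814e442) .nil) (nat_lit 0x8c0e4231412c) (nat_lit 52480) (nat_lit 0x86072118a096) (.node .nil (nat_lit
  0x8c0e42325019) (nat_lit 26161) (nat_lit 0x84d222332448) .nil)) (nat_lit 0x8c0e423380b0) (nat_lit 26432)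
  (nat_lit 0x86072119c058) (.node (.node .nil (nat_lit 0x8c48a101964a) (nat_lit 20609) (nat_lit
  0xc120171889a8) .nil) (nat_lit 0x8c48a1023718) (nat_lit 43664) (nat_lit 0xc62450011b8c) .nil))) (nat_lit
  0x8c48a103a152) (nat_lit 24224) (nat_lit 0xc6245001d0a9) (.node (.node (.node (.node .nil (nat_lit
  0x8c48a110a34c) (nat_lit 9937) (nat_lit 0xc120171c4360) .nil) (nat_lit 0x8c48a1113506) (nat_lit 57617)
  (nat_lit 0xc1201704cac8) (.node .nil (nat_lit 0x8c48a1129454) (nat_lit 23377) (nat_lit 0xc12017065928)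
  .nil)) (nat_lit 0x8c48a113021e) (nat_lit 33057) (nat_lit 0xc120171ed080) (.node (.node .nil (nat_lit
  0x8c48a1202656) (nat_lit 28561) (nat_lit 0xc120170a4f80) .nil) (nat_lit 0x8c48a121b01c) (nat_lit 13745)
  (nat_lit 0xc1201712c628) (.node .nil (nat_lit 0x8c48a122114e) (nat_lit 43408) (nat_lit 0xc624501108a7)
  .nil))) (nat_lit 0x8c48a1238704) (nat_lit 50321) (nat_lit 0xc1201708dc60) (.node (.node (.node .nil (nat_lit
  0x8c48a130851a) (nat_lit 48913) (nat_lit 0xc12017160ce0) .nil) (nat_lit 0x8c48a1311350) (nat_lit 3217)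
  (nat_lit 0xc120170e8548) (.node .nil (nat_lit 0x8c48a132b202) (nat_lit 34448) (nat_lit 0xc62450195901)
  .nil)) (nat_lit 0x8c48a1332448) (nat_lit 50081) (nat_lit 0xc12017149f00) (.node (.node .nil (nat_lit
  0x8c75000182d5) (nat_lit 18432) (nat_lit 0x863a80390415) .nil) (nat_lit 0x8c7500020ab9) (nat_lit 22032)
  (nat_lit 0x863a8038c023) .nil)))) (nat_lit 0x8c750003886c) (nat_lit 28016) (nat_lit 0x863a8001c436) (.node
  (.node (.node (.node (.node .nil (nat_lit 0x8c7500108a72) (nat_lit 35008) (nat_lit 0x863a80084539) .nil)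
  (nat_lit 0x8c75001108a7) (nat_lit 53665) (nat_lit 0x9b301004cac8) (.node .nil (nat_lit 0x8c75001280cb)
  (nat_lit 14112) (nat_lit 0x863a8030851a) .nil)) (nat_lit 0x8c750013021e) (nat_lit 54593) (nat_lit
  0x812a581ed080) (.node (.node .nil (nat_lit 0x8c75002082ae) (nat_lit 31616) (nat_lit 0x863a80104157) .nil)
  (nat_lit 0x8c750021007b) (nat_lit 49664) (nat_lit 0x863a80294542) (.node .nil (nat_lit 0x8c7500228817)
  (nat_lit 37217) (nat_lit 0x8e421811b8c0) .nil))) (nat_lit 0x8c7500230ac2) (nat_lit 27297) (nat_lit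
  0x82f0481d0a90) (.node (.node (.node .nil (nat_lit 0x8c75003008dc) (nat_lit 22721) (nat_lit 0x9c20c803da10)
  .nil) (nat_lit 0x8c7500318a09) (nat_lit 24145) (nat_lit 0x9092980f6840) (.node .nil (nat_lit 0x8c7500320265)
  (nat_lit 9504) (nat_lit 0x863a8020c44d) .nil)) (nat_lit 0x8c75003380b0) (nat_lit 43120) (nat_lit
  0x863a8019c058) (.node (.node .nil (nat_lit 0x8c8384017451) (nat_lit 24528) (nat_lit 0x8641c2390415) .nil)
  (nat_lit 0x8c8384024c5a) (nat_lit 6625) (nat_lit 0x9036600cc912) .nil))) (nat_lit 0x8c838403380b) (nat_lit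
  25216) (nat_lit 0x8641c2382238) (.node (.node (.node (.node .nil (nat_lit 0x8c8384106869) (nat_lit 7377)
  (nat_lit 0x80bc121c4360) .nil) (nat_lit 0x8c8384111c38) (nat_lit 17296) (nat_lit 0x8641c2088e1c) (.node .nil
  (nat_lit 0x8c8384122433) (nat_lit 19248) (nat_lit 0x8641c230ac24) .nil)) (nat_lit 0x8c8384135062) (nat_lit
  48049) (nat_lit 0x80c7501c3822) (.node (.node .nil (nat_lit 0x8c838420742a) (nat_lit 48817) (nat_lit
  0x94585008a722) .nil) (nat_lit 0x8c838421007b) (nat_lit 49376) (nat_lit 0x8641c2293e00) (.node .nil (nat_lit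
  0x8c8384223870) (nat_lit 34688) (nat_lit 0x8641c2111c38) .nil))) (nat_lit 0x8c8384234c21) (nat_lit 53008)
  (nat_lit 0x8641c228182d) (.node (.node (.node .nil (nat_lit 0x8c8384301c43) (nat_lit 37440) (nat_lit
  0x8641c221b01c) .nil) (nat_lit 0x8c8384316812) (nat_lit 38224) (nat_lit 0x8641c218b409) (.node .nil (nat_lit
  0x8c8384325019) (nat_lit 57121) (nat_lit 0x84d222182d50) .nil)) (nat_lit 0x8c8384332448) (nat_lit 31921)
  (nat_lit 0x886072149f00) (.node (.node .nil (nat_lit 0x8d015100f684) (nat_lit 42544) (nat_lit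
  0xc680a8007b42) .nil) (nat_lit 0x8d0151021e26) (nat_lit 6929) (nat_lit 0xf0480501964a) .nil))))) (nat_lit
  0x8d015102e8a2) (nat_lit 8977) (nat_lit 0xf048050293e0) (.node (.node (.node (.node (.node (.node .nil
  (nat_lit 0x8d0151102e8a) (nat_lit 7024) (nat_lit 0xc680a8081745) .nil) (nat_lit 0x8d015110d80e) (nat_lit
  21745) (nat_lit 0xf048050527c0) (.node .nil (nat_lit 0x8d01511230ac) (nat_lit 39792) (nat_lit
  0xc680a8091856) .nil)) (nat_lit 0x8d015112c628) (nat_lit 45825) (nat_lit 0xf0480504b18a) (.node (.node .nil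
  (nat_lit 0x8d015120742a) (nat_lit 23121) (nat_lit 0xf048050710d8) .nil) (nat_lit 0x8d01512082ae) (nat_lit
  26112) (nat_lit 0xc680a8104157) (.node .nil (nat_lit 0x8d0151226a0c) (nat_lit 38816) (nat_lit
  0xc680a8113506) .nil))) (nat_lit 0x8d0151229c88) (nat_lit 31280) (nat_lit 0xc680a8114e44) (.node (.node
  (.node .nil (nat_lit 0x8d0151305aa0) (nat_lit 32625) (nat_lit 0xf048050132b2) .nil) (nat_lit 0x8d015130ac24)
  (nat_lit 33680) (nat_lit 0xc680a8185612) (.node .nil (nat_lit 0x8d0151324486) (nat_lit 752) (nat_lit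
  0xc680a8192243) .nil)) (nat_lit 0x8d015132b202) (nat_lit 833) (nat_lit 0xf0480503a152) (.node (.node .nil
  (nat_lit 0x8d98080046e3) (nat_lit 22544) (nat_lit 0x86cc0439108a) .nil) (nat_lit 0x8d9808022387) (nat_lit
  6593) (nat_lit 0xaf0480007b42) .nil))) (nat_lit 0x8d9808026564) (nat_lit 25536) (nat_lit 0x86cc040132b2)
  (.node (.node (.node (.node .nil (nat_lit 0x8d98081007b4) (nat_lit 53233) (nat_lit 0x8c0e42237180) .nil)
  (nat_lit 0x8d9808104157) (nat_lit 39409) (nat_lit 0xaa58020527c0) (.node .nil (nat_lit 0x8d9808122433)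
  (nat_lit 42305) (nat_lit 0x8c7500230ac2) .nil)) (nat_lit 0x8d98081262d0) (nat_lit 57232) (nat_lit
  0x86cc04093168) (.node (.node .nil (nat_lit 0x8d9808202656) (nat_lit 46880) (nat_lit 0x86cc0410132b) .nil)
  (nat_lit 0x8d98082060b5) (nat_lit 56033) (nat_lit 0x8366022c19c0) (.node .nil (nat_lit 0x8d98082205d1)
  (nat_lit 42049) (nat_lit 0xa54b000a34c2) .nil))) (nat_lit 0x8d9808224332) (nat_lit 30273) (nat_lit
  0x831d402c6282) (.node (.node (.node .nil (nat_lit 0x8d98083021e2) (nat_lit 24736) (nat_lit 0x86cc041810f1)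
  .nil) (nat_lit 0x8d9808306701) (nat_lit 54881) (nat_lit 0xa017820f6840) (.node .nil (nat_lit 0x8d9808320265)
  (nat_lit 49681) (nat_lit 0x863a80294542) .nil)) (nat_lit 0x8d9808324486) (nat_lit 59040) (nat_lit
  0x86cc04192243) (.node (.node .nil (nat_lit 0x8e106400e21b) (nat_lit 55457) (nat_lit 0x88c48a311350) .nil)
  (nat_lit 0x8e1064010f13) (nat_lit 15552) (nat_lit 0x870832387044) .nil)))) (nat_lit 0x8e106401ed08) (nat_lit
  6657) (nat_lit 0x8952c030851a) (.node (.node (.node (.node (.node .nil (nat_lit 0x8e1064102e8a) (nat_lit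
  27488) (nat_lit 0x870832081745) .nil) (nat_lit 0x8e106410cc91) (nat_lit 42416) (nat_lit 0x870832309185)
  (.node .nil (nat_lit 0x8e1064112199) (nat_lit 52384) (nat_lit 0x870832306701) .nil)) (nat_lit
  0x8e106411c382) (nat_lit 12144) (nat_lit 0x87083208e1c1) (.node (.node .nil (nat_lit 0x8e106420498b)
  (nat_lit 37777) (nat_lit 0xa982121055c8) .nil) (nat_lit 0x8e106420ab90) (nat_lit 30929) (nat_lit
  0x989142214698) (.node .nil (nat_lit 0x8e1064214698) (nat_lit 44848) (nat_lit 0x87083210a34c) .nil)))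
  (nat_lit 0x8e106421a483) (nat_lit 24769) (nat_lit 0x99070820d0d2) (.node (.node (.node .nil (nat_lit
  0x8e1064306701) (nat_lit 8033) (nat_lit 0xa0178219c058) .nil) (nat_lit 0x8e106430851a) (nat_lit 49137)
  (nat_lit 0x9104d228d308) (.node .nil (nat_lit 0x8e1064316812) (nat_lit 51681) (nat_lit 0xa181c8185612)
  .nil)) (nat_lit 0x8e1064318a09) (nat_lit 21280) (nat_lit 0x8708322032c9) (.node (.node .nil (nat_lit
  0x8e4218003da1) (nat_lit 51137) (nat_lit 0xa125301a1a48) .nil) (nat_lit 0x8e4218008dc6) (nat_lit 57456)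
  (nat_lit 0x87210c0046e3) .nil))) (nat_lit 0x8e421800b067) (nat_lit 43777) (nat_lit 0x8a2c28311350) (.node
  (.node (.node (.node .nil (nat_lit 0x8e42181108a7) (nat_lit 1856) (nat_lit 0x87210c305aa0) .nil) (nat_lit
  0x8e4218113506) (nat_lit 50593) (nat_lit 0x812a583a1520) (.node .nil (nat_lit 0x8e4218118561) (nat_lit 9328)
  (nat_lit 0x87210c301c43) .nil)) (nat_lit 0x8e421811b8c0) (nat_lit 22929) (nat_lit 0xaa2340111c38) (.node
  (.node .nil (nat_lit 0x8e42182114e4) (nat_lit 28145) (nat_lit 0xa81458132b20) .nil) (nat_lit 0x8e4218212945)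
  (nat_lit 23744) (nat_lit 0x87210c284a51) .nil)) (nat_lit 0x8e4218219922) (nat_lit 35120) (nat_lit
  0x87210c10cc91) (.node (.node (.node .nil (nat_lit 0x8e421821a483) (nat_lit 17712) (nat_lit 0x87210c280cb2)
  .nil) (nat_lit 0x8e4218301c43) (nat_lit 59504) (nat_lit 0x87210c20d0d2) (.node .nil (nat_lit 0x8e42183021e2)
  (nat_lit 6225) (nat_lit 0x920178293e00) .nil)) (nat_lit 0x8e4218309185) (nat_lit 25168) (nat_lit
  0x87210c209631) (.node (.node .nil (nat_lit 0x8e421830ac24) (nat_lit 58480) (nat_lit 0x87210c185612) .nil)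
  (nat_lit 0x8ea00300527c) (nat_lit 5985) (nat_lit 0xcc040d02e8a2) .nil))))))
def tT_10 : T := (.node (.node (.node (.node (.node (.node (.node .nil (nat_lit 0x8ea0030149f0) (nat_lit
  18225) (nat_lit 0xcc040d0293e0) .nil) (nat_lit 0x8ea0031007b4) (nat_lit 39521) (nat_lit 0xcc040d108a72)
  (.node .nil (nat_lit 0x8ea0031055c8) (nat_lit 30096) (nat_lit 0xc75001082ae4) .nil)) (nat_lit
  0x8ea003111c38) (nat_lit 43873) (nat_lit 0xcc040d10f130) (.node (.node .nil (nat_lit 0x8ea003114e44)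
  (nat_lit 14273) (nat_lit 0xcc040d121992) .nil) (nat_lit 0x8ea003200f68) (nat_lit 38497) (nat_lit
  0xcc040d135062) (.node .nil (nat_lit 0x8ea003205d14) (nat_lit 35329) (nat_lit 0xcc040d11b8c0) .nil)))
  (nat_lit 0x8ea0032114e4) (nat_lit 11632) (nat_lit 0xc75001108a72) (.node (.node (.node .nil (nat_lit
  0x8ea003214698) (nat_lit 34576) (nat_lit 0xc7500110a34c) .nil) (nat_lit 0x8ea0033008dc) (nat_lit 32896)
  (nat_lit 0xc7500118046e) (.node .nil (nat_lit 0x8ea003305aa0) (nat_lit 36176) (nat_lit 0xc75001182d50)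
  .nil)) (nat_lit 0x8ea003311350) (nat_lit 4593) (nat_lit 0xcc040d03a152) (.node (.node .nil (nat_lit
  0x8ea00331412c) (nat_lit 16897) (nat_lit 0xcc040d0149f0) .nil) (nat_lit 0x900bc101c436) (nat_lit 13440)
  (nat_lit 0xc805e000e21b) .nil))) (nat_lit 0x900bc1067016) (nat_lit 29249) (nat_lit 0xa1189110a34c) (.node
  (.node (.node (.node .nil (nat_lit 0x900bc107b420) (nat_lit 27201) (nat_lit 0xa118910ac246) .nil) (nat_lit
  0x900bc10a903a) (nat_lit 20032) (nat_lit 0xc805e005481d) (.node .nil (nat_lit 0x900bc10b540c) (nat_lit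
  43361) (nat_lit 0xa11891168126) .nil)) (nat_lit 0x900bc10ce02c) (nat_lit 2096) (nat_lit 0xc805e0067016)
  (.node (.node .nil (nat_lit 0x900bc10d241a) (nat_lit 47457) (nat_lit 0xa1189106226a) .nil) (nat_lit
  0x900bc120742a) (nat_lit 13008) (nat_lit 0xc805e0103a15) (.node .nil (nat_lit 0x900bc121b01c) (nat_lit
  34320) (nat_lit 0xc805e010d80e) .nil))) (nat_lit 0x900bc126043c) (nat_lit 21504) (nat_lit 0xc805e013021e)
  (.node (.node (.node .nil (nat_lit 0x900bc127c00a) (nat_lit 992) (nat_lit 0xc805e013e005) .nil) (nat_lit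
  0x900bc12ae410) (nat_lit 5328) (nat_lit 0xc805e0157208) (.node .nil (nat_lit 0x900bc12b2026) (nat_lit 35616)
  (nat_lit 0xc805e0159013) .nil)) (nat_lit 0x900bc12c9406) (nat_lit 8657) (nat_lit 0xa1189114e442) (.node
  (.node .nil (nat_lit 0x900bc12d5030) (nat_lit 58544) (nat_lit 0xc805e016a818) .nil) (nat_lit 0x90366002c19c)
  (nat_lit 4800) (nat_lit 0x881b300160ce) .nil)))) (nat_lit 0x90366005481d) (nat_lit 51744) (nat_lit
  0x881b303540c1) (.node (.node (.node (.node (.node .nil (nat_lit 0x903660078981) (nat_lit 38337) (nat_lit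
  0xf50018003da1) .nil) (nat_lit 0x90366009810f) (nat_lit 52833) (nat_lit 0xba800c003da1) (.node .nil (nat_lit
  0x9036600b4093) (nat_lit 40464) (nat_lit 0x881b30324486) .nil)) (nat_lit 0x9036600cc912) (nat_lit 3377)
  (nat_lit 0x978240003da1) (.node (.node .nil (nat_lit 0x9036600e088e) (nat_lit 33889) (nat_lit
  0xb0424a003da1) .nil) (nat_lit 0x90366020498b) (nat_lit 19632) (nat_lit 0x881b3027c00a) (.node .nil (nat_lit
  0x903660228817) (nat_lit 47232) (nat_lit 0x881b3026a0c4) .nil))) (nat_lit 0x903660250196) (nat_lit 49888)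
  (nat_lit 0x881b301280cb) (.node (.node (.node .nil (nat_lit 0x90366027c00a) (nat_lit 27473) (nat_lit
  0xa34054003da1) .nil) (nat_lit 0x90366029c884) (nat_lit 42816) (nat_lit 0x881b3014e442) (.node .nil (nat_lit
  0x9036602b0918) (nat_lit 54417) (nat_lit 0xcb004a003da1) .nil)) (nat_lit 0x9036602c8099) (nat_lit 5584)
  (nat_lit 0x881b3021a483) (.node (.node .nil (nat_lit 0x9036602e4105) (nat_lit 45377) (nat_lit
  0xe60206003da1) .nil) (nat_lit 0x904d220182d5) (nat_lit 11169) (nat_lit 0x934888283113) .nil))) (nat_lit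
  0x904d2206920d) (nat_lit 31297) (nat_lit 0xc680a8114e44) (.node (.node (.node (.node .nil (nat_lit
  0x904d220710d8) (nat_lit 48864) (nat_lit 0x88269103886c) .nil) (nat_lit 0x904d220a205d) (nat_lit 57953)
  (nat_lit 0x86cc04283113) (.node .nil (nat_lit 0x904d220ba288) (nat_lit 3345) (nat_lit 0xc24a6015848c) .nil))
  (nat_lit 0x904d220cb250) (nat_lit 55985) (nat_lit 0x978240283113) (.node (.node .nil (nat_lit
  0x904d220d3085) (nat_lit 52288) (nat_lit 0x88269131412c) .nil) (nat_lit 0x904d222032c9) (nat_lit 48625)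
  (nat_lit 0x818ea0283113) (.node .nil (nat_lit 0x904d2221b01c) (nat_lit 48720) (nat_lit 0x88269110d80e)
  .nil))) (nat_lit 0x904d2226a0c4) (nat_lit 12864) (nat_lit 0x882691135062) (.node (.node (.node .nil (nat_lit
  0x904d22272211) (nat_lit 26816) (nat_lit 0x882691244866) .nil) (nat_lit 0x904d222a1294) (nat_lit 55969)
  (nat_lit 0xd08c480742a4) (.node .nil (nat_lit 0x904d222b9041) (nat_lit 30529) (nat_lit 0x940a2c283113)
  .nil)) (nat_lit 0x904d222c8099) (nat_lit 36657) (nat_lit 0xc1c20c160ce0) (.node (.node .nil (nat_lit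
  0x904d222d024c) (nat_lit 13264) (nat_lit 0x882691168126) .nil) (nat_lit 0x90641c0293e0) (nat_lit 55568)
  (nat_lit 0x88320e0149f0) .nil))))) (nat_lit 0x90641c051a61) (nat_lit 58304) (nat_lit 0x88320e3540c1) (.node
  (.node (.node (.node (.node (.node .nil (nat_lit 0x90641c078981) (nat_lit 36208) (nat_lit 0x88320e340931)
  .nil) (nat_lit 0x90641c089a83) (nat_lit 21633) (nat_lit 0x8900bc02d503) (.node .nil (nat_lit 0x90641c0a0963)
  (nat_lit 6833) (nat_lit 0xac281402d503) .nil)) (nat_lit 0x90641c0d80e2) (nat_lit 7200) (nat_lit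
  0x88320e06c071) (.node (.node .nil (nat_lit 0x90641c0f1302) (nat_lit 45024) (nat_lit 0x88320e078981) .nil)
  (nat_lit 0x90641c219922) (nat_lit 7073) (nat_lit 0xc508c402d503) (.node .nil (nat_lit 0x90641c230ac2)
  (nat_lit 28337) (nat_lit 0xe0206c02d503) .nil))) (nat_lit 0x90641c248343) (nat_lit 10977) (nat_lit
  0xe80a8802d503) (.node (.node (.node .nil (nat_lit 0x90641c2610a3) (nat_lit 32928) (nat_lit 0x88320e24c5a0)
  .nil) (nat_lit 0x90641c2903a1) (nat_lit 18064) (nat_lit 0x88320e234c21) (.node .nil (nat_lit 0x90641c2b9041)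
  (nat_lit 20737) (nat_lit 0x940a2c02d503) .nil)) (nat_lit 0x90641c2c19c0) (nat_lit 5441) (nat_lit
  0x9c20c802d503) (.node (.node .nil (nat_lit 0x90641c2e8a20) (nat_lit 13505) (nat_lit 0xb9086002d503) .nil)
  (nat_lit 0x90708303886c) (nat_lit 39248) (nat_lit 0xc8384101c436) .nil))) (nat_lit 0x907083058338) (nat_lit
  31697) (nat_lit 0x891423060b54) (.node (.node (.node (.node .nil (nat_lit 0x907083060b54) (nat_lit 40961)
  (nat_lit 0x89142310a34c) .nil) (nat_lit 0x907083088e1c) (nat_lit 44720) (nat_lit 0xc8384104470e) (.node .nil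
  (nat_lit 0x9070830b0670) (nat_lit 3825) (nat_lit 0x891423146984) .nil)) (nat_lit 0x9070830d0d24) (nat_lit
  25041) (nat_lit 0x89142304cac8) (.node (.node .nil (nat_lit 0x9070830e8548) (nat_lit 46208) (nat_lit
  0xc838410742a4) .nil) (nat_lit 0x907083200f68) (nat_lit 51233) (nat_lit 0x89142320ab90) (.node .nil (nat_lit
  0x907083238704) (nat_lit 8721) (nat_lit 0x891423360388) .nil))) (nat_lit 0x907083258c50) (nat_lit 50208)
  (nat_lit 0xc8384112c628) (.node (.node (.node .nil (nat_lit 0x90708326043c) (nat_lit 53137) (nat_lit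
  0x8914233008dc) .nil) (nat_lit 0x907083288174) (nat_lit 1137) (nat_lit 0x891423226a0c) (.node .nil (nat_lit
  0x9070832b0918) (nat_lit 17840) (nat_lit 0xc8384115848c) .nil)) (nat_lit 0x9070832d024c) (nat_lit 27425)
  (nat_lit 0x891423246158) (.node (.node .nil (nat_lit 0x9070832e8a20) (nat_lit 10641) (nat_lit
  0x89142332c940) .nil) (nat_lit 0x9086070149f0) (nat_lit 41968) (nat_lit 0xc8430300a4f8) .nil)))) (nat_lit
  0x908607065928) (nat_lit 36337) (nat_lit 0x8a1189114e44) (.node (.node (.node (.node (.node .nil (nat_lit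
  0x9086070710d8) (nat_lit 55104) (nat_lit 0xc8430303886c) .nil) (nat_lit 0x908607087898) (nat_lit 37232)
  (nat_lit 0xc84303043c4c) (.node .nil (nat_lit 0x908607093168) (nat_lit 5057) (nat_lit 0x8a118930ac24) .nil))
  (nat_lit 0x9086070e21b0) (nat_lit 56721) (nat_lit 0x8a1189108a72) (.node (.node .nil (nat_lit
  0x9086070f6840) (nat_lit 23633) (nat_lit 0x8a118921e260) .nil) (nat_lit 0x908607223870) (nat_lit 14416)
  (nat_lit 0xc84303111c38) (.node .nil (nat_lit 0x908607237180) (nat_lit 17217) (nat_lit 0x8a1189350622)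
  .nil))) (nat_lit 0x908607246158) (nat_lit 55312) (nat_lit 0xc843031230ac) (.node (.node (.node .nil (nat_lit
  0x9086072528a8) (nat_lit 46369) (nat_lit 0x8a1189244866) .nil) (nat_lit 0x9086072a40e8) (nat_lit 13393)
  (nat_lit 0x8a118905aa06) (.node .nil (nat_lit 0x9086072b0918) (nat_lit 16929) (nat_lit 0x8a118934c214)
  .nil)) (nat_lit 0x9086072c19c0) (nat_lit 26416) (nat_lit 0xc84303160ce0) (.node (.node .nil (nat_lit
  0x9086072d5030) (nat_lit 52464) (nat_lit 0xc8430316a818) .nil) (nat_lit 0x909298026564) (nat_lit 51600)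
  (nat_lit 0x88494c0132b2) .nil))) (nat_lit 0x909298056123) (nat_lit 417) (nat_lit 0xf8240201d0a9) (.node
  (.node (.node (.node .nil (nat_lit 0x909298070447) (nat_lit 27792) (nat_lit 0x88494c343490) .nil) (nat_lit
  0x909298086c07) (nat_lit 10368) (nat_lit 0x88494c3380b0) (.node .nil (nat_lit 0x9092980a0963) (nat_lit
  56737) (nat_lit 0xac281401d0a9) .nil)) (nat_lit 0x9092980d0d24) (nat_lit 22833) (nat_lit 0x8c0e4201d0a9)
  (.node (.node .nil (nat_lit 0x9092980f6840) (nat_lit 13552) (nat_lit 0x88494c07b420) .nil) (nat_lit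
  0x909298212945) (nat_lit 18641) (nat_lit 0xb20e1001d0a9) .nil)) (nat_lit 0x909298234c21) (nat_lit 19872)
  (nat_lit 0x88494c2610a3) (.node (.node (.node .nil (nat_lit 0x909298244866) (nat_lit 40576) (nat_lit
  0x88494c122433) .nil) (nat_lit 0x909298262d02) (nat_lit 15008) (nat_lit 0x88494c131681) (.node .nil (nat_lit
  0x909298294542) (nat_lit 16640) (nat_lit 0x88494c14a2a1) .nil)) (nat_lit 0x9092982b2026) (nat_lit 13072)
  (nat_lit 0x88494c159013) (.node (.node .nil (nat_lit 0x9092982c2461) (nat_lit 51617) (nat_lit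
  0xc02f0401d0a9) .nil) (nat_lit 0x9092982e4105) (nat_lit 40657) (nat_lit 0xe6020601d0a9) .nil))))))
def tT_11 : T := (.node (.node (.node (.node (.node (.node (.node .nil (nat_lit 0x90c0e4023718) (nat_lit 5409)
  (nat_lit 0xd8025403380b) .nil) (nat_lit 0x90c0e403380b) (nat_lit 7696) (nat_lit 0x886072360388) (.node .nil
  (nat_lit 0x90c0e40c2b09) (nat_lit 30865) (nat_lit 0xe0849403380b) .nil)) (nat_lit 0x90c0e40d241a) (nat_lit
  1073) (nat_lit 0xa402f003380b) (.node (.node .nil (nat_lit 0x90c0e40e1c11) (nat_lit 58592) (nat_lit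
  0x886072309185) .nil) (nat_lit 0x90c0e40f1302) (nat_lit 56000) (nat_lit 0x886072078981) (.node .nil (nat_lit
  0x90c0e4241a1a) (nat_lit 7792) (nat_lit 0x886072120d0d) .nil))) (nat_lit 0x90c0e4251509) (nat_lit 20113)
  (nat_lit 0xf0832003380b) (.node (.node (.node .nil (nat_lit 0x90c0e4262d02) (nat_lit 14529) (nat_lit
  0x90c0e403380b) .nil) (nat_lit 0x90c0e4272211) (nat_lit 15232) (nat_lit 0x886072240e85) (.node .nil (nat_lit
  0x90c0e4283113) (nat_lit 52416) (nat_lit 0x886072238704) .nil)) (nat_lit 0x90c0e4293e00) (nat_lit 31904)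
  (nat_lit 0x886072149f00) (.node (.node .nil (nat_lit 0x90c0e42a060b) (nat_lit 40033) (nat_lit
  0x8c838403380b) .nil) (nat_lit 0x90c0e42b0918) (nat_lit 34336) (nat_lit 0x88607215848c) .nil))) (nat_lit
  0x9104d200cb25) (nat_lit 21920) (nat_lit 0x888269371804) (.node (.node (.node (.node .nil (nat_lit
  0x9104d2065928) (nat_lit 38913) (nat_lit 0x8206cc195901) .nil) (nat_lit 0x9104d206920d) (nat_lit 16353)
  (nat_lit 0xc680a8195901) (.node .nil (nat_lit 0x9104d20a7221) (nat_lit 53569) (nat_lit 0x8424a6195901)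
  .nil)) (nat_lit 0x9104d20ab904) (nat_lit 40865) (nat_lit 0xc0a2c2195901) (.node (.node .nil (nat_lit
  0x9104d20c2b09) (nat_lit 913) (nat_lit 0xe0849406226a) .nil) (nat_lit 0x9104d20ce02c) (nat_lit 11009)
  (nat_lit 0xa402f0195901) (.node .nil (nat_lit 0x9104d2226a0c) (nat_lit 881) (nat_lit 0xe0206c068692) .nil)))
  (nat_lit 0x9104d222a129) (nat_lit 43505) (nat_lit 0xa4a608195901) (.node (.node (.node .nil (nat_lit
  0x9104d2243324) (nat_lit 37729) (nat_lit 0x84805e195901) .nil) (nat_lit 0x9104d224f801) (nat_lit 54016)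
  (nat_lit 0x888269250196) (.node .nil (nat_lit 0x9104d228182d) (nat_lit 50417) (nat_lit 0x82a234195901)
  .nil)) (nat_lit 0x9104d228d308) (nat_lit 34465) (nat_lit 0xc62450195901) (.node (.node .nil (nat_lit
  0x9104d22e4105) (nat_lit 21232) (nat_lit 0x888269205d14) .nil) (nat_lit 0x9104d22e8a20) (nat_lit 44832)
  (nat_lit 0x888269174510) .nil)))) (nat_lit 0x91104d02e8a2) (nat_lit 28736) (nat_lit 0xc88826017451) (.node
  (.node (.node (.node (.node .nil (nat_lit 0x91104d046e30) (nat_lit 36256) (nat_lit 0xc88826023718) .nil)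
  (nat_lit 0x91104d068692) (nat_lit 38961) (nat_lit 0x929821202656) (.node .nil (nat_lit 0x91104d08a722)
  (nat_lit 45921) (nat_lit 0x92982128258c) .nil)) (nat_lit 0x91104d0a4f80) (nat_lit 54384) (nat_lit
  0xc888260527c0) (.node (.node .nil (nat_lit 0x91104d0cc912) (nat_lit 46304) (nat_lit 0xc88826066489) .nil)
  (nat_lit 0x91104d0e21b0) (nat_lit 31792) (nat_lit 0xc888260710d8) (.node .nil (nat_lit 0x91104d20ab90)
  (nat_lit 5009) (nat_lit 0x929821214698) .nil))) (nat_lit 0x91104d224332) (nat_lit 23520) (nat_lit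
  0xc88826112199) (.node (.node (.node .nil (nat_lit 0x91104d24c5a0) (nat_lit 41473) (nat_lit 0x9298210c44d4)
  .nil) (nat_lit 0x91104d262d02) (nat_lit 46097) (nat_lit 0x9298210160ce) (.node .nil (nat_lit 0x91104d280cb2)
  (nat_lit 40144) (nat_lit 0xc88826140659) .nil)) (nat_lit 0x91104d2ae410) (nat_lit 37329) (nat_lit
  0x92982104470e) (.node (.node .nil (nat_lit 0x91104d2c6282) (nat_lit 14897) (nat_lit 0x929821246158) .nil)
  (nat_lit 0x91104d2e8a20) (nat_lit 50625) (nat_lit 0x929821294542) .nil))) (nat_lit 0x914231008dc6) (nat_lit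
  22192) (nat_lit 0xc8a1180046e3) (.node (.node (.node (.node .nil (nat_lit 0x914231043c4c) (nat_lit 42497)
  (nat_lit 0x9070832d024c) .nil) (nat_lit 0x91423104b18a) (nat_lit 15776) (nat_lit 0xc8a1180258c5) (.node .nil
  (nat_lit 0x9142310a34c2) (nat_lit 39777) (nat_lit 0x9070830d0d24) .nil)) (nat_lit 0x9142310ab904) (nat_lit
  17632) (nat_lit 0xc8a118055c82) (.node (.node .nil (nat_lit 0x9142310e088e) (nat_lit 8400) (nat_lit
  0xc8a118070447) .nil) (nat_lit 0x9142310e8548) (nat_lit 7473) (nat_lit 0x9070830b0670) .nil)) (nat_lit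
  0x91423122114e) (nat_lit 19505) (nat_lit 0x9070832e8a20) (.node (.node (.node .nil (nat_lit 0x914231229c88)
  (nat_lit 9232) (nat_lit 0xc8a118114e44) .nil) (nat_lit 0x914231262d02) (nat_lit 47728) (nat_lit
  0xc8a118131681) (.node .nil (nat_lit 0x91423126a0c4) (nat_lit 2257) (nat_lit 0x907083288174) .nil)) (nat_lit
  0x91423128258c) (nat_lit 16273) (nat_lit 0x907083238704) (.node (.node .nil (nat_lit 0x91423128a84a)
  (nat_lit 53728) (nat_lit 0xc8a118145425) .nil) (nat_lit 0x9142312c19c0) (nat_lit 56961) (nat_lit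
  0x9070830e8548) .nil))))) (nat_lit 0x9142312c9406) (nat_lit 14208) (nat_lit 0xc8a118164a03) (.node (.node
  (.node (.node (.node (.node .nil (nat_lit 0x9189140046e3) (nat_lit 9009) (nat_lit 0x892982325019) .nil)
  (nat_lit 0x91891406226a) (nat_lit 31265) (nat_lit 0x810366325019) (.node .nil (nat_lit 0x918914066489)
  (nat_lit 27937) (nat_lit 0xc58502082ae4) .nil)) (nat_lit 0x9189140a34c2) (nat_lit 50449) (nat_lit
  0xc0a2c20d0d24) (.node (.node .nil (nat_lit 0x9189140a7221) (nat_lit 8001) (nat_lit 0x8424a6325019) .nil)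
  (nat_lit 0x9189140c16a8) (nat_lit 41073) (nat_lit 0x8c0e42325019) (.node .nil (nat_lit 0x9189140c504b)
  (nat_lit 54401) (nat_lit 0xc888260527c0) .nil))) (nat_lit 0x9189142032c9) (nat_lit 11344) (nat_lit
  0x88c48a272211) (.node (.node (.node .nil (nat_lit 0x91891420742a) (nat_lit 32673) (nat_lit 0xc508c408a722)
  .nil) (nat_lit 0x9189142610a3) (nat_lit 41009) (nat_lit 0xcd2220008dc6) (.node .nil (nat_lit 0x918914265640)
  (nat_lit 12304) (nat_lit 0x88c48a132b20) .nil)) (nat_lit 0x9189142a060b) (nat_lit 60529) (nat_lit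
  0x8c8384325019) (.node (.node .nil (nat_lit 0x9189142a40e8) (nat_lit 21520) (nat_lit 0x88c48a152074) .nil)
  (nat_lit 0x9189142c2461) (nat_lit 11616) (nat_lit 0x88c48a212945) .nil))) (nat_lit 0x9189142c6282) (nat_lit
  39377) (nat_lit 0x84a960325019) (.node (.node (.node (.node .nil (nat_lit 0x91a02a0258c5) (nat_lit 56833)
  (nat_lit 0x87083218b409) .nil) (nat_lit 0x91a02a045391) (nat_lit 5217) (nat_lit 0xe140a2060b54) (.node .nil
  (nat_lit 0x91a02a060b54) (nat_lit 51696) (nat_lit 0x88d0150305aa) .nil)) (nat_lit 0x91a02a081745) (nat_lit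
  80) (nat_lit 0x88d015332448) (.node (.node .nil (nat_lit 0x91a02a0a4f80) (nat_lit 28448) (nat_lit
  0x88d0150527c0) .nil) (nat_lit 0x91a02a0c44d4) (nat_lit 46704) (nat_lit 0x88d01506226a) (.node .nil (nat_lit
  0x91a02a0e1c11) (nat_lit 51184) (nat_lit 0x88d0153021e2) .nil))) (nat_lit 0x91a02a205d14) (nat_lit 54304)
  (nat_lit 0x88d015102e8a) (.node (.node (.node .nil (nat_lit 0x91a02a2205d1) (nat_lit 48336) (nat_lit
  0x88d015262d02) .nil) (nat_lit 0x91a02a240e85) (nat_lit 53585) (nat_lit 0xc3039018b409) (.node .nil (nat_lit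
  0x91a02a265640) (nat_lit 60129) (nat_lit 0xa3405418b409) .nil)) (nat_lit 0x91a02a284a51) (nat_lit 12000)
  (nat_lit 0x88d015230ac2) (.node (.node .nil (nat_lit 0x91a02a2a1294) (nat_lit 7168) (nat_lit 0x88d01515094a)
  .nil) (nat_lit 0x91a02a2c19c0) (nat_lit 30880) (nat_lit 0x88d015160ce0) .nil)))) (nat_lit 0x91a02a2e4105)
  (nat_lit 9873) (nat_lit 0xe602060149f0) (.node (.node (.node (.node (.node .nil (nat_lit 0x92017800f684)
  (nat_lit 10945) (nat_lit 0xd802540305aa) .nil) (nat_lit 0x920178055c82) (nat_lit 688) (nat_lit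
  0x8900bc02ae41) (.node .nil (nat_lit 0x92017805aa06) (nat_lit 21616) (nat_lit 0x8900bc02d503) .nil))
  (nat_lit 0x920178086c07) (nat_lit 2000) (nat_lit 0x8900bc32c940) (.node (.node .nil (nat_lit 0x920178089a83)
  (nat_lit 48112) (nat_lit 0x8900bc32b202) .nil) (nat_lit 0x9201780d3085) (nat_lit 11184) (nat_lit
  0x8900bc306701) (.node .nil (nat_lit 0x9201780dc601) (nat_lit 33952) (nat_lit 0x8900bc301c43) .nil)))
  (nat_lit 0x920178215207) (nat_lit 2912) (nat_lit 0x8900bc265640) (.node (.node (.node .nil (nat_lit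
  0x92017821a483) (nat_lit 49041) (nat_lit 0x99070824f801) .nil) (nat_lit 0x920178240e85) (nat_lit 29761)
  (nat_lit 0xc3039018046e) (.node .nil (nat_lit 0x92017824f801) (nat_lit 112) (nat_lit 0x8900bc248343) .nil))
  (nat_lit 0x920178293e00) (nat_lit 3168) (nat_lit 0x8900bc149f00) (.node (.node .nil (nat_lit 0x92017829c884)
  (nat_lit 13040) (nat_lit 0x8900bc14e442) .nil) (nat_lit 0x9201782c6282) (nat_lit 257) (nat_lit
  0x92017824f801) .nil))) (nat_lit 0x9201782c9406) (nat_lit 21952) (nat_lit 0x8900bc164a03) (.node (.node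
  (.node (.node .nil (nat_lit 0x92284601d0a9) (nat_lit 8704) (nat_lit 0x891423360388) .nil) (nat_lit
  0x922846045391) (nat_lit 58704) (nat_lit 0x89142334c214) (.node .nil (nat_lit 0x922846058338) (nat_lit
  57425) (nat_lit 0x8103660e1c11) .nil)) (nat_lit 0x922846084539) (nat_lit 4433) (nat_lit 0xa0e1060e1c11)
  (.node (.node .nil (nat_lit 0x922846099590) (nat_lit 25024) (nat_lit 0x89142304cac8) .nil) (nat_lit
  0x9228460c16a8) (nat_lit 11953) (nat_lit 0xb0424a0e1c11) .nil)) (nat_lit 0x9228460dc601) (nat_lit 43089)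
  (nat_lit 0xd0018e0e1c11) (.node (.node (.node .nil (nat_lit 0x922846209631) (nat_lit 45457) (nat_lit
  0x8063a80e1c11) .nil) (nat_lit 0x922846214698) (nat_lit 40944) (nat_lit 0x89142310a34c) (.node .nil (nat_lit
  0x92284624c5a0) (nat_lit 47904) (nat_lit 0x8914231262d0) .nil)) (nat_lit 0x922846251509) (nat_lit 27408)
  (nat_lit 0x891423246158) (.node (.node .nil (nat_lit 0x92284628d308) (nat_lit 3808) (nat_lit 0x891423146984)
  .nil) (nat_lit 0x9228462903a1) (nat_lit 1120) (nat_lit 0x891423226a0c) .nil))))))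
def tT_12 : T := (.node (.node (.node (.node (.node (.node (.node .nil (nat_lit 0x9228462d5030) (nat_lit
  53504) (nat_lit 0x89142316a818) .nil) (nat_lit 0x92530400a4f8) (nat_lit 7281) (nat_lit 0xd8025401ed08)
  (.node .nil (nat_lit 0x9253040428d3) (nat_lit 2545) (nat_lit 0xc94c1010a34c) .nil)) (nat_lit 0x925304048c2b)
  (nat_lit 9249) (nat_lit 0xc8a118114e44) (.node (.node .nil (nat_lit 0x925304090cc9) (nat_lit 8992) (nat_lit
  0x892982325019) .nil) (nat_lit 0x92530409a831) (nat_lit 31120) (nat_lit 0x892982320265) (.node .nil (nat_lit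
  0x9253040d241a) (nat_lit 18688) (nat_lit 0x89298206920d) .nil))) (nat_lit 0x9253040d80e2) (nat_lit 57536)
  (nat_lit 0x89298206c071) (.node (.node (.node .nil (nat_lit 0x92530421007b) (nat_lit 44256) (nat_lit
  0x892982265640) .nil) (nat_lit 0x92530421a483) (nat_lit 52897) (nat_lit 0x9907082610a3) (.node .nil (nat_lit
  0x9253042528a8) (nat_lit 19889) (nat_lit 0x88494c2610a3) .nil)) (nat_lit 0x925304258c50) (nat_lit 18000)
  (nat_lit 0x89298212c628) (.node (.node .nil (nat_lit 0x925304280cb2) (nat_lit 55713) (nat_lit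
  0xd08c48096314) .nil) (nat_lit 0x92530428a84a) (nat_lit 5153) (nat_lit 0xd16140088e1c) .nil))) (nat_lit
  0x9253042c2461) (nat_lit 12368) (nat_lit 0x89298220c44d) (.node (.node (.node (.node .nil (nat_lit
  0x9253042c8099) (nat_lit 60305) (nat_lit 0xc1c20c182d50) .nil) (nat_lit 0x9298210160ce) (nat_lit 31232)
  (nat_lit 0xc94c1000b067) (.node .nil (nat_lit 0x92982104470e) (nat_lit 22992) (nat_lit 0xc94c10022387)
  .nil)) (nat_lit 0x9298210527c0) (nat_lit 39104) (nat_lit 0xc94c100293e0) (.node (.node .nil (nat_lit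
  0x9298210803da) (nat_lit 55488) (nat_lit 0xc94c100401ed) .nil) (nat_lit 0x929821096314) (nat_lit 41808)
  (nat_lit 0xc94c1004b18a) (.node .nil (nat_lit 0x9298210c44d4) (nat_lit 26544) (nat_lit 0xc94c1006226a)
  .nil))) (nat_lit 0x9298210d241a) (nat_lit 41024) (nat_lit 0xc94c1006920d) (.node (.node (.node .nil (nat_lit
  0x929821202656) (nat_lit 24305) (nat_lit 0x8430390a4f80) .nil) (nat_lit 0x929821214698) (nat_lit 2528)
  (nat_lit 0xc94c1010a34c) (.node .nil (nat_lit 0x929821246158) (nat_lit 7920) (nat_lit 0xc94c101230ac) .nil))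
  (nat_lit 0x929821250196) (nat_lit 43584) (nat_lit 0xc94c101280cb) (.node (.node .nil (nat_lit
  0x92982128258c) (nat_lit 31056) (nat_lit 0xc94c101412c6) .nil) (nat_lit 0x929821294542) (nat_lit 36368)
  (nat_lit 0xc94c1014a2a1) .nil)))) (nat_lit 0x9298212c6282) (nat_lit 54832) (nat_lit 0xc94c10163141) (.node
  (.node (.node (.node (.node .nil (nat_lit 0x9298212d024c) (nat_lit 39360) (nat_lit 0xc94c10168126) .nil)
  (nat_lit 0x92a58000527c) (nat_lit 49553) (nat_lit 0xd8025402e8a2) (.node .nil (nat_lit 0x92a580051a61)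
  (nat_lit 15697) (nat_lit 0xd028b00ac246) .nil)) (nat_lit 0x92a58005481d) (nat_lit 37888) (nat_lit
  0x8952c0340931) (.node (.node .nil (nat_lit 0x92a580091856) (nat_lit 8257) (nat_lit 0xc0a2c21a4834) .nil)
  (nat_lit 0x92a580094a2a) (nat_lit 32241) (nat_lit 0xc24a6018a096) (.node .nil (nat_lit 0x92a5800c0237)
  (nat_lit 46672) (nat_lit 0x8952c030ac24) .nil))) (nat_lit 0x92a5800c504b) (nat_lit 6640) (nat_lit
  0x8952c030851a) (.node (.node (.node .nil (nat_lit 0x92a58021007b) (nat_lit 59089) (nat_lit 0x98ea00251509)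
  .nil) (nat_lit 0x92a580215207) (nat_lit 51553) (nat_lit 0x9a02a2251509) (.node .nil (nat_lit 0x92a580241a1a)
  (nat_lit 42465) (nat_lit 0x922846251509) .nil)) (nat_lit 0x92a580244866) (nat_lit 33441) (nat_lit
  0x90c0e4251509) (.node (.node .nil (nat_lit 0x92a58028182d) (nat_lit 35873) (nat_lit 0x82a234251509) .nil)
  (nat_lit 0x92a580284a51) (nat_lit 7136) (nat_lit 0x8952c0228817) .nil))) (nat_lit 0x92a5802d024c) (nat_lit
  45568) (nat_lit 0x8952c0168126) (.node (.node (.node (.node .nil (nat_lit 0x92a5802d5030) (nat_lit 34081)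
  (nat_lit 0x8a88d0251509) .nil) (nat_lit 0x93488800b067) (nat_lit 321) (nat_lit 0x8a2c28159013) (.node .nil
  (nat_lit 0x934888041572) (nat_lit 1457) (nat_lit 0x8206cc159013) .nil)) (nat_lit 0x93488804a515) (nat_lit
  53968) (nat_lit 0x89a444340931) (.node (.node .nil (nat_lit 0x934888081745) (nat_lit 55664) (nat_lit
  0x89a444325019) .nil) (nat_lit 0x93488808a722) (nat_lit 51904) (nat_lit 0x89a444045391) (.node .nil (nat_lit
  0x9348880c0237) (nat_lit 32721) (nat_lit 0xca6084159013) .nil))) (nat_lit 0x9348880cb250) (nat_lit 36400)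
  (nat_lit 0x89a444065928) (.node (.node (.node .nil (nat_lit 0x934888202656) (nat_lit 9409) (nat_lit
  0xe0206c0a4f80) .nil) (nat_lit 0x934888209631) (nat_lit 20433) (nat_lit 0x8063a8159013) (.node .nil (nat_lit
  0x934888243324) (nat_lit 13089) (nat_lit 0x88494c159013) .nil)) (nat_lit 0x934888248343) (nat_lit 2705)
  (nat_lit 0xe80a88026564) (.node (.node .nil (nat_lit 0x934888283113) (nat_lit 5793) (nat_lit 0xa84624159013)
  .nil) (nat_lit 0x934888288174) (nat_lit 1024) (nat_lit 0x89a4441440ba) .nil))))) (nat_lit 0x9348882c2461)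
  (nat_lit 7328) (nat_lit 0x89a44420498b) (.node (.node (.node (.node (.node (.node .nil (nat_lit
  0x9348882c9406) (nat_lit 7952) (nat_lit 0x89a444164a03) .nil) (nat_lit 0x940a2c017451) (nat_lit 23665)
  (nat_lit 0x904d222d024c) (.node .nil (nat_lit 0x940a2c02d503) (nat_lit 11408) (nat_lit 0x8a0516349068)
  .nil)) (nat_lit 0x940a2c03a152) (nat_lit 30800) (nat_lit 0x8a051601d0a9) (.node (.node .nil (nat_lit
  0x940a2c08e1c1) (nat_lit 49696) (nat_lit 0x8a0516318a09) .nil) (nat_lit 0x940a2c099590) (nat_lit 8800)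
  (nat_lit 0x8a051604cac8) (.node .nil (nat_lit 0x940a2c0a34c2) (nat_lit 11105) (nat_lit 0xb0424a0d0d24)
  .nil))) (nat_lit 0x940a2c0b4093) (nat_lit 28816) (nat_lit 0x8a0516305aa0) (.node (.node (.node .nil (nat_lit
  0x940a2c20d0d2) (nat_lit 32464) (nat_lit 0x8a0516106869) .nil) (nat_lit 0x940a2c21a483) (nat_lit 47041)
  (nat_lit 0x990708244866) (.node .nil (nat_lit 0x940a2c2205d1) (nat_lit 40336) (nat_lit 0x8a051624f801)
  .nil)) (nat_lit 0x940a2c237180) (nat_lit 42609) (nat_lit 0x88494c350622) (.node (.node .nil (nat_lit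
  0x940a2c283113) (nat_lit 18049) (nat_lit 0xa8462415094a) .nil) (nat_lit 0x940a2c294542) (nat_lit 44641)
  (nat_lit 0x854468380b06) .nil))) (nat_lit 0x940a2c2ae410) (nat_lit 59953) (nat_lit 0xb9086004470e) (.node
  (.node (.node (.node .nil (nat_lit 0x940a2c2b9041) (nat_lit 56080) (nat_lit 0x8a05162032c9) .nil) (nat_lit
  0x94231201d0a9) (nat_lit 17200) (nat_lit 0x8a1189350622) (.node .nil (nat_lit 0x9423120258c5) (nat_lit
  16912) (nat_lit 0x8a118934c214) .nil)) (nat_lit 0x94231203886c) (nat_lit 19409) (nat_lit 0x81036616a818)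
  (.node (.node .nil (nat_lit 0x94231208dc60) (nat_lit 56625) (nat_lit 0x97824000293e) .nil) (nat_lit
  0x942312090cc9) (nat_lit 46145) (nat_lit 0x91891406226a) (.node .nil (nat_lit 0x9423120a84a5) (nat_lit 5040)
  (nat_lit 0x8a118930ac24) .nil))) (nat_lit 0x9423120b540c) (nat_lit 13376) (nat_lit 0x8a118905aa06) (.node
  (.node (.node .nil (nat_lit 0x94231220c44d) (nat_lit 48705) (nat_lit 0x828b0a152074) .nil) (nat_lit
  0x9423122114e4) (nat_lit 1489) (nat_lit 0x84805e132b20) (.node .nil (nat_lit 0x942312229c88) (nat_lit 36320)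
  (nat_lit 0x8a1189114e44) .nil)) (nat_lit 0x942312234c21) (nat_lit 32433) (nat_lit 0x94231203886c) (.node
  (.node .nil (nat_lit 0x94231228182d) (nat_lit 23616) (nat_lit 0x8a118921e260) .nil) (nat_lit 0x94231229c884)
  (nat_lit 52225) (nat_lit 0x84a96013021e) .nil)))) (nat_lit 0x9423122a40e8) (nat_lit 35569) (nat_lit
  0x92017805aa06) (.node (.node (.node (.node (.node .nil (nat_lit 0x9423122b9041) (nat_lit 45697) (nat_lit
  0x940a2c03a152) .nil) (nat_lit 0x94585001262d) (nat_lit 45296) (nat_lit 0x8a2c283540c1) (.node .nil (nat_lit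
  0x945850022387) (nat_lit 58177) (nat_lit 0xaf048010a34c) .nil)) (nat_lit 0x9458500305aa) (nat_lit 59936)
  (nat_lit 0x8a2c280182d5) (.node (.node .nil (nat_lit 0x94585008a722) (nat_lit 34096) (nat_lit
  0x8a2c28045391) .nil) (nat_lit 0x94585009810f) (nat_lit 43760) (nat_lit 0x8a2c28311350) (.node .nil (nat_lit
  0x9458500a84a5) (nat_lit 47777) (nat_lit 0x87210c3886c0) .nil))) (nat_lit 0x9458500ba288) (nat_lit 26513)
  (nat_lit 0xaa234015848c) (.node (.node (.node .nil (nat_lit 0x9458502082ae) (nat_lit 18544) (nat_lit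
  0x8a2c28104157) .nil) (nat_lit 0x94585021a483) (nat_lit 57968) (nat_lit 0x8a2c28250196) (.node .nil (nat_lit
  0x94585022a129) (nat_lit 31744) (nat_lit 0x8a2c28248343) .nil)) (nat_lit 0x945850238704) (nat_lit 14689)
  (nat_lit 0x89a444360388) (.node (.node .nil (nat_lit 0x94585028258c) (nat_lit 1216) (nat_lit 0x8a2c281412c6)
  .nil) (nat_lit 0x9458502903a1) (nat_lit 43137) (nat_lit 0xb122840e8548) .nil))) (nat_lit 0x9458502a060b)
  (nat_lit 46801) (nat_lit 0x8c8384332448) (.node (.node (.node (.node .nil (nat_lit 0x9458502b2026) (nat_lit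
  304) (nat_lit 0x8a2c28159013) .nil) (nat_lit 0x94c1090132b2) (nat_lit 21569) (nat_lit 0xe0900b060b54) (.node
  .nil (nat_lit 0x94c109021e26) (nat_lit 8368) (nat_lit 0xca6084010f13) .nil)) (nat_lit 0x94c109032c94)
  (nat_lit 53696) (nat_lit 0xca608401964a) (.node (.node .nil (nat_lit 0x94c109082ae4) (nat_lit 13137)
  (nat_lit 0xe0900b032c94) .nil) (nat_lit 0x94c109091856) (nat_lit 15760) (nat_lit 0xca6084048c2b) .nil))
  (nat_lit 0x94c1090a34c2) (nat_lit 17888) (nat_lit 0xca6084051a61) (.node (.node (.node .nil (nat_lit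
  0x94c1090b0670) (nat_lit 53073) (nat_lit 0xe0900b0b0670) .nil) (nat_lit 0x94c109202656) (nat_lit 9200)
  (nat_lit 0xca608410132b) (.node .nil (nat_lit 0x94c1092114e4) (nat_lit 59057) (nat_lit 0xe0900b0c44d4)
  .nil)) (nat_lit 0x94c109223870) (nat_lit 35953) (nat_lit 0xe0900b046e30) (.node (.node .nil (nat_lit
  0x94c109230ac2) (nat_lit 5168) (nat_lit 0xca6084118561) .nil) (nat_lit 0x94c109280cb2) (nat_lit 36560)
  (nat_lit 0xca6084140659) .nil))))))
def tT_13 : T := (.node (.node (.node (.node (.node (.node (.node .nil (nat_lit 0x94c1092a1294) (nat_lit 1649)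
  (nat_lit 0xe0900b0742a4) .nil) (nat_lit 0x94c1092b2026) (nat_lit 31393) (nat_lit 0xe0900b0149f0) (.node .nil
  (nat_lit 0x9511a000e21b) (nat_lit 52913) (nat_lit 0x88c48a060b54) .nil)) (nat_lit 0x9511a0024c5a) (nat_lit
  59105) (nat_lit 0x8206cc0cc912) (.node (.node .nil (nat_lit 0x9511a002ae41) (nat_lit 58161) (nat_lit
  0x840d980ac246) .nil) (nat_lit 0x9511a0086c07) (nat_lit 8817) (nat_lit 0x8a051604cac8) (.node .nil (nat_lit
  0x9511a0088e1c) (nat_lit 54753) (nat_lit 0x8c0e4202c19c) .nil))) (nat_lit 0x9511a00a205d) (nat_lit 58721)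
  (nat_lit 0x86cc040803da) (.node (.node (.node .nil (nat_lit 0x9511a00ac246) (nat_lit 47633) (nat_lit
  0x80c7500e088e) .nil) (nat_lit 0x9511a0202656) (nat_lit 34545) (nat_lit 0x84805e0a4f80) (.node .nil (nat_lit
  0x9511a020c44d) (nat_lit 19697) (nat_lit 0x828b0a0c44d4) .nil)) (nat_lit 0x9511a0226a0c) (nat_lit 11056)
  (nat_lit 0x8a88d0113506) (.node (.node .nil (nat_lit 0x9511a0228817) (nat_lit 21696) (nat_lit
  0x8a88d0243324) .nil) (nat_lit 0x9511a0284a51) (nat_lit 59809) (nat_lit 0x804a960e8548) .nil))) (nat_lit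
  0x9511a028a84a) (nat_lit 17313) (nat_lit 0x8641c2088e1c) (.node (.node (.node (.node .nil (nat_lit
  0x9511a02a060b) (nat_lit 12609) (nat_lit 0x8c8384024c5a) .nil) (nat_lit 0x9511a02ae410) (nat_lit 60673)
  (nat_lit 0x8a88d004470e) (.node .nil (nat_lit 0x952c0100527c) (nat_lit 48529) (nat_lit 0xd0151102e8a2)
  .nil)) (nat_lit 0x952c010293e0) (nat_lit 36912) (nat_lit 0xca96000149f0) (.node (.node .nil (nat_lit
  0x952c0102c19c) (nat_lit 30208) (nat_lit 0xca96000160ce) .nil) (nat_lit 0x952c010803da) (nat_lit 14785)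
  (nat_lit 0xd0151106226a) (.node .nil (nat_lit 0x952c010851a6) (nat_lit 5281) (nat_lit 0xd0151104cac8)
  .nil))) (nat_lit 0x952c010a903a) (nat_lit 20513) (nat_lit 0xd015110ce02c) (.node (.node (.node .nil (nat_lit
  0x952c010ac246) (nat_lit 31569) (nat_lit 0xd015110e088e) .nil) (nat_lit 0x952c012082ae) (nat_lit 15329)
  (nat_lit 0xd015110ba288) (.node .nil (nat_lit 0x952c0120d0d2) (nat_lit 21168) (nat_lit 0xca9600106869)
  .nil)) (nat_lit 0x952c0122114e) (nat_lit 38784) (nat_lit 0xca96001108a7) (.node (.node .nil (nat_lit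
  0x952c01224332) (nat_lit 43905) (nat_lit 0xd0151103886c) .nil) (nat_lit 0x952c01288174) (nat_lit 38688)
  (nat_lit 0xca96001440ba) .nil)))) (nat_lit 0x952c0128d308) (nat_lit 7905) (nat_lit 0xd015110f6840) (.node
  (.node (.node (.node (.node .nil (nat_lit 0x952c012a1294) (nat_lit 52929) (nat_lit 0xd015110742a4) .nil)
  (nat_lit 0x952c012a40e8) (nat_lit 19985) (nat_lit 0xd0151105aa06) (.node .nil (nat_lit 0x960095007b42)
  (nat_lit 34593) (nat_lit 0xc7500110a34c) .nil)) (nat_lit 0x96009501964a) (nat_lit 30416) (nat_lit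
  0xcb004a00cb25) (.node (.node .nil (nat_lit 0x96009501ed08) (nat_lit 30113) (nat_lit 0xc75001082ae4) .nil)
  (nat_lit 0x96009508a722) (nat_lit 11649) (nat_lit 0xc75001108a72) (.node .nil (nat_lit 0x96009508dc60)
  (nat_lit 48848) (nat_lit 0xcb004a046e30) .nil))) (nat_lit 0x960095093168) (nat_lit 50944) (nat_lit
  0xcb004a0498b4) (.node (.node (.node .nil (nat_lit 0x960095094a2a) (nat_lit 28784) (nat_lit 0xcb004a04a515)
  .nil) (nat_lit 0x960095200f68) (nat_lit 32913) (nat_lit 0xc7500118046e) (.node .nil (nat_lit 0x96009520742a)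
  (nat_lit 44129) (nat_lit 0xc7500108a722) .nil)) (nat_lit 0x960095219922) (nat_lit 17793) (nat_lit
  0xc75001008dc6) (.node (.node .nil (nat_lit 0x96009521e260) (nat_lit 12768) (nat_lit 0xcb004a10f130) .nil)
  (nat_lit 0x96009528a84a) (nat_lit 46336) (nat_lit 0xcb004a145425) .nil))) (nat_lit 0x96009528d308) (nat_lit
  36193) (nat_lit 0xc75001182d50) (.node (.node (.node (.node .nil (nat_lit 0x960095293e00) (nat_lit 42737)
  (nat_lit 0xc750011007b4) .nil) (nat_lit 0x960095294542) (nat_lit 23584) (nat_lit 0xcb004a14a2a1) (.node .nil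
  (nat_lit 0x96140a00cb25) (nat_lit 51952) (nat_lit 0x8b0a05349068) .nil)) (nat_lit 0x96140a0149f0) (nat_lit
  19825) (nat_lit 0x8206cc316812) (.node (.node .nil (nat_lit 0x96140a0182d5) (nat_lit 17441) (nat_lit
  0x934888202656) .nil) (nat_lit 0x96140a082ae4) (nat_lit 2833) (nat_lit 0xb0424a032c94) .nil)) (nat_lit
  0x96140a08e1c1) (nat_lit 18113) (nat_lit 0xa10c0e1262d0) (.node (.node (.node .nil (nat_lit 0x96140a096314)
  (nat_lit 43952) (nat_lit 0x8b0a0504b18a) .nil) (nat_lit 0x96140a09a831) (nat_lit 43281) (nat_lit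
  0x90641c230ac2) (.node .nil (nat_lit 0x96140a2060b5) (nat_lit 50833) (nat_lit 0x8366023008dc) .nil))
  (nat_lit 0x96140a20ab90) (nat_lit 42896) (nat_lit 0x8b0a051055c8) (.node (.node .nil (nat_lit
  0x96140a212945) (nat_lit 34352) (nat_lit 0x8b0a05246158) .nil) (nat_lit 0x96140a21e260) (nat_lit 385)
  (nat_lit 0xa34054102e8a) .nil))))) (nat_lit 0x96140a284a51) (nat_lit 28224) (nat_lit 0x8b0a0520d0d2) (.node
  (.node (.node (.node (.node (.node .nil (nat_lit 0x96140a288174) (nat_lit 1777) (nat_lit 0x9104d2226a0c)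
  .nil) (nat_lit 0x96140a2903a1) (nat_lit 34832) (nat_lit 0x8b0a0520742a) (.node .nil (nat_lit 0x96140a29c884)
  (nat_lit 37152) (nat_lit 0x8b0a0514e442) .nil)) (nat_lit 0x97824000149f) (nat_lit 49409) (nat_lit
  0x8bc120202656) (.node (.node .nil (nat_lit 0x97824000293e) (nat_lit 45553) (nat_lit 0x8103662ae410) .nil)
  (nat_lit 0x978240003da1) (nat_lit 1713) (nat_lit 0xa125300ac246) (.node .nil (nat_lit 0x978240084539)
  (nat_lit 39489) (nat_lit 0xa0e1060b0670) .nil))) (nat_lit 0x9782400851a6) (nat_lit 33921) (nat_lit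
  0x80c7502b2026) (.node (.node (.node .nil (nat_lit 0x978240086c07) (nat_lit 10400) (nat_lit 0x8bc1203008dc)
  .nil) (nat_lit 0x978240087898) (nat_lit 58768) (nat_lit 0x8bc120043c4c) (.node .nil (nat_lit 0x97824020498b)
  (nat_lit 19904) (nat_lit 0x8bc120241a1a) .nil)) (nat_lit 0x978240205d14) (nat_lit 31681) (nat_lit
  0x89a444224332) (.node (.node .nil (nat_lit 0x9782402060b5) (nat_lit 46992) (nat_lit 0x8bc120240e85) .nil)
  (nat_lit 0x97824020742a) (nat_lit 18609) (nat_lit 0xa3405408a722) .nil))) (nat_lit 0x978240280cb2) (nat_lit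
  42241) (nat_lit 0xa28462096314) (.node (.node (.node (.node .nil (nat_lit 0x97824028182d) (nat_lit 43201)
  (nat_lit 0x82a234294542) .nil) (nat_lit 0x97824028258c) (nat_lit 52433) (nat_lit 0x886072238704) (.node .nil
  (nat_lit 0x978240283113) (nat_lit 44289) (nat_lit 0xa8462403a152) .nil)) (nat_lit 0x98081b00f684) (nat_lit
  44512) (nat_lit 0xcc040d007b42) (.node (.node .nil (nat_lit 0x98081b026564) (nat_lit 48353) (nat_lit
  0x88d015262d02) .nil) (nat_lit 0x98081b0293e0) (nat_lit 16880) (nat_lit 0xcc040d0149f0) (.node .nil (nat_lit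
  0x98081b0527c0) (nat_lit 18208) (nat_lit 0xcc040d0293e0) .nil))) (nat_lit 0x98081b05d144) (nat_lit 5968)
  (nat_lit 0xcc040d02e8a2) (.node (.node (.node .nil (nat_lit 0x98081b0742a4) (nat_lit 4576) (nat_lit
  0xcc040d03a152) .nil) (nat_lit 0x98081b07b420) (nat_lit 12017) (nat_lit 0x88d015230ac2) (.node .nil (nat_lit
  0x98081b2114e4) (nat_lit 39504) (nat_lit 0xcc040d108a72) .nil)) (nat_lit 0x98081b21e260) (nat_lit 43856)
  (nat_lit 0xcc040d10f130) (.node (.node .nil (nat_lit 0x98081b237180) (nat_lit 35312) (nat_lit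
  0xcc040d11b8c0) .nil) (nat_lit 0x98081b238704) (nat_lit 44368) (nat_lit 0xcc040d11c382) .nil)))) (nat_lit
  0x98081b243324) (nat_lit 7185) (nat_lit 0x88d01515094a) (.node (.node (.node (.node (.node .nil (nat_lit
  0x98081b24c5a0) (nat_lit 30897) (nat_lit 0x88d015160ce0) .nil) (nat_lit 0x98081b265640) (nat_lit 97)
  (nat_lit 0x88d015332448) (.node .nil (nat_lit 0x98081b26a0c4) (nat_lit 38480) (nat_lit 0xcc040d135062)
  .nil)) (nat_lit 0x981c8400e21b) (nat_lit 41360) (nat_lit 0x8c0e423380b0) (.node (.node .nil (nat_lit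
  0x981c84034349) (nat_lit 37857) (nat_lit 0xb48882031135) .nil) (nat_lit 0x981c8403a152) (nat_lit 22816)
  (nat_lit 0x8c0e4201d0a9) (.node .nil (nat_lit 0x981c84056123) (nat_lit 57265) (nat_lit 0xf82402031135)
  .nil))) (nat_lit 0x981c84058338) (nat_lit 51345) (nat_lit 0x8c0e42031135) (.node (.node (.node .nil (nat_lit
  0x981c8406226a) (nat_lit 7761) (nat_lit 0xb0424a031135) .nil) (nat_lit 0x981c8406c071) (nat_lit 31873)
  (nat_lit 0xc4680a031135) (.node .nil (nat_lit 0x981c8421007b) (nat_lit 29889) (nat_lit 0x98ea00031135)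
  .nil)) (nat_lit 0x981c8421e260) (nat_lit 41712) (nat_lit 0x8c0e4210f130) (.node (.node .nil (nat_lit
  0x981c84224332) (nat_lit 28096) (nat_lit 0x8c0e42112199) .nil) (nat_lit 0x981c8422a129) (nat_lit 15297)
  (nat_lit 0xa4a608031135) .nil))) (nat_lit 0x981c84246158) (nat_lit 26321) (nat_lit 0x9c20c8031135) (.node
  (.node (.node (.node .nil (nat_lit 0x981c84248343) (nat_lit 7873) (nat_lit 0xe80a88031135) .nil) (nat_lit
  0x981c84272211) (nat_lit 46912) (nat_lit 0x8c0e422060b5) (.node .nil (nat_lit 0x981c8427c00a) (nat_lit 1600)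
  (nat_lit 0x8c0e4213e005) .nil)) (nat_lit 0x98212501964a) (nat_lit 56448) (nat_lit 0xcc109200cb25) (.node
  (.node .nil (nat_lit 0x982125024c5a) (nat_lit 2272) (nat_lit 0xcc109201262d) .nil) (nat_lit 0x98212503da10)
  (nat_lit 24960) (nat_lit 0xcc109201ed08) .nil)) (nat_lit 0x98212504cac8) (nat_lit 19520) (nat_lit
  0xcc1092026564) (.node (.node (.node .nil (nat_lit 0x982125055c82) (nat_lit 49920) (nat_lit 0xcc109202ae41)
  .nil) (nat_lit 0x982125068692) (nat_lit 9056) (nat_lit 0xcc1092034349) (.node .nil (nat_lit 0x9821250710d8)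
  (nat_lit 8528) (nat_lit 0xcc109203886c) .nil)) (nat_lit 0x98212520d0d2) (nat_lit 24560) (nat_lit
  0xcc1092106869) (.node (.node .nil (nat_lit 0x982125214698) (nat_lit 22865) (nat_lit 0xa2340511c382) .nil)
  (nat_lit 0x982125229c88) (nat_lit 43616) (nat_lit 0xcc1092114e44) .nil))))))
def tT_14 : T := (.node (.node (.node (.node (.node (.node (.node .nil (nat_lit 0x982125241a1a) (nat_lit
  54769) (nat_lit 0xa2340515094a) .nil) (nat_lit 0x982125258c50) (nat_lit 35696) (nat_lit 0xcc109212c628)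
  (.node .nil (nat_lit 0x982125265640) (nat_lit 7488) (nat_lit 0xcc1092132b20) .nil)) (nat_lit 0x98212527c00a)
  (nat_lit 58384) (nat_lit 0xcc109213e005) (.node (.node .nil (nat_lit 0x98914201262d) (nat_lit 50257)
  (nat_lit 0x92a58028182d) .nil) (nat_lit 0x989142020ab9) (nat_lit 49104) (nat_lit 0x8c48a132b202) (.node .nil
  (nat_lit 0x989142032c94) (nat_lit 34144) (nat_lit 0x8c48a101964a) .nil))) (nat_lit 0x989142046e30) (nat_lit
  55345) (nat_lit 0x97824028182d) (.node (.node (.node .nil (nat_lit 0x98914205481d) (nat_lit 6304) (nat_lit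
  0x8c48a1311350) .nil) (nat_lit 0x989142066489) (nat_lit 57665) (nat_lit 0xc585021262d0) (.node .nil (nat_lit
  0x9891420742a4) (nat_lit 38864) (nat_lit 0x8c48a103a152) .nil)) (nat_lit 0x9891422060b5) (nat_lit 44673)
  (nat_lit 0x83660228182d) (.node (.node .nil (nat_lit 0x989142214698) (nat_lit 18304) (nat_lit
  0x8c48a110a34c) .nil) (nat_lit 0x989142226a0c) (nat_lit 60401) (nat_lit 0xd16140068692) .nil))) (nat_lit
  0x989142234c21) (nat_lit 38081) (nat_lit 0x94231228182d) (.node (.node (.node (.node .nil (nat_lit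
  0x989142240e85) (nat_lit 24432) (nat_lit 0x8c48a121b01c) .nil) (nat_lit 0x9891422528a8) (nat_lit 37744)
  (nat_lit 0x8c48a1129454) (.node .nil (nat_lit 0x98914226043c) (nat_lit 47984) (nat_lit 0x8c48a113021e)
  .nil)) (nat_lit 0x989142272211) (nat_lit 43520) (nat_lit 0x8c48a1202656) (.node (.node .nil (nat_lit
  0x98ea0000149f) (nat_lit 50049) (nat_lit 0x8bc12000149f) .nil) (nat_lit 0x98ea000305aa) (nat_lit 31104)
  (nat_lit 0x8c75000182d5) (.node .nil (nat_lit 0x98ea00031135) (nat_lit 17600) (nat_lit 0x8c7500320265)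
  .nil))) (nat_lit 0x98ea000401ed) (nat_lit 38768) (nat_lit 0x8c7500318a09) (.node (.node (.node .nil (nat_lit
  0x98ea00041572) (nat_lit 36048) (nat_lit 0x8c7500020ab9) .nil) (nat_lit 0x98ea00070447) (nat_lit 36880)
  (nat_lit 0x8c75003008dc) (.node .nil (nat_lit 0x98ea000710d8) (nat_lit 42928) (nat_lit 0x8c750003886c)
  .nil)) (nat_lit 0x98ea0021007b) (nat_lit 42288) (nat_lit 0x8c7500230ac2) (.node (.node .nil (nat_lit
  0x98ea002114e4) (nat_lit 49488) (nat_lit 0x8c7500108a72) .nil) (nat_lit 0x98ea002205d1) (nat_lit 51312)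
  (nat_lit 0x8c7500228817) .nil)))) (nat_lit 0x98ea0022114e) (nat_lit 59776) (nat_lit 0x8c75001108a7) (.node
  (.node (.node (.node (.node .nil (nat_lit 0x98ea00250196) (nat_lit 24944) (nat_lit 0x8c75001280cb) .nil)
  (nat_lit 0x98ea00251509) (nat_lit 50977) (nat_lit 0xf0832000149f) (.node .nil (nat_lit 0x98ea0026043c)
  (nat_lit 59169) (nat_lit 0xb9086000149f) .nil)) (nat_lit 0x98ea002610a3) (nat_lit 33185) (nat_lit
  0xcd222000149f) (.node (.node .nil (nat_lit 0x99070800b067) (nat_lit 46784) (nat_lit 0x8c8384332448) .nil)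
  (nat_lit 0x9907080258c5) (nat_lit 42433) (nat_lit 0x870832309185) (.node .nil (nat_lit 0x99070802e8a2)
  (nat_lit 39168) (nat_lit 0x8c8384017451) .nil))) (nat_lit 0x9907080428d3) (nat_lit 26561) (nat_lit
  0xc94c1006226a) (.node (.node (.node .nil (nat_lit 0x9907080498b4) (nat_lit 12592) (nat_lit 0x8c8384024c5a)
  .nil) (nat_lit 0x990708067016) (nat_lit 40016) (nat_lit 0x8c838403380b) (.node .nil (nat_lit 0x99070806c071)
  (nat_lit 43425) (nat_lit 0xc4680a0b0670) .nil)) (nat_lit 0x9907082060b5) (nat_lit 57297) (nat_lit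
  0x836602309185) (.node (.node .nil (nat_lit 0x99070820d0d2) (nat_lit 13984) (nat_lit 0x8c8384106869) .nil)
  (nat_lit 0x990708223870) (nat_lit 29424) (nat_lit 0x8c8384111c38) .nil))) (nat_lit 0x990708228817) (nat_lit
  39953) (nat_lit 0x8e4218309185) (.node (.node (.node (.node .nil (nat_lit 0x990708244866) (nat_lit 32160)
  (nat_lit 0x8c8384122433) .nil) (nat_lit 0x99070824f801) (nat_lit 34401) (nat_lit 0xc0063a0f6840) (.node .nil
  (nat_lit 0x9907082610a3) (nat_lit 39297) (nat_lit 0xcd2220024c5a) .nil)) (nat_lit 0x99070826a0c4) (nat_lit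
  57904) (nat_lit 0x8c8384135062) (.node (.node .nil (nat_lit 0x9a02a2009959) (nat_lit 1664) (nat_lit
  0x8d015132b202) .nil) (nat_lit 0x9a02a2017451) (nat_lit 1504) (nat_lit 0x8d0151324486) (.node .nil (nat_lit
  0x9a02a201ed08) (nat_lit 22785) (nat_lit 0xc24a600d3085) .nil))) (nat_lit 0x9a02a2043c4c) (nat_lit 13152)
  (nat_lit 0x8d0151021e26) (.node (.node (.node .nil (nat_lit 0x9a02a204a515) (nat_lit 45281) (nat_lit
  0xe245080d3085) .nil) (nat_lit 0x9a02a205481d) (nat_lit 47504) (nat_lit 0x8d0151305aa0) (.node .nil (nat_lit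
  0x9a02a205d144) (nat_lit 16720) (nat_lit 0x8d015102e8a2) .nil)) (nat_lit 0x9a02a2205d14) (nat_lit 13328)
  (nat_lit 0x8d0151102e8a) (.node (.node .nil (nat_lit 0x9a02a220c44d) (nat_lit 46160) (nat_lit
  0x8d0151229c88) .nil) (nat_lit 0x9a02a2212945) (nat_lit 35345) (nat_lit 0xb20e100d3085) .nil))))) (nat_lit
  0x9a02a221b01c) (nat_lit 21793) (nat_lit 0xe009520d3085) (.node (.node (.node (.node (.node (.node .nil
  (nat_lit 0x9a02a2246158) (nat_lit 20369) (nat_lit 0x9201780d3085) .nil) (nat_lit 0x9a02a224f801) (nat_lit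
  13873) (nat_lit 0xc0063a0d3085) (.node .nil (nat_lit 0x9a02a2251509) (nat_lit 37472) (nat_lit
  0x8d015120742a) .nil)) (nat_lit 0x9a02a2258c50) (nat_lit 4721) (nat_lit 0xa284620d3085) (.node (.node .nil
  (nat_lit 0x9a444100293e) (nat_lit 33168) (nat_lit 0xcd222000149f) .nil) (nat_lit 0x9a4441011b8c) (nat_lit
  26721) (nat_lit 0x8419073380b0) (.node .nil (nat_lit 0x9a44410132b2) (nat_lit 6465) (nat_lit 0x8419071964a0)
  .nil))) (nat_lit 0x9a44410498b4) (nat_lit 39280) (nat_lit 0xcd2220024c5a) (.node (.node (.node .nil (nat_lit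
  0x9a444104b18a) (nat_lit 3712) (nat_lit 0xcd22200258c5) .nil) (nat_lit 0x9a4441058338) (nat_lit 2592)
  (nat_lit 0xcd222002c19c) (.node .nil (nat_lit 0x9a444105aa06) (nat_lit 22161) (nat_lit 0x84190721e260)
  .nil)) (nat_lit 0x9a44412082ae) (nat_lit 20705) (nat_lit 0x8419070ba288) (.node (.node .nil (nat_lit
  0x9a444120ab90) (nat_lit 10864) (nat_lit 0xcd22201055c8) .nil) (nat_lit 0x9a4441219922) (nat_lit 38289)
  (nat_lit 0x841907382238) .nil))) (nat_lit 0x9a444121b01c) (nat_lit 5889) (nat_lit 0x84190712c628) (.node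
  (.node (.node (.node .nil (nat_lit 0x9a4441241a1a) (nat_lit 18848) (nat_lit 0xcd2220120d0d) .nil) (nat_lit
  0x9a4441243324) (nat_lit 33712) (nat_lit 0xcd2220121992) (.node .nil (nat_lit 0x9a4441250196) (nat_lit
  43569) (nat_lit 0x84190700a4f8) .nil)) (nat_lit 0x9a44412528a8) (nat_lit 26369) (nat_lit 0x8419072a40e8)
  (.node (.node .nil (nat_lit 0x9b30100046e3) (nat_lit 6945) (nat_lit 0x892982145425) .nil) (nat_lit
  0x9b3010008dc6) (nat_lit 36704) (nat_lit 0x8d98080046e3) (.node .nil (nat_lit 0x9b301000cb25) (nat_lit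
  58496) (nat_lit 0x8d9808320265) .nil))) (nat_lit 0x9b30100401ed) (nat_lit 27713) (nat_lit 0xe3a8000803da)
  (.node (.node (.node .nil (nat_lit 0x9b301004470e) (nat_lit 12528) (nat_lit 0x8d9808022387) .nil) (nat_lit
  0x9b3010048c2b) (nat_lit 39424) (nat_lit 0x8d98083021e2) (.node .nil (nat_lit 0x9b301004cac8) (nat_lit
  40384) (nat_lit 0x8d9808026564) .nil)) (nat_lit 0x9b3010200f68) (nat_lit 46353) (nat_lit 0xcb004a145425)
  (.node (.node .nil (nat_lit 0x9b301020498b) (nat_lit 40001) (nat_lit 0xa98212145425) .nil) (nat_lit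
  0x9b30102082ae) (nat_lit 52960) (nat_lit 0x8d9808104157) .nil)))) (nat_lit 0x9b301020c44d) (nat_lit 26801)
  (nat_lit 0x828b0a145425) (.node (.node (.node (.node (.node .nil (nat_lit 0x9b3010240e85) (nat_lit 57985)
  (nat_lit 0xc30390145425) .nil) (nat_lit 0x9b3010244866) (nat_lit 48305) (nat_lit 0xa181c8145425) (.node .nil
  (nat_lit 0x9b3010248343) (nat_lit 39345) (nat_lit 0xe80a8803a152) .nil)) (nat_lit 0x9b301024c5a0) (nat_lit
  36001) (nat_lit 0x8a88d0145425) (.node (.node .nil (nat_lit 0x9c20c800cb25) (nat_lit 35040) (nat_lit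
  0x8e1064318a09) .nil) (nat_lit 0x9c20c8010f13) (nat_lit 11041) (nat_lit 0xb8419006226a) (.node .nil (nat_lit
  0x9c20c801c436) (nat_lit 33841) (nat_lit 0xa402f01a610a) .nil))) (nat_lit 0x9c20c8021e26) (nat_lit 26912)
  (nat_lit 0x8e1064010f13) (.node (.node (.node .nil (nat_lit 0x9c20c802d503) (nat_lit 2769) (nat_lit
  0xac012a1262d0) .nil) (nat_lit 0x9c20c8031135) (nat_lit 15104) (nat_lit 0x8e1064306701) (.node .nil (nat_lit
  0x9c20c803da10) (nat_lit 12656) (nat_lit 0x8e106401ed08) .nil)) (nat_lit 0x9c20c8205d14) (nat_lit 1105)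
  (nat_lit 0x9c20c8224332) (.node (.node .nil (nat_lit 0x9c20c8209631) (nat_lit 39456) (nat_lit
  0x8e106421a483) .nil) (nat_lit 0x9c20c8215207) (nat_lit 33857) (nat_lit 0x9a02a2246158) .nil))) (nat_lit
  0x9c20c8219922) (nat_lit 25233) (nat_lit 0x8641c2382238) (.node (.node (.node (.node .nil (nat_lit
  0x9c20c8224332) (nat_lit 545) (nat_lit 0x9201782c6282) .nil) (nat_lit 0x9c20c8228817) (nat_lit 11905)
  (nat_lit 0x8e42183021e2) (.node .nil (nat_lit 0x9c20c8234c21) (nat_lit 49969) (nat_lit 0x9423122a40e8)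
  .nil)) (nat_lit 0x9c20c8238704) (nat_lit 7713) (nat_lit 0x886072360388) (.node (.node .nil (nat_lit
  0x9c8430007b42) (nat_lit 54929) (nat_lit 0x978240280cb2) .nil) (nat_lit 0x9c8430011b8c) (nat_lit 41377)
  (nat_lit 0x8c0e423380b0) .nil)) (nat_lit 0x9c84300160ce) (nat_lit 7105) (nat_lit 0xa402f01b8c02) (.node
  (.node (.node .nil (nat_lit 0x9c8430022387) (nat_lit 59649) (nat_lit 0xaf0480108a72) .nil) (nat_lit
  0x9c84300258c5) (nat_lit 39936) (nat_lit 0x8e4218309185) (.node .nil (nat_lit 0x9c843003380b) (nat_lit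
  11888) (nat_lit 0x8e42183021e2) .nil)) (nat_lit 0x9c8430034349) (nat_lit 9905) (nat_lit 0xb488820b0670)
  (.node (.node .nil (nat_lit 0x9c84302032c9) (nat_lit 30032) (nat_lit 0x8e421821a483) .nil) (nat_lit
  0x9c843020498b) (nat_lit 44209) (nat_lit 0xa98212160ce0) .nil))))))
def tT_15 : T := (.node (.node (.node (.node (.node (.node (.node .nil (nat_lit 0x9c8430215207) (nat_lit 9153)
  (nat_lit 0x9a02a2258c50) .nil) (nat_lit 0x9c843022114e) (nat_lit 3648) (nat_lit 0x8e42181108a7) (.node .nil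
  (nat_lit 0x9c8430226a0c) (nat_lit 16129) (nat_lit 0xb90860068692) .nil)) (nat_lit 0x9c8430230ac2) (nat_lit
  17328) (nat_lit 0x8e4218118561) (.node (.node .nil (nat_lit 0x9c8430237180) (nat_lit 37200) (nat_lit
  0x8e421811b8c0) .nil) (nat_lit 0x9d4006003da1) (nat_lit 26353) (nat_lit 0xa1253004cac8) (.node .nil (nat_lit
  0x9d4006009959) (nat_lit 8896) (nat_lit 0x8ea003311350) .nil))) (nat_lit 0x9d400600a4f8) (nat_lit 11504)
  (nat_lit 0x8ea00300527c) (.node (.node (.node .nil (nat_lit 0x9d4006020ab9) (nat_lit 49361) (nat_lit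
  0x85e090200f68) .nil) (nat_lit 0x9d4006023718) (nat_lit 30144) (nat_lit 0x8ea003011b8c) (.node .nil (nat_lit
  0x9d40060293e0) (nat_lit 30768) (nat_lit 0x8ea0030149f0) .nil)) (nat_lit 0x9d400602ae41) (nat_lit 34673)
  (nat_lit 0x840d9821e260) (.node (.node .nil (nat_lit 0x9d4006200f68) (nat_lit 53040) (nat_lit
  0x8ea0031007b4) .nil) (nat_lit 0x9d40062032c9) (nat_lit 35777) (nat_lit 0x818ea0246158) .nil))) (nat_lit
  0x9d4006209631) (nat_lit 21088) (nat_lit 0x8ea0032114e4) (.node (.node (.node (.node .nil (nat_lit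
  0x9d400620ab90) (nat_lit 35825) (nat_lit 0x84a960214698) .nil) (nat_lit 0x9d40062205d1) (nat_lit 22753)
  (nat_lit 0xa54b0000a4f8) (.node .nil (nat_lit 0x9d4006223870) (nat_lit 19233) (nat_lit 0xa181c8046e30)
  .nil)) (nat_lit 0x9d4006229c88) (nat_lit 17281) (nat_lit 0xa06cc0058338) (.node (.node .nil (nat_lit
  0x9d400622a129) (nat_lit 24513) (nat_lit 0xa4a6080149f0) .nil) (nat_lit 0xa0031d02e8a2) (nat_lit 49729)
  (nat_lit 0xa2c2810d241a) (.node .nil (nat_lit 0xa0031d055c82) (nat_lit 4881) (nat_lit 0xa2c281043c4c)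
  .nil))) (nat_lit 0xa0031d07b420) (nat_lit 11457) (nat_lit 0xa2c281091856) (.node (.node (.node .nil (nat_lit
  0xa0031d08dc60) (nat_lit 56129) (nat_lit 0xa2c28100293e) .nil) (nat_lit 0xa0031d0a34c2) (nat_lit 47792)
  (nat_lit 0xd0018e051a61) (.node .nil (nat_lit 0xa0031d0d80e2) (nat_lit 16305) (nat_lit 0xa2c281041572)
  .nil)) (nat_lit 0xa0031d0f6840) (nat_lit 47537) (nat_lit 0xa2c281093168) (.node (.node .nil (nat_lit
  0xa0031d11b8c0) (nat_lit 9969) (nat_lit 0xa2c281111c38) .nil) (nat_lit 0xa0031d135062) (nat_lit 48944)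
  (nat_lit 0xd0018e09a831) .nil)))) (nat_lit 0xa0031d14e442) (nat_lit 40369) (nat_lit 0xa2c281152074) (.node
  (.node (.node (.node (.node .nil (nat_lit 0xa0031d160ce0) (nat_lit 60545) (nat_lit 0xa2c28118046e) .nil)
  (nat_lit 0xa0031d1964a0) (nat_lit 58193) (nat_lit 0xa2c281113506) (.node .nil (nat_lit 0xa0031d1b8c02)
  (nat_lit 17025) (nat_lit 0xa2c2811c111c) .nil)) (nat_lit 0xa0031d1c3822) (nat_lit 8849) (nat_lit
  0xa2c28115094a) (.node (.node .nil (nat_lit 0xa0031d1ed080) (nat_lit 25121) (nat_lit 0xa2c281182d50) .nil)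
  (nat_lit 0xa0178203886c) (nat_lit 23936) (nat_lit 0x900bc101c436) (.node .nil (nat_lit 0xa0178205481d)
  (nat_lit 47153) (nat_lit 0xd2c012043c4c) .nil))) (nat_lit 0xa0178206c071) (nat_lit 16160) (nat_lit
  0x900bc12c9406) (.node (.node (.node .nil (nat_lit 0xa0178209a831) (nat_lit 30561) (nat_lit 0x90641c2903a1)
  .nil) (nat_lit 0xa017820a205d) (nat_lit 10336) (nat_lit 0x900bc12ae410) (.node .nil (nat_lit 0xa017820ce02c)
  (nat_lit 44240) (nat_lit 0x900bc1067016) .nil)) (nat_lit 0xa017820f6840) (nat_lit 42192) (nat_lit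
  0x900bc107b420) (.node (.node .nil (nat_lit 0xa01782106869) (nat_lit 1968) (nat_lit 0x900bc127c00a) .nil)
  (nat_lit 0xa0178213e005) (nat_lit 35360) (nat_lit 0x900bc126043c) .nil))) (nat_lit 0xa01782152074) (nat_lit
  33312) (nat_lit 0x900bc10a903a) (.node (.node (.node (.node .nil (nat_lit 0xa0178216a818) (nat_lit 2225)
  (nat_lit 0x9228462903a1) .nil) (nat_lit 0xa0178219c058) (nat_lit 4128) (nat_lit 0x900bc10ce02c) (.node .nil
  (nat_lit 0xa017821a4834) (nat_lit 57584) (nat_lit 0x900bc10d241a) .nil)) (nat_lit 0xa017821c8845) (nat_lit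
  48960) (nat_lit 0x900bc121b01c) (.node (.node .nil (nat_lit 0xa017821f0029) (nat_lit 23232) (nat_lit
  0x900bc120742a) .nil) (nat_lit 0xa02a2302c19c) (nat_lit 59969) (nat_lit 0x88269127c00a) .nil)) (nat_lit
  0xa02a2305d144) (nat_lit 48512) (nat_lit 0xd0151102e8a2) (.node (.node (.node .nil (nat_lit 0xa02a230710d8)
  (nat_lit 43888) (nat_lit 0xd0151103886c) .nil) (nat_lit 0xa02a23099590) (nat_lit 5264) (nat_lit
  0xd0151104cac8) (.node .nil (nat_lit 0xa02a230b540c) (nat_lit 13281) (nat_lit 0x882691168126) .nil))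
  (nat_lit 0xa02a230c44d4) (nat_lit 14768) (nat_lit 0xd0151106226a) (.node (.node .nil (nat_lit
  0xa02a230e8548) (nat_lit 12881) (nat_lit 0x882691135062) .nil) (nat_lit 0xa02a231055c8) (nat_lit 31968)
  (nat_lit 0xd01511082ae4) .nil))))) (nat_lit 0xa02a23129454) (nat_lit 31728) (nat_lit 0xd01511094a2a) (.node
  (.node (.node (.node (.node (.node .nil (nat_lit 0xa02a2315848c) (nat_lit 26833) (nat_lit 0x882691244866)
  .nil) (nat_lit 0xa02a23174510) (nat_lit 15312) (nat_lit 0xd015110ba288) (.node .nil (nat_lit 0xa02a2319c058)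
  (nat_lit 20496) (nat_lit 0xd015110ce02c) .nil)) (nat_lit 0xa02a231b01c4) (nat_lit 45601) (nat_lit
  0x882691371804) (.node (.node .nil (nat_lit 0xa02a231c111c) (nat_lit 31552) (nat_lit 0xd015110e088e) .nil)
  (nat_lit 0xa02a231ed080) (nat_lit 7888) (nat_lit 0xd015110f6840) (.node .nil (nat_lit 0xa05161032c94)
  (nat_lit 26593) (nat_lit 0xa02a23174510) .nil))) (nat_lit 0xa0516105aa06) (nat_lit 58145) (nat_lit
  0xa02a2305d144) (.node (.node (.node .nil (nat_lit 0xa05161068692) (nat_lit 46577) (nat_lit 0xa02a23129454)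
  .nil) (nat_lit 0xa05161088e1c) (nat_lit 52032) (nat_lit 0xd028b004470e) (.node .nil (nat_lit 0xa051610ba288)
  (nat_lit 41697) (nat_lit 0xa02a2315848c) .nil)) (nat_lit 0xa051610d241a) (nat_lit 54432) (nat_lit
  0xd028b006920d) (.node (.node .nil (nat_lit 0xa051610e088e) (nat_lit 22368) (nat_lit 0xd028b0070447) .nil)
  (nat_lit 0xa05161102e8a) (nat_lit 10225) (nat_lit 0xa02a23099590) .nil))) (nat_lit 0xa0516113021e) (nat_lit
  14849) (nat_lit 0xa02a231ed080) (.node (.node (.node (.node .nil (nat_lit 0xa0516115848c) (nat_lit 15680)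
  (nat_lit 0xd028b00ac246) .nil) (nat_lit 0xa0516116a818) (nat_lit 48544) (nat_lit 0xd028b00b540c) (.node .nil
  (nat_lit 0xa0516118a096) (nat_lit 23697) (nat_lit 0xa02a230b540c) .nil)) (nat_lit 0xa051611b8c02) (nat_lit
  46433) (nat_lit 0xa02a231c111c) (.node (.node .nil (nat_lit 0xa051611d0a90) (nat_lit 5840) (nat_lit
  0xd028b00e8548) .nil) (nat_lit 0xa051611e2604) (nat_lit 34033) (nat_lit 0xa02a2319c058) (.node .nil (nat_lit
  0xa06cc0031135) (nat_lit 56560) (nat_lit 0x9036602e4105) .nil))) (nat_lit 0xa06cc0058338) (nat_lit 9296)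
  (nat_lit 0x90366002c19c) (.node (.node (.node .nil (nat_lit 0xa06cc006920d) (nat_lit 10752) (nat_lit
  0x9036602c8099) .nil) (nat_lit 0xa06cc009810f) (nat_lit 47025) (nat_lit 0xba800c010f13) (.node .nil (nat_lit
  0xa06cc00a903a) (nat_lit 12817) (nat_lit 0xf210c0010f13) .nil)) (nat_lit 0xa06cc00c0237) (nat_lit 8385)
  (nat_lit 0xca6084010f13) (.node (.node .nil (nat_lit 0xa06cc00f1302) (nat_lit 52192) (nat_lit
  0x903660078981) .nil) (nat_lit 0xa06cc010132b) (nat_lit 1265) (nat_lit 0xa8b0a0010f13) .nil)))) (nat_lit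
  0xa06cc013021e) (nat_lit 43473) (nat_lit 0xe0206c010f13) (.node (.node (.node (.node (.node .nil (nat_lit
  0xa06cc0159013) (nat_lit 40305) (nat_lit 0xd85028010f13) .nil) (nat_lit 0xa06cc0168126) (nat_lit 4273)
  (nat_lit 0x90c0e4010f13) (.node .nil (nat_lit 0xa06cc0199224) (nat_lit 6608) (nat_lit 0x9036600cc912) .nil))
  (nat_lit 0xa06cc01a8311) (nat_lit 57472) (nat_lit 0x903660228817) (.node (.node .nil (nat_lit
  0xa06cc01c111c) (nat_lit 20129) (nat_lit 0x9c20c8010f13) .nil) (nat_lit 0xa06cc01f0029) (nat_lit 19329)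
  (nat_lit 0xd4b004010f13) (.node .nil (nat_lit 0xa09a440305aa) (nat_lit 20320) (nat_lit 0x904d220182d5)
  .nil))) (nat_lit 0xa09a44056123) (nat_lit 23648) (nat_lit 0x904d222d024c) (.node (.node (.node .nil (nat_lit
  0xa09a44066489) (nat_lit 50800) (nat_lit 0x904d222c8099) .nil) (nat_lit 0xa09a44084539) (nat_lit 32545)
  (nat_lit 0xa0e106020ab9) (.node .nil (nat_lit 0xa09a440b4093) (nat_lit 58417) (nat_lit 0x9d4006020ab9)
  .nil)) (nat_lit 0xa09a440d241a) (nat_lit 46176) (nat_lit 0x904d2206920d) (.node (.node .nil (nat_lit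
  0xa09a440e21b0) (nat_lit 58272) (nat_lit 0x904d220710d8) .nil) (nat_lit 0xa09a44112199) (nat_lit 41680)
  (nat_lit 0x904d22272211) .nil))) (nat_lit 0xa09a44122433) (nat_lit 23040) (nat_lit 0x904d2226a0c4) (.node
  (.node (.node (.node .nil (nat_lit 0xa09a441440ba) (nat_lit 10449) (nat_lit 0xb40544020ab9) .nil) (nat_lit
  0xa09a44174510) (nat_lit 6544) (nat_lit 0x904d220ba288) (.node .nil (nat_lit 0xa09a441964a0) (nat_lit 7745)
  (nat_lit 0xecc040020ab9) .nil)) (nat_lit 0xa09a441a610a) (nat_lit 8753) (nat_lit 0xd16140020ab9) (.node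
  (.node .nil (nat_lit 0xa09a441c0583) (nat_lit 53857) (nat_lit 0xe91104020ab9) .nil) (nat_lit 0xa09a441f0029)
  (nat_lit 31217) (nat_lit 0xd4b004020ab9) .nil)) (nat_lit 0xa0c838022387) (nat_lit 24032) (nat_lit
  0x90641c2e8a20) (.node (.node (.node .nil (nat_lit 0xa0c8380527c0) (nat_lit 60033) (nat_lit 0x8e106400e21b)
  .nil) (nat_lit 0xa0c838070447) (nat_lit 10560) (nat_lit 0x90641c2c19c0) (.node .nil (nat_lit 0xa0c838081745)
  (nat_lit 20657) (nat_lit 0xa209a400e21b) .nil)) (nat_lit 0xa0c8380a34c2) (nat_lit 27649) (nat_lit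
  0xf210c000e21b) (.node (.node .nil (nat_lit 0xa0c8380d3085) (nat_lit 30544) (nat_lit 0x90641c2903a1) .nil)
  (nat_lit 0xa0c8380f1302) (nat_lit 47761) (nat_lit 0x831d4000e21b) .nil))))))
def tT_16 : T := (.node (.node (.node (.node (.node (.node (.node .nil (nat_lit 0xa0c838131681) (nat_lit
  47840) (nat_lit 0x90641c2610a3) .nil) (nat_lit 0xa0c8381412c6) (nat_lit 12976) (nat_lit 0x90641c0a0963)
  (.node .nil (nat_lit 0xa0c838163141) (nat_lit 20000) (nat_lit 0x90641c248343) .nil)) (nat_lit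
  0xa0c838192243) (nat_lit 43264) (nat_lit 0x90641c230ac2) (.node (.node .nil (nat_lit 0xa0c8381b01c4)
  (nat_lit 13457) (nat_lit 0xc805e000e21b) .nil) (nat_lit 0xa0c8381c0583) (nat_lit 13408) (nat_lit
  0x90641c219922) (.node .nil (nat_lit 0xa0c8381e2604) (nat_lit 44465) (nat_lit 0xb9086000e21b) .nil)))
  (nat_lit 0xa0e106020ab9) (nat_lit 19488) (nat_lit 0x9070832e8a20) (.node (.node (.node .nil (nat_lit
  0xa0e106051a61) (nat_lit 42480) (nat_lit 0x9070832d024c) .nil) (nat_lit 0xa0e1060710d8) (nat_lit 52864)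
  (nat_lit 0x90708303886c) (.node .nil (nat_lit 0xa0e106090cc9) (nat_lit 30240) (nat_lit 0x9070832b0918)
  .nil)) (nat_lit 0xa0e1060b0670) (nat_lit 24801) (nat_lit 0xc19070146984) (.node (.node .nil (nat_lit
  0xa0e1060c16a8) (nat_lit 54096) (nat_lit 0x907083060b54) .nil) (nat_lit 0xa0e1060e1c11) (nat_lit 2240)
  (nat_lit 0x907083288174) .nil))) (nat_lit 0xa0e106111c38) (nat_lit 56256) (nat_lit 0x907083088e1c) (.node
  (.node (.node (.node .nil (nat_lit 0xa0e106131681) (nat_lit 22625) (nat_lit 0x9511a02a060b) .nil) (nat_lit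
  0xa0e106140659) (nat_lit 37297) (nat_lit 0xc0d980152074) (.node .nil (nat_lit 0xa0e106160ce0) (nat_lit 7456)
  (nat_lit 0x9070830b0670) .nil)) (nat_lit 0xa0e1061810f1) (nat_lit 16256) (nat_lit 0x907083238704) (.node
  (.node .nil (nat_lit 0xa0e1061a1a48) (nat_lit 39760) (nat_lit 0x9070830d0d24) .nil) (nat_lit 0xa0e1061d0a90)
  (nat_lit 56944) (nat_lit 0x9070830e8548) (.node .nil (nat_lit 0xa0e1061f0029) (nat_lit 53905) (nat_lit
  0xd4b0040149f0) .nil))) (nat_lit 0xa10c0e0293e0) (nat_lit 24929) (nat_lit 0xc054461a8311) (.node (.node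
  (.node .nil (nat_lit 0xa10c0e045391) (nat_lit 14033) (nat_lit 0xe140a2043c4c) .nil) (nat_lit 0xa10c0e06c071)
  (nat_lit 41328) (nat_lit 0x9086072c19c0) (.node .nil (nat_lit 0xa10c0e08e1c1) (nat_lit 15825) (nat_lit
  0xa10c0e1a8311) .nil)) (nat_lit 0xa10c0e0a7221) (nat_lit 23888) (nat_lit 0x9086072a40e8) (.node (.node .nil
  (nat_lit 0xa10c0e0cb250) (nat_lit 42865) (nat_lit 0xa530421a8311) .nil) (nat_lit 0xa10c0e0e21b0) (nat_lit
  8481) (nat_lit 0x8018ea1a8311) .nil)))) (nat_lit 0xa10c0e10f130) (nat_lit 9281) (nat_lit 0xc508c41a8311)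
  (.node (.node (.node (.node (.node .nil (nat_lit 0xa10c0e1262d0) (nat_lit 9792) (nat_lit 0x908607093168)
  .nil) (nat_lit 0xa10c0e14a2a1) (nat_lit 51473) (nat_lit 0xc134881a8311) (.node .nil (nat_lit 0xa10c0e163141)
  (nat_lit 58017) (nat_lit 0xe41c200160ce) .nil)) (nat_lit 0xa10c0e1810f1) (nat_lit 29312) (nat_lit
  0x908607237180) (.node (.node .nil (nat_lit 0xa10c0e1a8311) (nat_lit 8449) (nat_lit 0xa4508c1a8311) .nil)
  (nat_lit 0xa10c0e1c4360) (nat_lit 58065) (nat_lit 0x8544681a8311) (.node .nil (nat_lit 0xa10c0e1ed080)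
  (nat_lit 38096) (nat_lit 0x9086070f6840) .nil))) (nat_lit 0xa11891026564) (nat_lit 57761) (nat_lit
  0x914231262d02) (.node (.node (.node .nil (nat_lit 0xa1189104470e) (nat_lit 52240) (nat_lit 0xd08c48022387)
  .nil) (nat_lit 0xa1189106226a) (nat_lit 32577) (nat_lit 0x91423122114e) (.node .nil (nat_lit 0xa1189108a722)
  (nat_lit 11120) (nat_lit 0xd08c48045391) .nil)) (nat_lit 0xa118910ac246) (nat_lit 15745) (nat_lit
  0x9142310e088e) (.node (.node .nil (nat_lit 0xa118910ce02c) (nat_lit 60481) (nat_lit 0x9142312c19c0) .nil)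
  (nat_lit 0xa118910e8548) (nat_lit 53201) (nat_lit 0x9142310a34c2) .nil))) (nat_lit 0xa1189110a34c) (nat_lit
  17153) (nat_lit 0x914231229c88) (.node (.node (.node (.node .nil (nat_lit 0xa1189112c628) (nat_lit 27233)
  (nat_lit 0x91423104b18a) .nil) (nat_lit 0xa1189114e442) (nat_lit 4465) (nat_lit 0x91423126a0c4) (.node .nil
  (nat_lit 0xa11891168126) (nat_lit 28416) (nat_lit 0xd08c480b4093) .nil)) (nat_lit 0xa1189118046e) (nat_lit
  29921) (nat_lit 0x9142310ab904) (.node (.node .nil (nat_lit 0xa118911a610a) (nat_lit 25057) (nat_lit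
  0x9142312c9406) .nil) (nat_lit 0xa118911c4360) (nat_lit 6416) (nat_lit 0xd08c480e21b0) (.node .nil (nat_lit
  0xa118911e2604) (nat_lit 29968) (nat_lit 0xd08c480f1302) .nil))) (nat_lit 0xa125300258c5) (nat_lit 52401)
  (nat_lit 0x870832306701) (.node (.node (.node .nil (nat_lit 0xa1253004cac8) (nat_lit 15121) (nat_lit
  0x8e1064306701) .nil) (nat_lit 0xa1253006920d) (nat_lit 39809) (nat_lit 0xc680a8091856) (.node .nil (nat_lit
  0xa12530089a83) (nat_lit 11201) (nat_lit 0x8900bc306701) .nil)) (nat_lit 0xa125300ac246) (nat_lit 848)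
  (nat_lit 0x909298056123) (.node (.node .nil (nat_lit 0xa125300c504b) (nat_lit 28464) (nat_lit
  0x909298294542) .nil) (nat_lit 0xa125300e088e) (nat_lit 42784) (nat_lit 0x909298070447) .nil))))) (nat_lit
  0xa1253010d80e) (nat_lit 19024) (nat_lit 0x909298086c07) (.node (.node (.node (.node (.node (.node .nil
  (nat_lit 0xa125301280cb) (nat_lit 26176) (nat_lit 0x909298262d02) .nil) (nat_lit 0xa125301412c6) (nat_lit
  39025) (nat_lit 0x84805e306701) (.node .nil (nat_lit 0xa12530164a03) (nat_lit 8545) (nat_lit 0xcc109203886c)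
  .nil)) (nat_lit 0xa1253018428d) (nat_lit 33072) (nat_lit 0x909298234c21) (.node (.node .nil (nat_lit
  0xa125301a1a48) (nat_lit 37056) (nat_lit 0x9092980d0d24) .nil) (nat_lit 0xa125301c8845) (nat_lit 31344)
  (nat_lit 0x909298212945) (.node .nil (nat_lit 0xa125301ed080) (nat_lit 24128) (nat_lit 0x9092980f6840)
  .nil))) (nat_lit 0xa181c8021e26) (nat_lit 4256) (nat_lit 0x90c0e4010f13) (.node (.node (.node .nil (nat_lit
  0xa181c8046e30) (nat_lit 10496) (nat_lit 0x90c0e4023718) .nil) (nat_lit 0xa181c8067016) (nat_lit 14512)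
  (nat_lit 0x90c0e403380b) (.node .nil (nat_lit 0xa181c8086c07) (nat_lit 48976) (nat_lit 0x90c0e42b0918)
  .nil)) (nat_lit 0xa181c80a7221) (nat_lit 8945) (nat_lit 0x8424a6318a09) (.node (.node .nil (nat_lit
  0xa181c80c0237) (nat_lit 46752) (nat_lit 0x90c0e4293e00) .nil) (nat_lit 0xa181c80e1c11) (nat_lit 51169)
  (nat_lit 0xc441340a34c2) .nil))) (nat_lit 0xa181c8103a15) (nat_lit 1745) (nat_lit 0x8254b0318a09) (.node
  (.node (.node (.node .nil (nat_lit 0xa181c8122433) (nat_lit 25440) (nat_lit 0x90c0e4262d02) .nil) (nat_lit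
  0xa181c8145425) (nat_lit 33424) (nat_lit 0x90c0e4251509) (.node .nil (nat_lit 0xa181c8164a03) (nat_lit
  14656) (nat_lit 0x90c0e4241a1a) .nil)) (nat_lit 0xa181c8185612) (nat_lit 37681) (nat_lit 0xc624500851a6)
  (.node (.node .nil (nat_lit 0xa181c81a4834) (nat_lit 2113) (nat_lit 0xc805e0067016) .nil) (nat_lit
  0xa181c81c3822) (nat_lit 46513) (nat_lit 0x8641c2318a09) (.node .nil (nat_lit 0xa181c81e2604) (nat_lit
  31809) (nat_lit 0x886072318a09) .nil))) (nat_lit 0xa209a400e21b) (nat_lit 11361) (nat_lit 0x88c48a272211)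
  (.node (.node (.node .nil (nat_lit 0xa209a4017451) (nat_lit 34992) (nat_lit 0x9104d22e4105) .nil) (nat_lit
  0xa209a401964a) (nat_lit 35904) (nat_lit 0x9104d200cb25) (.node .nil (nat_lit 0xa209a40c504b) (nat_lit
  49120) (nat_lit 0x9104d228d308) .nil)) (nat_lit 0xa209a40cb250) (nat_lit 52704) (nat_lit 0x9104d2065928)
  (.node (.node .nil (nat_lit 0xa209a40d241a) (nat_lit 28032) (nat_lit 0x9104d206920d) .nil) (nat_lit
  0xa209a40dc601) (nat_lit 58864) (nat_lit 0x9104d228182d) .nil)))) (nat_lit 0xa209a4140659) (nat_lit 27137)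
  (nat_lit 0xc0d98018046e) (.node (.node (.node (.node (.node .nil (nat_lit 0xa209a414e442) (nat_lit 26481)
  (nat_lit 0x90c0e4272211) .nil) (nat_lit 0xa209a4157208) (nat_lit 54032) (nat_lit 0x9104d20ab904) (.node .nil
  (nat_lit 0xa209a4159013) (nat_lit 51712) (nat_lit 0x9104d2243324) .nil)) (nat_lit 0xa209a4185612) (nat_lit
  1824) (nat_lit 0x9104d20c2b09) (.node (.node .nil (nat_lit 0xa209a418b409) (nat_lit 37377) (nat_lit
  0x80952c272211) .nil) (nat_lit 0xa209a4192243) (nat_lit 1760) (nat_lit 0x9104d2226a0c) (.node .nil (nat_lit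
  0xa209a419c058) (nat_lit 20064) (nat_lit 0x9104d20ce02c) .nil))) (nat_lit 0xa2209a00cb25) (nat_lit 56177)
  (nat_lit 0xa2209a0dc601) (.node (.node (.node .nil (nat_lit 0xa2209a051a61) (nat_lit 26000) (nat_lit
  0x91104d2c6282) .nil) (nat_lit 0xa2209a05d144) (nat_lit 43696) (nat_lit 0x91104d02e8a2) (.node .nil (nat_lit
  0xa2209a081745) (nat_lit 51408) (nat_lit 0x91104d2ae410) .nil)) (nat_lit 0xa2209a08dc60) (nat_lit 50544)
  (nat_lit 0x91104d046e30) (.node (.node .nil (nat_lit 0xa2209a0d0d24) (nat_lit 52736) (nat_lit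
  0x91104d068692) .nil) (nat_lit 0xa2209a0dc601) (nat_lit 44593) (nat_lit 0xd0018e0dc601) .nil))) (nat_lit
  0xa2209a114e44) (nat_lit 41185) (nat_lit 0xe0206c0dc601) (.node (.node (.node (.node .nil (nat_lit
  0xa2209a118561) (nat_lit 56321) (nat_lit 0xb039080dc601) .nil) (nat_lit 0xa2209a145425) (nat_lit 54352)
  (nat_lit 0x91104d24c5a0) (.node .nil (nat_lit 0xa2209a149f00) (nat_lit 55297) (nat_lit 0x9228460dc601)
  .nil)) (nat_lit 0xa2209a195901) (nat_lit 37920) (nat_lit 0x91104d224332) (.node (.node .nil (nat_lit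
  0xa2209a199224) (nat_lit 46945) (nat_lit 0xe009520dc601) .nil) (nat_lit 0xa2209a1c4360) (nat_lit 46640)
  (nat_lit 0x91104d0e21b0) .nil)) (nat_lit 0xa2209a1c8845) (nat_lit 9696) (nat_lit 0x91104d20ab90) (.node
  (.node (.node .nil (nat_lit 0xa234050149f0) (nat_lit 57409) (nat_lit 0x860721316812) .nil) (nat_lit
  0xa2340504cac8) (nat_lit 37265) (nat_lit 0x860721387044) (.node .nil (nat_lit 0xa23405058338) (nat_lit
  55824) (nat_lit 0xd11a0202c19c) .nil)) (nat_lit 0xa234050803da) (nat_lit 43441) (nat_lit 0x86072129c884)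
  (.node (.node .nil (nat_lit 0xa23405094a2a) (nat_lit 41520) (nat_lit 0xd11a0204a515) .nil) (nat_lit
  0xa234050cc912) (nat_lit 46977) (nat_lit 0x86072111b8c0) .nil))))))
def tT_17 : T := (.node (.node (.node (.node (.node (.node (.node .nil (nat_lit 0xa23405108a72) (nat_lit
  26865) (nat_lit 0x860721087898) .nil) (nat_lit 0xa2340511c382) (nat_lit 12753) (nat_lit 0x86072139108a)
  (.node .nil (nat_lit 0xa234051440ba) (nat_lit 29776) (nat_lit 0xd11a020a205d) .nil)) (nat_lit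
  0xa2340515094a) (nat_lit 42001) (nat_lit 0x8607210160ce) (.node (.node .nil (nat_lit 0xa234051889a8)
  (nat_lit 60625) (nat_lit 0x86072121b01c) .nil) (nat_lit 0xa2340519c058) (nat_lit 15217) (nat_lit
  0x86072110d80e) (.node .nil (nat_lit 0xa234051c4360) (nat_lit 26449) (nat_lit 0x86072119c058) .nil)))
  (nat_lit 0xa234051d0a90) (nat_lit 14465) (nat_lit 0x86072128a84a) (.node (.node (.node .nil (nat_lit
  0xa28462011b8c) (nat_lit 36224) (nat_lit 0x914231008dc6) .nil) (nat_lit 0xa28462045391) (nat_lit 10705)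
  (nat_lit 0xe140a20c2b09) (.node .nil (nat_lit 0xa2846205481d) (nat_lit 60464) (nat_lit 0x9142312c19c0)
  .nil)) (nat_lit 0xa28462087898) (nat_lit 55024) (nat_lit 0x914231043c4c) (.node (.node .nil (nat_lit
  0xa28462096314) (nat_lit 27216) (nat_lit 0x91423104b18a) .nil) (nat_lit 0xa284620c2b09) (nat_lit 35505)
  (nat_lit 0xe084940c2b09) .nil))) (nat_lit 0xa284620d3085) (nat_lit 2385) (nat_lit 0xd304240c2b09) (.node
  (.node (.node (.node .nil (nat_lit 0xa28462103a15) (nat_lit 4448) (nat_lit 0x91423126a0c4) .nil) (nat_lit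
  0xa28462112199) (nat_lit 57744) (nat_lit 0x914231262d02) (.node .nil (nat_lit 0xa28462146984) (nat_lit
  45761) (nat_lit 0x90c0e40c2b09) .nil)) (nat_lit 0xa28462157208) (nat_lit 27777) (nat_lit 0xa340540c2b09)
  (.node (.node .nil (nat_lit 0xa2846218428d) (nat_lit 17136) (nat_lit 0x914231229c88) .nil) (nat_lit
  0xa28462195901) (nat_lit 32560) (nat_lit 0x91423122114e) (.node .nil (nat_lit 0xa284621c111c) (nat_lit 1841)
  (nat_lit 0x9104d20c2b09) .nil))) (nat_lit 0xa284621d0a90) (nat_lit 14176) (nat_lit 0x9142310e8548) (.node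
  (.node (.node .nil (nat_lit 0xa2c28100293e) (nat_lit 44497) (nat_lit 0x85028b2ae410) .nil) (nat_lit
  0xa2c281041572) (nat_lit 8736) (nat_lit 0xd16140020ab9) (.node .nil (nat_lit 0xa2c281043c4c) (nat_lit 2464)
  (nat_lit 0xd16140021e26) .nil)) (nat_lit 0xa2c281091856) (nat_lit 5953) (nat_lit 0x85028b1a4834) (.node
  (.node .nil (nat_lit 0xa2c281093168) (nat_lit 32657) (nat_lit 0x85028b30ac24) .nil) (nat_lit 0xa2c2810d0d24)
  (nat_lit 60337) (nat_lit 0x85028b08dc60) .nil)))) (nat_lit 0xa2c2810d241a) (nat_lit 35297) (nat_lit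
  0x85028b223870) (.node (.node (.node (.node (.node .nil (nat_lit 0xa2c281111c38) (nat_lit 5136) (nat_lit
  0xd16140088e1c) .nil) (nat_lit 0xa2c281113506) (nat_lit 48672) (nat_lit 0xd16140089a83) (.node .nil (nat_lit
  0xa2c28115094a) (nat_lit 4561) (nat_lit 0x85028b026564) .nil)) (nat_lit 0xa2c281152074) (nat_lit 25521)
  (nat_lit 0x85028b288174) (.node (.node .nil (nat_lit 0xa2c28118046e) (nat_lit 57153) (nat_lit
  0x85028b0ab904) .nil) (nat_lit 0xa2c281182d50) (nat_lit 14257) (nat_lit 0x85028b205d14) (.node .nil (nat_lit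
  0xa2c2811c111c) (nat_lit 9168) (nat_lit 0xd161400e088e) .nil))) (nat_lit 0xa2c2811c3822) (nat_lit 53872)
  (nat_lit 0xd161400e1c11) (.node (.node (.node .nil (nat_lit 0xa31228008dc6) (nat_lit 16784) (nat_lit
  0x9189140046e3) .nil) (nat_lit 0xa312280428d3) (nat_lit 36385) (nat_lit 0xc94c1014a2a1) (.node .nil (nat_lit
  0xa3122804a515) (nat_lit 21056) (nat_lit 0x9189142c2461) .nil)) (nat_lit 0xa31228086c07) (nat_lit 35392)
  (nat_lit 0x9189142a40e8) (.node (.node .nil (nat_lit 0xa3122808e1c1) (nat_lit 59217) (nat_lit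
  0xa10c0e14a2a1) .nil) (nat_lit 0xa312280c44d4) (nat_lit 46128) (nat_lit 0x91891406226a) .nil))) (nat_lit
  0xa312280cc912) (nat_lit 35265) (nat_lit 0x831d4014a2a1) (.node (.node (.node (.node .nil (nat_lit
  0xa31228104157) (nat_lit 18529) (nat_lit 0xaa580214a2a1) .nil) (nat_lit 0xa3122810cc91) (nat_lit 53105)
  (nat_lit 0x81511a14a2a1) (.node .nil (nat_lit 0xa31228146984) (nat_lit 16657) (nat_lit 0x88494c14a2a1)
  .nil)) (nat_lit 0xa3122814e442) (nat_lit 15040) (nat_lit 0x9189140a7221) (.node (.node .nil (nat_lit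
  0xa31228182d50) (nat_lit 23601) (nat_lit 0xcb004a14a2a1) .nil) (nat_lit 0xa3122818a096) (nat_lit 54705)
  (nat_lit 0xe009520b540c) (.node .nil (nat_lit 0xa312281c0583) (nat_lit 47552) (nat_lit 0x91891420742a)
  .nil))) (nat_lit 0xa312281c8845) (nat_lit 20624) (nat_lit 0x9189142032c9) (.node (.node (.node .nil (nat_lit
  0xa34054003da1) (nat_lit 16001) (nat_lit 0xa12530164a03) .nil) (nat_lit 0xa34054048c2b) (nat_lit 14225)
  (nat_lit 0xc8a118164a03) (.node .nil (nat_lit 0xa3405404b18a) (nat_lit 51057) (nat_lit 0x8031d4164a03)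
  .nil)) (nat_lit 0xa34054089a83) (nat_lit 13584) (nat_lit 0x91a02a2a1294) (.node (.node .nil (nat_lit
  0xa3405408a722) (nat_lit 10112) (nat_lit 0x91a02a045391) .nil) (nat_lit 0xa340540c16a8) (nat_lit 57505)
  (nat_lit 0xa81458164a03) .nil))))) (nat_lit 0xa340540c2b09) (nat_lit 16193) (nat_lit 0xe08494093168) (.node
  (.node (.node (.node (.node (.node .nil (nat_lit 0xa3405410132b) (nat_lit 4529) (nat_lit 0xa8b0a0164a03)
  .nil) (nat_lit 0xa34054102e8a) (nat_lit 176) (nat_lit 0x91a02a081745) (.node .nil (nat_lit 0xa34054149f00)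
  (nat_lit 7969) (nat_lit 0x89a444164a03) .nil)) (nat_lit 0xa3405414a2a1) (nat_lit 31985) (nat_lit
  0xc13488164a03) (.node (.node .nil (nat_lit 0xa340541889a8) (nat_lit 14481) (nat_lit 0xc805e0164a03) .nil)
  (nat_lit 0xa3405418b409) (nat_lit 55633) (nat_lit 0x80952c164a03) (.node .nil (nat_lit 0xa340541c0583)
  (nat_lit 15393) (nat_lit 0xe9110400a4f8) .nil))) (nat_lit 0xa340541c3822) (nat_lit 25665) (nat_lit
  0xa181c8164a03) (.node (.node (.node .nil (nat_lit 0xa402f001ed08) (nat_lit 19968) (nat_lit 0x92017800f684)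
  .nil) (nat_lit 0xa402f002d503) (nat_lit 35968) (nat_lit 0x9201782c9406) (.node .nil (nat_lit 0xa402f003380b)
  (nat_lit 528) (nat_lit 0x9201782c6282) .nil)) (nat_lit 0xa402f0086c07) (nat_lit 11425) (nat_lit
  0x8a0516349068) (.node (.node .nil (nat_lit 0xa402f009810f) (nat_lit 6208) (nat_lit 0x920178293e00) .nil)
  (nat_lit 0xa402f00ab904) (nat_lit 1376) (nat_lit 0x920178055c82) .nil))) (nat_lit 0xa402f00b540c) (nat_lit
  35552) (nat_lit 0x92017805aa06) (.node (.node (.node (.node .nil (nat_lit 0xa402f010d80e) (nat_lit 3936)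
  (nat_lit 0x920178086c07) .nil) (nat_lit 0xa402f0113506) (nat_lit 11985) (nat_lit 0x84805e3a1520) (.node .nil
  (nat_lit 0xa402f0120d0d) (nat_lit 240) (nat_lit 0x92017824f801) .nil)) (nat_lit 0xa402f013e005) (nat_lit
  3505) (nat_lit 0x96140a288174) (.node (.node .nil (nat_lit 0xa402f018b409) (nat_lit 58288) (nat_lit
  0x92017821a483) .nil) (nat_lit 0xa402f0195901) (nat_lit 5712) (nat_lit 0x920178215207) (.node .nil (nat_lit
  0xa402f01a610a) (nat_lit 20352) (nat_lit 0x9201780d3085) .nil))) (nat_lit 0xa402f01b8c02) (nat_lit 3633)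
  (nat_lit 0xa284621c111c) (.node (.node (.node .nil (nat_lit 0xa44413011b8c) (nat_lit 12400) (nat_lit
  0xd22209008dc6) .nil) (nat_lit 0xa444130293e0) (nat_lit 26640) (nat_lit 0xd222090149f0) (.node .nil (nat_lit
  0xa4441303886c) (nat_lit 30816) (nat_lit 0xd2220901c436) .nil)) (nat_lit 0xa44413082ae4) (nat_lit 50497)
  (nat_lit 0xc84303032c94) (.node (.node .nil (nat_lit 0xa44413093168) (nat_lit 57393) (nat_lit
  0xc843030710d8) .nil) (nat_lit 0xa444130ab904) (nat_lit 39584) (nat_lit 0xd22209055c82) .nil)))) (nat_lit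
  0xa444130ba288) (nat_lit 30448) (nat_lit 0xd2220905d144) (.node (.node (.node (.node (.node .nil (nat_lit
  0xa4441310a34c) (nat_lit 26769) (nat_lit 0xc84303152074) .nil) (nat_lit 0xa4441311b8c0) (nat_lit 14433)
  (nat_lit 0xc84303111c38) (.node .nil (nat_lit 0xa444131230ac) (nat_lit 44928) (nat_lit 0xd22209091856)
  .nil)) (nat_lit 0xa44413132b20) (nat_lit 6960) (nat_lit 0xd22209099590) (.node (.node .nil (nat_lit
  0xa444131889a8) (nat_lit 18720) (nat_lit 0xd222090c44d4) .nil) (nat_lit 0xa44413199224) (nat_lit 29664)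
  (nat_lit 0xd222090cc912) (.node .nil (nat_lit 0xa444131a1a48) (nat_lit 54112) (nat_lit 0xd222090d0d24)
  .nil))) (nat_lit 0xa444131b01c4) (nat_lit 9024) (nat_lit 0xd222090d80e2) (.node (.node (.node .nil (nat_lit
  0xa4508c010f13) (nat_lit 54625) (nat_lit 0xb84190043c4c) .nil) (nat_lit 0xa4508c02ae41) (nat_lit 54657)
  (nat_lit 0x840d98387044) (.node .nil (nat_lit 0xa4508c03a152) (nat_lit 16240) (nat_lit 0x92284601d0a9)
  .nil)) (nat_lit 0xa4508c08a722) (nat_lit 2417) (nat_lit 0x94585028258c) (.node (.node .nil (nat_lit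
  0xa4508c09a831) (nat_lit 2208) (nat_lit 0x9228462903a1) .nil) (nat_lit 0xa4508c0a0963) (nat_lit 7424)
  (nat_lit 0x92284628d308) .nil))) (nat_lit 0xa4508c0b0670) (nat_lit 33601) (nat_lit 0xa81458146984) (.node
  (.node (.node (.node .nil (nat_lit 0xa4508c108a72) (nat_lit 8592) (nat_lit 0x922846084539) .nil) (nat_lit
  0xa4508c118561) (nat_lit 25569) (nat_lit 0xb039080c44d4) (.node .nil (nat_lit 0xa4508c122433) (nat_lit
  36897) (nat_lit 0x8c75003008dc) .nil)) (nat_lit 0xa4508c132b20) (nat_lit 27809) (nat_lit 0x88494c343490)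
  (.node (.node .nil (nat_lit 0xa4508c182d50) (nat_lit 2193) (nat_lit 0x9c20c8205d14) .nil) (nat_lit
  0xa4508c192243) (nat_lit 41233) (nat_lit 0x981c84246158) .nil)) (nat_lit 0xa4508c1a8311) (nat_lit 4337)
  (nat_lit 0xa4508c182d50) (.node (.node (.node .nil (nat_lit 0xa4508c1b8c02) (nat_lit 33457) (nat_lit
  0xa06cc01c111c) .nil) (nat_lit 0xa4a6080149f0) (nat_lit 13792) (nat_lit 0x92530400a4f8) (.node .nil (nat_lit
  0xa4a6080258c5) (nat_lit 15569) (nat_lit 0x870832387044) .nil)) (nat_lit 0xa4a608031135) (nat_lit 8129)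
  (nat_lit 0xb66020091856) (.node (.node .nil (nat_lit 0xa4a6080851a6) (nat_lit 641) (nat_lit 0x9458502b2026)
  .nil) (nat_lit 0xa4a608091856) (nat_lit 17168) (nat_lit 0x925304048c2b) .nil))))))
def tT_18 : T := (.node (.node (.node (.node (.node (.node (.node .nil (nat_lit 0xa4a6080b4093) (nat_lit
  32145) (nat_lit 0x9d4006223870) .nil) (nat_lit 0xa4a608104157) (nat_lit 30480) (nat_lit 0x925304258c50)
  (.node .nil (nat_lit 0xa4a6081108a7) (nat_lit 33104) (nat_lit 0x9253042528a8) .nil)) (nat_lit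
  0xa4a608121992) (nat_lit 16752) (nat_lit 0x925304090cc9) (.node (.node .nil (nat_lit 0xa4a608135062)
  (nat_lit 40561) (nat_lit 0xa340541c3822) .nil) (nat_lit 0xa4a6081810f1) (nat_lit 53601) (nat_lit
  0x8178243e0052) (.node .nil (nat_lit 0xa4a608195901) (nat_lit 28545) (nat_lit 0xb010360f6840) .nil)))
  (nat_lit 0xa4a6081a4834) (nat_lit 6753) (nat_lit 0xb90860067016) (.node (.node (.node .nil (nat_lit
  0xa4a6081b01c4) (nat_lit 49649) (nat_lit 0x886072371804) .nil) (nat_lit 0xa5304200cb25) (nat_lit 52944)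
  (nat_lit 0x9298212d024c) (.node .nil (nat_lit 0xa53042020ab9) (nat_lit 57489) (nat_lit 0x85e09022114e)
  .nil)) (nat_lit 0xa5304202c19c) (nat_lit 46080) (nat_lit 0x9298210160ce) (.node (.node .nil (nat_lit
  0xa53042084539) (nat_lit 50608) (nat_lit 0x929821294542) .nil) (nat_lit 0xa53042088e1c) (nat_lit 37312)
  (nat_lit 0x92982104470e) .nil))) (nat_lit 0xa530420a4f80) (nat_lit 42641) (nat_lit 0x82f048250196) (.node
  (.node (.node (.node .nil (nat_lit 0xa530420a84a5) (nat_lit 45904) (nat_lit 0x92982128258c) .nil) (nat_lit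
  0xa530421007b4) (nat_lit 20465) (nat_lit 0x84805e237180) (.node .nil (nat_lit 0xa5304210cc91) (nat_lit
  45489) (nat_lit 0x81511a26a0c4) .nil)) (nat_lit 0xa53042120d0d) (nat_lit 1329) (nat_lit 0xa691100160ce)
  (.node (.node .nil (nat_lit 0xa5304212c628) (nat_lit 54672) (nat_lit 0x929821096314) .nil) (nat_lit
  0xa5304218428d) (nat_lit 4992) (nat_lit 0x929821214698) (.node .nil (nat_lit 0xa530421889a8) (nat_lit 37457)
  (nat_lit 0x8641c221b01c) .nil))) (nat_lit 0xa530421a4834) (nat_lit 25425) (nat_lit 0xa181c8067016) (.node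
  (.node (.node .nil (nat_lit 0xa530421a8311) (nat_lit 27873) (nat_lit 0xa4508c03a152) .nil) (nat_lit
  0xa54b0000149f) (nat_lit 48768) (nat_lit 0x92a5802d5030) (.node .nil (nat_lit 0xa54b0000a4f8) (nat_lit
  12673) (nat_lit 0x8e106401ed08) .nil)) (nat_lit 0xa54b0000b067) (nat_lit 56640) (nat_lit 0x92a5802d024c)
  (.node (.node .nil (nat_lit 0xa54b000a205d) (nat_lit 13520) (nat_lit 0x92a580284a51) .nil) (nat_lit
  0xa54b000a34c2) (nat_lit 27104) (nat_lit 0x92a580051a61) .nil)))) (nat_lit 0xa54b000a84a5) (nat_lit 50240)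
  (nat_lit 0x92a58028182d) (.node (.node (.node (.node (.node .nil (nat_lit 0xa54b000a903a) (nat_lit 51792)
  (nat_lit 0x92a58005481d) .nil) (nat_lit 0xa54b00122433) (nat_lit 42945) (nat_lit 0x8c750003886c) (.node .nil
  (nat_lit 0xa54b001230ac) (nat_lit 13569) (nat_lit 0x88494c07b420) .nil)) (nat_lit 0xa54b001280cb) (nat_lit
  40401) (nat_lit 0x8d9808026564) (.node (.node .nil (nat_lit 0xa54b00129454) (nat_lit 36417) (nat_lit
  0x89a444065928) .nil) (nat_lit 0xa54b0018046e) (nat_lit 57216) (nat_lit 0x92a5800c0237) (.node .nil (nat_lit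
  0xa54b001810f1) (nat_lit 59248) (nat_lit 0x92a580215207) .nil))) (nat_lit 0xa54b0018a096) (nat_lit 12624)
  (nat_lit 0x92a5800c504b) (.node (.node (.node .nil (nat_lit 0xa54b0018b409) (nat_lit 60593) (nat_lit
  0x80952c0f6840) .nil) (nat_lit 0xa58025007b42) (nat_lit 30465) (nat_lit 0xd2220905d144) (.node .nil (nat_lit
  0xa58025023718) (nat_lit 26304) (nat_lit 0xd2c012011b8c) .nil)) (nat_lit 0xa58025024c5a) (nat_lit 22672)
  (nat_lit 0xd2c01201262d) (.node (.node .nil (nat_lit 0xa580250803da) (nat_lit 59392) (nat_lit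
  0xd2c0120401ed) .nil) (nat_lit 0xa58025087898) (nat_lit 30833) (nat_lit 0xd2220901c436) .nil))) (nat_lit
  0xa580250a34c2) (nat_lit 54129) (nat_lit 0xd222090d0d24) (.node (.node (.node (.node .nil (nat_lit
  0xa580250a4f80) (nat_lit 60512) (nat_lit 0xd2c0120527c0) .nil) (nat_lit 0xa58025102e8a) (nat_lit 6977)
  (nat_lit 0xd22209099590) (.node .nil (nat_lit 0xa580251055c8) (nat_lit 18737) (nat_lit 0xd222090c44d4)
  .nil)) (nat_lit 0xa58025121992) (nat_lit 12417) (nat_lit 0xd22209008dc6) (.node (.node .nil (nat_lit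
  0xa580251262d0) (nat_lit 39601) (nat_lit 0xd22209055c82) .nil) (nat_lit 0xa58025182d50) (nat_lit 9041)
  (nat_lit 0xd222090d80e2) (.node .nil (nat_lit 0xa58025185612) (nat_lit 38993) (nat_lit 0xd222090851a6)
  .nil))) (nat_lit 0xa580251a1a48) (nat_lit 51888) (nat_lit 0xd2c0120d0d24) (.node (.node (.node .nil (nat_lit
  0xa580251a610a) (nat_lit 26657) (nat_lit 0xd222090149f0) .nil) (nat_lit 0xa6084900f684) (nat_lit 18929)
  (nat_lit 0xc48a110305aa) (.node .nil (nat_lit 0xa608490132b2) (nat_lit 5505) (nat_lit 0xc48a111964a0) .nil))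
  (nat_lit 0xa6084901c436) (nat_lit 54256) (nat_lit 0xd3042400e21b) (.node (.node .nil (nat_lit
  0xa608490851a6) (nat_lit 12688) (nat_lit 0xd304240428d3) .nil) (nat_lit 0xa6084908a722) (nat_lit 21472)
  (nat_lit 0xd30424045391) .nil))))) (nat_lit 0xa60849096314) (nat_lit 12080) (nat_lit 0xd3042404b18a) (.node
  (.node (.node (.node (.node (.node .nil (nat_lit 0xa60849099590) (nat_lit 1953) (nat_lit 0xc48a110a34c2)
  .nil) (nat_lit 0xa608491007b4) (nat_lit 34736) (nat_lit 0xd304240803da) (.node .nil (nat_lit 0xa6084910f130)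
  (nat_lit 30336) (nat_lit 0xd30424087898) .nil)) (nat_lit 0xa60849113506) (nat_lit 52800) (nat_lit
  0xd30424089a83) (.node (.node .nil (nat_lit 0xa6084911c382) (nat_lit 7296) (nat_lit 0xd3042408e1c1) .nil)
  (nat_lit 0xa60849185612) (nat_lit 2368) (nat_lit 0xd304240c2b09) (.node .nil (nat_lit 0xa6084918a096)
  (nat_lit 41505) (nat_lit 0xc48a110b540c) .nil))) (nat_lit 0xa608491964a0) (nat_lit 577) (nat_lit
  0xc48a11113506) (.node (.node (.node .nil (nat_lit 0xa60849199224) (nat_lit 30288) (nat_lit 0xd304240cc912)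
  .nil) (nat_lit 0xa691100046e3) (nat_lit 14944) (nat_lit 0x9348882c9406) (.node .nil (nat_lit 0xa6911001262d)
  (nat_lit 13888) (nat_lit 0x9348882c2461) .nil)) (nat_lit 0xa691100160ce) (nat_lit 656) (nat_lit
  0x93488800b067) (.node (.node .nil (nat_lit 0xa69110082ae4) (nat_lit 2880) (nat_lit 0x934888041572) .nil)
  (nat_lit 0xa69110086c07) (nat_lit 2032) (nat_lit 0x934888288174) .nil))) (nat_lit 0xa69110090cc9) (nat_lit
  11152) (nat_lit 0x934888283113) (.node (.node (.node (.node .nil (nat_lit 0xa69110094a2a) (nat_lit 51873)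
  (nat_lit 0x831d4018a096) .nil) (nat_lit 0xa69110102e8a) (nat_lit 39745) (nat_lit 0x922846099590) (.node .nil
  (nat_lit 0xa69110106869) (nat_lit 5296) (nat_lit 0x934888248343) .nil)) (nat_lit 0xa691101108a7) (nat_lit
  23328) (nat_lit 0x934888243324) (.node (.node .nil (nat_lit 0xa69110114e44) (nat_lit 48481) (nat_lit
  0x89a444121992) .nil) (nat_lit 0xa6911018046e) (nat_lit 47600) (nat_lit 0x9348880c0237) (.node .nil (nat_lit
  0xa6911018428d) (nat_lit 945) (nat_lit 0x839086182d50) .nil))) (nat_lit 0xa69110192243) (nat_lit 17424)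
  (nat_lit 0x934888202656) (.node (.node (.node .nil (nat_lit 0xa691101964a0) (nat_lit 11073) (nat_lit
  0x8a88d0113506) .nil) (nat_lit 0xa800c701ed08) (nat_lit 20672) (nat_lit 0xd4006300f684) (.node .nil (nat_lit
  0xa800c7023718) (nat_lit 56272) (nat_lit 0xd40063011b8c) .nil)) (nat_lit 0xa800c703da10) (nat_lit 53249)
  (nat_lit 0x8b0a051440ba) (.node (.node .nil (nat_lit 0xa800c7046e30) (nat_lit 51969) (nat_lit
  0x8b0a05349068) .nil) (nat_lit 0xa800c7058338) (nat_lit 56545) (nat_lit 0x8b0a05041572) .nil)))) (nat_lit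
  0xa800c7065928) (nat_lit 42913) (nat_lit 0x8b0a051055c8) (.node (.node (.node (.node (.node .nil (nat_lit
  0xa800c707b420) (nat_lit 28241) (nat_lit 0x8b0a0520d0d2) .nil) (nat_lit 0xa800c710f130) (nat_lit 34849)
  (nat_lit 0x8b0a0520742a) (.node .nil (nat_lit 0xa800c7111c38) (nat_lit 17457) (nat_lit 0x8b0a0510f130)
  .nil)) (nat_lit 0xa800c712c628) (nat_lit 20928) (nat_lit 0xd40063096314) (.node (.node .nil (nat_lit
  0xa800c7132b20) (nat_lit 54480) (nat_lit 0xd40063099590) .nil) (nat_lit 0xa800c7149f00) (nat_lit 37169)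
  (nat_lit 0x8b0a0514e442) (.node .nil (nat_lit 0xa800c7157208) (nat_lit 19744) (nat_lit 0xd400630ab904)
  .nil))) (nat_lit 0xa800c716a818) (nat_lit 58080) (nat_lit 0xd400630b540c) (.node (.node (.node .nil (nat_lit
  0xa800c7174510) (nat_lit 22112) (nat_lit 0xd400630ba288) .nil) (nat_lit 0xa8145800cb25) (nat_lit 60272)
  (nat_lit 0x940a2c2b9041) (.node .nil (nat_lit 0xa81458022387) (nat_lit 60001) (nat_lit 0xaf048000cb25)
  .nil)) (nat_lit 0xa8145802e8a2) (nat_lit 38144) (nat_lit 0x940a2c017451) (.node (.node .nil (nat_lit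
  0xa81458056123) (nat_lit 56192) (nat_lit 0x940a2c294542) .nil) (nat_lit 0xa8145805aa06) (nat_lit 20720)
  (nat_lit 0x940a2c02d503) .nil))) (nat_lit 0xa814580742a4) (nat_lit 45680) (nat_lit 0x940a2c03a152) (.node
  (.node (.node (.node .nil (nat_lit 0xa81458078981) (nat_lit 30512) (nat_lit 0x940a2c283113) .nil) (nat_lit
  0xa814581108a7) (nat_lit 55072) (nat_lit 0x940a2c237180) (.node .nil (nat_lit 0xa8145811c382) (nat_lit
  48833) (nat_lit 0xc6245000cb25) .nil)) (nat_lit 0xa81458132b20) (nat_lit 16400) (nat_lit 0x940a2c099590)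
  (.node (.node .nil (nat_lit 0xa8145813e005) (nat_lit 53632) (nat_lit 0x940a2c2205d1) .nil) (nat_lit
  0xa81458146984) (nat_lit 20224) (nat_lit 0x940a2c0a34c2) .nil)) (nat_lit 0xa8145814a2a1) (nat_lit 56897)
  (nat_lit 0xc1348800cb25) (.node (.node (.node .nil (nat_lit 0xa81458164a03) (nat_lit 47296) (nat_lit
  0x940a2c20d0d2) .nil) (nat_lit 0xa81458168126) (nat_lit 35921) (nat_lit 0x9104d200cb25) (.node .nil (nat_lit
  0xa84624009959) (nat_lit 38673) (nat_lit 0xa0c838022387) .nil)) (nat_lit 0xa8462403380b) (nat_lit 49952)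
  (nat_lit 0x9423122a40e8) (.node (.node .nil (nat_lit 0xa8462403a152) (nat_lit 29296) (nat_lit
  0x94231201d0a9) .nil) (nat_lit 0xa846240428d3) (nat_lit 23009) (nat_lit 0xc94c10022387) .nil))))))
def tT_19 : T := (.node (.node (.node (.node (.node (.node (.node .nil (nat_lit 0xa846240710d8) (nat_lit
  32416) (nat_lit 0x94231203886c) .nil) (nat_lit 0xa84624078981) (nat_lit 38064) (nat_lit 0x94231228182d)
  (.node .nil (nat_lit 0xa84624112199) (nat_lit 47280) (nat_lit 0x942312234c21) .nil)) (nat_lit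
  0xa8462411b8c0) (nat_lit 50769) (nat_lit 0xecc040022387) (.node (.node .nil (nat_lit 0xa84624121992)
  (nat_lit 52257) (nat_lit 0xd08c48022387) .nil) (nat_lit 0xa846241280cb) (nat_lit 12545) (nat_lit
  0x8d9808022387) (.node .nil (nat_lit 0xa8462415094a) (nat_lit 9760) (nat_lit 0x9423120a84a5) .nil)))
  (nat_lit 0xa84624159013) (nat_lit 2944) (nat_lit 0x9423122114e4) (.node (.node (.node .nil (nat_lit
  0xa84624163141) (nat_lit 46737) (nat_lit 0xe41c20022387) .nil) (nat_lit 0xa8462416a818) (nat_lit 23856)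
  (nat_lit 0x9423120b540c) (.node .nil (nat_lit 0xa88d0100527c) (nat_lit 58529) (nat_lit 0xa0031d02e8a2)
  .nil)) (nat_lit 0xa88d010132b2) (nat_lit 60256) (nat_lit 0xd44680009959) (.node (.node .nil (nat_lit
  0xa88d010160ce) (nat_lit 29041) (nat_lit 0xa0031d1b8c02) .nil) (nat_lit 0xa88d0106226a) (nat_lit 50784)
  (nat_lit 0xd44680031135) .nil))) (nat_lit 0xa88d01067016) (nat_lit 18385) (nat_lit 0xa0031d11b8c0) (.node
  (.node (.node (.node .nil (nat_lit 0xa88d010710d8) (nat_lit 52272) (nat_lit 0xd4468003886c) .nil) (nat_lit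
  0xa88d010742a4) (nat_lit 50896) (nat_lit 0xd4468003a152) (.node .nil (nat_lit 0xa88d011230ac) (nat_lit
  20833) (nat_lit 0xa0031d07b420) .nil)) (nat_lit 0xa88d011262d0) (nat_lit 9473) (nat_lit 0xa0031d055c82)
  (.node (.node .nil (nat_lit 0xa88d0113021e) (nat_lit 37184) (nat_lit 0xd4468009810f) .nil) (nat_lit
  0xa88d01135062) (nat_lit 16513) (nat_lit 0xa0031d1c3822) (.node .nil (nat_lit 0xa88d011412c6) (nat_lit
  43104) (nat_lit 0xd446800a0963) .nil))) (nat_lit 0xa88d011440ba) (nat_lit 40720) (nat_lit 0xd446800a205d)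
  (.node (.node (.node .nil (nat_lit 0xa88d01152074) (nat_lit 27969) (nat_lit 0xa0031d0d80e2) .nil) (nat_lit
  0xa88d01157208) (nat_lit 57681) (nat_lit 0xa0031d0f6840) (.node .nil (nat_lit 0xa8b0a0010f13) (nat_lit 624)
  (nat_lit 0x9458502b2026) .nil)) (nat_lit 0xa8b0a0024c5a) (nat_lit 42081) (nat_lit 0xf210c001262d) (.node
  (.node .nil (nat_lit 0xa8b0a0034349) (nat_lit 54241) (nat_lit 0xb4888201262d) .nil) (nat_lit 0xa8b0a004470e)
  (nat_lit 56497) (nat_lit 0x94585001262d) .nil)))) (nat_lit 0xa8b0a005481d) (nat_lit 22689) (nat_lit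
  0xd2c01201262d) (.node (.node (.node (.node (.node .nil (nat_lit 0xa8b0a0060b54) (nat_lit 58801) (nat_lit
  0x98914201262d) .nil) (nat_lit 0xa8b0a0070447) (nat_lit 2400) (nat_lit 0x94585028258c) (.node .nil (nat_lit
  0xa8b0a0104157) (nat_lit 25712) (nat_lit 0x945850238704) .nil)) (nat_lit 0xa8b0a0114e44) (nat_lit 48800)
  (nat_lit 0x94585008a722) (.node (.node .nil (nat_lit 0xa8b0a0120d0d) (nat_lit 24625) (nat_lit
  0xa6911001262d) .nil) (nat_lit 0xa8b0a013021e) (nat_lit 24113) (nat_lit 0xe0095201262d) (.node .nil (nat_lit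
  0xa8b0a0140659) (nat_lit 47201) (nat_lit 0xc0d98001262d) .nil))) (nat_lit 0xa8b0a015094a) (nat_lit 56865)
  (nat_lit 0x8641c201262d) (.node (.node (.node .nil (nat_lit 0xa8b0a0164a03) (nat_lit 2289) (nat_lit
  0xcc109201262d) .nil) (nat_lit 0xa8b0a0174510) (nat_lit 41456) (nat_lit 0x9458500ba288) (.node .nil (nat_lit
  0xa96009008dc6) (nat_lit 28897) (nat_lit 0x9086072b0918) .nil)) (nat_lit 0xa96009021e26) (nat_lit 19312)
  (nat_lit 0xd4b004010f13) (.node (.node .nil (nat_lit 0xa960090293e0) (nat_lit 53888) (nat_lit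
  0xd4b0040149f0) .nil) (nat_lit 0xa96009041572) (nat_lit 31200) (nat_lit 0xd4b004020ab9) .nil))) (nat_lit
  0xa960090498b4) (nat_lit 41345) (nat_lit 0x9086072c19c0) (.node (.node (.node (.node .nil (nat_lit
  0xa96009060b54) (nat_lit 9809) (nat_lit 0x908607093168) .nil) (nat_lit 0xa96009068692) (nat_lit 24368)
  (nat_lit 0xd4b004034349) (.node .nil (nat_lit 0xa960091007b4) (nat_lit 29329) (nat_lit 0x908607237180)
  .nil)) (nat_lit 0xa96009108a72) (nat_lit 51329) (nat_lit 0x908607087898) (.node (.node .nil (nat_lit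
  0xa96009121992) (nat_lit 44160) (nat_lit 0xd4b004090cc9) .nil) (nat_lit 0xa96009129454) (nat_lit 36800)
  (nat_lit 0xd4b004094a2a) .nil)) (nat_lit 0xa960091412c6) (nat_lit 31584) (nat_lit 0xd4b0040a0963) (.node
  (.node (.node .nil (nat_lit 0xa96009149f00) (nat_lit 38113) (nat_lit 0x9086070f6840) .nil) (nat_lit
  0xa96009160ce0) (nat_lit 12720) (nat_lit 0xd4b0040b0670) (.node .nil (nat_lit 0xa96009168126) (nat_lit
  53936) (nat_lit 0xd4b0040b4093) .nil)) (nat_lit 0xa98212003da1) (nat_lit 46240) (nat_lit 0x94c1092b2026)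
  (.node (.node .nil (nat_lit 0xa982120258c5) (nat_lit 3232) (nat_lit 0x94c1092a1294) .nil) (nat_lit
  0xa98212026564) (nat_lit 35456) (nat_lit 0x94c1090132b2) .nil))))) (nat_lit 0xa982120401ed) (nat_lit 17761)
  (nat_lit 0xe3a800041572) (.node (.node (.node (.node (.node (.node .nil (nat_lit 0xa98212043c4c) (nat_lit
  9681) (nat_lit 0xa5304218428d) .nil) (nat_lit 0xa98212065928) (nat_lit 35153) (nat_lit 0x831d4018428d)
  (.node .nil (nat_lit 0xa98212066489) (nat_lit 18353) (nat_lit 0xc5850218428d) .nil)) (nat_lit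
  0xa982121055c8) (nat_lit 23392) (nat_lit 0x94c109082ae4) (.node (.node .nil (nat_lit 0xa98212106869)
  (nat_lit 10016) (nat_lit 0x94c109230ac2) .nil) (nat_lit 0xa98212120d0d) (nat_lit 1905) (nat_lit
  0xa6911018428d) (.node .nil (nat_lit 0xa982121230ac) (nat_lit 24465) (nat_lit 0xe0095207b420) .nil)))
  (nat_lit 0xa98212145425) (nat_lit 25201) (nat_lit 0xc2312218428d) (.node (.node (.node .nil (nat_lit
  0xa98212146984) (nat_lit 3409) (nat_lit 0x84a96018428d) .nil) (nat_lit 0xa98212160ce0) (nat_lit 29217)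
  (nat_lit 0xa2846218428d) (.node .nil (nat_lit 0xa98212163141) (nat_lit 17072) (nat_lit 0x94c109202656)
  .nil)) (nat_lit 0xaa234000149f) (nat_lit 47009) (nat_lit 0x8bc120240e85) (.node (.node .nil (nat_lit
  0xaa234001c436) (nat_lit 53825) (nat_lit 0xc190701a610a) .nil) (nat_lit 0xaa234001d0a9) (nat_lit 22608)
  (nat_lit 0x9511a02a060b) .nil))) (nat_lit 0xaa2340048c2b) (nat_lit 8465) (nat_lit 0xc8a118135062) (.node
  (.node (.node (.node .nil (nat_lit 0xaa23400498b4) (nat_lit 39041) (nat_lit 0x989142240e85) .nil) (nat_lit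
  0xaa234005481d) (nat_lit 58881) (nat_lit 0xd2c012093168) (.node .nil (nat_lit 0xaa2340055c82) (nat_lit
  53169) (nat_lit 0x82f048240e85) .nil)) (nat_lit 0xaa234010cc91) (nat_lit 26897) (nat_lit 0x81511a240e85)
  (.node (.node .nil (nat_lit 0xaa234010d80e) (nat_lit 16432) (nat_lit 0x9511a0086c07) .nil) (nat_lit
  0xaa23401108a7) (nat_lit 20144) (nat_lit 0x9511a0226a0c) (.node .nil (nat_lit 0xaa2340111c38) (nat_lit
  12785) (nat_lit 0xcb004a10f130) .nil))) (nat_lit 0xaa23401440ba) (nat_lit 44753) (nat_lit 0x920178240e85)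
  (.node (.node (.node .nil (nat_lit 0xaa2340145425) (nat_lit 32816) (nat_lit 0x9511a020c44d) .nil) (nat_lit
  0xaa234015848c) (nat_lit 15249) (nat_lit 0x886072240e85) (.node .nil (nat_lit 0xaa2340159013) (nat_lit
  49152) (nat_lit 0x9511a0202656) .nil)) (nat_lit 0xaa580200a4f8) (nat_lit 25809) (nat_lit 0xf210c001ed08)
  (.node (.node .nil (nat_lit 0xaa580201262d) (nat_lit 33264) (nat_lit 0x952c012a40e8) .nil) (nat_lit
  0xaa58020182d5) (nat_lit 47617) (nat_lit 0x9348880c0237) .nil)))) (nat_lit 0xaa58020401ed) (nat_lit 14864)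
  (nat_lit 0x952c0128d308) (.node (.node (.node (.node (.node .nil (nat_lit 0xaa580204a515) (nat_lit 52512)
  (nat_lit 0x952c01288174) .nil) (nat_lit 0xaa58020527c0) (nat_lit 24721) (nat_lit 0x82f0480c0237) (.node .nil
  (nat_lit 0xaa5802058338) (nat_lit 45152) (nat_lit 0x952c0102c19c) .nil)) (nat_lit 0xaa58021007b4) (nat_lit
  25856) (nat_lit 0x952c010803da) (.node (.node .nil (nat_lit 0xaa580210a34c) (nat_lit 10240) (nat_lit
  0x952c010851a6) .nil) (nat_lit 0xaa5802112199) (nat_lit 17121) (nat_lit 0xb1d4000c0237) (.node .nil (nat_lit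
  0xaa5802118561) (nat_lit 52592) (nat_lit 0x952c0122114e) .nil))) (nat_lit 0xaa5802140659) (nat_lit 22529)
  (nat_lit 0xc0d9800c0237) (.node (.node (.node .nil (nat_lit 0xaa580214a2a1) (nat_lit 10065) (nat_lit
  0xc134880c0237) .nil) (nat_lit 0xaa5802152074) (nat_lit 34048) (nat_lit 0x952c010a903a) (.node .nil (nat_lit
  0xaa580215848c) (nat_lit 15729) (nat_lit 0xa06cc00c0237) .nil)) (nat_lit 0xac012a00f684) (nat_lit 49216)
  (nat_lit 0x960095007b42) (.node (.node .nil (nat_lit 0xac012a017451) (nat_lit 38032) (nat_lit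
  0x960095294542) .nil) (nat_lit 0xac012a0182d5) (nat_lit 2897) (nat_lit 0x934888041572) .nil))) (nat_lit
  0xac012a0258c5) (nat_lit 50512) (nat_lit 0x96009528d308) (.node (.node (.node (.node .nil (nat_lit
  0xac012a02ae41) (nat_lit 32353) (nat_lit 0x840d98135062) .nil) (nat_lit 0xac012a032c94) (nat_lit 32385)
  (nat_lit 0x8018ea174510) (.node .nil (nat_lit 0xac012a03da10) (nat_lit 45056) (nat_lit 0x96009501ed08)
  .nil)) (nat_lit 0xac012a103a15) (nat_lit 22880) (nat_lit 0x96009521e260) (.node (.node .nil (nat_lit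
  0xac012a10cc91) (nat_lit 30160) (nat_lit 0x960095219922) .nil) (nat_lit 0xac012a114e44) (nat_lit 21104)
  (nat_lit 0x96009508a722) .nil)) (nat_lit 0xac012a11b8c0) (nat_lit 34705) (nat_lit 0x8641c2111c38) (.node
  (.node (.node .nil (nat_lit 0xac012a1262d0) (nat_lit 1393) (nat_lit 0x920178055c82) .nil) (nat_lit
  0xac012a129454) (nat_lit 43744) (nat_lit 0x960095094a2a) (.node .nil (nat_lit 0xac012a131681) (nat_lit
  55856) (nat_lit 0x96009520742a) .nil)) (nat_lit 0xac012a13e005) (nat_lit 33009) (nat_lit 0x96140a0149f0)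
  (.node (.node .nil (nat_lit 0xac28140046e3) (nat_lit 39201) (nat_lit 0x892982349068) .nil) (nat_lit
  0xac281401964a) (nat_lit 51521) (nat_lit 0xa530421889a8) .nil))))))
def tT_20 : T := (.node (.node (.node (.node (.node (.node (.node .nil (nat_lit 0xac28140293e0) (nat_lit
  32992) (nat_lit 0x96140a0149f0) .nil) (nat_lit 0xac281402d503) (nat_lit 3488) (nat_lit 0x96140a288174)
  (.node .nil (nat_lit 0xac28140305aa) (nat_lit 29616) (nat_lit 0x96140a0182d5) .nil)) (nat_lit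
  0xac2814034349) (nat_lit 32193) (nat_lit 0xb48882093168) (.node (.node .nil (nat_lit 0xac281410132b)
  (nat_lit 784) (nat_lit 0x96140a21e260) .nil) (nat_lit 0xac28141055c8) (nat_lit 5552) (nat_lit
  0x96140a082ae4) (.node .nil (nat_lit 0xac2814118561) (nat_lit 48992) (nat_lit 0x96140a212945) .nil)))
  (nat_lit 0xac281411c382) (nat_lit 30640) (nat_lit 0x96140a08e1c1) (.node (.node (.node .nil (nat_lit
  0xac28141280cb) (nat_lit 39441) (nat_lit 0x8d98083021e2) .nil) (nat_lit 0xac281412c628) (nat_lit 55792)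
  (nat_lit 0x96140a096314) (.node .nil (nat_lit 0xac2814131681) (nat_lit 29457) (nat_lit 0x9511a028a84a)
  .nil)) (nat_lit 0xac2814135062) (nat_lit 55408) (nat_lit 0x96140a09a831) (.node (.node .nil (nat_lit
  0xaf048000293e) (nat_lit 44705) (nat_lit 0x8018ea2ae410) .nil) (nat_lit 0xaf048000527c) (nat_lit 52017)
  (nat_lit 0xa8145802e8a2) .nil))) (nat_lit 0xaf0480007b42) (nat_lit 3360) (nat_lit 0x978240003da1) (.node
  (.node (.node (.node .nil (nat_lit 0xaf0480009959) (nat_lit 42705) (nat_lit 0xa0c8380a34c2) .nil) (nat_lit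
  0xaf048000b067) (nat_lit 59536) (nat_lit 0x97824028258c) (.node .nil (nat_lit 0xaf048000cb25) (nat_lit
  55328) (nat_lit 0x97824028182d) .nil)) (nat_lit 0xaf048000e21b) (nat_lit 54912) (nat_lit 0x978240280cb2)
  (.node (.node .nil (nat_lit 0xaf048010132b) (nat_lit 31312) (nat_lit 0x97824020742a) .nil) (nat_lit
  0xaf0480103a15) (nat_lit 57312) (nat_lit 0x9782402060b5) (.node .nil (nat_lit 0xaf0480104157) (nat_lit
  40705) (nat_lit 0xaa580200a4f8) .nil))) (nat_lit 0xaf0480106869) (nat_lit 33136) (nat_lit 0x97824020498b)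
  (.node (.node (.node .nil (nat_lit 0xaf0480108a72) (nat_lit 53024) (nat_lit 0x978240084539) .nil) (nat_lit
  0xaf048010a34c) (nat_lit 48640) (nat_lit 0x9782400851a6) (.node .nil (nat_lit 0xaf048010d80e) (nat_lit
  19088) (nat_lit 0x978240086c07) .nil)) (nat_lit 0xaf048010f130) (nat_lit 55777) (nat_lit 0x8a88d020742a)
  (.node (.node .nil (nat_lit 0xb004a9007b42) (nat_lit 57824) (nat_lit 0xd80254003da1) .nil) (nat_lit
  0xb004a903a152) (nat_lit 35761) (nat_lit 0x81b3013c4c08) .nil)))) (nat_lit 0xb004a903da10) (nat_lit 7264)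
  (nat_lit 0xd8025401ed08) (.node (.node (.node (.node (.node .nil (nat_lit 0xb004a905aa06) (nat_lit 26977)
  (nat_lit 0x81b301244866) .nil) (nat_lit 0xb004a905d144) (nat_lit 30017) (nat_lit 0x81b3010c44d4) (.node .nil
  (nat_lit 0xb004a9060b54) (nat_lit 10928) (nat_lit 0xd802540305aa) .nil)) (nat_lit 0xb004a9067016) (nat_lit
  5392) (nat_lit 0xd8025403380b) (.node (.node .nil (nat_lit 0xb004a9091856) (nat_lit 19201) (nat_lit
  0x81b3011a4834) .nil) (nat_lit 0xb004a9096314) (nat_lit 34641) (nat_lit 0x81b301324486) (.node .nil (nat_lit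
  0xb004a90ab904) (nat_lit 41824) (nat_lit 0xd80254055c82) .nil))) (nat_lit 0xb004a90ac246) (nat_lit 36545)
  (nat_lit 0x81b3010e088e) (.node (.node (.node .nil (nat_lit 0xb004a90cb250) (nat_lit 9553) (nat_lit
  0x81b3013e0052) .nil) (nat_lit 0xb004a90cc912) (nat_lit 43968) (nat_lit 0xd80254066489) (.node .nil (nat_lit
  0xb004a90f1302) (nat_lit 11552) (nat_lit 0xd80254078981) .nil)) (nat_lit 0xb004a90f6840) (nat_lit 12112)
  (nat_lit 0xd8025407b420) (.node (.node .nil (nat_lit 0xb0103601ed08) (nat_lit 44193) (nat_lit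
  0xc508c40a7221) .nil) (nat_lit 0xb0103602ae41) (nat_lit 27841) (nat_lit 0x840d980a7221) .nil))) (nat_lit
  0xb01036034349) (nat_lit 208) (nat_lit 0x98081b265640) (.node (.node (.node (.node .nil (nat_lit
  0xb0103604cac8) (nat_lit 25393) (nat_lit 0xb405440a7221) .nil) (nat_lit 0xb010360527c0) (nat_lit 13105)
  (nat_lit 0x84805e0a7221) (.node .nil (nat_lit 0xb01036066489) (nat_lit 31361) (nat_lit 0xc585020a7221)
  .nil)) (nat_lit 0xb01036078981) (nat_lit 13616) (nat_lit 0x98081b243324) (.node (.node .nil (nat_lit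
  0xb0103608e1c1) (nat_lit 38465) (nat_lit 0xa10c0e0a7221) .nil) (nat_lit 0xb01036090cc9) (nat_lit 15057)
  (nat_lit 0x9189140a7221) (.node .nil (nat_lit 0xb010360a4f80) (nat_lit 30736) (nat_lit 0x98081b0527c0)
  .nil))) (nat_lit 0xb010360ba288) (nat_lit 11472) (nat_lit 0x98081b05d144) (.node (.node (.node .nil (nat_lit
  0xb010360c2b09) (nat_lit 26689) (nat_lit 0xe084940a7221) .nil) (nat_lit 0xb010360dc601) (nat_lit 49185)
  (nat_lit 0xd0018e0a7221) (.node .nil (nat_lit 0xb010360e8548) (nat_lit 8864) (nat_lit 0x98081b0742a4) .nil))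
  (nat_lit 0xb010360f6840) (nat_lit 16689) (nat_lit 0xa181c80a7221) (.node (.node .nil (nat_lit
  0xb039080046e3) (nat_lit 3136) (nat_lit 0x981c8427c00a) .nil) (nat_lit 0xb039080182d5) (nat_lit 33937)
  (nat_lit 0x934888209631) .nil))))) (nat_lit 0xb0390801c436) (nat_lit 9121) (nat_lit 0xc508c41a610a) (.node
  (.node (.node (.node (.node (.node .nil (nat_lit 0xb03908068692) (nat_lit 51776) (nat_lit 0x981c84034349)
  .nil) (nat_lit 0xb0390806c071) (nat_lit 14800) (nat_lit 0x981c84248343) (.node .nil (nat_lit 0xb03908070447)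
  (nat_lit 41216) (nat_lit 0x981c84246158) .nil)) (nat_lit 0xb039080742a4) (nat_lit 37040) (nat_lit
  0x981c8403a152) (.node (.node .nil (nat_lit 0xb039080a84a5) (nat_lit 25185) (nat_lit 0x87210c209631) .nil)
  (nat_lit 0xb039080ac246) (nat_lit 9185) (nat_lit 0xd161400e088e) (.node .nil (nat_lit 0xb039080b0670)
  (nat_lit 54961) (nat_lit 0xcb004a146984) .nil))) (nat_lit 0xb039080b4093) (nat_lit 34801) (nat_lit
  0x9d4006209631) (.node (.node (.node .nil (nat_lit 0xb039080c0237) (nat_lit 54544) (nat_lit 0x981c8421e260)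
  .nil) (nat_lit 0xb039080c44d4) (nat_lit 14608) (nat_lit 0x981c8406226a) (.node .nil (nat_lit 0xb039080d80e2)
  (nat_lit 46720) (nat_lit 0x981c8406c071) .nil)) (nat_lit 0xb039080dc601) (nat_lit 44864) (nat_lit
  0x981c8421007b) (.node (.node .nil (nat_lit 0xb0424a003da1) (nat_lit 20401) (nat_lit 0xa12530089a83) .nil)
  (nat_lit 0xb0424a031135) (nat_lit 3985) (nat_lit 0xb66020089a83) .nil))) (nat_lit 0xb0424a032c94) (nat_lit
  1425) (nat_lit 0xe0206c089a83) (.node (.node (.node (.node .nil (nat_lit 0xb0424a0498b4) (nat_lit 4480)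
  (nat_lit 0x982125024c5a) .nil) (nat_lit 0xb0424a04a515) (nat_lit 289) (nat_lit 0xe24508089a83) (.node .nil
  (nat_lit 0xb0424a078981) (nat_lit 43329) (nat_lit 0xf50018026564) .nil)) (nat_lit 0xb0424a07b420) (nat_lit
  24209) (nat_lit 0xa34054089a83) (.node (.node .nil (nat_lit 0xb0424a099590) (nat_lit 32592) (nat_lit
  0x98212504cac8) .nil) (nat_lit 0xb0424a09a831) (nat_lit 35601) (nat_lit 0x90641c089a83) (.node .nil (nat_lit
  0xb0424a0a84a5) (nat_lit 55600) (nat_lit 0x982125229c88) .nil))) (nat_lit 0xb0424a0ab904) (nat_lit 48689)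
  (nat_lit 0xd16140089a83) (.node (.node (.node .nil (nat_lit 0xb0424a0d0d24) (nat_lit 5761) (nat_lit
  0x854468089a83) .nil) (nat_lit 0xb0424a0d3085) (nat_lit 37120) (nat_lit 0x982125214698) (.node .nil (nat_lit
  0xb0424a0e1c11) (nat_lit 6257) (nat_lit 0xc44134089a83) .nil)) (nat_lit 0xb0424a0e21b0) (nat_lit 15952)
  (nat_lit 0x9821250710d8) (.node (.node .nil (nat_lit 0xb0a051011b8c) (nat_lit 25633) (nat_lit
  0x805e093380b0) .nil) (nat_lit 0xb0a051021e26) (nat_lit 3793) (nat_lit 0x805e090e21b0) .nil)))) (nat_lit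
  0xb0a0510305aa) (nat_lit 1344) (nat_lit 0xd850280182d5) (.node (.node (.node (.node (.node .nil (nat_lit
  0xb0a05104470e) (nat_lit 60433) (nat_lit 0x805e09152074) .nil) (nat_lit 0xb0a051055c82) (nat_lit 4832)
  (nat_lit 0xd8502802ae41) (.node .nil (nat_lit 0xb0a051065928) (nat_lit 55121) (nat_lit 0x805e091b01c4)
  .nil)) (nat_lit 0xb0a0510742a4) (nat_lit 10625) (nat_lit 0x805e09288174) (.node (.node .nil (nat_lit
  0xb0a0510851a6) (nat_lit 37537) (nat_lit 0x805e092b2026) .nil) (nat_lit 0xb0a051094a2a) (nat_lit 26289)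
  (nat_lit 0x805e0918a096) (.node .nil (nat_lit 0xb0a0510a4f80) (nat_lit 15905) (nat_lit 0x805e09250196)
  .nil))) (nat_lit 0xb0a0510b540c) (nat_lit 12944) (nat_lit 0xd8502805aa06) (.node (.node (.node .nil (nat_lit
  0xb0a0510c16a8) (nat_lit 14305) (nat_lit 0x805e093e0052) .nil) (nat_lit 0xb0a0510d0d24) (nat_lit 57360)
  (nat_lit 0xd85028068692) (.node .nil (nat_lit 0xb0a0510e088e) (nat_lit 19600) (nat_lit 0xd85028070447)
  .nil)) (nat_lit 0xb0a0510f1302) (nat_lit 3088) (nat_lit 0xd85028078981) (.node (.node .nil (nat_lit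
  0xb12284009959) (nat_lit 55520) (nat_lit 0x989142272211) .nil) (nat_lit 0xb12284024c5a) (nat_lit 56977)
  (nat_lit 0xe0206c0cc912) .nil))) (nat_lit 0xb1228402d503) (nat_lit 57840) (nat_lit 0x98914226043c) (.node
  (.node (.node (.node .nil (nat_lit 0xb12284041572) (nat_lit 58320) (nat_lit 0x989142020ab9) .nil) (nat_lit
  0xb12284048c2b) (nat_lit 47745) (nat_lit 0xc8a118131681) (.node .nil (nat_lit 0xb12284065928) (nat_lit
  15025) (nat_lit 0x88494c131681) .nil)) (nat_lit 0xb1228406c071) (nat_lit 33505) (nat_lit 0xc4680a131681)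
  (.node (.node .nil (nat_lit 0xb12284084539) (nat_lit 36785) (nat_lit 0xa0e106131681) .nil) (nat_lit
  0xb1228408dc60) (nat_lit 31953) (nat_lit 0xecc04000293e) .nil)) (nat_lit 0xb122840a0963) (nat_lit 44433)
  (nat_lit 0xac2814131681) (.node (.node (.node .nil (nat_lit 0xb122840a903a) (nat_lit 12032) (nat_lit
  0x98914205481d) .nil) (nat_lit 0xb122840c504b) (nat_lit 30912) (nat_lit 0x989142214698) (.node .nil (nat_lit
  0xb122840cc912) (nat_lit 59457) (nat_lit 0x84a960131681) .nil)) (nat_lit 0xb122840e1c11) (nat_lit 56208)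
  (nat_lit 0x9891422060b5) (.node (.node .nil (nat_lit 0xb122840e8548) (nat_lit 28209) (nat_lit
  0x886072131681) .nil) (nat_lit 0xb1d40000293e) (nat_lit 55153) (nat_lit 0xc508c410132b) .nil))))))
def tT_21 : T := (.node (.node (.node (.node (.node (.node (.node .nil (nat_lit 0xb1d400022387) (nat_lit
  46193) (nat_lit 0xaf048010132b) .nil) (nat_lit 0xb1d4000401ed) (nat_lit 28081) (nat_lit 0xe3a8000c44d4)
  (.node .nil (nat_lit 0xb1d4000428d3) (nat_lit 39664) (nat_lit 0x98ea00250196) .nil)) (nat_lit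
  0xb1d400060b54) (nat_lit 41057) (nat_lit 0x89a44410132b) (.node (.node .nil (nat_lit 0xb1d40006226a)
  (nat_lit 8785) (nat_lit 0xa3405410132b) .nil) (nat_lit 0xb1d4000803da) (nat_lit 41153) (nat_lit
  0xc6245010132b) (.node .nil (nat_lit 0xb1d400082ae4) (nat_lit 50384) (nat_lit 0x98ea00041572) .nil)))
  (nat_lit 0xb1d4000a0963) (nat_lit 1585) (nat_lit 0xac281410132b) (.node (.node (.node .nil (nat_lit
  0xb1d4000a205d) (nat_lit 46897) (nat_lit 0x86cc0410132b) .nil) (nat_lit 0xb1d4000c0237) (nat_lit 9217)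
  (nat_lit 0xca608410132b) (.node .nil (nat_lit 0xb1d4000c2b09) (nat_lit 52625) (nat_lit 0xe084940f6840)
  .nil)) (nat_lit 0xb1d4000e088e) (nat_lit 2513) (nat_lit 0xa06cc010132b) (.node (.node .nil (nat_lit
  0xb1d4000e21b0) (nat_lit 50961) (nat_lit 0x8a88d010132b) .nil) (nat_lit 0xb20e1000b067) (nat_lit 34113)
  (nat_lit 0x8a2c28045391) .nil))) (nat_lit 0xb20e100160ce) (nat_lit 53793) (nat_lit 0xe0206c045391) (.node
  (.node (.node (.node .nil (nat_lit 0xb20e1001d0a9) (nat_lit 10129) (nat_lit 0x91a02a045391) .nil) (nat_lit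
  0xb20e100401ed) (nat_lit 29169) (nat_lit 0xe3a800045391) (.node .nil (nat_lit 0xb20e1004b18a) (nat_lit
  55008) (nat_lit 0x9907080258c5) .nil)) (nat_lit 0xb20e10056123) (nat_lit 12929) (nat_lit 0xf8240203886c)
  (.node (.node .nil (nat_lit 0xb20e1005d144) (nat_lit 51921) (nat_lit 0x89a444045391) .nil) (nat_lit
  0xb20e100851a6) (nat_lit 11137) (nat_lit 0xd08c48045391) (.node .nil (nat_lit 0xb20e1008e1c1) (nat_lit
  24849) (nat_lit 0xa10c0e045391) .nil))) (nat_lit 0xb20e10093168) (nat_lit 22576) (nat_lit 0x9907080498b4)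
  (.node (.node (.node .nil (nat_lit 0xb20e1009810f) (nat_lit 3073) (nat_lit 0xba800c045391) .nil) (nat_lit
  0xb20e100c504b) (nat_lit 24752) (nat_lit 0x99070820d0d2) (.node .nil (nat_lit 0xb20e100ce02c) (nat_lit
  28993) (nat_lit 0xb90860045391) .nil)) (nat_lit 0xb20e100d3085) (nat_lit 21489) (nat_lit 0xd30424045391)
  (.node (.node .nil (nat_lit 0xb20e100d80e2) (nat_lit 19585) (nat_lit 0xa28462045391) .nil) (nat_lit
  0xb3010300527c) (nat_lit 22353) (nat_lit 0xbc120102e8a2) .nil)))) (nat_lit 0xb3010300a4f8) (nat_lit 22401)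
  (nat_lit 0xbc120101ed08) (.node (.node (.node (.node (.node .nil (nat_lit 0xb3010300f684) (nat_lit 52545)
  (nat_lit 0xbc12010305aa) .nil) (nat_lit 0xb30103043c4c) (nat_lit 26528) (nat_lit 0xd98081021e26) (.node .nil
  (nat_lit 0xb30103046e30) (nat_lit 51760) (nat_lit 0xd98081023718) .nil)) (nat_lit 0xb301030498b4) (nat_lit
  45425) (nat_lit 0xbc1201008dc6) (.node (.node .nil (nat_lit 0xb3010304cac8) (nat_lit 46865) (nat_lit
  0xbc1201026564) .nil) (nat_lit 0xb30103082ae4) (nat_lit 14560) (nat_lit 0xd98081041572) (.node .nil (nat_lit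
  0xb30103087898) (nat_lit 36129) (nat_lit 0xbc120101c436) .nil))) (nat_lit 0xb30103088e1c) (nat_lit 57937)
  (nat_lit 0xbc120102c19c) (.node (.node (.node .nil (nat_lit 0xb3010308dc60) (nat_lit 46656) (nat_lit
  0xd98081046e30) .nil) (nat_lit 0xb301030c16a8) (nat_lit 14704) (nat_lit 0xd98081060b54) (.node .nil (nat_lit
  0xb301030c44d4) (nat_lit 51840) (nat_lit 0xd9808106226a) .nil)) (nat_lit 0xb301030cb250) (nat_lit 58353)
  (nat_lit 0xbc120103a152) (.node (.node .nil (nat_lit 0xb301030ce02c) (nat_lit 17968) (nat_lit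
  0xd98081067016) .nil) (nat_lit 0xb4054400e21b) (nat_lit 9136) (nat_lit 0x9a02a2258c50) .nil))) (nat_lit
  0xb405440132b2) (nat_lit 3264) (nat_lit 0x9a02a2009959) (.node (.node (.node (.node .nil (nat_lit
  0xb4054401d0a9) (nat_lit 51536) (nat_lit 0x9a02a2251509) .nil) (nat_lit 0xb40544020ab9) (nat_lit 5377)
  (nat_lit 0x85e09018046e) (.node .nil (nat_lit 0xb4054402e8a2) (nat_lit 2129) (nat_lit 0x90c0e40d241a) .nil))
  (nat_lit 0xb4054403380b) (nat_lit 13473) (nat_lit 0x9c84300160ce) (.node (.node .nil (nat_lit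
  0xb4054403da10) (nat_lit 1041) (nat_lit 0x89a4441440ba) .nil) (nat_lit 0xb40544087898) (nat_lit 23424)
  (nat_lit 0x9a02a2043c4c) .nil)) (nat_lit 0xb40544089a83) (nat_lit 13057) (nat_lit 0x8900bc14e442) (.node
  (.node (.node .nil (nat_lit 0xb40544094a2a) (nat_lit 56480) (nat_lit 0x9a02a204a515) .nil) (nat_lit
  0xb4054409a831) (nat_lit 13649) (nat_lit 0x90641c0d80e2) (.node .nil (nat_lit 0xb405440a7221) (nat_lit
  14497) (nat_lit 0x8424a619c058) .nil)) (nat_lit 0xb405440a903a) (nat_lit 20081) (nat_lit 0x9104d20ce02c)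
  (.node (.node .nil (nat_lit 0xb405440b4093) (nat_lit 20897) (nat_lit 0x9d400600a4f8) .nil) (nat_lit
  0xb405440ba288) (nat_lit 28576) (nat_lit 0x9a02a205d144) .nil))))) (nat_lit 0xb4888200527c) (nat_lit 4209)
  (nat_lit 0xb4054402e8a2) (.node (.node (.node (.node (.node (.node .nil (nat_lit 0xb4888201262d) (nat_lit
  41280) (nat_lit 0x9a44412528a8) .nil) (nat_lit 0xb48882017451) (nat_lit 23057) (nat_lit 0x904d2226a0c4)
  (.node .nil (nat_lit 0xb48882023718) (nat_lit 41616) (nat_lit 0x9a4441011b8c) .nil)) (nat_lit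
  0xb48882026564) (nat_lit 12288) (nat_lit 0x9a44410132b2) (.node (.node .nil (nat_lit 0xb48882031135)
  (nat_lit 23473) (nat_lit 0xb66020008dc6) .nil) (nat_lit 0xb48882034349) (nat_lit 22065) (nat_lit
  0xb48882026564) (.node .nil (nat_lit 0xb48882081745) (nat_lit 11312) (nat_lit 0x9a444121b01c) .nil)))
  (nat_lit 0xb48882084539) (nat_lit 14161) (nat_lit 0xa0e106160ce0) (.node (.node (.node .nil (nat_lit
  0xb48882093168) (nat_lit 19265) (nat_lit 0x8641c230ac24) .nil) (nat_lit 0xb48882096314) (nat_lit 7232)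
  (nat_lit 0x9a444104b18a) (.node .nil (nat_lit 0xb488820a205d) (nat_lit 19840) (nat_lit 0x9a444120ab90)
  .nil)) (nat_lit 0xb488820a7221) (nat_lit 25697) (nat_lit 0x8424a632c940) (.node (.node .nil (nat_lit
  0xb488820b0670) (nat_lit 5104) (nat_lit 0x9a4441058338) .nil) (nat_lit 0xb488820b540c) (nat_lit 8321)
  (nat_lit 0xa06cc0168126) .nil))) (nat_lit 0xb6602000149f) (nat_lit 10417) (nat_lit 0x8bc1203008dc) (.node
  (.node (.node (.node .nil (nat_lit 0xb66020008dc6) (nat_lit 13168) (nat_lit 0x9b30100046e3) .nil) (nat_lit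
  0xb66020009959) (nat_lit 23969) (nat_lit 0xa0c8381b01c4) (.node .nil (nat_lit 0xb66020010f13) (nat_lit
  58000) (nat_lit 0x9b3010244866) .nil)) (nat_lit 0xb66020011b8c) (nat_lit 10385) (nat_lit 0x88494c3380b0)
  (.node (.node .nil (nat_lit 0xb660200182d5) (nat_lit 2049) (nat_lit 0x934888288174) .nil) (nat_lit
  0xb6602001964a) (nat_lit 25377) (nat_lit 0xa340541889a8) (.node .nil (nat_lit 0xb660200803da) (nat_lit
  23281) (nat_lit 0x92017829c884) .nil))) (nat_lit 0xb66020081745) (nat_lit 33377) (nat_lit 0xa209a419c058)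
  (.node (.node (.node .nil (nat_lit 0xb66020088e1c) (nat_lit 22448) (nat_lit 0x9b301004470e) .nil) (nat_lit
  0xb66020089a83) (nat_lit 2017) (nat_lit 0x8900bc32c940) (.node .nil (nat_lit 0xb66020090cc9) (nat_lit 35409)
  (nat_lit 0x9189142a40e8) .nil)) (nat_lit 0xb66020091856) (nat_lit 4177) (nat_lit 0xa181c81a4834) (.node
  (.node .nil (nat_lit 0xb6602009810f) (nat_lit 34513) (nat_lit 0xba800c0149f0) .nil) (nat_lit 0xb66020099590)
  (nat_lit 33345) (nat_lit 0x8a88d031412c) .nil)))) (nat_lit 0xb8419000b067) (nat_lit 14544) (nat_lit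
  0x9c20c8238704) (.node (.node (.node (.node (.node .nil (nat_lit 0xb8419001262d) (nat_lit 58656) (nat_lit
  0x9c20c8234c21) .nil) (nat_lit 0xb8419001964a) (nat_lit 49520) (nat_lit 0x9c20c800cb25) (.node .nil (nat_lit
  0xb84190021e26) (nat_lit 6433) (nat_lit 0xd08c480e21b0) .nil)) (nat_lit 0xb8419002ae41) (nat_lit 21536)
  (nat_lit 0x9c20c8228817) (.node (.node .nil (nat_lit 0xb8419003380b) (nat_lit 1088) (nat_lit 0x9c20c8224332)
  .nil) (nat_lit 0xb8419003886c) (nat_lit 48560) (nat_lit 0x9c20c801c436) (.node .nil (nat_lit 0xb84190043c4c)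
  (nat_lit 41776) (nat_lit 0x9c20c8021e26) .nil))) (nat_lit 0xb84190048c2b) (nat_lit 40048) (nat_lit
  0x9c20c8219922) (.node (.node (.node .nil (nat_lit 0xb84190051a61) (nat_lit 5857) (nat_lit 0xd028b00e8548)
  .nil) (nat_lit 0xb8419005aa06) (nat_lit 5424) (nat_lit 0x9c20c802d503) (.node .nil (nat_lit 0xb8419006226a)
  (nat_lit 5729) (nat_lit 0x920178215207) .nil)) (nat_lit 0xb8419006920d) (nat_lit 38273) (nat_lit
  0xc680a8182d50) (.node (.node .nil (nat_lit 0xb84190070447) (nat_lit 2176) (nat_lit 0x9c20c8205d14) .nil)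
  (nat_lit 0xb8419007b420) (nat_lit 22704) (nat_lit 0x9c20c803da10) .nil))) (nat_lit 0xb9086000149f) (nat_lit
  51296) (nat_lit 0x9c8430237180) (.node (.node (.node (.node .nil (nat_lit 0xb9086000e21b) (nat_lit 29472)
  (nat_lit 0x9c8430230ac2) .nil) (nat_lit 0xb9086000f684) (nat_lit 7841) (nat_lit 0xecc0400305aa) (.node .nil
  (nat_lit 0xb90860022387) (nat_lit 27664) (nat_lit 0x9c8430226a0c) .nil)) (nat_lit 0xb90860023718) (nat_lit
  54272) (nat_lit 0x9c8430011b8c) (.node (.node .nil (nat_lit 0xb9086002c19c) (nat_lit 13025) (nat_lit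
  0xc805e0103a15) .nil) (nat_lit 0xb9086002d503) (nat_lit 7120) (nat_lit 0x9c843022114e) .nil)) (nat_lit
  0xb9086004470e) (nat_lit 54561) (nat_lit 0x854468103a15) (.node (.node (.node .nil (nat_lit 0xb90860045391)
  (nat_lit 16992) (nat_lit 0x9c8430215207) .nil) (nat_lit 0xb9086004a515) (nat_lit 47584) (nat_lit
  0x9c8430212945) (.node .nil (nat_lit 0xb9086004b18a) (nat_lit 53328) (nat_lit 0x9c84300258c5) .nil))
  (nat_lit 0xb90860066489) (nat_lit 53649) (nat_lit 0xc58502103a15) (.node (.node .nil (nat_lit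
  0xb90860067016) (nat_lit 3441) (nat_lit 0xa181c8103a15) .nil) (nat_lit 0xb90860068692) (nat_lit 8625)
  (nat_lit 0xa28462103a15) .nil))))))
def tT_22 : T := (.node (.node (.node (.node (.node (.node (.node .nil (nat_lit 0xba800c003da1) (nat_lit
  39136) (nat_lit 0x9d400622a129) .nil) (nat_lit 0xba800c0046e3) (nat_lit 18705) (nat_lit 0x89298206920d)
  (.node .nil (nat_lit 0xba800c007b42) (nat_lit 41264) (nat_lit 0x9d4006003da1) .nil)) (nat_lit
  0xba800c010f13) (nat_lit 32128) (nat_lit 0x9d4006223870) (.node (.node .nil (nat_lit 0xba800c0132b2)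
  (nat_lit 16576) (nat_lit 0x9d4006009959) .nil) (nat_lit 0xba800c0149f0) (nat_lit 20880) (nat_lit
  0x9d400600a4f8) (.node .nil (nat_lit 0xba800c017451) (nat_lit 36944) (nat_lit 0x9d40062205d1) .nil)))
  (nat_lit 0xba800c041572) (nat_lit 28049) (nat_lit 0x9104d206920d) (.node (.node (.node .nil (nat_lit
  0xba800c0428d3) (nat_lit 41041) (nat_lit 0xc94c1006920d) .nil) (nat_lit 0xba800c045391) (nat_lit 1553)
  (nat_lit 0xe140a206920d) (.node .nil (nat_lit 0xba800c046e30) (nat_lit 45088) (nat_lit 0x9d4006023718)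
  .nil)) (nat_lit 0xba800c051a61) (nat_lit 50160) (nat_lit 0x9d40062032c9) (.node (.node .nil (nat_lit
  0xba800c0527c0) (nat_lit 45648) (nat_lit 0x9d40060293e0) .nil) (nat_lit 0xba800c055c82) (nat_lit 19665)
  (nat_lit 0xa06cc006920d) .nil))) (nat_lit 0xba800c056123) (nat_lit 13361) (nat_lit 0xf824020149f0) (.node
  (.node (.node (.node .nil (nat_lit 0xbc120100293e) (nat_lit 52129) (nat_lit 0xc012a515094a) .nil) (nat_lit
  0xbc1201008dc6) (nat_lit 30496) (nat_lit 0xde09000046e3) (.node .nil (nat_lit 0xbc120100a4f8) (nat_lit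
  40913) (nat_lit 0xc012a501ed08) .nil)) (nat_lit 0xbc12010149f0) (nat_lit 31649) (nat_lit 0xc012a50e8548)
  (.node (.node .nil (nat_lit 0xbc12010160ce) (nat_lit 25265) (nat_lit 0xc012a51b8c02) .nil) (nat_lit
  0xbc120101c436) (nat_lit 22096) (nat_lit 0xde090000e21b) (.node .nil (nat_lit 0xbc120101ed08) (nat_lit
  12496) (nat_lit 0xde090000f684) .nil))) (nat_lit 0xbc1201024c5a) (nat_lit 49009) (nat_lit 0xc012a50cc912)
  (.node (.node (.node .nil (nat_lit 0xbc1201026564) (nat_lit 32017) (nat_lit 0xc012a519c058) .nil) (nat_lit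
  0xbc120102c19c) (nat_lit 48097) (nat_lit 0xc012a5182d50) (.node .nil (nat_lit 0xbc120102e8a2) (nat_lit
  12464) (nat_lit 0xde0900017451) .nil)) (nat_lit 0xbc12010305aa) (nat_lit 38721) (nat_lit 0xc012a5024c5a)
  (.node (.node .nil (nat_lit 0xbc1201032c94) (nat_lit 56352) (nat_lit 0xde090001964a) .nil) (nat_lit
  0xbc120103886c) (nat_lit 55040) (nat_lit 0xde090001c436) .nil)))) (nat_lit 0xbc120103a152) (nat_lit 49249)
  (nat_lit 0xc012a503a152) (.node (.node (.node (.node (.node .nil (nat_lit 0xc0063a0258c5) (nat_lit 12161)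
  (nat_lit 0x87083208e1c1) .nil) (nat_lit 0xc0063a05d144) (nat_lit 58512) (nat_lit 0xa0031d02e8a2) (.node .nil
  (nat_lit 0xc0063a078981) (nat_lit 16496) (nat_lit 0xa0031d1c3822) .nil)) (nat_lit 0xc0063a08e1c1) (nat_lit
  27281) (nat_lit 0xa10c0e08e1c1) (.node (.node .nil (nat_lit 0xc0063a0ab904) (nat_lit 9456) (nat_lit
  0xa0031d055c82) .nil) (nat_lit 0xc0063a0d3085) (nat_lit 7313) (nat_lit 0xd3042408e1c1) (.node .nil (nat_lit
  0xc0063a0f6840) (nat_lit 20816) (nat_lit 0xa0031d07b420) .nil))) (nat_lit 0xc0063a11b8c0) (nat_lit 29377)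
  (nat_lit 0xe6020608e1c1) (.node (.node (.node .nil (nat_lit 0xc0063a13e005) (nat_lit 30657) (nat_lit
  0x96140a08e1c1) .nil) (nat_lit 0xc0063a146984) (nat_lit 57776) (nat_lit 0xa0031d0a34c2) (.node .nil (nat_lit
  0xc0063a163141) (nat_lit 11601) (nat_lit 0xe41c2008e1c1) .nil)) (nat_lit 0xc0063a195901) (nat_lit 52337)
  (nat_lit 0xb0103608e1c1) (.node (.node .nil (nat_lit 0xc0063a1b01c4) (nat_lit 27952) (nat_lit
  0xa0031d0d80e2) .nil) (nat_lit 0xc0063a1c8845) (nat_lit 18368) (nat_lit 0xa0031d11b8c0) .nil))) (nat_lit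
  0xc0063a1ed080) (nat_lit 39553) (nat_lit 0xb20e1008e1c1) (.node (.node (.node (.node .nil (nat_lit
  0xc012a501ed08) (nat_lit 25985) (nat_lit 0x8320e130851a) .nil) (nat_lit 0xc012a5024c5a) (nat_lit 24096)
  (nat_lit 0xe0095201262d) (.node .nil (nat_lit 0xc012a503a152) (nat_lit 34608) (nat_lit 0xe0095201d0a9)
  .nil)) (nat_lit 0xc012a50cc912) (nat_lit 34368) (nat_lit 0xe00952066489) (.node (.node .nil (nat_lit
  0xc012a50d241a) (nat_lit 29984) (nat_lit 0xe0095206920d) .nil) (nat_lit 0xc012a50e8548) (nat_lit 18833)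
  (nat_lit 0x8320e1185612) (.node .nil (nat_lit 0xc012a50f6840) (nat_lit 24448) (nat_lit 0xe0095207b420)
  .nil))) (nat_lit 0xc012a514e442) (nat_lit 59008) (nat_lit 0xe009520a7221) (.node (.node (.node .nil (nat_lit
  0xc012a515094a) (nat_lit 38240) (nat_lit 0xe009520a84a5) .nil) (nat_lit 0xc012a516a818) (nat_lit 54688)
  (nat_lit 0xe009520b540c) (.node .nil (nat_lit 0xc012a5174510) (nat_lit 54848) (nat_lit 0xe009520ba288)
  .nil)) (nat_lit 0xc012a5182d50) (nat_lit 33200) (nat_lit 0xe009520c16a8) (.node (.node .nil (nat_lit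
  0xc012a519c058) (nat_lit 19168) (nat_lit 0xe009520ce02c) .nil) (nat_lit 0xc012a51a610a) (nat_lit 21776)
  (nat_lit 0xe009520d3085) .nil))))) (nat_lit 0xc012a51b8c02) (nat_lit 14369) (nat_lit 0x8320e11c111c) (.node
  (.node (.node (.node (.node (.node .nil (nat_lit 0xc02f0401d0a9) (nat_lit 37568) (nat_lit 0xa017821f0029)
  .nil) (nat_lit 0xc02f0406c071) (nat_lit 38801) (nat_lit 0xc4680a199224) (.node .nil (nat_lit 0xc02f040710d8)
  (nat_lit 38544) (nat_lit 0xa0178203886c) .nil)) (nat_lit 0xc02f040a903a) (nat_lit 45889) (nat_lit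
  0xd11a020ce02c) (.node (.node .nil (nat_lit 0xc02f040b4093) (nat_lit 36961) (nat_lit 0x9d40062205d1) .nil)
  (nat_lit 0xc02f040c504b) (nat_lit 8016) (nat_lit 0xa0178219c058) (.node .nil (nat_lit 0xc02f040d80e2)
  (nat_lit 27728) (nat_lit 0xa0178206c071) .nil))) (nat_lit 0xc02f041280cb) (nat_lit 4384) (nat_lit
  0xa0178216a818) (.node (.node (.node .nil (nat_lit 0xc02f04135062) (nat_lit 8577) (nat_lit 0xc1c20c1c3822)
  .nil) (nat_lit 0xc02f041440ba) (nat_lit 18976) (nat_lit 0xa017820a205d) (.node .nil (nat_lit 0xc02f04159013)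
  (nat_lit 12961) (nat_lit 0xd8502805aa06) .nil)) (nat_lit 0xc02f041810f1) (nat_lit 32449) (nat_lit
  0x8178242205d1) (.node (.node .nil (nat_lit 0xc02f0419c058) (nat_lit 7777) (nat_lit 0xcd222010d80e) .nil)
  (nat_lit 0xc02f041ed080) (nat_lit 54864) (nat_lit 0xa017820f6840) .nil))) (nat_lit 0xc02f041f0029) (nat_lit
  3872) (nat_lit 0xa01782106869) (.node (.node (.node (.node .nil (nat_lit 0xc040d9021e26) (nat_lit 43456)
  (nat_lit 0xe0206c010f13) .nil) (nat_lit 0xc040d905aa06) (nat_lit 20865) (nat_lit 0x81c843243324) (.node .nil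
  (nat_lit 0xc040d907b420) (nat_lit 16561) (nat_lit 0x81c8432a1294) .nil)) (nat_lit 0xc040d908a722) (nat_lit
  53776) (nat_lit 0xe0206c045391) (.node (.node .nil (nat_lit 0xc040d90ab904) (nat_lit 55168) (nat_lit
  0xe0206c055c82) .nil) (nat_lit 0xc040d90d0d24) (nat_lit 481) (nat_lit 0x81c8430c16a8) (.node .nil (nat_lit
  0xc040d90f1302) (nat_lit 10832) (nat_lit 0xe0206c078981) .nil))) (nat_lit 0xc040d9113506) (nat_lit 1408)
  (nat_lit 0xe0206c089a83) (.node (.node (.node .nil (nat_lit 0xc040d9132b20) (nat_lit 53536) (nat_lit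
  0xe0206c099590) .nil) (nat_lit 0xc040d9149f00) (nat_lit 9392) (nat_lit 0xe0206c0a4f80) (.node .nil (nat_lit
  0xc040d9168126) (nat_lit 45137) (nat_lit 0x81c8431007b4) .nil)) (nat_lit 0xc040d9199224) (nat_lit 35649)
  (nat_lit 0x81c8431230ac) (.node (.node .nil (nat_lit 0xc040d91b8c02) (nat_lit 41168) (nat_lit
  0xe0206c0dc601) .nil) (nat_lit 0xc040d91c3822) (nat_lit 45344) (nat_lit 0xe0206c0e1c11) .nil)))) (nat_lit
  0xc040d91e2604) (nat_lit 35185) (nat_lit 0x81c843382238) (.node (.node (.node (.node (.node .nil (nat_lit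
  0xc05446020ab9) (nat_lit 14832) (nat_lit 0xa02a231ed080) .nil) (nat_lit 0xc05446058338) (nat_lit 9489)
  (nat_lit 0x8516140a0963) (.node .nil (nat_lit 0xc05446078981) (nat_lit 46416) (nat_lit 0xa02a231c111c)
  .nil)) (nat_lit 0xc0544609a831) (nat_lit 12993) (nat_lit 0x90641c0a0963) (.node (.node .nil (nat_lit
  0xc054460ba288) (nat_lit 29073) (nat_lit 0xe072100a0963) .nil) (nat_lit 0xc054460c2b09) (nat_lit 34016)
  (nat_lit 0xa02a2319c058) (.node .nil (nat_lit 0xc054460e21b0) (nat_lit 55760) (nat_lit 0xa02a230710d8)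
  .nil))) (nat_lit 0xc05446112199) (nat_lit 3121) (nat_lit 0xb1d4000a0963) (.node (.node (.node .nil (nat_lit
  0xc05446132b20) (nat_lit 10208) (nat_lit 0xa02a23099590) .nil) (nat_lit 0xc0544614a2a1) (nat_lit 28001)
  (nat_lit 0xc134880a0963) (.node .nil (nat_lit 0xc0544616a818) (nat_lit 23680) (nat_lit 0xa02a230b540c)
  .nil)) (nat_lit 0xc054461889a8) (nat_lit 25840) (nat_lit 0xa02a230c44d4) (.node (.node .nil (nat_lit
  0xc054461a8311) (nat_lit 14097) (nat_lit 0xa4508c0a0963) .nil) (nat_lit 0xc054461d0a90) (nat_lit 18417)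
  (nat_lit 0xa4a6080a0963) .nil))) (nat_lit 0xc054461f0029) (nat_lit 31601) (nat_lit 0xd4b0040a0963) (.node
  (.node (.node (.node .nil (nat_lit 0xc0a2c2031135) (nat_lit 48752) (nat_lit 0xa051611e2604) .nil) (nat_lit
  0xc0a2c205481d) (nat_lit 11248) (nat_lit 0xa051611d0a90) (.node .nil (nat_lit 0xc0a2c2065928) (nat_lit
  16769) (nat_lit 0x925304090cc9) .nil)) (nat_lit 0xc0a2c2084539) (nat_lit 45185) (nat_lit 0xa0e106090cc9)
  (.node (.node .nil (nat_lit 0xc0a2c20b540c) (nat_lit 28721) (nat_lit 0xe07210090cc9) .nil) (nat_lit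
  0xc0a2c20d0d24) (nat_lit 36113) (nat_lit 0x84d222090cc9) .nil)) (nat_lit 0xc0a2c20e1c11) (nat_lit 38192)
  (nat_lit 0xa0516118a096) (.node (.node (.node .nil (nat_lit 0xc0a2c2111c38) (nat_lit 57697) (nat_lit
  0xe60206090cc9) .nil) (nat_lit 0xc0a2c2120d0d) (nat_lit 20305) (nat_lit 0xa69110090cc9) (.node .nil (nat_lit
  0xc0a2c2145425) (nat_lit 27088) (nat_lit 0xa0516115848c) .nil)) (nat_lit 0xc0a2c2174510) (nat_lit 34945)
  (nat_lit 0x82a234090cc9) (.node (.node .nil (nat_lit 0xc0a2c2195901) (nat_lit 25936) (nat_lit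
  0xa0516113021e) .nil) (nat_lit 0xc0a2c21a4834) (nat_lit 4241) (nat_lit 0xf08320067016) .nil))))))
def tT_23 : T := (.node (.node (.node (.node (.node (.node (.node .nil (nat_lit 0xc0a2c21f0029) (nat_lit
  18768) (nat_lit 0xa05161102e8a) .nil) (nat_lit 0xc0d98001262d) (nat_lit 32288) (nat_lit 0xa06cc01f0029)
  (.node .nil (nat_lit 0xc0d98006226a) (nat_lit 55953) (nat_lit 0x92530421007b) .nil)) (nat_lit
  0xc0d980070447) (nat_lit 12513) (nat_lit 0xde090000f684) (.node (.node .nil (nat_lit 0xc0d9800a205d)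
  (nat_lit 60241) (nat_lit 0x86cc0421007b) .nil) (nat_lit 0xc0d9800b0670) (nat_lit 17264) (nat_lit
  0xa06cc0058338) (.node .nil (nat_lit 0xc0d9800c0237) (nat_lit 12560) (nat_lit 0xa06cc0199224) .nil)))
  (nat_lit 0xc0d9800d241a) (nat_lit 19648) (nat_lit 0xa06cc006920d) (.node (.node (.node .nil (nat_lit
  0xc0d980122433) (nat_lit 8304) (nat_lit 0xa06cc0168126) .nil) (nat_lit 0xc0d98013021e) (nat_lit 57344)
  (nat_lit 0xa06cc009810f) (.node .nil (nat_lit 0xc0d980140659) (nat_lit 53616) (nat_lit 0xa06cc0159013)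
  .nil)) (nat_lit 0xc0d980152074) (nat_lit 22976) (nat_lit 0xa06cc00a903a) (.node (.node .nil (nat_lit
  0xc0d98018046e) (nat_lit 15712) (nat_lit 0xa06cc00c0237) .nil) (nat_lit 0xc0d980192243) (nat_lit 44881)
  (nat_lit 0x981c8421007b) .nil))) (nat_lit 0xc0d9801e2604) (nat_lit 54945) (nat_lit 0x98ea0021007b) (.node
  (.node (.node (.node .nil (nat_lit 0xc0d9801f0029) (nat_lit 2496) (nat_lit 0xa06cc010132b) .nil) (nat_lit
  0xc0e421011b8c) (nat_lit 11760) (nat_lit 0xe07210008dc6) (.node .nil (nat_lit 0xc0e421060b54) (nat_lit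
  49089) (nat_lit 0x80254b199224) .nil)) (nat_lit 0xc0e4210710d8) (nat_lit 28912) (nat_lit 0xe0721003886c)
  (.node (.node .nil (nat_lit 0xc0e4210803da) (nat_lit 17808) (nat_lit 0xe072100401ed) .nil) (nat_lit
  0xc0e421091856) (nat_lit 36240) (nat_lit 0xe07210048c2b) (.node .nil (nat_lit 0xc0e4210e088e) (nat_lit
  40416) (nat_lit 0xe07210070447) .nil))) (nat_lit 0xc0e4210f1302) (nat_lit 54081) (nat_lit 0x80254b03da10)
  (.node (.node (.node .nil (nat_lit 0xc0e421121992) (nat_lit 28704) (nat_lit 0xe07210090cc9) .nil) (nat_lit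
  0xc0e42113021e) (nat_lit 29809) (nat_lit 0x80254b1ed080) (.node .nil (nat_lit 0xc0e4211412c6) (nat_lit
  29056) (nat_lit 0xe072100a0963) .nil)) (nat_lit 0xc0e42115094a) (nat_lit 53344) (nat_lit 0xe072100a84a5)
  (.node (.node .nil (nat_lit 0xc0e4211a1a48) (nat_lit 50848) (nat_lit 0xe072100d0d24) .nil) (nat_lit
  0xc0e4211b01c4) (nat_lit 40081) (nat_lit 0x80254b371804) .nil)))) (nat_lit 0xc0e4211c111c) (nat_lit 11792)
  (nat_lit 0xe072100e088e) (.node (.node (.node (.node (.node .nil (nat_lit 0xc0e4211d0a90) (nat_lit 23488)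
  (nat_lit 0xe072100e8548) .nil) (nat_lit 0xc1092900f684) (nat_lit 2673) (nat_lit 0xb0a0510305aa) (.node .nil
  (nat_lit 0xc10929067016) (nat_lit 30848) (nat_lit 0xe0849403380b) .nil)) (nat_lit 0xc10929068692) (nat_lit
  7409) (nat_lit 0xb0a051021e26) (.node (.node .nil (nat_lit 0xc109290a34c2) (nat_lit 59152) (nat_lit
  0xe08494051a61) .nil) (nat_lit 0xc109290ac246) (nat_lit 20192) (nat_lit 0xe08494056123) (.node .nil (nat_lit
  0xc109290c44d4) (nat_lit 896) (nat_lit 0xe0849406226a) .nil))) (nat_lit 0xc109290cb250) (nat_lit 5520)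
  (nat_lit 0xe08494065928) (.node (.node (.node .nil (nat_lit 0xc109291262d0) (nat_lit 9377) (nat_lit
  0xb0a051055c82) .nil) (nat_lit 0xc10929129454) (nat_lit 1184) (nat_lit 0xe08494094a2a) (.node .nil (nat_lit
  0xc109291412c6) (nat_lit 57376) (nat_lit 0xe084940a0963) .nil)) (nat_lit 0xc1092914e442) (nat_lit 19473)
  (nat_lit 0xb0a0510742a4) (.node (.node .nil (nat_lit 0xc10929185612) (nat_lit 35488) (nat_lit
  0xe084940c2b09) .nil) (nat_lit 0xc1092918a096) (nat_lit 23153) (nat_lit 0xb0a0510b540c) .nil))) (nat_lit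
  0xc109291e2604) (nat_lit 39904) (nat_lit 0xe084940f1302) (.node (.node (.node (.node .nil (nat_lit
  0xc109291ed080) (nat_lit 27361) (nat_lit 0xb0a0510a4f80) .nil) (nat_lit 0xc120170293e0) (nat_lit 31376)
  (nat_lit 0xe0900b0149f0) (.node .nil (nat_lit 0xc1201704cac8) (nat_lit 47488) (nat_lit 0xe0900b026564)
  .nil)) (nat_lit 0xc12017065928) (nat_lit 13120) (nat_lit 0xe0900b032c94) (.node (.node .nil (nat_lit
  0xc1201708dc60) (nat_lit 35936) (nat_lit 0xe0900b046e30) .nil) (nat_lit 0xc120170a4f80) (nat_lit 16704)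
  (nat_lit 0xe0900b0527c0) .nil)) (nat_lit 0xc120170c16a8) (nat_lit 21552) (nat_lit 0xe0900b060b54) (.node
  (.node (.node .nil (nat_lit 0xc120170e8548) (nat_lit 1632) (nat_lit 0xe0900b0742a4) .nil) (nat_lit
  0xc120171055c8) (nat_lit 52145) (nat_lit 0x9a4441219922) (.node .nil (nat_lit 0xc1201712c628) (nat_lit 7249)
  (nat_lit 0x9a444104b18a) .nil)) (nat_lit 0xc12017149f00) (nat_lit 35680) (nat_lit 0xe0900b0a4f80) (.node
  (.node .nil (nat_lit 0xc12017160ce0) (nat_lit 34273) (nat_lit 0x9a44412082ae) .nil) (nat_lit 0xc120171889a8)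
  (nat_lit 11329) (nat_lit 0x9a444121b01c) .nil))))) (nat_lit 0xc120171a1a48) (nat_lit 52881) (nat_lit
  0x9a44410498b4) (.node (.node (.node (.node (.node (.node .nil (nat_lit 0xc120171c4360) (nat_lit 5121)
  (nat_lit 0x9a4441058338) .nil) (nat_lit 0xc120171ed080) (nat_lit 19857) (nat_lit 0x9a444120ab90) (.node .nil
  (nat_lit 0xc1348800cb25) (nat_lit 46064) (nat_lit 0xa09a441f0029) .nil)) (nat_lit 0xc13488060b54) (nat_lit
  33760) (nat_lit 0xa09a440305aa) (.node (.node .nil (nat_lit 0xc1348806c071) (nat_lit 59121) (nat_lit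
  0xc4680a118561) .nil) (nat_lit 0xc134880a0963) (nat_lit 16320) (nat_lit 0xa09a441a610a) (.node .nil (nat_lit
  0xc134880ac246) (nat_lit 11809) (nat_lit 0xe072100e088e) .nil))) (nat_lit 0xc134880c0237) (nat_lit 5185)
  (nat_lit 0xca6084118561) (.node (.node (.node .nil (nat_lit 0xc134880cc912) (nat_lit 29089) (nat_lit
  0x863a80118561) .nil) (nat_lit 0xc13488104157) (nat_lit 12432) (nat_lit 0xa09a44174510) (.node .nil (nat_lit
  0xc13488108a72) (nat_lit 28945) (nat_lit 0xe60206087898) .nil)) (nat_lit 0xc13488164a03) (nat_lit 19152)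
  (nat_lit 0xa09a441440ba) (.node (.node .nil (nat_lit 0xc13488168126) (nat_lit 53409) (nat_lit
  0x804a96118561) .nil) (nat_lit 0xc134881a4834) (nat_lit 38609) (nat_lit 0xe80a88067016) .nil))) (nat_lit
  0xc134881a8311) (nat_lit 37392) (nat_lit 0xa09a44122433) (.node (.node (.node (.node .nil (nat_lit
  0xc134881c4360) (nat_lit 17345) (nat_lit 0x8e4218118561) .nil) (nat_lit 0xc134881c8845) (nat_lit 40801)
  (nat_lit 0xc2181c118561) (.node .nil (nat_lit 0xc19070022387) (nat_lit 48017) (nat_lit 0xaf0480106869)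
  .nil)) (nat_lit 0xc1907004470e) (nat_lit 38656) (nat_lit 0xa0c838022387) (.node (.node .nil (nat_lit
  0xc19070066489) (nat_lit 16481) (nat_lit 0xc58502106869) .nil) (nat_lit 0xc19070086c07) (nat_lit 23952)
  (nat_lit 0xa0c8381b01c4) (.node .nil (nat_lit 0xc190700a4f80) (nat_lit 21185) (nat_lit 0xca9600106869)
  .nil))) (nat_lit 0xc190700c2b09) (nat_lit 39921) (nat_lit 0xe084940f1302) (.node (.node (.node .nil (nat_lit
  0xc190700e088e) (nat_lit 3889) (nat_lit 0xa01782106869) .nil) (nat_lit 0xc19070102e8a) (nat_lit 34224)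
  (nat_lit 0xa0c838081745) (.node .nil (nat_lit 0xc19070120d0d) (nat_lit 10289) (nat_lit 0xa69110106869)
  .nil)) (nat_lit 0xc19070146984) (nat_lit 14001) (nat_lit 0x8c8384106869) (.node (.node .nil (nat_lit
  0xc19070164a03) (nat_lit 23184) (nat_lit 0xa0c8381412c6) .nil) (nat_lit 0xc1907018428d) (nat_lit 57808)
  (nat_lit 0xa0c838131681) .nil)))) (nat_lit 0xc190701a610a) (nat_lit 40545) (nat_lit 0xc30390106869) (.node
  (.node (.node (.node (.node .nil (nat_lit 0xc190701c0583) (nat_lit 49984) (nat_lit 0xa0c838113506) .nil)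
  (nat_lit 0xc190701e2604) (nat_lit 18465) (nat_lit 0xa98212106869) (.node .nil (nat_lit 0xc1c20c003da1)
  (nat_lit 41105) (nat_lit 0xa125301280cb) .nil)) (nat_lit 0xc1c20c041572) (nat_lit 32528) (nat_lit
  0xa0e106020ab9) (.node (.node .nil (nat_lit 0xc1c20c0428d3) (nat_lit 43601) (nat_lit 0xc94c101280cb) .nil)
  (nat_lit 0xc1c20c0a0963) (nat_lit 52993) (nat_lit 0xac28141280cb) (.node .nil (nat_lit 0xc1c20c0a34c2)
  (nat_lit 50865) (nat_lit 0xe072100d0d24) .nil))) (nat_lit 0xc1c20c0e1c11) (nat_lit 27888) (nat_lit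
  0xa0e1061810f1) (.node (.node (.node .nil (nat_lit 0xc1c20c0e21b0) (nat_lit 49905) (nat_lit 0x881b301280cb)
  .nil) (nat_lit 0xc1c20c121992) (nat_lit 8513) (nat_lit 0xc02f041280cb) (.node .nil (nat_lit 0xc1c20c122433)
  (nat_lit 14144) (nat_lit 0xa0e106160ce0) .nil)) (nat_lit 0xc1c20c160ce0) (nat_lit 22497) (nat_lit
  0xa846241280cb) (.node (.node .nil (nat_lit 0xc1c20c163141) (nat_lit 51376) (nat_lit 0xa0e106140659) .nil)
  (nat_lit 0xc1c20c1810f1) (nat_lit 27617) (nat_lit 0x8178241280cb) .nil))) (nat_lit 0xc1c20c182d50) (nat_lit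
  56433) (nat_lit 0xcd22201280cb) (.node (.node (.node (.node .nil (nat_lit 0xc1c20c1c0583) (nat_lit 59921)
  (nat_lit 0xe91104046e30) .nil) (nat_lit 0xc1c20c1c3822) (nat_lit 4416) (nat_lit 0xa0e1060e1c11) (.node .nil
  (nat_lit 0xc20c8300527c) (nat_lit 16737) (nat_lit 0x8d015102e8a2) .nil)) (nat_lit 0xc20c83058338) (nat_lit
  3904) (nat_lit 0xe1064102c19c) (.node (.node .nil (nat_lit 0xc20c8305d144) (nat_lit 15648) (nat_lit
  0xe1064102e8a2) .nil) (nat_lit 0xc20c83093168) (nat_lit 27760) (nat_lit 0xe106410498b4) .nil)) (nat_lit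
  0xc20c83096314) (nat_lit 1521) (nat_lit 0x8d0151324486) (.node (.node (.node .nil (nat_lit 0xc20c830cb250)
  (nat_lit 1681) (nat_lit 0x8d015132b202) .nil) (nat_lit 0xc20c830ce02c) (nat_lit 33392) (nat_lit
  0xe10641067016) (.node .nil (nat_lit 0xc20c8310a34c) (nat_lit 32208) (nat_lit 0xe106410851a6) .nil))
  (nat_lit 0xc20c8310f130) (nat_lit 36016) (nat_lit 0xe10641087898) (.node (.node .nil (nat_lit
  0xc20c83152074) (nat_lit 8048) (nat_lit 0xe106410a903a) .nil) (nat_lit 0xc20c83157208) (nat_lit 49760)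
  (nat_lit 0xe106410ab904) .nil))))))
def tT_24 : T := (.node (.node (.node (.node (.node (.node (.node .nil (nat_lit 0xc20c8319c058) (nat_lit 8208)
  (nat_lit 0xe106410ce02c) .nil) (nat_lit 0xc20c831c111c) (nat_lit 13345) (nat_lit 0x8d0151102e8a) (.node .nil
  (nat_lit 0xc20c831c4360) (nat_lit 48192) (nat_lit 0xe106410e21b0) .nil)) (nat_lit 0xc2181c0046e3) (nat_lit
  51984) (nat_lit 0xa10c0e1ed080) (.node (.node .nil (nat_lit 0xc2181c0527c0) (nat_lit 7217) (nat_lit
  0x88320e06c071) .nil) (nat_lit 0xc2181c056123) (nat_lit 54321) (nat_lit 0xf82402011b8c) (.node .nil (nat_lit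
  0xc2181c08a722) (nat_lit 24832) (nat_lit 0xa10c0e045391) .nil))) (nat_lit 0xc2181c08e1c1) (nat_lit 15808)
  (nat_lit 0xa10c0e1a8311) (.node (.node (.node .nil (nat_lit 0xc2181c0d80e2) (nat_lit 27745) (nat_lit
  0xa0178206c071) .nil) (nat_lit 0xc2181c0dc601) (nat_lit 44304) (nat_lit 0xa10c0e1810f1) (.node .nil (nat_lit
  0xc2181c118561) (nat_lit 25889) (nat_lit 0xb0390806c071) .nil)) (nat_lit 0xc2181c11c382) (nat_lit 27264)
  (nat_lit 0xa10c0e08e1c1) (.node (.node .nil (nat_lit 0xc2181c14a2a1) (nat_lit 59200) (nat_lit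
  0xa10c0e14a2a1) .nil) (nat_lit 0xc2181c14e442) (nat_lit 38448) (nat_lit 0xa10c0e0a7221) .nil))) (nat_lit
  0xc2181c192243) (nat_lit 18096) (nat_lit 0xa10c0e1262d0) (.node (.node (.node (.node .nil (nat_lit
  0xc2181c1964a0) (nat_lit 37665) (nat_lit 0xe80a8806c071) .nil) (nat_lit 0xc2181c1c0583) (nat_lit 17232)
  (nat_lit 0xa10c0e10f130) (.node .nil (nat_lit 0xc2181c1c4360) (nat_lit 15856) (nat_lit 0xa10c0e0e21b0)
  .nil)) (nat_lit 0xc231220182d5) (nat_lit 13905) (nat_lit 0x9348882c2461) (.node (.node .nil (nat_lit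
  0xc2312204cac8) (nat_lit 22177) (nat_lit 0x9253042c2461) .nil) (nat_lit 0xc2312205481d) (nat_lit 12224)
  (nat_lit 0xa118911c4360) (.node .nil (nat_lit 0xc23122088e1c) (nat_lit 55841) (nat_lit 0xd11a0202c19c)
  .nil))) (nat_lit 0xc23122090cc9) (nat_lit 21073) (nat_lit 0x9189142c2461) (.node (.node (.node .nil (nat_lit
  0xc231220c44d4) (nat_lit 47440) (nat_lit 0xa1189106226a) .nil) (nat_lit 0xc231220dc601) (nat_lit 44912)
  (nat_lit 0xa1189118046e) (.node .nil (nat_lit 0xc2312210cc91) (nat_lit 21905) (nat_lit 0x81511a2c2461)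
  .nil)) (nat_lit 0xc23122114e44) (nat_lit 15937) (nat_lit 0xc1c20c121992) (.node (.node .nil (nat_lit
  0xc23122140659) (nat_lit 8640) (nat_lit 0xa1189114e442) .nil) (nat_lit 0xc2312215848c) (nat_lit 27184)
  (nat_lit 0xa118910ac246) .nil)))) (nat_lit 0xc2312218428d) (nat_lit 14337) (nat_lit 0x8390862c2461) (.node
  (.node (.node (.node (.node .nil (nat_lit 0xc2312219c058) (nat_lit 60449) (nat_lit 0xc3039010d80e) .nil)
  (nat_lit 0xc231221c8845) (nat_lit 29232) (nat_lit 0xa1189110a34c) (.node .nil (nat_lit 0xc231221d0a90)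
  (nat_lit 27569) (nat_lit 0x828b0a2c2461) .nil)) (nat_lit 0xc24a6000149f) (nat_lit 38736) (nat_lit
  0xa125301ed080) (.node (.node .nil (nat_lit 0xc24a6004a515) (nat_lit 14929) (nat_lit 0xe245080428d3) .nil)
  (nat_lit 0xc24a6004b18a) (nat_lit 5025) (nat_lit 0x9253040428d3) (.node .nil (nat_lit 0xc24a6009810f)
  (nat_lit 51120) (nat_lit 0xa125301a1a48) .nil))) (nat_lit 0xc24a60099590) (nat_lit 26336) (nat_lit
  0xa1253004cac8) (.node (.node (.node .nil (nat_lit 0xc24a600d241a) (nat_lit 50641) (nat_lit 0xa312280428d3)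
  .nil) (nat_lit 0xc24a600d3085) (nat_lit 12705) (nat_lit 0xd304240428d3) (.node .nil (nat_lit 0xc24a60112199)
  (nat_lit 15984) (nat_lit 0xa12530164a03) .nil)) (nat_lit 0xc24a60113506) (nat_lit 20384) (nat_lit
  0xa12530089a83) (.node (.node .nil (nat_lit 0xc24a6015848c) (nat_lit 1696) (nat_lit 0xa125300ac246) .nil)
  (nat_lit 0xc24a60159013) (nat_lit 46113) (nat_lit 0xd850280428d3) .nil))) (nat_lit 0xc24a6018a096) (nat_lit
  19297) (nat_lit 0xf083200428d3) (.node (.node (.node (.node .nil (nat_lit 0xc24a6018b409) (nat_lit 41088)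
  (nat_lit 0xa125301280cb) .nil) (nat_lit 0xc24a601c0583) (nat_lit 24353) (nat_lit 0xe911040428d3) (.node .nil
  (nat_lit 0xc24a601c111c) (nat_lit 41489) (nat_lit 0x9907080428d3) .nil)) (nat_lit 0xc281450132b2) (nat_lit
  1169) (nat_lit 0xa608491964a0) (.node (.node .nil (nat_lit 0xc28145046e30) (nat_lit 45233) (nat_lit
  0xa60849199224) .nil) (nat_lit 0xc28145055c82) (nat_lit 31713) (nat_lit 0xa6084900f684) (.node .nil (nat_lit
  0xc28145087898) (nat_lit 14016) (nat_lit 0xe140a2043c4c) .nil))) (nat_lit 0xc28145094a2a) (nat_lit 40816)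
  (nat_lit 0xe140a204a515) (.node (.node (.node .nil (nat_lit 0xc281450c16a8) (nat_lit 4689) (nat_lit
  0xa60849185612) .nil) (nat_lit 0xc281450d241a) (nat_lit 1536) (nat_lit 0xe140a206920d) (.node .nil (nat_lit
  0xc28145102e8a) (nat_lit 3857) (nat_lit 0xa60849099590) .nil)) (nat_lit 0xc28145111c38) (nat_lit 11824)
  (nat_lit 0xe140a2088e1c) (.node (.node .nil (nat_lit 0xc281451440ba) (nat_lit 42368) (nat_lit
  0xe140a20a205d) .nil) (nat_lit 0xc28145157208) (nat_lit 17360) (nat_lit 0xe140a20ab904) .nil))))) (nat_lit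
  0xc28145185612) (nat_lit 10688) (nat_lit 0xe140a20c2b09) (.node (.node (.node (.node (.node (.node .nil
  (nat_lit 0xc281451964a0) (nat_lit 44544) (nat_lit 0xe140a20cb250) .nil) (nat_lit 0xc281451c3822) (nat_lit
  13841) (nat_lit 0xa6084911c382) (.node .nil (nat_lit 0xc281451d0a90) (nat_lit 32480) (nat_lit
  0xe140a20e8548) .nil)) (nat_lit 0xc3039000b067) (nat_lit 45313) (nat_lit 0x8a2c283540c1) (.node (.node .nil
  (nat_lit 0xc30390043c4c) (nat_lit 8272) (nat_lit 0xa181c8021e26) .nil) (nat_lit 0xc30390048c2b) (nat_lit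
  57104) (nat_lit 0xa181c81c3822) (.node .nil (nat_lit 0xc30390086c07) (nat_lit 4160) (nat_lit 0xa181c81a4834)
  .nil))) (nat_lit 0xc3039008dc60) (nat_lit 19216) (nat_lit 0xa181c8046e30) (.node (.node (.node .nil (nat_lit
  0xc303900c504b) (nat_lit 36273) (nat_lit 0xc88826023718) .nil) (nat_lit 0xc303900ce02c) (nat_lit 25408)
  (nat_lit 0xa181c8067016) (.node .nil (nat_lit 0xc30390106869) (nat_lit 25648) (nat_lit 0xa181c8164a03)
  .nil)) (nat_lit 0xc3039010d80e) (nat_lit 56801) (nat_lit 0xc02f040a903a) (.node (.node .nil (nat_lit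
  0xc30390145425) (nat_lit 48288) (nat_lit 0xa181c8145425) .nil) (nat_lit 0xc3039014e442) (nat_lit 16672)
  (nat_lit 0xa181c80a7221) .nil))) (nat_lit 0xc3039018046e) (nat_lit 17521) (nat_lit 0xc0063a0ab904) (.node
  (.node (.node (.node .nil (nat_lit 0xc3039018b409) (nat_lit 40272) (nat_lit 0xa181c8122433) .nil) (nat_lit
  0xc303901c3822) (nat_lit 58113) (nat_lit 0x828b0a3540c1) (.node .nil (nat_lit 0xc303901c8845) (nat_lit 3424)
  (nat_lit 0xa181c8103a15) .nil)) (nat_lit 0xc4134801c436) (nat_lit 20640) (nat_lit 0xa209a400e21b) (.node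
  (.node .nil (nat_lit 0xc4134802e8a2) (nat_lit 31409) (nat_lit 0x9253040d241a) .nil) (nat_lit 0xc41348032c94)
  (nat_lit 34257) (nat_lit 0x88320e174510) (.node .nil (nat_lit 0xc41348086c07) (nat_lit 33360) (nat_lit
  0xa209a419c058) .nil))) (nat_lit 0xc4134809a831) (nat_lit 3456) (nat_lit 0xa209a4192243) (.node (.node
  (.node .nil (nat_lit 0xc413480a84a5) (nat_lit 51456) (nat_lit 0xa209a418b409) .nil) (nat_lit 0xc413480b4093)
  (nat_lit 3584) (nat_lit 0xa209a4185612) (.node .nil (nat_lit 0xc4134810cc91) (nat_lit 59264) (nat_lit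
  0xa209a4159013) .nil)) (nat_lit 0xc413481108a7) (nat_lit 22465) (nat_lit 0x9b301004470e) (.node (.node .nil
  (nat_lit 0xc41348122433) (nat_lit 41424) (nat_lit 0xa209a414e442) .nil) (nat_lit 0xc4134813e005) (nat_lit
  42096) (nat_lit 0xa209a4140659) .nil)))) (nat_lit 0xc4134818a096) (nat_lit 23873) (nat_lit 0x9423120b540c)
  (.node (.node (.node (.node (.node .nil (nat_lit 0xc413481964a0) (nat_lit 58897) (nat_lit 0x8e4218113506)
  .nil) (nat_lit 0xc413481a4834) (nat_lit 42960) (nat_lit 0xa209a40d241a) (.node .nil (nat_lit 0xc413481b8c02)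
  (nat_lit 18193) (nat_lit 0x8366021c111c) .nil)) (nat_lit 0xc4413401964a) (nat_lit 32801) (nat_lit
  0x8516141889a8) (.node (.node .nil (nat_lit 0xc4413402ae41) (nat_lit 17936) (nat_lit 0xa2209a1c8845) .nil)
  (nat_lit 0xc4413403380b) (nat_lit 54289) (nat_lit 0x9c8430011b8c) (.node .nil (nat_lit 0xc44134089a83)
  (nat_lit 3185) (nat_lit 0x8900bc149f00) .nil))) (nat_lit 0xc44134090cc9) (nat_lit 51824) (nat_lit
  0xa2209a195901) (.node (.node (.node .nil (nat_lit 0xc441340a34c2) (nat_lit 37073) (nat_lit 0x9092980d0d24)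
  .nil) (nat_lit 0xc441340ba288) (nat_lit 55648) (nat_lit 0xa2209a05d144) (.node .nil (nat_lit 0xc44134102e8a)
  (nat_lit 16417) (nat_lit 0x940a2c099590) .nil)) (nat_lit 0xc4413411b8c0) (nat_lit 29441) (nat_lit
  0x8c8384111c38) (.node (.node .nil (nat_lit 0xc441341280cb) (nat_lit 59697) (nat_lit 0x8d98081007b4) .nil)
  (nat_lit 0xc44134131681) (nat_lit 59888) (nat_lit 0xa2209a145425) .nil))) (nat_lit 0xc4413418b409) (nat_lit
  40193) (nat_lit 0x80952c1d0a90) (.node (.node (.node (.node .nil (nat_lit 0xc44134192243) (nat_lit 54176)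
  (nat_lit 0xa2209a114e44) .nil) (nat_lit 0xc441341a1a48) (nat_lit 22593) (nat_lit 0x9907080498b4) (.node .nil
  (nat_lit 0xc441341b8c02) (nat_lit 43041) (nat_lit 0x818ea01c111c) .nil)) (nat_lit 0xc4680a0182d5) (nat_lit
  23345) (nat_lit 0x934888243324) (.node (.node .nil (nat_lit 0xc4680a0293e0) (nat_lit 33121) (nat_lit
  0x9253042528a8) .nil) (nat_lit 0xc4680a031135) (nat_lit 19073) (nat_lit 0xb66020011b8c) .nil)) (nat_lit
  0xc4680a081745) (nat_lit 26464) (nat_lit 0xa2340519c058) (.node (.node (.node .nil (nat_lit 0xc4680a099590)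
  (nat_lit 51360) (nat_lit 0xa2340504cac8) .nil) (nat_lit 0xc4680a0a84a5) (nat_lit 1873) (nat_lit
  0x87210c305aa0) (.node .nil (nat_lit 0xc4680a0b0670) (nat_lit 28497) (nat_lit 0xa31228146984) .nil))
  (nat_lit 0xc4680a1007b4) (nat_lit 55089) (nat_lit 0x940a2c237180) (.node (.node .nil (nat_lit
  0xc4680a118561) (nat_lit 51105) (nat_lit 0xb039080742a4) .nil) (nat_lit 0xc4680a129454) (nat_lit 26209)
  (nat_lit 0xb12284065928) .nil))))))
def tT_25 : T := (.node (.node (.node (.node (.node (.node (.node .nil (nat_lit 0xc4680a1810f1) (nat_lit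
  22848) (nat_lit 0xa2340511c382) .nil) (nat_lit 0xc4680a199224) (nat_lit 24177) (nat_lit 0xa54b001230ac)
  (.node .nil (nat_lit 0xc4680a1a8311) (nat_lit 41728) (nat_lit 0xa23405108a72) .nil)) (nat_lit
  0xc4680a1b01c4) (nat_lit 59136) (nat_lit 0xa234050d80e2) (.node (.node .nil (nat_lit 0xc48a110160ce)
  (nat_lit 46608) (nat_lit 0xe2450800b067) .nil) (nat_lit 0xc48a11026564) (nat_lit 50033) (nat_lit
  0xc040d9199224) (.node .nil (nat_lit 0xc48a110305aa) (nat_lit 10304) (nat_lit 0xe245080182d5) .nil)))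
  (nat_lit 0xc48a110851a6) (nat_lit 14912) (nat_lit 0xe245080428d3) (.node (.node (.node .nil (nat_lit
  0xc48a11093168) (nat_lit 19809) (nat_lit 0xc040d90f1302) .nil) (nat_lit 0xc48a110a34c2) (nat_lit 977)
  (nat_lit 0xc040d90d0d24) (.node .nil (nat_lit 0xc48a110b540c) (nat_lit 26608) (nat_lit 0xe2450805aa06)
  .nil)) (nat_lit 0xc48a111055c8) (nat_lit 49633) (nat_lit 0xc040d91e2604) (.node (.node .nil (nat_lit
  0xc48a11113506) (nat_lit 272) (nat_lit 0xe24508089a83) .nil) (nat_lit 0xc48a111230ac) (nat_lit 28369)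
  (nat_lit 0xc040d907b420) .nil))) (nat_lit 0xc48a11135062) (nat_lit 33280) (nat_lit 0xe2450809a831) (.node
  (.node (.node (.node .nil (nat_lit 0xc48a1118046e) (nat_lit 57248) (nat_lit 0xe245080c0237) .nil) (nat_lit
  0xc48a111964a0) (nat_lit 2801) (nat_lit 0xc040d9113506) (.node .nil (nat_lit 0xc48a111a610a) (nat_lit 45264)
  (nat_lit 0xe245080d3085) .nil)) (nat_lit 0xc48a111b01c4) (nat_lit 58032) (nat_lit 0xe245080d80e2) (.node
  (.node .nil (nat_lit 0xc508c400e21b) (nat_lit 25008) (nat_lit 0xa284621d0a90) .nil) (nat_lit 0xc508c4023718)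
  (nat_lit 32945) (nat_lit 0x88320e24c5a0) (.node .nil (nat_lit 0xc508c402d503) (nat_lit 3616) (nat_lit
  0xa284621c111c) .nil))) (nat_lit 0xc508c4084539) (nat_lit 47424) (nat_lit 0xa28462195901) (.node (.node
  (.node .nil (nat_lit 0xc508c408a722) (nat_lit 19568) (nat_lit 0xa28462045391) .nil) (nat_lit 0xc508c40a7221)
  (nat_lit 29200) (nat_lit 0xa2846218428d) (.node .nil (nat_lit 0xc508c40a903a) (nat_lit 55937) (nat_lit
  0xa017820ce02c) .nil)) (nat_lit 0xc508c410132b) (nat_lit 42768) (nat_lit 0xa28462157208) (.node (.node .nil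
  (nat_lit 0xc508c410f130) (nat_lit 58257) (nat_lit 0x8c838420742a) .nil) (nat_lit 0xc508c4122433) (nat_lit
  46481) (nat_lit 0x8c75002082ae) .nil)))) (nat_lit 0xc508c412c628) (nat_lit 42224) (nat_lit 0xa28462096314)
  (.node (.node (.node (.node (.node .nil (nat_lit 0xc508c4185612) (nat_lit 1297) (nat_lit 0xa4a6080851a6)
  .nil) (nat_lit 0xc508c418b409) (nat_lit 57169) (nat_lit 0x80952c2c6282) (.node .nil (nat_lit 0xc508c41a610a)
  (nat_lit 4704) (nat_lit 0xa284620d3085) .nil)) (nat_lit 0xc508c41a8311) (nat_lit 4785) (nat_lit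
  0xa4508c08a722) (.node (.node .nil (nat_lit 0xc5850200527c) (nat_lit 56112) (nat_lit 0xa2c28100293e) .nil)
  (nat_lit 0xc58502020ab9) (nat_lit 59840) (nat_lit 0xa2c2811c3822) (.node .nil (nat_lit 0xc585020258c5)
  (nat_lit 17008) (nat_lit 0xa2c2811c111c) .nil))) (nat_lit 0xc58502082ae4) (nat_lit 16288) (nat_lit
  0xa2c281041572) (.node (.node (.node .nil (nat_lit 0xc58502087898) (nat_lit 4864) (nat_lit 0xa2c281043c4c)
  .nil) (nat_lit 0xc585020a205d) (nat_lit 25104) (nat_lit 0xa2c281182d50) (.node .nil (nat_lit 0xc585020a7221)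
  (nat_lit 18657) (nat_lit 0x8424a603da10) .nil)) (nat_lit 0xc58502103a15) (nat_lit 40352) (nat_lit
  0xa2c281152074) (.node (.node .nil (nat_lit 0xc58502106869) (nat_lit 8832) (nat_lit 0xa2c28115094a) .nil)
  (nat_lit 0xc585021230ac) (nat_lit 11440) (nat_lit 0xa2c281091856) .nil))) (nat_lit 0xc585021262d0) (nat_lit
  47520) (nat_lit 0xa2c281093168) (.node (.node (.node (.node .nil (nat_lit 0xc585021810f1) (nat_lit 39889)
  (nat_lit 0x817824068692) .nil) (nat_lit 0xc5850218428d) (nat_lit 9952) (nat_lit 0xa2c281111c38) (.node .nil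
  (nat_lit 0xc585021a1a48) (nat_lit 60561) (nat_lit 0x8366020498b4) .nil)) (nat_lit 0xc585021a4834) (nat_lit
  49712) (nat_lit 0xa2c2810d241a) (.node (.node .nil (nat_lit 0xc6245000cb25) (nat_lit 34160) (nat_lit
  0xa312281c8845) .nil) (nat_lit 0xc62450011b8c) (nat_lit 28688) (nat_lit 0xa31228008dc6) (.node .nil (nat_lit
  0xc6245001d0a9) (nat_lit 13601) (nat_lit 0x91a02a2a1294) .nil))) (nat_lit 0xc624500851a6) (nat_lit 23313)
  (nat_lit 0x9092982b2026) (.node (.node (.node .nil (nat_lit 0xc62450089a83) (nat_lit 48129) (nat_lit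
  0x8900bc32b202) .nil) (nat_lit 0xc62450094a2a) (nat_lit 34752) (nat_lit 0xa3122804a515) (.node .nil (nat_lit
  0xc6245009810f) (nat_lit 28401) (nat_lit 0xba800c0132b2) .nil)) (nat_lit 0xc6245010132b) (nat_lit 26224)
  (nat_lit 0xa3122814e442) (.node (.node .nil (nat_lit 0xc6245010d80e) (nat_lit 21681) (nat_lit
  0xb122840a903a) .nil) (nat_lit 0xc624501108a7) (nat_lit 28480) (nat_lit 0xa31228146984) .nil))))) (nat_lit
  0xc6245011c382) (nat_lit 38977) (nat_lit 0x82a23439108a) (.node (.node (.node (.node (.node (.node .nil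
  (nat_lit 0xc6245018428d) (nat_lit 56673) (nat_lit 0x839086382238) .nil) (nat_lit 0xc624501889a8) (nat_lit
  35729) (nat_lit 0x9a02a221b01c) (.node .nil (nat_lit 0xc62450195901) (nat_lit 20849) (nat_lit
  0xb010360ba288) .nil)) (nat_lit 0xc62450199224) (nat_lit 39073) (nat_lit 0xa982121230ac) (.node (.node .nil
  (nat_lit 0xc680a8007b42) (nat_lit 27456) (nat_lit 0xa34054003da1) .nil) (nat_lit 0xc680a8010f13) (nat_lit
  12257) (nat_lit 0xb84190021e26) (.node .nil (nat_lit 0xc680a8017451) (nat_lit 26672) (nat_lit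
  0xa340541c0583) .nil))) (nat_lit 0xc680a8081745) (nat_lit 3601) (nat_lit 0xa209a4185612) (.node (.node
  (.node .nil (nat_lit 0xc680a8086c07) (nat_lit 25360) (nat_lit 0xa340541889a8) .nil) (nat_lit 0xc680a8091856)
  (nat_lit 25072) (nat_lit 0xa34054048c2b) (.node .nil (nat_lit 0xc680a8096314) (nat_lit 40481) (nat_lit
  0x881b30324486) .nil)) (nat_lit 0xc680a8103a15) (nat_lit 18177) (nat_lit 0x8254b0380b06) (.node (.node .nil
  (nat_lit 0xc680a8104157) (nat_lit 14976) (nat_lit 0xa34054149f00) .nil) (nat_lit 0xc680a8113506) (nat_lit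
  24192) (nat_lit 0xa34054089a83) .nil))) (nat_lit 0xc680a8114e44) (nat_lit 18592) (nat_lit 0xa3405408a722)
  (.node (.node (.node (.node .nil (nat_lit 0xc680a8182d50) (nat_lit 23777) (nat_lit 0x9a02a2205d14) .nil)
  (nat_lit 0xc680a8185612) (nat_lit 20273) (nat_lit 0xb20e100851a6) (.node .nil (nat_lit 0xc680a8192243)
  (nat_lit 368) (nat_lit 0xa34054102e8a) .nil)) (nat_lit 0xc680a8195901) (nat_lit 8768) (nat_lit
  0xa3405410132b) (.node (.node .nil (nat_lit 0xc7500100293e) (nat_lit 56048) (nat_lit 0xe3a80000149f) .nil)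
  (nat_lit 0xc75001008dc6) (nat_lit 9600) (nat_lit 0xe3a8000046e3) (.node .nil (nat_lit 0xc7500100a4f8)
  (nat_lit 56369) (nat_lit 0xd4006301ed08) .nil))) (nat_lit 0xc750010803da) (nat_lit 60497) (nat_lit
  0xd40063023718) (.node (.node (.node .nil (nat_lit 0xc75001082ae4) (nat_lit 17744) (nat_lit 0xe3a800041572)
  .nil) (nat_lit 0xc75001088e1c) (nat_lit 41904) (nat_lit 0xe3a80004470e) (.node .nil (nat_lit 0xc7500108a722)
  (nat_lit 29152) (nat_lit 0xe3a800045391) .nil)) (nat_lit 0xc750011007b4) (nat_lit 27696) (nat_lit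
  0xe3a8000803da) (.node (.node .nil (nat_lit 0xc75001102e8a) (nat_lit 54497) (nat_lit 0xd40063099590) .nil)
  (nat_lit 0xc75001108a72) (nat_lit 6080) (nat_lit 0xe3a800084539) .nil)))) (nat_lit 0xc7500110a34c) (nat_lit
  20945) (nat_lit 0xd40063096314) (.node (.node (.node (.node (.node .nil (nat_lit 0xc7500118046e) (nat_lit
  19761) (nat_lit 0xd400630ab904) .nil) (nat_lit 0xc75001182d50) (nat_lit 22129) (nat_lit 0xd400630ba288)
  (.node .nil (nat_lit 0xc750011889a8) (nat_lit 28064) (nat_lit 0xe3a8000c44d4) .nil)) (nat_lit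
  0xc7500118a096) (nat_lit 53472) (nat_lit 0xe3a8000c504b) (.node (.node .nil (nat_lit 0xc805e000e21b)
  (nat_lit 7088) (nat_lit 0xa402f01b8c02) .nil) (nat_lit 0xc805e003380b) (nat_lit 33824) (nat_lit
  0xa402f01a610a) (.node .nil (nat_lit 0xc805e003da10) (nat_lit 33248) (nat_lit 0xa402f001ed08) .nil)))
  (nat_lit 0xc805e005481d) (nat_lit 10992) (nat_lit 0xa402f0195901) (.node (.node (.node .nil (nat_lit
  0xc805e005aa06) (nat_lit 50352) (nat_lit 0xa402f002d503) .nil) (nat_lit 0xc805e0067016) (nat_lit 1056)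
  (nat_lit 0xa402f003380b) (.node .nil (nat_lit 0xc805e006920d) (nat_lit 33697) (nat_lit 0xc680a8185612)
  .nil)) (nat_lit 0xc805e0103a15) (nat_lit 6848) (nat_lit 0xa402f013e005) (.node (.node .nil (nat_lit
  0xc805e010d80e) (nat_lit 20752) (nat_lit 0xa402f0086c07) .nil) (nat_lit 0xc805e013021e) (nat_lit 11856)
  (nat_lit 0xa402f009810f) .nil))) (nat_lit 0xc805e013e005) (nat_lit 496) (nat_lit 0xa402f0120d0d) (.node
  (.node (.node (.node .nil (nat_lit 0xc805e0157208) (nat_lit 2720) (nat_lit 0xa402f00ab904) .nil) (nat_lit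
  0xc805e0159013) (nat_lit 21648) (nat_lit 0xa402f0113506) (.node .nil (nat_lit 0xc805e0164a03) (nat_lit 7664)
  (nat_lit 0xa402f010d80e) .nil)) (nat_lit 0xc805e016a818) (nat_lit 49745) (nat_lit 0x9a02a2212945) (.node
  (.node .nil (nat_lit 0xc8384101c436) (nat_lit 24593) (nat_lit 0x800c751a610a) .nil) (nat_lit 0xc8384102c19c)
  (nat_lit 38017) (nat_lit 0x800c7527c00a) .nil)) (nat_lit 0xc838410305aa) (nat_lit 26096) (nat_lit
  0xe41c200182d5) (.node (.node (.node .nil (nat_lit 0xc8384104470e) (nat_lit 29729) (nat_lit 0x800c75157208)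
  .nil) (nat_lit 0xc83841058338) (nat_lit 6176) (nat_lit 0xe41c2002c19c) (.node .nil (nat_lit 0xc83841068692)
  (nat_lit 27024) (nat_lit 0xe41c20034349) .nil)) (nat_lit 0xc838410742a4) (nat_lit 31328) (nat_lit
  0xe41c2003a152) (.node (.node .nil (nat_lit 0xc838411007b4) (nat_lit 55872) (nat_lit 0xe41c200803da) .nil)
  (nat_lit 0xc8384111c382) (nat_lit 11584) (nat_lit 0xe41c2008e1c1) .nil))))))
def tT_26 : T := (.node (.node (.node (.node (.node (.node (.node .nil (nat_lit 0xc8384113021e) (nat_lit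
  47696) (nat_lit 0xe41c2009810f) .nil) (nat_lit 0xc838411440ba) (nat_lit 31185) (nat_lit 0x800c75360388)
  (.node .nil (nat_lit 0xc8384115848c) (nat_lit 9632) (nat_lit 0xe41c200ac246) .nil)) (nat_lit 0xc83841168126)
  (nat_lit 33648) (nat_lit 0xe41c200b4093) (.node (.node .nil (nat_lit 0xc83841174510) (nat_lit 42128)
  (nat_lit 0xe41c200ba288) .nil) (nat_lit 0xc8430300a4f8) (nat_lit 27056) (nat_lit 0xe4218100527c) (.node .nil
  (nat_lit 0xc84303032c94) (nat_lit 36161) (nat_lit 0xa800c7174510) .nil))) (nat_lit 0xc8430303886c) (nat_lit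
  42688) (nat_lit 0xe4218101c436) (.node (.node (.node .nil (nat_lit 0xc84303043c4c) (nat_lit 22944) (nat_lit
  0xe42181021e26) .nil) (nat_lit 0xc843030498b4) (nat_lit 51265) (nat_lit 0xa800c7149f00) (.node .nil (nat_lit
  0xc843030710d8) (nat_lit 47104) (nat_lit 0xe4218103886c) .nil)) (nat_lit 0xc8430307b420) (nat_lit 40672)
  (nat_lit 0xe4218103da10) (.node (.node .nil (nat_lit 0xc84303111c38) (nat_lit 7632) (nat_lit 0xe42181088e1c)
  .nil) (nat_lit 0xc8430311b8c0) (nat_lit 29649) (nat_lit 0xa800c7111c38) .nil))) (nat_lit 0xc843031230ac)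
  (nat_lit 43169) (nat_lit 0xa800c707b420) (.node (.node (.node (.node .nil (nat_lit 0xc84303129454) (nat_lit
  55233) (nat_lit 0xa800c7065928) .nil) (nat_lit 0xc84303152074) (nat_lit 15472) (nat_lit 0xe421810a903a)
  (.node .nil (nat_lit 0xc8430315848c) (nat_lit 51632) (nat_lit 0xe421810ac246) .nil)) (nat_lit
  0xc84303160ce0) (nat_lit 15168) (nat_lit 0xe421810b0670) (.node (.node .nil (nat_lit 0xc8430316a818)
  (nat_lit 38624) (nat_lit 0xe421810b540c) .nil) (nat_lit 0xc88826017451) (nat_lit 16816) (nat_lit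
  0xa444131b01c4) (.node .nil (nat_lit 0xc88826023718) (nat_lit 22224) (nat_lit 0xa44413011b8c) .nil)))
  (nat_lit 0xc88826034349) (nat_lit 33041) (nat_lit 0xb488820a205d) (.node (.node (.node .nil (nat_lit
  0xc88826045391) (nat_lit 42385) (nat_lit 0xe140a20a205d) .nil) (nat_lit 0xc888260527c0) (nat_lit 41536)
  (nat_lit 0xa444130293e0) (.node .nil (nat_lit 0xc88826066489) (nat_lit 31456) (nat_lit 0xa444131889a8)
  .nil)) (nat_lit 0xc888260710d8) (nat_lit 18993) (nat_lit 0xa017820a205d) (.node (.node .nil (nat_lit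
  0xc888261055c8) (nat_lit 40737) (nat_lit 0xd446800a205d) .nil) (nat_lit 0xc88826112199) (nat_lit 13200)
  (nat_lit 0xa44413132b20) .nil)))) (nat_lit 0xc888261262d0) (nat_lit 49793) (nat_lit 0xf08320055c82) (.node
  (.node (.node (.node (.node .nil (nat_lit 0xc88826131681) (nat_lit 56336) (nat_lit 0xa444131230ac) .nil)
  (nat_lit 0xc88826140659) (nat_lit 25296) (nat_lit 0xa4441311b8c0) (.node .nil (nat_lit 0xc88826157208)
  (nat_lit 24081) (nat_lit 0xa54b000a205d) .nil)) (nat_lit 0xc88826163141) (nat_lit 36737) (nat_lit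
  0xe41c200a205d) (.node (.node .nil (nat_lit 0xc88826174510) (nat_lit 45392) (nat_lit 0xa444130ba288) .nil)
  (nat_lit 0xc8a1180046e3) (nat_lit 12385) (nat_lit 0x89298220c44d) (.node .nil (nat_lit 0xc8a118021e26)
  (nat_lit 59681) (nat_lit 0xd11a020e21b0) .nil))) (nat_lit 0xc8a1180258c5) (nat_lit 8432) (nat_lit
  0xa4508c1a8311) (.node (.node (.node .nil (nat_lit 0xc8a118051a61) (nat_lit 54192) (nat_lit 0xa4508c192243)
  .nil) (nat_lit 0xc8a118055c82) (nat_lit 9521) (nat_lit 0x863a8020c44d) (.node .nil (nat_lit 0xc8a118070447)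
  (nat_lit 4320) (nat_lit 0xa4508c182d50) .nil)) (nat_lit 0xc8a1180742a4) (nat_lit 27856) (nat_lit
  0xa4508c03a152) (.node (.node .nil (nat_lit 0xc8a1181108a7) (nat_lit 41665) (nat_lit 0x9b301020c44d) .nil)
  (nat_lit 0xc8a118114e44) (nat_lit 4768) (nat_lit 0xa4508c08a722) .nil))) (nat_lit 0xc8a118131681) (nat_lit
  32833) (nat_lit 0x9511a020c44d) (.node (.node (.node (.node .nil (nat_lit 0xc8a118135062) (nat_lit 4352)
  (nat_lit 0xa4508c09a831) .nil) (nat_lit 0xc8a1181412c6) (nat_lit 14080) (nat_lit 0xa4508c0a0963) (.node .nil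
  (nat_lit 0xc8a118145425) (nat_lit 40448) (nat_lit 0xa4508c118561) .nil)) (nat_lit 0xc8a118160ce0) (nat_lit
  48400) (nat_lit 0xa4508c0b0670) (.node (.node .nil (nat_lit 0xc8a118164a03) (nat_lit 7505) (nat_lit
  0xcc1092132b20) .nil) (nat_lit 0xc94c1000b067) (nat_lit 18561) (nat_lit 0x8a2c28104157) (.node .nil (nat_lit
  0xc94c10022387) (nat_lit 12832) (nat_lit 0xa4a6081a4834) .nil))) (nat_lit 0xc94c100293e0) (nat_lit 24496)
  (nat_lit 0xa4a6080149f0) (.node (.node (.node .nil (nat_lit 0xc94c100401ed) (nat_lit 43488) (nat_lit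
  0xa4a608195901) .nil) (nat_lit 0xc94c1004b18a) (nat_lit 26928) (nat_lit 0xa4a6080258c5) (.node .nil (nat_lit
  0xc94c1006226a) (nat_lit 15280) (nat_lit 0xa4a608031135) .nil)) (nat_lit 0xc94c1006920d) (nat_lit 26129)
  (nat_lit 0xc680a8104157) (.node (.node .nil (nat_lit 0xc94c1010132b) (nat_lit 40641) (nat_lit
  0xa8b0a0104157) .nil) (nat_lit 0xc94c1010a34c) (nat_lit 1280) (nat_lit 0xa4a6080851a6) .nil))))) (nat_lit
  0xc94c101230ac) (nat_lit 4081) (nat_lit 0xe80a8807b420) (.node (.node (.node (.node (.node (.node .nil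
  (nat_lit 0xc94c101280cb) (nat_lit 28624) (nat_lit 0xa4a608121992) .nil) (nat_lit 0xc94c101412c6) (nat_lit
  18400) (nat_lit 0xa4a6080a0963) (.node .nil (nat_lit 0xc94c1014a2a1) (nat_lit 22305) (nat_lit
  0xc13488104157) .nil)) (nat_lit 0xc94c10163141) (nat_lit 42145) (nat_lit 0xe41c200ba288) (.node (.node .nil
  (nat_lit 0xc94c10168126) (nat_lit 24689) (nat_lit 0x818ea0104157) .nil) (nat_lit 0xca6084009959) (nat_lit
  19345) (nat_lit 0xa0c838070447) (.node .nil (nat_lit 0xca6084010f13) (nat_lit 4305) (nat_lit 0xb84190070447)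
  .nil))) (nat_lit 0xca608401964a) (nat_lit 40433) (nat_lit 0xe07210070447) (.node (.node (.node .nil (nat_lit
  0xca6084041572) (nat_lit 42801) (nat_lit 0x909298070447) .nil) (nat_lit 0xca6084048c2b) (nat_lit 8417)
  (nat_lit 0xc8a118070447) (.node .nil (nat_lit 0xca6084051a61) (nat_lit 9664) (nat_lit 0xa5304218428d) .nil))
  (nat_lit 0xca6084058338) (nat_lit 56912) (nat_lit 0xa5304202c19c) (.node (.node .nil (nat_lit
  0xca608410132b) (nat_lit 4753) (nat_lit 0xa8b0a0070447) .nil) (nat_lit 0xca6084108a72) (nat_lit 58912)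
  (nat_lit 0xa53042084539) .nil))) (nat_lit 0xca6084111c38) (nat_lit 51392) (nat_lit 0xa53042088e1c) (.node
  (.node (.node (.node .nil (nat_lit 0xca6084118561) (nat_lit 2624) (nat_lit 0xa53042120d0d) .nil) (nat_lit
  0xca6084140659) (nat_lit 22433) (nat_lit 0xc0d980070447) (.node .nil (nat_lit 0xca6084149f00) (nat_lit
  50993) (nat_lit 0x98ea00070447) .nil)) (nat_lit 0xca608415094a) (nat_lit 56816) (nat_lit 0xa530420a84a5)
  (.node (.node .nil (nat_lit 0xca6084159013) (nat_lit 19617) (nat_lit 0xd85028070447) .nil) (nat_lit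
  0xca960000293e) (nat_lit 54737) (nat_lit 0xd11a020401ed) (.node .nil (nat_lit 0xca96000149f0) (nat_lit
  22736) (nat_lit 0xa54b0000a4f8) .nil))) (nat_lit 0xca96000160ce) (nat_lit 17825) (nat_lit 0xe072100401ed)
  (.node (.node (.node .nil (nat_lit 0xca96000401ed) (nat_lit 60705) (nat_lit 0xe3a8000401ed) .nil) (nat_lit
  0xca96000428d3) (nat_lit 22640) (nat_lit 0xa54b0018a096) (.node .nil (nat_lit 0xca960005481d) (nat_lit
  59409) (nat_lit 0xd2c0120401ed) .nil)) (nat_lit 0xca9600056123) (nat_lit 36529) (nat_lit 0xf8240203da10)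
  (.node (.node .nil (nat_lit 0xca9600104157) (nat_lit 25969) (nat_lit 0xaa58020401ed) .nil) (nat_lit
  0xca9600106869) (nat_lit 11681) (nat_lit 0x80bc120401ed) .nil)))) (nat_lit 0xca96001108a7) (nat_lit 24160)
  (nat_lit 0xa54b001230ac) (.node (.node (.node (.node (.node .nil (nat_lit 0xca9600112199) (nat_lit 43009)
  (nat_lit 0xb1d4000401ed) .nil) (nat_lit 0xca96001440ba) (nat_lit 24064) (nat_lit 0xa54b000a205d) (.node .nil
  (nat_lit 0xca9600146984) (nat_lit 42032) (nat_lit 0xa54b000a34c2) .nil)) (nat_lit 0xca960015094a) (nat_lit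
  50129) (nat_lit 0x8366020401ed) (.node (.node .nil (nat_lit 0xca9600152074) (nat_lit 30129) (nat_lit
  0xa982120401ed) .nil) (nat_lit 0xcb004a003da1) (nat_lit 41568) (nat_lit 0xa580251a610a) (.node .nil (nat_lit
  0xcb004a00cb25) (nat_lit 17953) (nat_lit 0xa2209a1c8845) .nil))) (nat_lit 0xcb004a00f684) (nat_lit 45408)
  (nat_lit 0xa58025007b42) (.node (.node (.node .nil (nat_lit 0xcb004a045391) (nat_lit 45505) (nat_lit
  0xe140a2023718) .nil) (nat_lit 0xcb004a046e30) (nat_lit 34177) (nat_lit 0xa312281c8845) (.node .nil (nat_lit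
  0xcb004a0498b4) (nat_lit 36816) (nat_lit 0xa58025024c5a) .nil)) (nat_lit 0xcb004a04a515) (nat_lit 16848)
  (nat_lit 0xa58025182d50) (.node (.node .nil (nat_lit 0xcb004a1007b4) (nat_lit 31009) (nat_lit
  0xc0063a1c8845) .nil) (nat_lit 0xcb004a103a15) (nat_lit 53088) (nat_lit 0xa580251262d0) .nil))) (nat_lit
  0xcb004a10cc91) (nat_lit 22256) (nat_lit 0xa58025121992) (.node (.node (.node (.node .nil (nat_lit
  0xcb004a10f130) (nat_lit 6721) (nat_lit 0xc303901c8845) .nil) (nat_lit 0xcb004a145425) (nat_lit 31488)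
  (nat_lit 0xa580251055c8) (.node .nil (nat_lit 0xcb004a146984) (nat_lit 42337) (nat_lit 0x8063a81c8845)
  .nil)) (nat_lit 0xcb004a149f00) (nat_lit 39089) (nat_lit 0x8366021c8845) (.node (.node .nil (nat_lit
  0xcb004a14a2a1) (nat_lit 13232) (nat_lit 0xa58025102e8a) .nil) (nat_lit 0xcc040d007b42) (nat_lit 29505)
  (nat_lit 0xc28145157208) .nil)) (nat_lit 0xcc040d0132b2) (nat_lit 56161) (nat_lit 0xc281451964a0) (.node
  (.node (.node .nil (nat_lit 0xcc040d0149f0) (nat_lit 9089) (nat_lit 0xc281450c16a8) .nil) (nat_lit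
  0xcc040d0293e0) (nat_lit 9856) (nat_lit 0xe602060149f0) (.node .nil (nat_lit 0xcc040d02e8a2) (nat_lit 3041)
  (nat_lit 0xc281450d241a) .nil)) (nat_lit 0xcc040d03a152) (nat_lit 2321) (nat_lit 0xc281450132b2) (.node
  (.node .nil (nat_lit 0xcc040d03da10) (nat_lit 54977) (nat_lit 0xc281451440ba) .nil) (nat_lit 0xcc040d108a72)
  (nat_lit 24817) (nat_lit 0xc28145087898) .nil))))))
def tT_27 : T := (.node (.node (.node (.node (.node (.node (.node .nil (nat_lit 0xcc040d11b8c0) (nat_lit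
  21457) (nat_lit 0xc28145111c38) .nil) (nat_lit 0xcc040d11c382) (nat_lit 29360) (nat_lit 0xe6020608e1c1)
  (.node .nil (nat_lit 0xcc040d121992) (nat_lit 7537) (nat_lit 0xc28145102e8a) .nil)) (nat_lit 0xcc040d1262d0)
  (nat_lit 46561) (nat_lit 0xc28145055c82) (.node (.node .nil (nat_lit 0xcc040d132b20) (nat_lit 54001)
  (nat_lit 0xc28145094a2a) .nil) (nat_lit 0xcc040d135062) (nat_lit 23904) (nat_lit 0xe6020609a831) (.node .nil
  (nat_lit 0xcc109200cb25) (nat_lit 45216) (nat_lit 0xa60849199224) .nil))) (nat_lit 0xcc109201262d) (nat_lit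
  1152) (nat_lit 0xa608491964a0) (.node (.node (.node .nil (nat_lit 0xcc109201ed08) (nat_lit 14129) (nat_lit
  0x863a8030851a) .nil) (nat_lit 0xcc1092026564) (nat_lit 10656) (nat_lit 0xa608490132b2) (.node .nil (nat_lit
  0xcc109202ae41) (nat_lit 35537) (nat_lit 0x840d9832b202) .nil)) (nat_lit 0xcc1092034349) (nat_lit 4672)
  (nat_lit 0xa60849185612) (.node (.node .nil (nat_lit 0xcc109203886c) (nat_lit 4401) (nat_lit 0xa0178216a818)
  .nil) (nat_lit 0xcc1092106869) (nat_lit 13824) (nat_lit 0xa6084911c382) .nil))) (nat_lit 0xcc109210a34c)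
  (nat_lit 22768) (nat_lit 0xa608490851a6) (.node (.node (.node (.node .nil (nat_lit 0xcc1092114e44) (nat_lit
  28641) (nat_lit 0xa4a608121992) .nil) (nat_lit 0xcc1092118561) (nat_lit 59329) (nat_lit 0xb03908068692)
  (.node .nil (nat_lit 0xcc1092120d0d) (nat_lit 45248) (nat_lit 0xa6084910f130) .nil)) (nat_lit
  0xcc109212c628) (nat_lit 21760) (nat_lit 0xa60849096314) (.node (.node .nil (nat_lit 0xcc1092132b20)
  (nat_lit 3840) (nat_lit 0xa60849099590) .nil) (nat_lit 0xcc109213e005) (nat_lit 49312) (nat_lit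
  0xa608491007b4) (.node .nil (nat_lit 0xcd222000149f) (nat_lit 19921) (nat_lit 0x8bc120241a1a) .nil)))
  (nat_lit 0xcd2220008dc6) (nat_lit 26080) (nat_lit 0xa691100046e3) (.node (.node (.node .nil (nat_lit
  0xcd2220009959) (nat_lit 29584) (nat_lit 0xa69110192243) .nil) (nat_lit 0xcd2220024c5a) (nat_lit 24608)
  (nat_lit 0xa6911001262d) (.node .nil (nat_lit 0xcd22200258c5) (nat_lit 1888) (nat_lit 0xa6911018428d) .nil))
  (nat_lit 0xcd222002c19c) (nat_lit 1312) (nat_lit 0xa691100160ce) (.node (.node .nil (nat_lit 0xcd222002d503)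
  (nat_lit 56385) (nat_lit 0xac012a03da10) .nil) (nat_lit 0xcd2220104157) (nat_lit 56401) (nat_lit
  0xaa5802058338) .nil)))) (nat_lit 0xcd22201055c8) (nat_lit 5648) (nat_lit 0xa69110082ae4) (.node (.node
  (.node (.node (.node .nil (nat_lit 0xcd222010cc91) (nat_lit 35025) (nat_lit 0x81511a2e8a20) .nil) (nat_lit
  0xcd222010d80e) (nat_lit 4000) (nat_lit 0xa69110086c07) (.node .nil (nat_lit 0xcd2220120d0d) (nat_lit 10272)
  (nat_lit 0xa69110106869) .nil)) (nat_lit 0xcd2220121992) (nat_lit 20288) (nat_lit 0xa69110090cc9) (.node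
  (.node .nil (nat_lit 0xcd22201280cb) (nat_lit 45201) (nat_lit 0x8d9808224332) .nil) (nat_lit 0xcd2220129454)
  (nat_lit 49601) (nat_lit 0xa98212065928) (.node .nil (nat_lit 0xd0018e017451) (nat_lit 36144) (nat_lit
  0xa800c7174510) .nil))) (nat_lit 0xd0018e02ae41) (nat_lit 33633) (nat_lit 0x840d982b9041) (.node (.node
  (.node .nil (nat_lit 0xd0018e03da10) (nat_lit 31777) (nat_lit 0xc02f041440ba) .nil) (nat_lit 0xd0018e046e30)
  (nat_lit 60289) (nat_lit 0x940a2c2b9041) (.node .nil (nat_lit 0xd0018e051a61) (nat_lit 32880) (nat_lit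
  0xa800c7157208) .nil)) (nat_lit 0xd0018e06c071) (nat_lit 51248) (nat_lit 0xa800c7149f00) (.node (.node .nil
  (nat_lit 0xd0018e07b420) (nat_lit 55697) (nat_lit 0x804a962b9041) .nil) (nat_lit 0xd0018e08dc60) (nat_lit
  59376) (nat_lit 0xa800c7046e30) .nil))) (nat_lit 0xd0018e09a831) (nat_lit 34305) (nat_lit 0x90641c2b9041)
  (.node (.node (.node (.node .nil (nat_lit 0xd0018e0a7221) (nat_lit 34560) (nat_lit 0xa800c712c628) .nil)
  (nat_lit 0xd0018e0b0670) (nat_lit 60384) (nat_lit 0xa800c7058338) (.node .nil (nat_lit 0xd0018e0cb250)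
  (nat_lit 55216) (nat_lit 0xa800c7065928) .nil)) (nat_lit 0xd0018e0dc601) (nat_lit 29632) (nat_lit
  0xa800c7111c38) (.node (.node .nil (nat_lit 0xd0018e0e1c11) (nat_lit 28161) (nat_lit 0xc44134102e8a) .nil)
  (nat_lit 0xd0018e0f6840) (nat_lit 43152) (nat_lit 0xa800c707b420) .nil)) (nat_lit 0xd015110160ce) (nat_lit
  55536) (nat_lit 0xe80a8800b067) (.node (.node (.node .nil (nat_lit 0xd0151102e8a2) (nat_lit 33792) (nat_lit
  0xe80a88017451) .nil) (nat_lit 0xd0151103886c) (nat_lit 28960) (nat_lit 0xe80a8801c436) (.node .nil (nat_lit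
  0xd0151104cac8) (nat_lit 2688) (nat_lit 0xe80a88026564) .nil)) (nat_lit 0xd0151105aa06) (nat_lit 10960)
  (nat_lit 0xe80a8802d503) (.node (.node .nil (nat_lit 0xd0151106226a) (nat_lit 7856) (nat_lit 0xe80a88031135)
  .nil) (nat_lit 0xd015110742a4) (nat_lit 39328) (nat_lit 0xe80a8803a152) .nil))))) (nat_lit 0xd01511082ae4)
  (nat_lit 19136) (nat_lit 0xe80a88041572) (.node (.node (.node (.node (.node (.node .nil (nat_lit
  0xd01511094a2a) (nat_lit 18944) (nat_lit 0xe80a8804a515) .nil) (nat_lit 0xd015110ac246) (nat_lit 36497)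
  (nat_lit 0xa051610e088e) (.node .nil (nat_lit 0xd015110ba288) (nat_lit 8144) (nat_lit 0xe80a8805d144) .nil))
  (nat_lit 0xd015110ce02c) (nat_lit 11265) (nat_lit 0xa051611d0a90) (.node (.node .nil (nat_lit
  0xd015110d80e2) (nat_lit 37648) (nat_lit 0xe80a8806c071) .nil) (nat_lit 0xd015110e088e) (nat_lit 18785)
  (nat_lit 0xa05161102e8a) (.node .nil (nat_lit 0xd015110f6840) (nat_lit 4064) (nat_lit 0xe80a8807b420)
  .nil))) (nat_lit 0xd028b001964a) (nat_lit 60609) (nat_lit 0xe60206017451) (.node (.node (.node .nil (nat_lit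
  0xd028b002d503) (nat_lit 50288) (nat_lit 0xa81458168126) .nil) (nat_lit 0xd028b0034349) (nat_lit 37409)
  (nat_lit 0xb48882017451) (.node .nil (nat_lit 0xd028b004470e) (nat_lit 38161) (nat_lit 0x940a2c017451)
  .nil)) (nat_lit 0xd028b005d144) (nat_lit 39185) (nat_lit 0x8c8384017451) (.node (.node .nil (nat_lit
  0xd028b006920d) (nat_lit 41585) (nat_lit 0xc680a8017451) .nil) (nat_lit 0xd028b0070447) (nat_lit 12481)
  (nat_lit 0xde0900017451) .nil))) (nat_lit 0xd028b0081745) (nat_lit 49473) (nat_lit 0xa209a4017451) (.node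
  (.node (.node (.node .nil (nat_lit 0xd028b009810f) (nat_lit 28128) (nat_lit 0xa81458132b20) .nil) (nat_lit
  0xd028b00ac246) (nat_lit 8353) (nat_lit 0xf08320017451) (.node .nil (nat_lit 0xd028b00b540c) (nat_lit 33809)
  (nat_lit 0xe80a88017451) .nil)) (nat_lit 0xd028b00c504b) (nat_lit 28753) (nat_lit 0xc88826017451) (.node
  (.node .nil (nat_lit 0xd028b00dc601) (nat_lit 50481) (nat_lit 0xd0018e017451) .nil) (nat_lit 0xd028b00e8548)
  (nat_lit 2977) (nat_lit 0x9a02a2017451) (.node .nil (nat_lit 0xd028b00f1302) (nat_lit 45440) (nat_lit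
  0xa81458078981) .nil))) (nat_lit 0xd08c480132b2) (nat_lit 52496) (nat_lit 0xa84624009959) (.node (.node
  (.node .nil (nat_lit 0xd08c48022387) (nat_lit 38384) (nat_lit 0xa8462416a818) .nil) (nat_lit 0xd08c48031135)
  (nat_lit 38593) (nat_lit 0xb66020009959) (.node .nil (nat_lit 0xd08c48045391) (nat_lit 5776) (nat_lit
  0xa84624159013) .nil)) (nat_lit 0xd08c48056123) (nat_lit 18032) (nat_lit 0xa8462415094a) (.node (.node .nil
  (nat_lit 0xd08c48067016) (nat_lit 58640) (nat_lit 0xa8462403380b) .nil) (nat_lit 0xd08c480742a4) (nat_lit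
  44272) (nat_lit 0xa8462403a152) .nil)))) (nat_lit 0xd08c480851a6) (nat_lit 37344) (nat_lit 0xa846240428d3)
  (.node (.node (.node (.node (.node .nil (nat_lit 0xd08c48096314) (nat_lit 43808) (nat_lit 0xa8462404b18a)
  .nil) (nat_lit 0xd08c480a7221) (nat_lit 22480) (nat_lit 0xa846241280cb) (.node .nil (nat_lit 0xd08c480b4093)
  (nat_lit 16593) (nat_lit 0x9d4006009959) .nil)) (nat_lit 0xd08c480c0237) (nat_lit 32321) (nat_lit
  0xca6084009959) (.node (.node .nil (nat_lit 0xd08c480d3085) (nat_lit 44097) (nat_lit 0xd30424009959) .nil)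
  (nat_lit 0xd08c480e21b0) (nat_lit 3281) (nat_lit 0x9a02a2009959) (.node .nil (nat_lit 0xd08c480f1302)
  (nat_lit 17665) (nat_lit 0x836602009959) .nil))) (nat_lit 0xd11a0200a4f8) (nat_lit 59825) (nat_lit
  0xe6020601ed08) (.node (.node (.node .nil (nat_lit 0xd11a02026564) (nat_lit 42673) (nat_lit 0xc1c20c1810f1)
  .nil) (nat_lit 0xd11a0202c19c) (nat_lit 44000) (nat_lit 0xa88d010160ce) (.node .nil (nat_lit 0xd11a020401ed)
  (nat_lit 41921) (nat_lit 0xe3a80004470e) .nil)) (nat_lit 0xd11a0204a515) (nat_lit 26625) (nat_lit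
  0xe2450805aa06) (.node (.node .nil (nat_lit 0xd11a02066489) (nat_lit 53281) (nat_lit 0xc585021810f1) .nil)
  (nat_lit 0xd11a0206c071) (nat_lit 37105) (nat_lit 0xc4680a1810f1) .nil))) (nat_lit 0xd11a02084539) (nat_lit
  27905) (nat_lit 0xa0e1061810f1) (.node (.node (.node (.node .nil (nat_lit 0xd11a0208e1c1) (nat_lit 44321)
  (nat_lit 0xa10c0e1810f1) .nil) (nat_lit 0xd11a020a205d) (nat_lit 17536) (nat_lit 0xa88d011262d0) (.node .nil
  (nat_lit 0xd11a020a84a5) (nat_lit 34416) (nat_lit 0xa88d011230ac) .nil)) (nat_lit 0xd11a020c44d4) (nat_lit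
  59024) (nat_lit 0xa88d0106226a) (.node (.node .nil (nat_lit 0xd11a020ce02c) (nat_lit 31024) (nat_lit
  0xa88d01067016) .nil) (nat_lit 0xd11a020e21b0) (nat_lit 53185) (nat_lit 0x828b0a1810f1) .nil)) (nat_lit
  0xd11a020e8548) (nat_lit 49265) (nat_lit 0x8366021810f1) (.node (.node (.node .nil (nat_lit 0xd1614000149f)
  (nat_lit 54336) (nat_lit 0xa8b0a0174510) .nil) (nat_lit 0xd16140020ab9) (nat_lit 4512) (nat_lit
  0xa8b0a0164a03) (.node .nil (nat_lit 0xd16140021e26) (nat_lit 1248) (nat_lit 0xa8b0a0010f13) .nil)) (nat_lit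
  0xd16140048c2b) (nat_lit 42849) (nat_lit 0xc8a1180742a4) (.node (.node .nil (nat_lit 0xd161400498b4)
  (nat_lit 51505) (nat_lit 0x8c8384301c43) .nil) (nat_lit 0xd16140068692) (nat_lit 56609) (nat_lit
  0x82a234301c43) .nil))))))
def tT_28 : T := (.node (.node (.node (.node (.node (.node (.node .nil (nat_lit 0xd16140088e1c) (nat_lit 2609)
  (nat_lit 0xcd222002c19c) .nil) (nat_lit 0xd16140089a83) (nat_lit 33969) (nat_lit 0x8900bc301c43) (.node .nil
  (nat_lit 0xd161400a84a5) (nat_lit 9345) (nat_lit 0x87210c301c43) .nil)) (nat_lit 0xd161400a903a) (nat_lit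
  36832) (nat_lit 0xa8b0a005481d) (.node (.node .nil (nat_lit 0xd161400c0237) (nat_lit 58240) (nat_lit
  0xa8b0a0114e44) .nil) (nat_lit 0xd161400c16a8) (nat_lit 60640) (nat_lit 0xa8b0a0060b54) (.node .nil (nat_lit
  0xd161400e088e) (nat_lit 4736) (nat_lit 0xa8b0a0070447) .nil))) (nat_lit 0xd161400e1c11) (nat_lit 40624)
  (nat_lit 0xa8b0a0104157) (.node (.node (.node .nil (nat_lit 0xd22209008dc6) (nat_lit 6529) (nat_lit
  0x8494c12b0918) .nil) (nat_lit 0xd222090149f0) (nat_lit 15376) (nat_lit 0xe9110400a4f8) (.node .nil (nat_lit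
  0xd2220901c436) (nat_lit 18256) (nat_lit 0xe9110400e21b) .nil)) (nat_lit 0xd22209041572) (nat_lit 53840)
  (nat_lit 0xe91104020ab9) (.node (.node .nil (nat_lit 0xd222090498b4) (nat_lit 47377) (nat_lit
  0x8494c1380b06) .nil) (nat_lit 0xd22209055c82) (nat_lit 24881) (nat_lit 0x8494c1226a0c) .nil))) (nat_lit
  0xd2220905d144) (nat_lit 17985) (nat_lit 0x8494c1096314) (.node (.node (.node (.node .nil (nat_lit
  0xd222090851a6) (nat_lit 24336) (nat_lit 0xe911040428d3) .nil) (nat_lit 0xd2220908dc60) (nat_lit 59553)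
  (nat_lit 0x8494c100293e) (.node .nil (nat_lit 0xd22209091856) (nat_lit 29936) (nat_lit 0xe91104048c2b)
  .nil)) (nat_lit 0xd22209099590) (nat_lit 3569) (nat_lit 0x8494c131412c) (.node (.node .nil (nat_lit
  0xd222090c44d4) (nat_lit 10193) (nat_lit 0x8494c1382238) .nil) (nat_lit 0xd222090cc912) (nat_lit 17472)
  (nat_lit 0xe91104066489) (.node .nil (nat_lit 0xd222090d0d24) (nat_lit 40977) (nat_lit 0x8494c1094a2a)
  .nil))) (nat_lit 0xd222090d80e2) (nat_lit 4657) (nat_lit 0x8494c1224332) (.node (.node (.node .nil (nat_lit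
  0xd2c012003da1) (nat_lit 43393) (nat_lit 0xa125300c504b) .nil) (nat_lit 0xd2c012011b8c) (nat_lit 15089)
  (nat_lit 0xc02f040c504b) (.node .nil (nat_lit 0xd2c01201262d) (nat_lit 12641) (nat_lit 0x92a5800c504b)
  .nil)) (nat_lit 0xd2c0120401ed) (nat_lit 52000) (nat_lit 0xa96009149f00) (.node (.node .nil (nat_lit
  0xd2c012043c4c) (nat_lit 32256) (nat_lit 0xa96009021e26) .nil) (nat_lit 0xd2c012051a61) (nat_lit 43713)
  (nat_lit 0xd028b00c504b) .nil)))) (nat_lit 0xd2c0120527c0) (nat_lit 57057) (nat_lit 0x82a2340c504b) (.node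
  (.node (.node (.node (.node .nil (nat_lit 0xd2c012081745) (nat_lit 50912) (nat_lit 0xa96009129454) .nil)
  (nat_lit 0xd2c012082ae4) (nat_lit 46032) (nat_lit 0xa96009041572) (.node .nil (nat_lit 0xd2c012090cc9)
  (nat_lit 55888) (nat_lit 0xa96009121992) .nil)) (nat_lit 0xd2c012093168) (nat_lit 50577) (nat_lit
  0xc303900c504b) (.node (.node .nil (nat_lit 0xd2c0120c16a8) (nat_lit 18128) (nat_lit 0xa96009060b54) .nil)
  (nat_lit 0xd2c0120c2b09) (nat_lit 57601) (nat_lit 0xe084940c504b) (.node .nil (nat_lit 0xd2c0120d0d24)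
  (nat_lit 37969) (nat_lit 0x818ea00c504b) .nil))) (nat_lit 0xd2c0120d3085) (nat_lit 44336) (nat_lit
  0xa960091007b4) (.node (.node (.node .nil (nat_lit 0xd30424007b42) (nat_lit 56992) (nat_lit 0xa98212003da1)
  .nil) (nat_lit 0xd30424009959) (nat_lit 29104) (nat_lit 0xa98212163141) (.node .nil (nat_lit 0xd3042400e21b)
  (nat_lit 41297) (nat_lit 0x88c48a163141) .nil)) (nat_lit 0xd304240428d3) (nat_lit 6672) (nat_lit
  0xa98212146984) (.node (.node .nil (nat_lit 0xd30424045391) (nat_lit 11841) (nat_lit 0xe140a2088e1c) .nil)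
  (nat_lit 0xd3042404b18a) (nat_lit 6336) (nat_lit 0xa982120258c5) .nil))) (nat_lit 0xd3042404cac8) (nat_lit
  49824) (nat_lit 0xa98212026564) (.node (.node (.node (.node .nil (nat_lit 0xd304240803da) (nat_lit 21041)
  (nat_lit 0xc0063a163141) .nil) (nat_lit 0xd30424087898) (nat_lit 17904) (nat_lit 0xa98212043c4c) (.node .nil
  (nat_lit 0xd30424089a83) (nat_lit 39056) (nat_lit 0xa982121230ac) .nil)) (nat_lit 0xd3042408e1c1) (nat_lit
  3744) (nat_lit 0xa98212120d0d) (.node (.node .nil (nat_lit 0xd304240c2b09) (nat_lit 1201) (nat_lit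
  0xe08494094a2a) .nil) (nat_lit 0xd304240c504b) (nat_lit 37760) (nat_lit 0xa982121055c8) (.node .nil (nat_lit
  0xd304240cb250) (nat_lit 29121) (nat_lit 0xa98212163141) .nil))) (nat_lit 0xd304240cc912) (nat_lit 17873)
  (nat_lit 0x818ea0163141) (.node (.node (.node .nil (nat_lit 0xd4006300f684) (nat_lit 11376) (nat_lit
  0xea0031007b42) .nil) (nat_lit 0xd40063011b8c) (nat_lit 44737) (nat_lit 0xc8384104470e) (.node .nil (nat_lit
  0xd4006301ed08) (nat_lit 45008) (nat_lit 0xea003100f684) .nil)) (nat_lit 0xd40063023718) (nat_lit 57008)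
  (nat_lit 0xea0031011b8c) (.node (.node .nil (nat_lit 0xd4006302c19c) (nat_lit 52160) (nat_lit
  0xea00310160ce) .nil) (nat_lit 0xd40063032c94) (nat_lit 54817) (nat_lit 0xc83841174510) .nil))))) (nat_lit
  0xd4006303da10) (nat_lit 41312) (nat_lit 0xea003101ed08) (.node (.node (.node (.node (.node (.node .nil
  (nat_lit 0xd40063087898) (nat_lit 39265) (nat_lit 0xc8384101c436) .nil) (nat_lit 0xd40063088e1c) (nat_lit
  51937) (nat_lit 0xc8384102c19c) (.node .nil (nat_lit 0xd40063096314) (nat_lit 11536) (nat_lit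
  0xea003104b18a) .nil)) (nat_lit 0xd40063099590) (nat_lit 41632) (nat_lit 0xea003104cac8) (.node (.node .nil
  (nat_lit 0xd400630a4f80) (nat_lit 50225) (nat_lit 0xc8384112c628) .nil) (nat_lit 0xd400630ab904) (nat_lit
  10800) (nat_lit 0xea0031055c82) (.node .nil (nat_lit 0xd400630b540c) (nat_lit 48433) (nat_lit
  0xc83841168126) .nil))) (nat_lit 0xd400630ba288) (nat_lit 12336) (nat_lit 0xea003105d144) (.node (.node
  (.node .nil (nat_lit 0xd4468000293e) (nat_lit 57328) (nat_lit 0xaa234000149f) .nil) (nat_lit 0xd44680009959)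
  (nat_lit 56065) (nat_lit 0xa0c8381e2604) (.node .nil (nat_lit 0xd4468000b067) (nat_lit 26496) (nat_lit
  0xaa234015848c) .nil)) (nat_lit 0xd44680031135) (nat_lit 36609) (nat_lit 0xb66020088e1c) (.node (.node .nil
  (nat_lit 0xd4468003380b) (nat_lit 27681) (nat_lit 0x9c8430226a0c) .nil) (nat_lit 0xd4468003886c) (nat_lit
  38401) (nat_lit 0xa8462416a818) .nil))) (nat_lit 0xd4468003a152) (nat_lit 36768) (nat_lit 0xaa234001d0a9)
  (.node (.node (.node (.node .nil (nat_lit 0xd44680091856) (nat_lit 12849) (nat_lit 0xa4a6081a4834) .nil)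
  (nat_lit 0xd44680093168) (nat_lit 52768) (nat_lit 0xaa23400498b4) (.node .nil (nat_lit 0xd4468009810f)
  (nat_lit 22912) (nat_lit 0xaa2340111c38) .nil)) (nat_lit 0xd4468009a831) (nat_lit 24049) (nat_lit
  0x90641c2e8a20) (.node (.node .nil (nat_lit 0xd446800a0963) (nat_lit 28176) (nat_lit 0xaa234010d80e) .nil)
  (nat_lit 0xd446800a205d) (nat_lit 25825) (nat_lit 0x86cc04382238) (.node .nil (nat_lit 0xd446800a903a)
  (nat_lit 43937) (nat_lit 0xb20e100ce02c) .nil))) (nat_lit 0xd446800ab904) (nat_lit 59664) (nat_lit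
  0xaa2340055c82) (.node (.node (.node .nil (nat_lit 0xd4b0040046e3) (nat_lit 27152) (nat_lit 0xaa580215848c)
  .nil) (nat_lit 0xd4b004010f13) (nat_lit 10545) (nat_lit 0xb8419005aa06) (.node .nil (nat_lit 0xd4b0040149f0)
  (nat_lit 40688) (nat_lit 0xaa580200a4f8) .nil)) (nat_lit 0xd4b004020ab9) (nat_lit 18512) (nat_lit
  0xaa580214a2a1) (.node (.node .nil (nat_lit 0xd4b004024c5a) (nat_lit 48160) (nat_lit 0xaa580201262d) .nil)
  (nat_lit 0xd4b0040305aa) (nat_lit 44769) (nat_lit 0x804a963da100) .nil)))) (nat_lit 0xd4b004034349) (nat_lit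
  13713) (nat_lit 0xb48882096314) (.node (.node (.node (.node (.node .nil (nat_lit 0xd4b0040803da) (nat_lit
  25952) (nat_lit 0xaa58020401ed) .nil) (nat_lit 0xd4b004084539) (nat_lit 59568) (nat_lit 0xaa5802118561)
  (.node .nil (nat_lit 0xd4b004090cc9) (nat_lit 29184) (nat_lit 0xaa5802112199) .nil)) (nat_lit
  0xd4b004094a2a) (nat_lit 22657) (nat_lit 0xa54b0018a096) (.node (.node .nil (nat_lit 0xd4b0040a0963)
  (nat_lit 18800) (nat_lit 0xaa580210a34c) .nil) (nat_lit 0xd4b0040a4f80) (nat_lit 39392) (nat_lit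
  0xaa58020527c0) (.node .nil (nat_lit 0xd4b0040b0670) (nat_lit 6689) (nat_lit 0xa98212146984) .nil)))
  (nat_lit 0xd4b0040b4093) (nat_lit 40768) (nat_lit 0xaa58021007b4) (.node (.node (.node .nil (nat_lit
  0xd80254003da1) (nat_lit 47952) (nat_lit 0xac012a13e005) .nil) (nat_lit 0xd8025401d0a9) (nat_lit 60208)
  (nat_lit 0xac012a131681) (.node .nil (nat_lit 0xd8025401ed08) (nat_lit 3729) (nat_lit 0xcd22200258c5) .nil))
  (nat_lit 0xd8025402d503) (nat_lit 55680) (nat_lit 0xac012a129454) (.node (.node .nil (nat_lit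
  0xd8025402e8a2) (nat_lit 35073) (nat_lit 0xf083200258c5) .nil) (nat_lit 0xd802540305aa) (nat_lit 5680)
  (nat_lit 0xac012a0182d5) .nil))) (nat_lit 0xd8025403380b) (nat_lit 2752) (nat_lit 0xac012a1262d0) (.node
  (.node (.node (.node .nil (nat_lit 0xd80254048c2b) (nat_lit 15793) (nat_lit 0xc8a1180258c5) .nil) (nat_lit
  0xd8025404b18a) (nat_lit 28881) (nat_lit 0x9423120258c5) (.node .nil (nat_lit 0xd80254055c82) (nat_lit
  26945) (nat_lit 0xa4a6080258c5) .nil)) (nat_lit 0xd80254056123) (nat_lit 34816) (nat_lit 0xac012a114e44)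
  (.node (.node .nil (nat_lit 0xd80254065928) (nat_lit 47264) (nat_lit 0xac012a032c94) .nil) (nat_lit
  0xd80254066489) (nat_lit 29025) (nat_lit 0xc585020258c5) .nil)) (nat_lit 0xd80254078981) (nat_lit 6017)
  (nat_lit 0xf500180258c5) (.node (.node (.node .nil (nat_lit 0xd8025407b420) (nat_lit 6353) (nat_lit
  0xa982120258c5) .nil) (nat_lit 0xd85028008dc6) (nat_lit 41441) (nat_lit 0xd4468000b067) (.node .nil (nat_lit
  0xd85028010f13) (nat_lit 25473) (nat_lit 0xb8419000b067) .nil)) (nat_lit 0xd850280182d5) (nat_lit 673)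
  (nat_lit 0x93488800b067) (.node (.node .nil (nat_lit 0xd85028022387) (nat_lit 60176) (nat_lit
  0xac281412c628) .nil) (nat_lit 0xd8502802ae41) (nat_lit 2449) (nat_lit 0x840d9800b067) .nil))))))
def tT_29 : T := (.node (.node (.node (.node (.node (.node (.node .nil (nat_lit 0xd8502803a152) (nat_lit
  56513) (nat_lit 0xc3039000b067) .nil) (nat_lit 0xd850280428d3) (nat_lit 31249) (nat_lit 0xc94c1000b067)
  (.node .nil (nat_lit 0xd8502804a515) (nat_lit 46625) (nat_lit 0xe2450800b067) .nil)) (nat_lit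
  0xd850280527c0) (nat_lit 47920) (nat_lit 0xac28140293e0) (.node (.node .nil (nat_lit 0xd8502805aa06)
  (nat_lit 6816) (nat_lit 0xac281402d503) .nil) (nat_lit 0xd85028060b54) (nat_lit 44560) (nat_lit
  0xac28140305aa) (.node .nil (nat_lit 0xd85028068692) (nat_lit 47072) (nat_lit 0xac2814034349) .nil)))
  (nat_lit 0xd85028070447) (nat_lit 10720) (nat_lit 0xac28141055c8) (.node (.node (.node .nil (nat_lit
  0xd85028078981) (nat_lit 1568) (nat_lit 0xac281410132b) .nil) (nat_lit 0xd9808100293e) (nat_lit 51425)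
  (nat_lit 0x91104d2ae410) (.node .nil (nat_lit 0xd9808100527c) (nat_lit 31936) (nat_lit 0xecc04000293e)
  .nil)) (nat_lit 0xd98081007b42) (nat_lit 52576) (nat_lit 0xecc040003da1) (.node (.node .nil (nat_lit
  0xd98081021e26) (nat_lit 15264) (nat_lit 0xecc040010f13) .nil) (nat_lit 0xd98081023718) (nat_lit 37840)
  (nat_lit 0xecc040011b8c) .nil))) (nat_lit 0xd98081024c5a) (nat_lit 57041) (nat_lit 0x91104d0cc912) (.node
  (.node (.node (.node .nil (nat_lit 0xd98081026564) (nat_lit 33520) (nat_lit 0xecc0400132b2) .nil) (nat_lit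
  0xd98081041572) (nat_lit 7728) (nat_lit 0xecc040020ab9) (.node .nil (nat_lit 0xd98081043c4c) (nat_lit 26017)
  (nat_lit 0x91104d2c6282) .nil)) (nat_lit 0xd9808104470e) (nat_lit 50561) (nat_lit 0x91104d046e30) (.node
  (.node .nil (nat_lit 0xd98081046e30) (nat_lit 31824) (nat_lit 0xecc040023718) .nil) (nat_lit 0xd98081060b54)
  (nat_lit 7824) (nat_lit 0xecc0400305aa) (.node .nil (nat_lit 0xd9808106226a) (nat_lit 37937) (nat_lit
  0x91104d224332) .nil))) (nat_lit 0xd98081065928) (nat_lit 53520) (nat_lit 0xecc040032c94) (.node (.node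
  (.node .nil (nat_lit 0xd98081067016) (nat_lit 9713) (nat_lit 0x91104d20ab90) .nil) (nat_lit 0xde090000149f)
  (nat_lit 54209) (nat_lit 0x8bc120102e8a) (.node .nil (nat_lit 0xde09000046e3) (nat_lit 18017) (nat_lit
  0x89298212c628) .nil)) (nat_lit 0xde090000527c) (nat_lit 52849) (nat_lit 0x99070802e8a2) (.node (.node .nil
  (nat_lit 0xde090000a4f8) (nat_lit 36993) (nat_lit 0x9a02a201ed08) .nil) (nat_lit 0xde090000b067) (nat_lit
  40993) (nat_lit 0x8a2c2811c382) .nil)))) (nat_lit 0xde090000e21b) (nat_lit 12321) (nat_lit 0x88c48a132b20)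
  (.node (.node (.node (.node (.node .nil (nat_lit 0xde090000f684) (nat_lit 6576) (nat_lit 0xaf0480007b42)
  .nil) (nat_lit 0xde090001262d) (nat_lit 47137) (nat_lit 0x92a580094a2a) (.node .nil (nat_lit 0xde09000132b2)
  (nat_lit 48577) (nat_lit 0x828b0a1964a0) .nil)) (nat_lit 0xde09000160ce) (nat_lit 59905) (nat_lit
  0x8063a81b8c02) (.node (.node .nil (nat_lit 0xde0900017451) (nat_lit 6561) (nat_lit 0x904d220ba288) .nil)
  (nat_lit 0xde09000182d5) (nat_lit 59345) (nat_lit 0x93488808a722) (.node .nil (nat_lit 0xde090001964a)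
  (nat_lit 44977) (nat_lit 0x8366021889a8) .nil))) (nat_lit 0xde090001c436) (nat_lit 42529) (nat_lit
  0x818ea01a610a) (.node (.node (.node .nil (nat_lit 0xde090001d0a9) (nat_lit 43377) (nat_lit 0x91a02a0a4f80)
  .nil) (nat_lit 0xe0095200f684) (nat_lit 56289) (nat_lit 0xd4b0040305aa) (.node .nil (nat_lit 0xe0095201262d)
  (nat_lit 13537) (nat_lit 0x92a580284a51) .nil)) (nat_lit 0xe0095201d0a9) (nat_lit 20960) (nat_lit
  0xb004a90f1302) (.node (.node .nil (nat_lit 0xe00952066489) (nat_lit 20801) (nat_lit 0xc585021230ac) .nil)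
  (nat_lit 0xe0095206920d) (nat_lit 17680) (nat_lit 0xb004a90cb250) .nil))) (nat_lit 0xe009520742a4) (nat_lit
  50144) (nat_lit 0xb004a903a152) (.node (.node (.node (.node .nil (nat_lit 0xe0095207b420) (nat_lit 13760)
  (nat_lit 0xb004a903da10) .nil) (nat_lit 0xe009520a7221) (nat_lit 50736) (nat_lit 0xb004a90ac246) (.node .nil
  (nat_lit 0xe009520a84a5) (nat_lit 23761) (nat_lit 0x87210c284a51) .nil)) (nat_lit 0xe009520b540c) (nat_lit
  41872) (nat_lit 0xb004a905aa06) (.node (.node .nil (nat_lit 0xe009520ba288) (nat_lit 42177) (nat_lit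
  0xc2312215848c) .nil) (nat_lit 0xe009520c16a8) (nat_lit 19936) (nat_lit 0xb004a9060b54) .nil)) (nat_lit
  0xe009520ce02c) (nat_lit 10464) (nat_lit 0xb004a9067016) (.node (.node (.node .nil (nat_lit 0xe009520d3085)
  (nat_lit 12097) (nat_lit 0xd3042404b18a) .nil) (nat_lit 0xe009520dc601) (nat_lit 32064) (nat_lit
  0xb004a9091856) (.node .nil (nat_lit 0xe0206c010f13) (nat_lit 28528) (nat_lit 0xb010360f6840) .nil))
  (nat_lit 0xe0206c02d503) (nat_lit 16528) (nat_lit 0xb010360e8548) (.node (.node .nil (nat_lit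
  0xe0206c03da10) (nat_lit 47969) (nat_lit 0xe9110402ae41) .nil) (nat_lit 0xe0206c045391) (nat_lit 40497)
  (nat_lit 0xe140a202ae41) .nil))))) (nat_lit 0xe0206c055c82) (nat_lit 42832) (nat_lit 0xb0103602ae41) (.node
  (.node (.node (.node (.node (.node .nil (nat_lit 0xe0206c068692) (nat_lit 432) (nat_lit 0xb01036034349)
  .nil) (nat_lit 0xe0206c078981) (nat_lit 5633) (nat_lit 0xf5001802ae41) (.node .nil (nat_lit 0xe0206c089a83)
  (nat_lit 705) (nat_lit 0x8900bc02ae41) .nil)) (nat_lit 0xe0206c099590) (nat_lit 40240) (nat_lit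
  0xb0103604cac8) (.node (.node .nil (nat_lit 0xe0206c0a4f80) (nat_lit 4849) (nat_lit 0xd8502802ae41) .nil)
  (nat_lit 0xe0206c0b4093) (nat_lit 45616) (nat_lit 0xb010360a4f80) (.node .nil (nat_lit 0xe0206c0cc912)
  (nat_lit 46224) (nat_lit 0xb01036066489) .nil))) (nat_lit 0xe0206c0dc601) (nat_lit 26256) (nat_lit
  0xb01036090cc9) (.node (.node (.node .nil (nat_lit 0xe0206c0e1c11) (nat_lit 30401) (nat_lit 0xc4413402ae41)
  .nil) (nat_lit 0xe0206c0f1302) (nat_lit 24240) (nat_lit 0xb01036078981) (.node .nil (nat_lit 0xe07210008dc6)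
  (nat_lit 6144) (nat_lit 0xb039080046e3) .nil)) (nat_lit 0xe072100305aa) (nat_lit 48656) (nat_lit
  0xb039080182d5) (.node (.node .nil (nat_lit 0xe0721003886c) (nat_lit 16944) (nat_lit 0xb0390801c436) .nil)
  (nat_lit 0xe072100401ed) (nat_lit 9617) (nat_lit 0xe3a8000046e3) .nil))) (nat_lit 0xe07210048c2b) (nat_lit
  22209) (nat_lit 0xc8a1180046e3) (.node (.node (.node (.node .nil (nat_lit 0xe07210070447) (nat_lit 25552)
  (nat_lit 0xb039080c44d4) .nil) (nat_lit 0xe07210078981) (nat_lit 47681) (nat_lit 0xf500180046e3) (.node .nil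
  (nat_lit 0xe07210090cc9) (nat_lit 16801) (nat_lit 0x9189140046e3) .nil)) (nat_lit 0xe0721009810f) (nat_lit
  31441) (nat_lit 0xba800c0046e3) (.node (.node .nil (nat_lit 0xe072100a0963) (nat_lit 17040) (nat_lit
  0xb039080ac246) .nil) (nat_lit 0xe072100a84a5) (nat_lit 39968) (nat_lit 0xb039080a84a5) (.node .nil (nat_lit
  0xe072100d0d24) (nat_lit 36721) (nat_lit 0x8d98080046e3) .nil))) (nat_lit 0xe072100d80e2) (nat_lit 25872)
  (nat_lit 0xb0390806c071) (.node (.node (.node .nil (nat_lit 0xe072100e088e) (nat_lit 6161) (nat_lit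
  0xb039080046e3) .nil) (nat_lit 0xe072100e8548) (nat_lit 13185) (nat_lit 0x9b30100046e3) (.node .nil (nat_lit
  0xe08494007b42) (nat_lit 24385) (nat_lit 0xd4b004034349) .nil)) (nat_lit 0xe0849403380b) (nat_lit 18273)
  (nat_lit 0x9c8430034349) (.node (.node .nil (nat_lit 0xe08494034349) (nat_lit 11936) (nat_lit
  0xb0424a0e1c11) .nil) (nat_lit 0xe08494051a61) (nat_lit 51216) (nat_lit 0xb0424a0d3085) .nil)))) (nat_lit
  0xe08494056123) (nat_lit 11088) (nat_lit 0xb0424a0d0d24) (.node (.node (.node (.node (.node .nil (nat_lit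
  0xe0849406226a) (nat_lit 449) (nat_lit 0xb01036034349) .nil) (nat_lit 0xe08494065928) (nat_lit 2816)
  (nat_lit 0xb0424a032c94) (.node .nil (nat_lit 0xe08494093168) (nat_lit 8672) (nat_lit 0xb0424a0498b4) .nil))
  (nat_lit 0xe08494094a2a) (nat_lit 592) (nat_lit 0xb0424a04a515) (.node (.node .nil (nat_lit 0xe084940a0963)
  (nat_lit 47089) (nat_lit 0xac2814034349) .nil) (nat_lit 0xe084940a7221) (nat_lit 15425) (nat_lit
  0x8424a6034349) (.node .nil (nat_lit 0xe084940c2b09) (nat_lit 21585) (nat_lit 0xe08494034349) .nil)))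
  (nat_lit 0xe084940c504b) (nat_lit 47472) (nat_lit 0xb0424a099590) (.node (.node (.node .nil (nat_lit
  0xe084940f1302) (nat_lit 25153) (nat_lit 0x80bc12034349) .nil) (nat_lit 0xe084940f6840) (nat_lit 38832)
  (nat_lit 0xb0424a07b420) (.node .nil (nat_lit 0xe0900b0149f0) (nat_lit 18672) (nat_lit 0xf0480500a4f8)
  .nil)) (nat_lit 0xe0900b026564) (nat_lit 32608) (nat_lit 0xf048050132b2) (.node (.node .nil (nat_lit
  0xe0900b032c94) (nat_lit 6912) (nat_lit 0xf0480501964a) .nil) (nat_lit 0xe0900b046e30) (nat_lit 21937)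
  (nat_lit 0x888269371804) .nil))) (nat_lit 0xe0900b0527c0) (nat_lit 8960) (nat_lit 0xf048050293e0) (.node
  (.node (.node (.node .nil (nat_lit 0xe0900b060b54) (nat_lit 11921) (nat_lit 0x888269113506) .nil) (nat_lit
  0xe0900b0742a4) (nat_lit 816) (nat_lit 0xf0480503a152) (.node .nil (nat_lit 0xe0900b082ae4) (nat_lit 50656)
  (nat_lit 0xf04805041572) .nil)) (nat_lit 0xe0900b096314) (nat_lit 45808) (nat_lit 0xf0480504b18a) (.node
  (.node .nil (nat_lit 0xe0900b0a4f80) (nat_lit 21728) (nat_lit 0xf048050527c0) .nil) (nat_lit 0xe0900b0b0670)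
  (nat_lit 39568) (nat_lit 0xf04805058338) .nil)) (nat_lit 0xe0900b0c44d4) (nat_lit 50881) (nat_lit
  0x888269343490) (.node (.node (.node .nil (nat_lit 0xe0900b0d0d24) (nat_lit 42561) (nat_lit 0x888269055c82)
  .nil) (nat_lit 0xe0900b0e21b0) (nat_lit 23104) (nat_lit 0xf048050710d8) (.node .nil (nat_lit 0xe0900b0f6840)
  (nat_lit 50720) (nat_lit 0xf0480507b420) .nil)) (nat_lit 0xe1064100293e) (nat_lit 10353) (nat_lit
  0x900bc12ae410) (.node (.node .nil (nat_lit 0xe1064102c19c) (nat_lit 1985) (nat_lit 0x900bc127c00a) .nil)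
  (nat_lit 0xe1064102e8a2) (nat_lit 8336) (nat_lit 0xf08320017451) .nil))))))
def tT_30 : T := (.node (.node (.node (.node (.node (.node (.node .nil (nat_lit 0xe1064104b18a) (nat_lit
  35056) (nat_lit 0xf083200258c5) .nil) (nat_lit 0xe10641065928) (nat_lit 55473) (nat_lit 0x900bc10b540c)
  (.node .nil (nat_lit 0xe10641067016) (nat_lit 20096) (nat_lit 0xf0832003380b) .nil)) (nat_lit
  0xe106410851a6) (nat_lit 19280) (nat_lit 0xf083200428d3) (.node (.node .nil (nat_lit 0xe10641087898)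
  (nat_lit 22000) (nat_lit 0xf08320043c4c) .nil) (nat_lit 0xe106410a903a) (nat_lit 4145) (nat_lit
  0x900bc10ce02c) (.node .nil (nat_lit 0xe106410ab904) (nat_lit 35377) (nat_lit 0x900bc126043c) .nil)))
  (nat_lit 0xe106410cc912) (nat_lit 42209) (nat_lit 0x900bc107b420) (.node (.node (.node .nil (nat_lit
  0xe106410ce02c) (nat_lit 4224) (nat_lit 0xf08320067016) .nil) (nat_lit 0xe106410e088e) (nat_lit 23249)
  (nat_lit 0x900bc120742a) (.node .nil (nat_lit 0xe106410e21b0) (nat_lit 33329) (nat_lit 0x900bc10a903a)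
  .nil)) (nat_lit 0xe140a2009959) (nat_lit 6064) (nat_lit 0xb0a0510f1302) (.node (.node .nil (nat_lit
  0xe140a2023718) (nat_lit 30625) (nat_lit 0xc2181c192243) .nil) (nat_lit 0xe140a202ae41) (nat_lit 25601)
  (nat_lit 0x840d98192243) .nil))) (nat_lit 0xe140a2043c4c) (nat_lit 7392) (nat_lit 0xb0a051021e26) (.node
  (.node (.node (.node .nil (nat_lit 0xe140a204a515) (nat_lit 25905) (nat_lit 0xe245080498b4) .nil) (nat_lit
  0xe140a2060b54) (nat_lit 2656) (nat_lit 0xb0a0510305aa) (.node .nil (nat_lit 0xe140a206920d) (nat_lit 769)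
  (nat_lit 0xc680a8192243) .nil)) (nat_lit 0xe140a2081745) (nat_lit 3473) (nat_lit 0xa209a4192243) (.node
  (.node .nil (nat_lit 0xe140a2088e1c) (nat_lit 6193) (nat_lit 0xe41c2002c19c) .nil) (nat_lit 0xe140a20a205d)
  (nat_lit 27344) (nat_lit 0xb0a0510a4f80) (.node .nil (nat_lit 0xe140a20ab904) (nat_lit 9360) (nat_lit
  0xb0a051055c82) .nil))) (nat_lit 0xe140a20c2b09) (nat_lit 5537) (nat_lit 0xe08494065928) (.node (.node
  (.node .nil (nat_lit 0xe140a20cb250) (nat_lit 29601) (nat_lit 0xa69110192243) .nil) (nat_lit 0xe140a20e1c11)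
  (nat_lit 51584) (nat_lit 0xb0a0510851a6) (.node .nil (nat_lit 0xe140a20e8548) (nat_lit 19456) (nat_lit
  0xb0a0510742a4) .nil)) (nat_lit 0xe2450800b067) (nat_lit 31761) (nat_lit 0x8a2c28248343) (.node (.node .nil
  (nat_lit 0xe245080132b2) (nat_lit 51665) (nat_lit 0xc2181c1964a0) .nil) (nat_lit 0xe245080182d5) (nat_lit
  5313) (nat_lit 0x934888248343) .nil)))) (nat_lit 0xe245080428d3) (nat_lit 7937) (nat_lit 0xc94c101230ac)
  (.node (.node (.node (.node (.node .nil (nat_lit 0xe245080498b4) (nat_lit 14817) (nat_lit 0x981c84248343)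
  .nil) (nat_lit 0xe24508051a61) (nat_lit 45792) (nat_lit 0xb122840c504b) (.node .nil (nat_lit 0xe2450805aa06)
  (nat_lit 15361) (nat_lit 0x817824248343) .nil)) (nat_lit 0xe24508082ae4) (nat_lit 60065) (nat_lit
  0xd85028032c94) (.node (.node .nil (nat_lit 0xe24508089a83) (nat_lit 129) (nat_lit 0x8900bc248343) .nil)
  (nat_lit 0xe24508091856) (nat_lit 52449) (nat_lit 0xc134881a4834) (.node .nil (nat_lit 0xe2450809a831)
  (nat_lit 20017) (nat_lit 0x90641c248343) .nil))) (nat_lit 0xe245080c0237) (nat_lit 46816) (nat_lit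
  0xb1228408dc60) (.node (.node (.node .nil (nat_lit 0xe245080cb250) (nat_lit 26192) (nat_lit 0xb12284065928)
  .nil) (nat_lit 0xe245080d3085) (nat_lit 30353) (nat_lit 0xd30424087898) (.node .nil (nat_lit 0xe245080d80e2)
  (nat_lit 48368) (nat_lit 0xb1228406c071) .nil)) (nat_lit 0xe3a80000149f) (nat_lit 44417) (nat_lit
  0x8bc120140659) (.node (.node .nil (nat_lit 0xe3a8000046e3) (nat_lit 4960) (nat_lit 0xb1d4000e088e) .nil)
  (nat_lit 0xe3a80000527c) (nat_lit 47649) (nat_lit 0xe9110402e8a2) .nil))) (nat_lit 0xe3a8000401ed) (nat_lit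
  59584) (nat_lit 0xb1d4000c2b09) (.node (.node (.node (.node .nil (nat_lit 0xe3a800041572) (nat_lit 9585)
  (nat_lit 0x839086140659) .nil) (nat_lit 0xe3a80004470e) (nat_lit 27009) (nat_lit 0x817824140659) (.node .nil
  (nat_lit 0xe3a800045391) (nat_lit 17104) (nat_lit 0xb1d4000c0237) .nil)) (nat_lit 0xe3a8000803da) (nat_lit
  16145) (nat_lit 0xc23122140659) (.node (.node .nil (nat_lit 0xe3a800081745) (nat_lit 42113) (nat_lit
  0xa209a4140659) .nil) (nat_lit 0xe3a800084539) (nat_lit 3104) (nat_lit 0xb1d4000a0963) (.node .nil (nat_lit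
  0xe3a8000851a6) (nat_lit 53120) (nat_lit 0xb1d4000428d3) .nil))) (nat_lit 0xe3a8000c0237) (nat_lit 36577)
  (nat_lit 0xca6084140659) (.node (.node (.node .nil (nat_lit 0xe3a8000c16a8) (nat_lit 36689) (nat_lit
  0xaa5802140659) .nil) (nat_lit 0xe3a8000c44d4) (nat_lit 16368) (nat_lit 0xb1d40006226a) (.node .nil (nat_lit
  0xe3a8000c504b) (nat_lit 40161) (nat_lit 0xc88826140659) .nil)) (nat_lit 0xe41c2000e21b) (nat_lit 32688)
  (nat_lit 0xb20e100d80e2) (.node (.node .nil (nat_lit 0xe41c200160ce) (nat_lit 48321) (nat_lit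
  0xa4508c1b8c02) .nil) (nat_lit 0xe41c200182d5) (nat_lit 14961) (nat_lit 0x9348882c9406) .nil))))) (nat_lit
  0xe41c20022387) (nat_lit 31889) (nat_lit 0xaf048010d80e) (.node (.node (.node (.node (.node (.node .nil
  (nat_lit 0xe41c2002c19c) (nat_lit 3153) (nat_lit 0x981c8427c00a) .nil) (nat_lit 0xe41c20034349) (nat_lit
  15633) (nat_lit 0xb488820b540c) (.node .nil (nat_lit 0xe41c2003a152) (nat_lit 18624) (nat_lit
  0xb20e1001d0a9) .nil)) (nat_lit 0xe41c200803da) (nat_lit 44144) (nat_lit 0xb20e100401ed) (.node (.node .nil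
  (nat_lit 0xe41c2008e1c1) (nat_lit 6032) (nat_lit 0xb20e1009810f) .nil) (nat_lit 0xe41c20096314) (nat_lit
  59984) (nat_lit 0xb20e1004b18a) (.node .nil (nat_lit 0xe41c2009810f) (nat_lit 32785) (nat_lit
  0xba800c055c82) .nil))) (nat_lit 0xe41c200a205d) (nat_lit 22561) (nat_lit 0x86cc0439108a) (.node (.node
  (.node .nil (nat_lit 0xe41c200ac246) (nat_lit 4977) (nat_lit 0xb1d4000e088e) .nil) (nat_lit 0xe41c200b4093)
  (nat_lit 20256) (nat_lit 0xb20e100851a6) (.node .nil (nat_lit 0xe41c200ba288) (nat_lit 27169) (nat_lit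
  0xaa580215848c) .nil)) (nat_lit 0xe4218100527c) (nat_lit 15665) (nat_lit 0xe1064102e8a2) (.node (.node .nil
  (nat_lit 0xe4218101964a) (nat_lit 33409) (nat_lit 0xe10641067016) .nil) (nat_lit 0xe4218101c436) (nat_lit
  27632) (nat_lit 0xf210c000e21b) .nil))) (nat_lit 0xe42181021e26) (nat_lit 12800) (nat_lit 0xf210c0010f13)
  (.node (.node (.node (.node .nil (nat_lit 0xe42181024c5a) (nat_lit 42064) (nat_lit 0xf210c001262d) .nil)
  (nat_lit 0xe4218103886c) (nat_lit 32225) (nat_lit 0xe106410851a6) (.node .nil (nat_lit 0xe4218103da10)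
  (nat_lit 25792) (nat_lit 0xf210c001ed08) .nil)) (nat_lit 0xe42181088e1c) (nat_lit 3921) (nat_lit
  0xe1064102c19c) (.node (.node .nil (nat_lit 0xe4218108dc60) (nat_lit 19009) (nat_lit 0xe1064100293e) .nil)
  (nat_lit 0xe42181091856) (nat_lit 49537) (nat_lit 0xe1064104b18a) (.node .nil (nat_lit 0xe42181094a2a)
  (nat_lit 60049) (nat_lit 0xe10641065928) .nil))) (nat_lit 0xe421810a903a) (nat_lit 8225) (nat_lit
  0xe106410ce02c) (.node (.node (.node .nil (nat_lit 0xe421810ac246) (nat_lit 37601) (nat_lit 0xe106410e088e)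
  .nil) (nat_lit 0xe421810b0670) (nat_lit 8065) (nat_lit 0xe106410a903a) (.node .nil (nat_lit 0xe421810b540c)
  (nat_lit 24000) (nat_lit 0xf210c005aa06) .nil)) (nat_lit 0xe60206003da1) (nat_lit 30432) (nat_lit
  0xb301030ce02c) (.node (.node .nil (nat_lit 0xe60206009959) (nat_lit 50001) (nat_lit 0xa0c838113506) .nil)
  (nat_lit 0xe6020600a4f8) (nat_lit 36448) (nat_lit 0xb3010300527c) .nil)))) (nat_lit 0xe602060149f0) (nat_lit
  5089) (nat_lit 0x80952c316812) (.node (.node (.node (.node (.node .nil (nat_lit 0xe60206017451) (nat_lit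
  58225) (nat_lit 0x904d2221b01c) .nil) (nat_lit 0xe6020601d0a9) (nat_lit 25744) (nat_lit 0xb301030c16a8)
  (.node .nil (nat_lit 0xe6020601ed08) (nat_lit 53809) (nat_lit 0x81782430851a) .nil)) (nat_lit
  0xe60206084539) (nat_lit 57200) (nat_lit 0xb3010308dc60) (.node (.node .nil (nat_lit 0xe60206087898)
  (nat_lit 16961) (nat_lit 0xb0390801c436) .nil) (nat_lit 0xe6020608dc60) (nat_lit 59296) (nat_lit
  0xb30103046e30) (.node .nil (nat_lit 0xe6020608e1c1) (nat_lit 17249) (nat_lit 0xa10c0e10f130) .nil)))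
  (nat_lit 0xe60206090cc9) (nat_lit 47569) (nat_lit 0x91891420742a) (.node (.node (.node .nil (nat_lit
  0xe60206093168) (nat_lit 56592) (nat_lit 0xb301030498b4) .nil) (nat_lit 0xe60206099590) (nat_lit 41201)
  (nat_lit 0x80bc1231412c) (.node .nil (nat_lit 0xe6020609a831) (nat_lit 13425) (nat_lit 0x90641c219922)
  .nil)) (nat_lit 0xe80a8800b067) (nat_lit 43536) (nat_lit 0xb405440ba288) (.node (.node .nil (nat_lit
  0xe80a88017451) (nat_lit 20337) (nat_lit 0x904d220182d5) .nil) (nat_lit 0xe80a8801c436) (nat_lit 16976)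
  (nat_lit 0xb4054400e21b) .nil))) (nat_lit 0xe80a88026564) (nat_lit 1361) (nat_lit 0xd850280182d5) (.node
  (.node (.node (.node .nil (nat_lit 0xe80a8802d503) (nat_lit 5697) (nat_lit 0xac012a0182d5) .nil) (nat_lit
  0xe80a88031135) (nat_lit 4049) (nat_lit 0xb660200182d5) (.node .nil (nat_lit 0xe80a8803a152) (nat_lit 24657)
  (nat_lit 0xc231220182d5) .nil)) (nat_lit 0xe80a88041572) (nat_lit 10432) (nat_lit 0xb40544020ab9) (.node
  (.node .nil (nat_lit 0xe80a8804a515) (nat_lit 10321) (nat_lit 0xe245080182d5) .nil) (nat_lit 0xe80a88056123)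
  (nat_lit 60352) (nat_lit 0xb40544094a2a) .nil)) (nat_lit 0xe80a8805d144) (nat_lit 4192) (nat_lit
  0xb4054402e8a2) (.node (.node (.node .nil (nat_lit 0xe80a88067016) (nat_lit 23984) (nat_lit 0xb4054403380b)
  .nil) (nat_lit 0xe80a8806c071) (nat_lit 23296) (nat_lit 0xb40544089a83) (.node .nil (nat_lit 0xe80a88070447)
  (nat_lit 37808) (nat_lit 0xb40544087898) .nil)) (nat_lit 0xe80a8807b420) (nat_lit 2064) (nat_lit
  0xb4054403da10) (.node (.node .nil (nat_lit 0xe911040046e3) (nat_lit 15616) (nat_lit 0xb488820b540c) .nil)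
  (nat_lit 0xe9110400a4f8) (nat_lit 8176) (nat_lit 0xb4888200527c) .nil))))))
def tT_31 : T := (.node (.node (.node (.node (.node (.node (.node .nil (nat_lit 0xe91104020ab9) (nat_lit
  40608) (nat_lit 0xb488820a7221) .nil) (nat_lit 0xe91104024c5a) (nat_lit 44081) (nat_lit 0xc134880cc912)
  (.node .nil (nat_lit 0xe9110402ae41) (nat_lit 33024) (nat_lit 0xb488820a205d) .nil)) (nat_lit
  0xe9110402e8a2) (nat_lit 32753) (nat_lit 0xc0d9800d241a) (.node (.node .nil (nat_lit 0xe911040428d3)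
  (nat_lit 13696) (nat_lit 0xb48882096314) .nil) (nat_lit 0xe91104046e30) (nat_lit 54464) (nat_lit
  0xb48882023718) (.node .nil (nat_lit 0xe91104048c2b) (nat_lit 17649) (nat_lit 0xc8a118055c82) .nil)))
  (nat_lit 0xe9110404cac8) (nat_lit 17617) (nat_lit 0x8c7500320265) (.node (.node (.node .nil (nat_lit
  0xe9110406226a) (nat_lit 36081) (nat_lit 0x81511a320265) .nil) (nat_lit 0xe91104066489) (nat_lit 9441)
  (nat_lit 0xc58502087898) (.node .nil (nat_lit 0xe91104068692) (nat_lit 36096) (nat_lit 0xb48882034349)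
  .nil)) (nat_lit 0xe9110406c071) (nat_lit 20560) (nat_lit 0xb48882081745) (.node (.node .nil (nat_lit
  0xea0031007b42) (nat_lit 5921) (nat_lit 0x846245280cb2) .nil) (nat_lit 0xea0031008dc6) (nat_lit 47664)
  (nat_lit 0xf500180046e3) .nil))) (nat_lit 0xea003100f684) (nat_lit 30064) (nat_lit 0xf50018007b42) (.node
  (.node (.node (.node .nil (nat_lit 0xea0031011b8c) (nat_lit 46288) (nat_lit 0xf50018008dc6) .nil) (nat_lit
  0xea00310160ce) (nat_lit 38321) (nat_lit 0x8462451b8c02) (.node .nil (nat_lit 0xea003101964a) (nat_lit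
  60577) (nat_lit 0x8462451889a8) .nil)) (nat_lit 0xea003101ed08) (nat_lit 26401) (nat_lit 0x84624530851a)
  (.node (.node .nil (nat_lit 0xea0031043c4c) (nat_lit 27328) (nat_lit 0xf50018021e26) .nil) (nat_lit
  0xea003104470e) (nat_lit 58849) (nat_lit 0x846245111c38) (.node .nil (nat_lit 0xea003104b18a) (nat_lit 6000)
  (nat_lit 0xf500180258c5) .nil))) (nat_lit 0xea003104cac8) (nat_lit 26753) (nat_lit 0x8462453a1520) (.node
  (.node (.node .nil (nat_lit 0xea00310527c0) (nat_lit 35985) (nat_lit 0x8462450a903a) .nil) (nat_lit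
  0xea0031055c82) (nat_lit 5616) (nat_lit 0xf5001802ae41) (.node .nil (nat_lit 0xea003105aa06) (nat_lit 41953)
  (nat_lit 0x846245219922) .nil)) (nat_lit 0xea003105d144) (nat_lit 6497) (nat_lit 0x846245099590) (.node
  (.node .nil (nat_lit 0xecc04000149f) (nat_lit 48208) (nat_lit 0xb66020099590) .nil) (nat_lit 0xecc04000293e)
  (nat_lit 19120) (nat_lit 0xb6602000149f) .nil)))) (nat_lit 0xecc040003da1) (nat_lit 38753) (nat_lit
  0xa125301ed080) (.node (.node (.node (.node (.node .nil (nat_lit 0xecc040010f13) (nat_lit 8112) (nat_lit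
  0xb66020091856) .nil) (nat_lit 0xecc040011b8c) (nat_lit 23456) (nat_lit 0xb66020008dc6) (.node .nil (nat_lit
  0xecc04001262d) (nat_lit 48785) (nat_lit 0x92a5802d5030) .nil)) (nat_lit 0xecc0400132b2) (nat_lit 20177)
  (nat_lit 0xa691101964a0) (.node (.node .nil (nat_lit 0xecc040020ab9) (nat_lit 3968) (nat_lit 0xb66020089a83)
  .nil) (nat_lit 0xecc040021e26) (nat_lit 59073) (nat_lit 0xb1d4000e21b0) (.node .nil (nat_lit 0xecc040022387)
  (nat_lit 36592) (nat_lit 0xb66020088e1c) .nil))) (nat_lit 0xecc040023718) (nat_lit 19056) (nat_lit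
  0xb66020011b8c) (.node (.node (.node .nil (nat_lit 0xecc0400305aa) (nat_lit 4032) (nat_lit 0xb660200182d5)
  .nil) (nat_lit 0xecc040031135) (nat_lit 48225) (nat_lit 0xb66020099590) (.node .nil (nat_lit 0xecc040032c94)
  (nat_lit 40224) (nat_lit 0xb6602001964a) .nil)) (nat_lit 0xecc04003380b) (nat_lit 37632) (nat_lit
  0xb660200803da) (.node (.node .nil (nat_lit 0xf0480500a4f8) (nat_lit 10161) (nat_lit 0x82125301ed08) .nil)
  (nat_lit 0xf048050132b2) (nat_lit 19537) (nat_lit 0x8212531964a0) .nil))) (nat_lit 0xf0480501964a) (nat_lit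
  3537) (nat_lit 0x8212531889a8) (.node (.node (.node (.node .nil (nat_lit 0xf04805023718) (nat_lit 29521)
  (nat_lit 0x82125324c5a0) .nil) (nat_lit 0xf048050293e0) (nat_lit 4625) (nat_lit 0x8212532528a8) (.node .nil
  (nat_lit 0xf048050305aa) (nat_lit 52673) (nat_lit 0x8212533da100) .nil)) (nat_lit 0xf0480503a152) (nat_lit
  400) (nat_lit 0xf8240201d0a9) (.node (.node .nil (nat_lit 0xf04805041572) (nat_lit 36432) (nat_lit
  0xf82402020ab9) .nil) (nat_lit 0xf0480504b18a) (nat_lit 30961) (nat_lit 0x821253146984) .nil)) (nat_lit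
  0xf048050527c0) (nat_lit 12065) (nat_lit 0x8212530ce02c) (.node (.node (.node .nil (nat_lit 0xf04805058338)
  (nat_lit 24865) (nat_lit 0x8212530d0d24) .nil) (nat_lit 0xf0480506226a) (nat_lit 51569) (nat_lit
  0x82125331412c) (.node .nil (nat_lit 0xf04805068692) (nat_lit 34128) (nat_lit 0xf82402034349) .nil))
  (nat_lit 0xf048050710d8) (nat_lit 12912) (nat_lit 0xf8240203886c) (.node (.node .nil (nat_lit
  0xf0480507b420) (nat_lit 36512) (nat_lit 0xf8240203da10) .nil) (nat_lit 0xf0832000149f) (nat_lit 36864)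
  (nat_lit 0xb8419007b420) .nil))))) (nat_lit 0xf083200160ce) (nat_lit 25456) (nat_lit 0xb8419000b067) (.node
  (.node (.node (.node (.node (.node .nil (nat_lit 0xf08320017451) (nat_lit 4288) (nat_lit 0xb84190070447)
  .nil) (nat_lit 0xf08320024c5a) (nat_lit 30305) (nat_lit 0xd304240cc912) (.node .nil (nat_lit 0xf083200258c5)
  (nat_lit 21297) (nat_lit 0x8708322032c9) .nil)) (nat_lit 0xf08320032c94) (nat_lit 56577) (nat_lit
  0xc88826174510) (.node (.node .nil (nat_lit 0xf0832003380b) (nat_lit 11024) (nat_lit 0xb8419006226a) .nil)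
  (nat_lit 0xf083200428d3) (nat_lit 10528) (nat_lit 0xb8419005aa06) (.node .nil (nat_lit 0xf08320043c4c)
  (nat_lit 12240) (nat_lit 0xb84190021e26) .nil))) (nat_lit 0xf0832005481d) (nat_lit 11280) (nat_lit
  0xb84190051a61) (.node (.node (.node .nil (nat_lit 0xf08320055c82) (nat_lit 35424) (nat_lit 0xb8419002ae41)
  .nil) (nat_lit 0xf08320066489) (nat_lit 53376) (nat_lit 0xb84190048c2b) (.node .nil (nat_lit 0xf08320067016)
  (nat_lit 2144) (nat_lit 0xb8419003380b) .nil)) (nat_lit 0xf08320070447) (nat_lit 54608) (nat_lit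
  0xb84190043c4c) (.node (.node .nil (nat_lit 0xf083200710d8) (nat_lit 56097) (nat_lit 0x8a05162032c9) .nil)
  (nat_lit 0xf210c000293e) (nat_lit 47809) (nat_lit 0xd0018e051a61) .nil))) (nat_lit 0xf210c000cb25) (nat_lit
  40929) (nat_lit 0xa2209a051a61) (.node (.node (.node (.node .nil (nat_lit 0xf210c000e21b) (nat_lit 16112)
  (nat_lit 0xb90860068692) .nil) (nat_lit 0xf210c0010f13) (nat_lit 6736) (nat_lit 0xb90860067016) (.node .nil
  (nat_lit 0xf210c001262d) (nat_lit 27121) (nat_lit 0x92a580051a61) .nil)) (nat_lit 0xf210c001c436) (nat_lit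
  44448) (nat_lit 0xb9086000e21b) (.node (.node .nil (nat_lit 0xf210c001ed08) (nat_lit 14736) (nat_lit
  0xb9086000f684) .nil) (nat_lit 0xf210c004470e) (nat_lit 42720) (nat_lit 0xb90860022387) (.node .nil (nat_lit
  0xf210c0046e30) (nat_lit 58753) (nat_lit 0xba800c051a61) .nil))) (nat_lit 0xf210c0048c2b) (nat_lit 59712)
  (nat_lit 0xb9086004b18a) (.node (.node (.node .nil (nat_lit 0xf210c004a515) (nat_lit 56753) (nat_lit
  0xe24508051a61) .nil) (nat_lit 0xf210c005481d) (nat_lit 28976) (nat_lit 0xb90860045391) (.node .nil (nat_lit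
  0xf210c0056123) (nat_lit 53441) (nat_lit 0xf8240202c19c) .nil)) (nat_lit 0xf210c0058338) (nat_lit 23264)
  (nat_lit 0xb9086002c19c) (.node (.node .nil (nat_lit 0xf210c005aa06) (nat_lit 13488) (nat_lit
  0xb9086002d503) .nil) (nat_lit 0xf50018003da1) (nat_lit 23824) (nat_lit 0xba800c056123) .nil)))) (nat_lit
  0xf500180046e3) (nat_lit 32768) (nat_lit 0xba800c055c82) (.node (.node (.node (.node (.node .nil (nat_lit
  0xf50018007b42) (nat_lit 17729) (nat_lit 0x87210c280cb2) .nil) (nat_lit 0xf50018008dc6) (nat_lit 31424)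
  (nat_lit 0xba800c0046e3) (.node .nil (nat_lit 0xf5001800b067) (nat_lit 56688) (nat_lit 0xba800c0527c0)
  .nil)) (nat_lit 0xf5001800cb25) (nat_lit 58736) (nat_lit 0xba800c051a61) (.node (.node .nil (nat_lit
  0xf5001800f684) (nat_lit 44577) (nat_lit 0xac28140305aa) .nil) (nat_lit 0xf50018021e26) (nat_lit 15873)
  (nat_lit 0xa10c0e0e21b0) (.node .nil (nat_lit 0xf50018022387) (nat_lit 56241) (nat_lit 0xaf048000293e)
  .nil))) (nat_lit 0xf500180258c5) (nat_lit 3056) (nat_lit 0xba800c045391) (.node (.node (.node .nil (nat_lit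
  0xf50018026564) (nat_lit 28384) (nat_lit 0xba800c0132b2) .nil) (nat_lit 0xf500180293e0) (nat_lit 34496)
  (nat_lit 0xba800c0149f0) (.node .nil (nat_lit 0xf5001802ae41) (nat_lit 2865) (nat_lit 0x840d982b2026) .nil))
  (nat_lit 0xf5001802d503) (nat_lit 42992) (nat_lit 0xba800c041572) (.node (.node .nil (nat_lit
  0xf5001802e8a2) (nat_lit 42977) (nat_lit 0xa209a40d241a) .nil) (nat_lit 0xf8240200527c) (nat_lit 55249)
  (nat_lit 0xf5001802e8a2) .nil))) (nat_lit 0xf82402009959) (nat_lit 34241) (nat_lit 0xa0c838081745) (.node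
  (.node (.node (.node .nil (nat_lit 0xf8240200cb25) (nat_lit 59185) (nat_lit 0xa2209a081745) .nil) (nat_lit
  0xf82402011b8c) (nat_lit 41409) (nat_lit 0xc4680a081745) (.node .nil (nat_lit 0xf824020149f0) (nat_lit 7041)
  (nat_lit 0xc680a8081745) .nil)) (nat_lit 0xf824020182d5) (nat_lit 60145) (nat_lit 0x934888081745) (.node
  (.node .nil (nat_lit 0xf8240201d0a9) (nat_lit 193) (nat_lit 0x91a02a081745) .nil) (nat_lit 0xf82402020ab9)
  (nat_lit 22336) (nat_lit 0xbc120102e8a2) .nil)) (nat_lit 0xf824020258c5) (nat_lit 27505) (nat_lit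
  0x870832081745) (.node (.node (.node .nil (nat_lit 0xf824020293e0) (nat_lit 46496) (nat_lit 0xbc12010149f0)
  .nil) (nat_lit 0xf8240202c19c) (nat_lit 40096) (nat_lit 0xbc12010160ce) (.node .nil (nat_lit 0xf82402031135)
  (nat_lit 46848) (nat_lit 0xbc1201026564) .nil)) (nat_lit 0xf82402034349) (nat_lit 20577) (nat_lit
  0xb48882081745) (.node (.node .nil (nat_lit 0xf8240203886c) (nat_lit 6801) (nat_lit 0xe140a2081745) .nil)
  (nat_lit 0xf8240203da10) (nat_lit 22384) (nat_lit 0xbc120101ed08) .nil))))))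
def tT : T := (.node (.node (.node (.node (.node tT_0 (nat_lit 0x8081b3387044) (nat_lit 32273) (nat_lit
  0xa96009021e26) tT_1) (nat_lit 0x81511a320265) (nat_lit 22049) (nat_lit 0x863a8038c023) (.node tT_2 (nat_lit
  0x8254b0318a09) (nat_lit 865) (nat_lit 0x909298056123) tT_3)) (nat_lit 0x8384192c19c0) (nat_lit 30321)
  (nat_lit 0x94c1090a34c2) (.node (.node tT_4 (nat_lit 0x8494c1226a0c) (nat_lit 14065) (nat_lit
  0xc10929068692) tT_5) (nat_lit 0x863a8019c058) (nat_lit 28193) (nat_lit 0xaa234010d80e) (.node tT_6 (nat_lit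
  0x88494c14a2a1) (nat_lit 8928) (nat_lit 0x8424a6318a09) tT_7))) (nat_lit 0x8952c0120d0d) (nat_lit 37697)
  (nat_lit 0xa691101108a7) (.node (.node (.node tT_8 (nat_lit 0x8c0e42031135) (nat_lit 37248) (nat_lit
  0x860721387044) tT_9) (nat_lit 0x8ea003011b8c) (nat_lit 17776) (nat_lit 0xc75001008dc6) (.node tT_10
  (nat_lit 0x90c0e4010f13) (nat_lit 2161) (nat_lit 0xb8419003380b) tT_11)) (nat_lit 0x9228462c8099) (nat_lit
  42881) (nat_lit 0xc1c20c0e1c11) (.node (.node tT_12 (nat_lit 0x94c109293e00) (nat_lit 58993) (nat_lit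
  0xe0900b0f6840) tT_13) (nat_lit 0x982125230ac2) (nat_lit 25345) (nat_lit 0xa234051d0a90) (.node tT_14
  (nat_lit 0x9c8430212945) (nat_lit 32705) (nat_lit 0xb20e100d80e2) tT_15)))) (nat_lit 0xa0c838113506)
  (nat_lit 35584) (nat_lit 0x90641c089a83) (.node (.node (.node (.node tT_16 (nat_lit 0xa234050d80e2) (nat_lit
  51200) (nat_lit 0xd11a0206c071) tT_17) (nat_lit 0xa4a6080a0963) (nat_lit 9984) (nat_lit 0x92530428a84a)
  (.node tT_18 (nat_lit 0xa8462404b18a) (nat_lit 28864) (nat_lit 0x9423120258c5) tT_19)) (nat_lit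
  0xac281401d0a9) (nat_lit 45777) (nat_lit 0x91a02a2c19c0) (.node (.node tT_20 (nat_lit 0xb1d400020ab9)
  (nat_lit 48064) (nat_lit 0x98ea002610a3) tT_21) (nat_lit 0xb9086006920d) (nat_lit 30705) (nat_lit
  0xc680a8103a15) (.node tT_22 (nat_lit 0xc0a2c21c111c) (nat_lit 36480) (nat_lit 0xa051610e088e) tT_23)))
  (nat_lit 0xc20c83199224) (nat_lit 53217) (nat_lit 0x8d01511230ac) (.node (.node (.node tT_24 (nat_lit
  0xc4680a131681) (nat_lit 20161) (nat_lit 0x9511a0226a0c) tT_25) (nat_lit 0xc8384112c628) (nat_lit 35841)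
  (nat_lit 0x800c7504b18a) (.node tT_26 (nat_lit 0xcc040d10f130) (nat_lit 28928) (nat_lit 0xe60206087898)
  tT_27)) (nat_lit 0xd1614006920d) (nat_lit 53761) (nat_lit 0xc680a8096314) (.node (.node tT_28 (nat_lit
  0xd85028032c94) (nat_lit 55553) (nat_lit 0xe80a8800b067) tT_29) (nat_lit 0xe106410498b4) (nat_lit 16177)
  (nat_lit 0x900bc12c9406) (.node tT_30 (nat_lit 0xe9110400e21b) (nat_lit 9888) (nat_lit 0xb488820b0670)
  tT_31)))))

/-- Second octad of the standard trio. -/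
def O1 : Finset GolayPt := unmask 1351424
/-- The standard trio. -/
def T0 : Finset (Finset GolayPt) := trio O0 O1

theorem mask_O1 : mask O1 = 1351424 := mask_unmask (by norm_num)
theorem O1_mem : O1 ∈ octads := (isOct_sound (by decide +kernel)).1
theorem T0_mem : T0 ∈ trios := trio_mem O0_mem O1_mem (by decide +kernel)
theorem tkey_T0 : tkey T0 = 143212179398400 := by rw [T0, tkey_trio, mask_O0, mask_O1]; decide +kernel

theorem tT_chk : orbChk apT gM 143212179398400 (2 ^ 48) tT = true := by decide +kernel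

theorem tT_all : ball (fun x => force (cw x) fun m => bor (!Nat.beq (pc m) 8)
    (bor (!Nat.beq (Nat.land 8536111 m) 0) (force (tk 8536111 m) tT.has))) 12 0 = true := by
  decide +kernel

theorem tT_sound : orbit M24 T0 = {x | x ∈ trios ∧ tkey x ∈ tT.keys} ∧
    (orbit M24 T0).ncard = tT.size ∧ (∀ k ∈ tT.keys, ∃ x ∈ trios, tkey x = k) ∧
      tT.srt 0 (2 ^ 48) = true := by
  have := acT.orb_sound valid_gM T0_mem (tkey_T0 ▸ tT_chk)
  rwa [gen_gM, orbit_top] at this

theorem orbit_T0 : orbit M24 T0 = trios := by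
  refine Set.Subset.antisymm (by rintro _ ⟨g, rfl⟩; exact trio_smul T0_mem g.2) fun T hT => ?_
  obtain ⟨a, ha, -⟩ := exists_ne_mem_trio hT ∅
  obtain ⟨g, hg, e⟩ := trans_octads (hT.2.1 a ha) O0_mem
  have hT' := trio_smul hT hg
  have ha' : O0 ∈ g • T := e ▸ smul_mem_smul_finset ha
  obtain ⟨b, hb, hne⟩ := exists_ne_mem_trio hT' O0
  have h1 := forall_cw tT_all b (hT'.2.1 b hb).1
  have h2 := (disjoint_iff_mask _ _).1 (hT'.2.2 O0 ha' b hb hne.symm)
  rw [mask_O0] at h2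
  simp only [bor_eq, force_eq, ← card_eq_pc, (hT'.2.1 b hb).2, h2, Nat.beq_refl, Bool.not_true,
    Bool.false_or] at h1
  have h3 : g • T ∈ orbit M24 T0 := by
    rw [tT_sound.1]
    refine ⟨hT', ?_⟩
    rw [eq_trio hT' ha' hb hne.symm, tkey_trio, mask_O0]
    exact Cfsg.Agent.M24.T.has_sound h1
  obtain ⟨k, hk⟩ := h3
  exact ⟨(⟨g, hg⟩ : M24)⁻¹ * k, by
    simp only [mul_smul] at hk ⊢
    rw [hk]; exact inv_smul_smul (⟨g, hg⟩ : M24) T⟩

theorem ncard_trios : trios.ncard = 3795 := by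
  rw [← orbit_T0, tT_sound.2.1]; decide +kernel

theorem exists_smul_T0 {T : Finset (Finset GolayPt)} (hT : T ∈ trios) : ∃ g : M24, g • T0 = T := by
  rwa [← orbit_T0] at hT

theorem ncard_trios_filter {P : Finset (Finset GolayPt) → Prop} {f : ℕ → Bool}
    (hf : ∀ x ∈ trios, P x ↔ f (tkey x) = true) : {x | x ∈ trios ∧ P x}.ncard = tT.count f :=
  acT.ncard_filter (orbit_T0.symm.trans tT_sound.1) tT_sound.2.2.1 (T.srt_nodup tT_sound.2.2.2) hf

theorem forall_trios {f : ℕ → Bool} (h : (tT.all fun k _ _ => f k) = true) :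
    ∀ x ∈ trios, f (tkey x) = true := by
  intro x hx
  rw [← orbit_T0, tT_sound.1] at hx
  obtain ⟨a, b, hm⟩ := T.mem_keys.1 hx.2
  exact (T.all_iff _ _).1 h _ _ _ hm

end Cfsg.Agent.M24
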